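import Cfsg.Agent.Lib.Helper41.TransferCtl
import Cfsg.Agent.Lib.Helper41.FamilyTransfer
import Cfsg.Agent.S1461

/-!
# Control of fusion by the Sylow normalizer when all `p`-locals have `p`-length one

(Bender–Glauberman, Corollary 10.7.)  The only input is `LocCtl p G`:
for every nontrivial `p`-subgroup `Q` and every Sylow `p`-subgroup `T` of `N_G(Q)`,
`N_G(Q) = (N_G(Q) ∩ N_G(T)) C_G(Q)`.
-/

set_option autoImplicit false

namespace Cfsg.Agent.Lib.Helper91.BGFusion

open Cfsg Cfsg.Agent.Lib.Helper41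
open scoped commutatorElement

variable {G : Type*} [Group G]

/-- the local control hypothesis -/
def LocCtl (p : ℕ) (G : Type*) [Group G] : Prop :=
  ∀ Q : Subgroup G, Q ≠ ⊥ → IsPGroup p Q → ∀ T : Subgroup G,
    T ≤ Subgroup.normalizer (Q : Set G) → IsPGroup p T →
    ¬ p ∣ T.relIndex (Subgroup.normalizer (Q : Set G)) →
    ∀ h ∈ Subgroup.normalizer (Q : Set G),
      ∃ g ∈ Subgroup.normalizer (Q : Set G) ⊓ Subgroup.normalizer (T : Set G),
        ∃ c ∈ Subgroup.centralizer (Q : Set G), h = g * c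

/-- transport of S1461(ii) to a subgroup `H` -/
theorem local_split [Finite G] {p : ℕ} [Fact p.Prime] {H : Subgroup G} [Group.IsSolvable H]
    (hpl : PLengthLE p 1 H) {T Q : Subgroup G} (hTH : T ≤ H) (hT : IsPGroup p T)
    (hidx : ¬ p ∣ T.relIndex H) (hQT : Q ≤ T) {h : G} (hh : h ∈ H) (hhQ : lc h Q ≤ T) :
    ∃ g ∈ H ⊓ Subgroup.normalizer (T : Set G), ∃ c ∈ Subgroup.centralizer (Q : Set G),
      h = g * c := by
  have hT' : IsPGroup p (T.subgroupOf H) := hT.comap_subtype
  let S : Sylow p H := hT'.toSylow hidx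
  have hS : ∀ z : H, z ∈ S ↔ (z : G) ∈ T := fun z => Iff.rfl
  let Y : Set H := {y | (y : G) ∈ Q}
  have hY : Y ⊆ ((S : Subgroup H) : Set H) := fun y hy => (hS y).mpr (hQT hy)
  have hY2 : (fun y => (⟨h, hh⟩ : H) * y * (⟨h, hh⟩ : H)⁻¹) '' Y ⊆ ((S : Subgroup H) : Set H) := by
    rintro _ ⟨y, hy, rfl⟩
    apply (hS _).mpr
    apply hhQ
    have : (((⟨h, hh⟩ : H) * y * (⟨h, hh⟩ : H)⁻¹ : H) : G) = h * (y : G) * h⁻¹ := by simp
    rw [this]
    exact conj_mem_lc hy
  obtain ⟨g, hg, c, hc, hgc⟩ := (Cfsg.Agent.S1461.result p hpl S).2.1 Y ⟨h, hh⟩ hY hY2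
  refine ⟨(g : G), ⟨g.2, ?_⟩, (c : G), ?_, ?_⟩
  · apply mem_normalizer_of_lc_le
    intro x hx
    rw [mem_lc] at hx
    have hxH : x ∈ H := by
      have h1 : (g : G)⁻¹ * x * g ∈ H := hTH hx
      have : x = g * ((g : G)⁻¹ * x * g) * (g : G)⁻¹ := by group
      rw [this]
      exact H.mul_mem (H.mul_mem g.2 h1) (H.inv_mem g.2)
    have h2 : (g⁻¹ * ⟨x, hxH⟩ * g : H) ∈ S := (hS _).mpr (by simpa using hx)
    have h3 := (Subgroup.mem_normalizer_iff.mp hg (g⁻¹ * ⟨x, hxH⟩ * g)).mp h2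
    have h4 : g * (g⁻¹ * ⟨x, hxH⟩ * g) * g⁻¹ = (⟨x, hxH⟩ : H) := by group
    rw [h4] at h3
    exact (hS _).mp h3
  · rw [Subgroup.mem_centralizer_iff]
    intro q hq
    have hqH : q ∈ H := hTH (hQT hq)
    have := Subgroup.mem_centralizer_iff.mp hc ⟨q, hqH⟩ hq
    exact congrArg Subtype.val this
  · have := congrArg Subtype.val hgc
    simpa using this.symm

/-- `LocCtl` from `p`-length one of the `p`-local subgroups -/
theorem locCtl_of_plength [Finite G] {p : ℕ} [Fact p.Prime]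
    (hsolv : ∀ Q : Subgroup G, Q ≠ ⊥ → IsPGroup p Q →
      Group.IsSolvable (Subgroup.normalizer (Q : Set G)))
    (hpl : ∀ Q : Subgroup G, Q ≠ ⊥ → IsPGroup p Q →
      PLengthLE p 1 (Subgroup.normalizer (Q : Set G))) : LocCtl p G := by
  intro Q hQ1 hQ T hTN hT hidx h hh
  have := hsolv Q hQ1 hQ
  have hQT : Q ≤ T := by
    obtain ⟨y, hy, hyQ⟩ := exists_lc_le_of_relIndex hTN hT hidx hQ Subgroup.le_normalizer
    rwa [mem_normalizer_iff_lc.mp hy] at hyQ
  have hhQ : lc h Q ≤ T := by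
    rw [mem_normalizer_iff_lc.mp hh]; exact hQT
  obtain ⟨g, hg, c, hc, e⟩ := local_split (hpl Q hQ1 hQ) hTN hT hidx hQT hh hhQ
  exact ⟨g, hg, c, hc, e⟩

section main

variable [Finite G] {p : ℕ} [Fact p.Prime]

/-- strong control statement for a subgroup `Q` of `P` -/
def SCtl (P Q : Subgroup G) : Prop :=
  ∀ x : G, lc x Q ≤ P → ∃ y ∈ Subgroup.normalizer (P : Set G),
    ∃ c ∈ Subgroup.centralizer (Q : Set G), x = y * c

theorem centralizer_le_of_le {A B : Subgroup G} (h : A ≤ B) :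
    Subgroup.centralizer (B : Set G) ≤ Subgroup.centralizer (A : Set G) :=
  Subgroup.centralizer_le (by exact_mod_cast h)

theorem lc_eq_self_of_mem_centralizer {c : G} {Q : Subgroup G}
    (hc : c ∈ Subgroup.centralizer (Q : Set G)) : lc c Q = Q :=
  mem_normalizer_iff_lc.mp (Subgroup.centralizer_le_normalizer _ hc)

/-- in a `p`-group the normalizer grows -/
theorem card_lt_card_inf_normalizer (P : Sylow p G) {Q : Subgroup G} (hQP : Q ≤ (P : Subgroup G))
    (hQeq : Q ≠ (P : Subgroup G)) :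
    Nat.card Q < Nat.card ((P : Subgroup G) ⊓ Subgroup.normalizer (Q : Set G) : Subgroup G) := by
  have hQQ₁ : Q ≤ (P : Subgroup G) ⊓ Subgroup.normalizer (Q : Set G) :=
    le_inf hQP Subgroup.le_normalizer
  have : Group.IsNilpotent (P : Subgroup G) := P.2.isNilpotent
  have hnc := Group.normalizerCondition_of_isNilpotent (G := (P : Subgroup G))
  have h1 : Q.subgroupOf (P : Subgroup G) < ⊤ := by
    rw [lt_top_iff_ne_top]
    intro h
    rw [Subgroup.subgroupOf_eq_top] at h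
    exact hQeq (le_antisymm hQP h)
  have h2 := hnc _ h1
  have h3 : Q < (P : Subgroup G) ⊓ Subgroup.normalizer (Q : Set G) := by
    refine lt_of_le_of_ne hQQ₁ ?_
    intro heq
    obtain ⟨z, hz1, hz2⟩ := SetLike.exists_of_lt h2
    apply hz2
    rw [Subgroup.mem_subgroupOf]
    rw [heq]
    refine ⟨z.2, ?_⟩
    show (z : G) ∈ Subgroup.normalizer (Q : Set G)
    rw [Subgroup.mem_normalizer_iff]
    intro n
    constructor
    · intro hn
      have hnP : n ∈ (P : Subgroup G) := hQP hn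
      have := (Subgroup.mem_normalizer_iff.mp hz1 ⟨n, hnP⟩).mp
        (by rw [Subgroup.mem_subgroupOf]; exact hn)
      rw [Subgroup.mem_subgroupOf] at this
      simpa using this
    · intro hn
      have hnP : n ∈ (P : Subgroup G) := by
        have h5 : (z : G) * n * (z : G)⁻¹ ∈ (P : Subgroup G) := hQP hn
        have : n = (z : G)⁻¹ * ((z : G) * n * (z : G)⁻¹) * (z : G) := by group
        rw [this]
        exact (P : Subgroup G).mul_mem ((P : Subgroup G).mul_mem
          ((P : Subgroup G).inv_mem z.2) h5) z.2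
      have := (Subgroup.mem_normalizer_iff.mp hz1 ⟨n, hnP⟩).mpr
        (by rw [Subgroup.mem_subgroupOf]; simpa using hn)
      rw [Subgroup.mem_subgroupOf] at this
      exact this
  exact card_lt_card_of_lt' h3

/-- `N_P(Q)` is a Sylow `p`-subgroup of `N_G(Q)`, given strong control for all bigger subgroups. -/
theorem sylow_normalizer_of_sctl (P : Sylow p G) {Q : Subgroup G} (hQP : Q ≤ (P : Subgroup G))
    (hbig : ∀ R : Subgroup G, R ≤ (P : Subgroup G) → Nat.card Q < Nat.card R →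
      SCtl (P : Subgroup G) R) :
    ¬ p ∣ ((P : Subgroup G) ⊓ Subgroup.normalizer (Q : Set G)).relIndex
      (Subgroup.normalizer (Q : Set G)) := by
  set N := Subgroup.normalizer (Q : Set G) with hN
  set Q₁ := (P : Subgroup G) ⊓ N with hQ₁
  have hQ₁p : IsPGroup p Q₁ := P.2.to_le inf_le_left
  have hQQ₁ : Q ≤ Q₁ := le_inf hQP Subgroup.le_normalizer
  by_cases hQeq : Q = (P : Subgroup G)
  · -- `Q = P`
    have h1 : Q₁ = (P : Subgroup G) := by
      exact le_antisymm inf_le_left (le_trans (le_of_eq hQeq.symm) hQQ₁)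
    rw [h1]
    have h2 : (P : Subgroup G).relIndex N * N.index = (P : Subgroup G).index :=
      Subgroup.relIndex_mul_index (by rw [hN, hQeq]; exact Subgroup.le_normalizer)
    intro h3
    exact P.not_dvd_index (h2 ▸ dvd_mul_of_dvd_left h3 _)
  · -- `Q < P`: the normalizer grows
    have hlt : Q < (P : Subgroup G) := lt_of_le_of_ne hQP hQeq
    have hgrow : Nat.card Q < Nat.card Q₁ := card_lt_card_inf_normalizer P hQP hQeq
    obtain ⟨T, hQ₁T, hTN, hT, hTidx⟩ := exists_sylowIn_ge (H := N) hQ₁p inf_le_right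
    obtain ⟨a, ha⟩ := exists_lc_le_sylow P hT
    have h1 : lc a Q₁ ≤ (P : Subgroup G) := le_trans (lc_mono hQ₁T) ha
    obtain ⟨y, hy, c, hc, e⟩ := hbig Q₁ inf_le_left hgrow a h1
    -- `c T c⁻¹ ≤ P`
    have h2 : lc c T ≤ (P : Subgroup G) := by
      have h3 : lc a T = lc y (lc c T) := by rw [e, lc_mul]
      rw [h3] at ha
      have h4 : lc c T ≤ lc y⁻¹ (P : Subgroup G) := lc_le_iff.mp ha
      rwa [mem_normalizer_iff_lc.mp (Subgroup.inv_mem _ hy)] at h4
    have hcQ : c ∈ Subgroup.centralizer (Q : Set G) := centralizer_le_of_le hQQ₁ hc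
    have hcN : c ∈ N := Subgroup.centralizer_le_normalizer _ hcQ
    have h5 : lc c T ≤ N := by
      have := lc_mono (g := c) hTN
      rwa [lc_eq_self_of_mem hcN] at this
    have h6 : lc c T ≤ Q₁ := le_inf h2 h5
    have h7 : Nat.card T ≤ Nat.card Q₁ := by
      rw [← card_lc c T]
      exact Subgroup.card_le_of_le h6
    have h8 : Q₁ = T := Subgroup.eq_of_le_of_card_ge hQ₁T h7
    rw [h8]
    exact hTidx

theorem lc_one' (Q : Subgroup G) : lc (1 : G) Q = Q :=
  mem_normalizer_iff_lc.mp (Subgroup.one_mem _)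

/-- the strong control theorem, by induction on the index of `Q` in `P` -/
theorem sctl_all (hloc : LocCtl p G) (P : Sylow p G) :
    ∀ n : ℕ, ∀ Q : Subgroup G, Q ≤ (P : Subgroup G) →
      Nat.card Q + n = Nat.card (P : Subgroup G) → SCtl (P : Subgroup G) Q := by
  intro n
  induction n using Nat.strong_induction_on with
  | _ n ih =>
  intro Q hQP hn x hx
  have hbig : ∀ Q' : Subgroup G, Nat.card Q' = Nat.card Q → ∀ R : Subgroup G,
      R ≤ (P : Subgroup G) → Nat.card Q' < Nat.card R → SCtl (P : Subgroup G) R := by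
    intro Q' hQ' R hRP hlt
    have hle : Nat.card R ≤ Nat.card (P : Subgroup G) := Subgroup.card_le_of_le hRP
    exact ih (Nat.card (P : Subgroup G) - Nat.card R) (by omega) R hRP (by omega)
  by_cases hQ1 : Q = ⊥
  · refine ⟨1, Subgroup.one_mem _, x, ?_, by simp⟩
    rw [hQ1, Subgroup.mem_centralizer_iff]
    intro q hq
    have : q = 1 := by simpa using hq
    rw [this]; simp
  by_cases hQeq : Q = (P : Subgroup G)
  · refine ⟨x, ?_, 1, Subgroup.one_mem _, by simp⟩
    apply mem_normalizer_of_lc_le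
    have := hx
    rwa [hQeq] at this
  have hQp : IsPGroup p Q := P.2.to_le hQP
  have hQ'card : Nat.card (lc x Q) = Nat.card Q := card_lc x Q
  have hQ'eq : lc x Q ≠ (P : Subgroup G) := by
    intro h
    apply hQeq
    apply Subgroup.eq_of_le_of_card_ge hQP
    rw [← hQ'card, h]
  have hQQ₁ : Q ≤ (P : Subgroup G) ⊓ Subgroup.normalizer (Q : Set G) :=
    le_inf hQP Subgroup.le_normalizer
  have hd1 := sylow_normalizer_of_sctl P hQP (hbig Q rfl)
  have hd2 := sylow_normalizer_of_sctl P hx (hbig (lc x Q) hQ'card)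
  have hN' : Subgroup.normalizer ((lc x Q : Subgroup G) : Set G)
      = lc x (Subgroup.normalizer (Q : Set G)) := normalizer_lc x Q
  have hpQ₁ : IsPGroup p ((P : Subgroup G) ⊓ Subgroup.normalizer (Q : Set G) : Subgroup G) :=
    P.2.to_le inf_le_left
  have hpQ₂ : IsPGroup p ((P : Subgroup G) ⊓
      Subgroup.normalizer ((lc x Q : Subgroup G) : Set G) : Subgroup G) := P.2.to_le inf_le_left
  have h1 : ¬ p ∣ (lc x ((P : Subgroup G) ⊓ Subgroup.normalizer (Q : Set G))).relIndex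
      (Subgroup.normalizer ((lc x Q : Subgroup G) : Set G)) := by
    rw [hN', relIndex_lc]; exact hd1
  have h1le : lc x ((P : Subgroup G) ⊓ Subgroup.normalizer (Q : Set G)) ≤
      Subgroup.normalizer ((lc x Q : Subgroup G) : Set G) := by
    rw [hN']; exact lc_mono inf_le_right
  obtain ⟨h', hh', e1⟩ := exists_lc_eq_of_sylowIn (p := p) inf_le_right hpQ₂ hd2 h1le
    (isPGroup_lc hpQ₁) h1
  have hz1 : lc (h' * x) ((P : Subgroup G) ⊓ Subgroup.normalizer (Q : Set G)) =
      (P : Subgroup G) ⊓ Subgroup.normalizer ((lc x Q : Subgroup G) : Set G) := by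
    rw [lc_mul]; exact e1
  have hgrow := card_lt_card_inf_normalizer P hQP hQeq
  obtain ⟨y, hy, c, hc, e2⟩ := hbig Q rfl _ inf_le_left hgrow (h' * x)
    (by rw [hz1]; exact inf_le_left)
  have hcQ : c ∈ Subgroup.centralizer (Q : Set G) := centralizer_le_of_le hQQ₁ hc
  have hQ'y : lc x Q = lc y Q := by
    have h2 : lc (h' * x) Q = lc x Q := by
      rw [lc_mul]; exact mem_normalizer_iff_lc.mp hh'
    rw [← h2, e2, lc_mul, lc_eq_self_of_mem_centralizer hcQ]
  have hhN : y⁻¹ * h'⁻¹ * y ∈ Subgroup.normalizer (Q : Set G) := by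
    rw [mem_normalizer_iff_lc, lc_mul, lc_mul, ← hQ'y,
      mem_normalizer_iff_lc.mp (Subgroup.inv_mem _ hh'), hQ'y, ← lc_mul, inv_mul_cancel, lc_one']
  obtain ⟨g, hg, c', hc', e3⟩ := hloc Q hQ1 hQp _ inf_le_right hpQ₁ hd1 _ hhN
  obtain ⟨y'', hy'', c'', hc'', e4⟩ := hbig Q rfl _ inf_le_left hgrow g
    (by rw [mem_normalizer_iff_lc.mp hg.2]; exact inf_le_left)
  have hc''Q : c'' ∈ Subgroup.centralizer (Q : Set G) := centralizer_le_of_le hQQ₁ hc''
  refine ⟨y * y'', Subgroup.mul_mem _ hy hy'', c'' * c' * c,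
    Subgroup.mul_mem _ (Subgroup.mul_mem _ hc''Q hc') hcQ, ?_⟩
  calc x = h'⁻¹ * (h' * x) := by group
    _ = h'⁻¹ * (y * c) := by rw [e2]
    _ = y * (y⁻¹ * h'⁻¹ * y) * c := by group
    _ = y * (g * c') * c := by rw [e3]
    _ = y * (y'' * c'' * c') * c := by rw [e4]
    _ = (y * y'') * (c'' * c' * c) := by group

theorem sctl (hloc : LocCtl p G) (P : Sylow p G) {Q : Subgroup G} (hQP : Q ≤ (P : Subgroup G)) :
    SCtl (P : Subgroup G) Q :=
  sctl_all hloc P (Nat.card (P : Subgroup G) - Nat.card Q) Q hQP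
    (by have := Subgroup.card_le_of_le hQP; omega)

/-- (c): conjugate subgroups of `P` are conjugate under `N_G(P)`. -/
theorem exists_normalizer_conj (hloc : LocCtl p G) (P : Sylow p G) {Q : Subgroup G}
    (hQP : Q ≤ (P : Subgroup G)) {x : G} (hx : lc x Q ≤ (P : Subgroup G)) :
    ∃ y ∈ Subgroup.normalizer ((P : Subgroup G) : Set G), lc x Q = lc y Q := by
  obtain ⟨y, hy, c, hc, e⟩ := sctl hloc P hQP x hx
  exact ⟨y, hy, by rw [e, lc_mul, lc_eq_self_of_mem_centralizer hc]⟩

/-- (d): `N_P(Q)` is a Sylow `p`-subgroup of `N_G(Q)`. -/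
theorem not_dvd_relIndex_normalizer (hloc : LocCtl p G) (P : Sylow p G) {Q : Subgroup G}
    (hQP : Q ≤ (P : Subgroup G)) :
    ¬ p ∣ ((P : Subgroup G) ⊓ Subgroup.normalizer (Q : Set G)).relIndex
      (Subgroup.normalizer (Q : Set G)) :=
  sylow_normalizer_of_sctl P hQP (fun _ hR _ => sctl hloc P hR)

/-- (e): a subgroup of `P` normal in `N_G(P)` is normal in `N_G(R)` for every `p`-subgroup `R`
containing it. -/
theorem normalizer_le_of_normalizer_sylow_le (hloc : LocCtl p G) (P : Sylow p G)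
    {R Q : Subgroup G} (hR : IsPGroup p R) (hQ : Q ≤ (P : Subgroup G) ⊓ R)
    (hNP : Subgroup.normalizer ((P : Subgroup G) : Set G) ≤ Subgroup.normalizer (Q : Set G)) :
    Subgroup.normalizer (R : Set G) ≤ Subgroup.normalizer (Q : Set G) := by
  have hQP : Q ≤ (P : Subgroup G) := le_trans hQ inf_le_left
  have hQR : Q ≤ R := le_trans hQ inf_le_right
  have hwc : ∀ x : G, lc x Q ≤ (P : Subgroup G) → lc x Q = Q := by
    intro x hx
    obtain ⟨y, hy, e⟩ := exists_normalizer_conj hloc P hQP hx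
    rw [e]; exact mem_normalizer_iff_lc.mp (hNP hy)
  intro g hg
  obtain ⟨a, ha⟩ := exists_lc_le_sylow P hR
  have h1 : lc a Q = Q := hwc a (le_trans (lc_mono hQR) ha)
  have h2 : lc (a * g) Q = Q := by
    apply hwc
    rw [lc_mul]
    refine le_trans (lc_mono ?_) ha
    have : lc g Q ≤ lc g R := lc_mono hQR
    rwa [mem_normalizer_iff_lc.mp hg] at this
  rw [mem_normalizer_iff_lc]
  apply lc_injective a
  rw [← lc_mul, h2, h1]

/-- `P ≤ [P, N_G(P)]` when `G` is perfect. -/
theorem sylow_le_commutator_normalizer (hloc : LocCtl p G) (P : Sylow p G)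
    (hperf : ⁅(⊤ : Subgroup G), (⊤ : Subgroup G)⁆ = (⊤ : Subgroup G)) :
    (P : Subgroup G) ≤ ⁅(P : Subgroup G), Subgroup.normalizer ((P : Subgroup G) : Set G)⁆ := by
  have key := relative_focal (p := p) (L := (⊤ : Subgroup G)) (M := (P : Subgroup G)) le_top P.2
    (sylow_relIndex_top P)
    (D := ⁅(P : Subgroup G), Subgroup.normalizer ((P : Subgroup G) : Set G)⁆) ?_
  · rw [hperf, inf_top_eq] at key
    exact key
  · intro x hx u _ hxu
    have hux : u * x * u⁻¹ ∈ (P : Subgroup G) := by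
      have h1 : x⁻¹ * ⁅x, u⁆ ∈ (P : Subgroup G) :=
        Subgroup.mul_mem _ (Subgroup.inv_mem _ hx) hxu
      have h2 : x⁻¹ * ⁅x, u⁆ = (u * x * u⁻¹)⁻¹ := by rw [commutatorElement_def]; group
      rw [h2] at h1
      simpa using Subgroup.inv_mem _ h1
    have hB : Subgroup.zpowers x ≤ (P : Subgroup G) := by
      rw [Subgroup.zpowers_le]; exact hx
    have hu : lc u (Subgroup.zpowers x) ≤ (P : Subgroup G) := by
      intro y hy
      rw [mem_lc] at hy
      obtain ⟨k, hk⟩ := Subgroup.mem_zpowers_iff.mp hy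
      have : y = (u * x * u⁻¹) ^ k := by
        rw [conj_zpow, hk]; group
      rw [this]
      exact Subgroup.zpow_mem _ hux k
    obtain ⟨y, hy, c, hc, e⟩ := sctl hloc P hB u hu
    have hcx : c * x = x * c := by
      have := Subgroup.mem_centralizer_iff.mp hc x (Subgroup.mem_zpowers x)
      exact this.symm
    have h3 : ⁅x, u⁆ = ⁅x, y⁆ := by
      rw [e, commutatorElement_def, commutatorElement_def]
      have : x * (y * c) * x⁻¹ * (y * c)⁻¹ = x * y * (c * x⁻¹ * c⁻¹) * y⁻¹ := by group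
      rw [this]
      have h4 : c * x⁻¹ * c⁻¹ = x⁻¹ := by
        have : c * x⁻¹ = x⁻¹ * c := by
          have h5 : x⁻¹ * (c * x) * x⁻¹ = x⁻¹ * (x * c) * x⁻¹ := by rw [hcx]
          have h6 : x⁻¹ * (c * x) * x⁻¹ = x⁻¹ * c := by group
          have h7 : x⁻¹ * (x * c) * x⁻¹ = c * x⁻¹ := by group
          rw [h6, h7] at h5
          exact h5.symm
        rw [this]; group
      rw [h4]
    rw [h3]
    exact Subgroup.commutator_mem_commutator hx hy

/-- a `p`-group `P = P' K` with `K ≤ P` normalized by `P` equals `K`. -/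
theorem le_of_le_commutator_sup {P K : Subgroup G} (hPp : IsPGroup p P) (hKP : K ≤ P)
    (hKn : ∀ a ∈ P, ∀ k ∈ K, a * k * a⁻¹ ∈ K) (h : P ≤ ⁅P, P⁆ ⊔ K) : P ≤ K := by
  have hnil : Group.IsNilpotent P := hPp.isNilpotent
  have hKpn : (K.subgroupOf P).Normal := by
    refine ⟨fun n hn g => ?_⟩
    rw [Subgroup.mem_subgroupOf] at hn ⊢
    simpa using hKn g g.2 n hn
  let f := QuotientGroup.mk' (K.subgroupOf P)
  let D : Subgroup G := ((_root_.commutator (P ⧸ K.subgroupOf P)).comap f).map P.subtype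
  have hcomm : ⁅P, P⁆ = (_root_.commutator P).map P.subtype := by
    rw [commutator_def, Subgroup.map_commutator, ← MonoidHom.range_eq_map, Subgroup.range_subtype]
  have h1 : ⁅P, P⁆ ≤ D := by
    rw [hcomm]
    apply Subgroup.map_mono
    rw [← Subgroup.map_le_iff_le_comap, commutator_def, Subgroup.map_commutator, commutator_def]
    exact Subgroup.commutator_mono le_top le_top
  have h2 : K ≤ D := by
    intro k hk
    refine ⟨⟨k, hKP hk⟩, ?_, rfl⟩
    rw [SetLike.mem_coe, Subgroup.mem_comap]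
    have : f ⟨k, hKP hk⟩ = 1 := by
      rw [QuotientGroup.mk'_apply, QuotientGroup.eq_one_iff, Subgroup.mem_subgroupOf]
      exact hk
    rw [this]
    exact Subgroup.one_mem _
  have h3 : P ≤ D := le_trans h (sup_le h1 h2)
  have h4 : _root_.commutator (P ⧸ K.subgroupOf P) = ⊤ := by
    rw [eq_top_iff]
    intro q _
    obtain ⟨x, rfl⟩ := QuotientGroup.mk'_surjective (K.subgroupOf P) q
    obtain ⟨x', hx', e⟩ := h3 x.2
    have : x' = x := Subtype.ext e
    rw [this] at hx'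
    exact hx'
  have h5 : Subsingleton (P ⧸ K.subgroupOf P) := by
    by_contra hns
    rw [not_subsingleton_iff_nontrivial] at hns
    have := Group.IsSolvable.commutator_lt_top_of_nontrivial (P ⧸ K.subgroupOf P)
    rw [h4] at this
    exact lt_irrefl _ this
  have h6 : K.subgroupOf P = ⊤ := QuotientGroup.subgroup_eq_top_of_subsingleton _ h5
  rw [Subgroup.subgroupOf_eq_top] at h6
  exact h6

/-- `P = [P, V]` for a complement `V` of `P` in `N_G(P)`, given `P ≤ [P, N_G(P)]`. -/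
theorem eq_commutator_compl {P V : Subgroup G} (hPp : IsPGroup p P)
    (hVN : V ≤ Subgroup.normalizer (P : Set G))
    (hprod : ∀ m ∈ Subgroup.normalizer (P : Set G), ∃ a ∈ P, ∃ b ∈ V, m = a * b)
    (hPN : P ≤ ⁅P, Subgroup.normalizer (P : Set G)⁆) : P = ⁅P, V⁆ := by
  have hconj : ∀ v ∈ V, ∀ x ∈ P, v * x * v⁻¹ ∈ P := fun v hv x hx =>
    (Subgroup.mem_normalizer_iff.mp (hVN hv) x).mp hx
  have hKP : ⁅P, V⁆ ≤ P := by
    rw [Subgroup.commutator_le]
    intro x hx v hv
    rw [commutatorElement_def]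
    have : x * v * x⁻¹ * v⁻¹ = x * (v * x⁻¹ * v⁻¹) := by group
    rw [this]
    exact P.mul_mem hx (hconj v hv _ (P.inv_mem hx))
  have hKn : ∀ a ∈ P, ∀ k ∈ ⁅P, V⁆, a * k * a⁻¹ ∈ ⁅P, V⁆ := by
    intro a ha k hk
    rw [Subgroup.commutator_def] at hk
    induction hk using Subgroup.closure_induction with
    | mem g hg =>
      obtain ⟨x, hx, v, hv, rfl⟩ := hg
      have e : a * ⁅x, v⁆ * a⁻¹ = ⁅a * x, v⁆ * ⁅a, v⁆⁻¹ := by
        simp only [commutatorElement_def]; group
      rw [e]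
      exact Subgroup.mul_mem _ (Subgroup.commutator_mem_commutator (P.mul_mem ha hx) hv)
        (Subgroup.inv_mem _ (Subgroup.commutator_mem_commutator ha hv))
    | one => simp
    | mul b c _ _ ihb ihc =>
      have : a * (b * c) * a⁻¹ = (a * b * a⁻¹) * (a * c * a⁻¹) := by group
      rw [this]; exact Subgroup.mul_mem _ ihb ihc
    | inv b _ ihb =>
      have : a * b⁻¹ * a⁻¹ = (a * b * a⁻¹)⁻¹ := by group
      rw [this]; exact Subgroup.inv_mem _ ihb
  have h1 : ⁅P, Subgroup.normalizer (P : Set G)⁆ ≤ ⁅P, P⁆ ⊔ ⁅P, V⁆ := by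
    rw [Subgroup.commutator_le]
    intro x hx m hm
    obtain ⟨a, ha, b, hb, rfl⟩ := hprod m hm
    have e : ⁅x, a * b⁆ = ⁅x, a⁆ * (a * ⁅x, b⁆ * a⁻¹) := by
      simp only [commutatorElement_def]; group
    rw [e]
    exact Subgroup.mul_mem _
      (Subgroup.mem_sup_left (Subgroup.commutator_mem_commutator hx ha))
      (Subgroup.mem_sup_right (hKn a ha _ (Subgroup.commutator_mem_commutator hx hb)))
  exact le_antisymm (le_of_le_commutator_sup hPp hKP hKn (le_trans hPN h1)) hKP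

end main

section minsimple

variable [Finite G] {p : ℕ} [Fact p.Prime]

theorem ms_normalizer_ne_top_of_pgroup (hG : IsMinSimpleOddOrder G) {Q : Subgroup G}
    (hQ1 : Q ≠ ⊥) (hQ : IsPGroup p Q) : Subgroup.normalizer (Q : Set G) ≠ ⊤ := by
  have hs : IsSimpleGroup G := hG.2.1
  intro h
  rw [Subgroup.normalizer_eq_top_iff] at h
  rcases h.eq_bot_or_eq_top with h3 | h3
  · exact hQ1 h3
  · subst h3
    have h1 : IsPGroup p G := by
      intro g
      obtain ⟨k, hk⟩ := hQ ⟨g, Subgroup.mem_top g⟩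
      exact ⟨k, by simpa using congrArg Subtype.val hk⟩
    have : Group.IsNilpotent G := h1.isNilpotent
    have h2 : Group.IsSolvable G := inferInstance
    have h3 := IsSimpleGroup.comm_iff_isSolvable.mpr h2
    exact hG.2.2.1 ⟨⟨h3⟩⟩

theorem ms_perfect (hG : IsMinSimpleOddOrder G) :
    ⁅(⊤ : Subgroup G), (⊤ : Subgroup G)⁆ = (⊤ : Subgroup G) := by
  have hs : IsSimpleGroup G := hG.2.1
  have hn : (⁅(⊤ : Subgroup G), (⊤ : Subgroup G)⁆).Normal := by
    rw [← commutator_def]; infer_instance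
  rcases hn.eq_bot_or_eq_top with h | h
  · exfalso
    apply hG.2.2.1
    refine ⟨⟨fun a b => ?_⟩⟩
    have h1 : ⁅a, b⁆ ∈ ⁅(⊤ : Subgroup G), (⊤ : Subgroup G)⁆ :=
      Subgroup.commutator_mem_commutator (Subgroup.mem_top a) (Subgroup.mem_top b)
    rw [h, Subgroup.mem_bot, commutatorElement_eq_one_iff_mul_comm] at h1
    exact h1
  · exact h

/-- the local control hypothesis in a minimal simple group of odd order all of whose proper
subgroups have `p`-length one -/
theorem ms_locCtl (hG : IsMinSimpleOddOrder G)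
    (hpl : ∀ H : Subgroup G, H ≠ ⊤ → PLengthLE p 1 H) : LocCtl p G :=
  locCtl_of_plength
    (fun _ hQ1 hQ => hG.2.2.2 _ (ms_normalizer_ne_top_of_pgroup hG hQ1 hQ))
    (fun _ hQ1 hQ => hpl _ (ms_normalizer_ne_top_of_pgroup hG hQ1 hQ))

end minsimple

end Cfsg.Agent.Lib.Helper91.BGFusion
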