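import Mathlib
import Cfsg.Agent.Lib.Helper71.BG11b
import Cfsg.Agent.Lib.Helper54.FStarAct

set_option autoImplicit false
set_option linter.unusedSectionVars false

/-! Bender–Glauberman Theorem 12.5(e): for an exceptional maximal subgroup `M` (for `(p, A, A0)`),
`M_σ ∩ M* = 1` for every maximal subgroup `M* ≠ M` containing `A`.  The inputs from BG 11.6, 11.7
and 12.4(b) are explicit hypotheses. -/

namespace Cfsg.Agent.Lib.Helper91.BG125

open Cfsg Cfsg.Agent.Lib.Helper55 Cfsg.Agent.Lib.Helper31 Cfsg.Agent.Lib.Helper71.BG10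
open Cfsg.Agent.Lib.Helper71.BG11
open scoped commutatorElement

variable {G : Type*} [Group G] [Finite G]

variable {M A A0 : Subgroup G} {p : ℕ} [Fact p.Prime]

/-- a `p`-subgroup of `L` lies in `L_σ` when `p ∈ σ(L)` -/
theorem le_sigmaCore_of_mem_sigma (hG : IsMinSimpleOddOrder G) {L : Subgroup G} (hL : IsCoatom L)
    (hp : p ∈ sigma L) {X : Subgroup G} (hX : IsPGroup p X) (hXL : X ≤ L) : X ≤ sigmaCore L := by
  refine le_of_isPiHallOf_normal (Cfsg.Agent.S1350.result hG L hL).1 (le_normalizer_sigmaCore L)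
    hXL ?_
  intro r hr hrd
  obtain ⟨n, hn⟩ := IsPGroup.iff_card.mp hX
  rw [hn] at hrd
  have : r = p := (Nat.prime_dvd_prime_iff_eq hr Fact.out).mp (hr.dvd_of_dvd_pow hrd)
  exact this ▸ hp

/-- a `p'`-subgroup of `S ⊔ X`, with `S` a normal `p'`-subgroup and `X` a `p`-group, lies in `S` -/
theorem le_of_pprime_of_le_sup {S X K : Subgroup G} (hX : IsPGroup p X)
    (hXS : X ≤ Subgroup.normalizer (S : Set G)) (hS : ¬ p ∣ Nat.card S) (hK : ¬ p ∣ Nat.card K)
    (hKle : K ≤ S ⊔ X) : K ≤ S := by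
  have hHall : IsPiHallOf {r | r ≠ p} S (S ⊔ X) := by
    refine ⟨le_sup_left, fun r _ hrd => ?_, fun r hr hrp hrd => ?_⟩
    · intro hrp
      exact hS (hrp ▸ hrd)
    · -- the relative index divides `|X|`
      have hsub : S ⊔ X ≤ Subgroup.normalizer (S : Set G) := sup_le Subgroup.le_normalizer hXS
      have h1 : S.relIndex (S ⊔ X) ∣ Nat.card X := by
        have h2 : S.relIndex (X ⊔ S) = S.relIndex X := by
          have := Subgroup.normal_subgroupOf_of_le_normalizer hXS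
          have := Subgroup.normal_subgroupOf_sup_of_le_normalizer hXS
          unfold Subgroup.relIndex Subgroup.index
          exact (Nat.card_congr
            (QuotientGroup.quotientInfEquivProdNormalizerQuotient X S hXS).toEquiv).symm
        rw [sup_comm, h2]
        exact Subgroup.relIndex_dvd_card _ _
      obtain ⟨n, hn⟩ := IsPGroup.iff_card.mp hX
      rw [hn] at h1
      have : r = p := (Nat.prime_dvd_prime_iff_eq hr Fact.out).mp
        (hr.dvd_of_dvd_pow (hrd.trans h1))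
      exact hrp this
  refine le_of_isPiHallOf_normal hHall (sup_le Subgroup.le_normalizer hXS) hKle ?_
  intro r _ hrd hrp
  exact hK (hrp ▸ hrd)

/-- **BG Theorem 12.5(e)** -/
theorem sigmaCore_inf_eq_bot (hG : IsMinSimpleOddOrder G) (h : Exc M p A A0)
    (h116 : sigmaCore M ⊓ Subgroup.centralizer (A : Set G) = ⊥)
    (h117 : ∀ L A1 : Subgroup G, Exc L p A A1 →
      L ≤ Subgroup.normalizer ((sigmaCore L ⊔ A : Subgroup G) : Set G))
    (h124 : ∀ L : Subgroup G, IsCoatom L → A ≤ L → p ∉ sigma L →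
      ∃ A1 : Subgroup G, A1 ≤ A ∧ Nat.card A1 = p ∧ Subgroup.normalizer (A1 : Set G) ≤ L)
    {Mstar : Subgroup G} (hMs : IsCoatom Mstar) (hne : Mstar ≠ M) (hA : A ≤ Mstar) :
    sigmaCore M ⊓ Mstar = ⊥ := by
  set D : Subgroup G := sigmaCore M ⊓ Mstar with hD
  have hpA : IsPGroup p A := h.isPGroup
  -- `A` normalizes `D`
  have hAD : A ≤ Subgroup.normalizer (D : Set G) := by
    intro a ha
    have h1 : a ∈ Subgroup.normalizer (sigmaCore M : Set G) := le_normalizer_sigmaCore M (h.le ha)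
    have h2 : a ∈ Subgroup.normalizer (Mstar : Set G) := Subgroup.le_normalizer (hA ha)
    rw [Subgroup.mem_normalizer_iff] at h1 h2 ⊢
    intro x
    rw [hD, Subgroup.mem_inf, Subgroup.mem_inf, ← h1 x, ← h2 x]
  -- `D` is a `p'`-group
  have hDp : ¬ p ∣ Nat.card D := fun hd =>
    h.not_dvd_card_sigmaCore hG (hd.trans (Subgroup.card_dvd_of_le inf_le_left))
  have hcop : (Nat.card D).Coprime p := ((Nat.Prime.coprime_iff_not_dvd Fact.out).2 hDp).symm
  -- `D = [D, A]`
  have hCD : D ⊓ Subgroup.centralizer (A : Set G) = ⊥ := by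
    apply le_bot_iff.mp
    rw [← h116]
    exact inf_le_inf_right _ inf_le_left
  have hDeq : ⁅D, A⁆ = D := by
    have := Cfsg.Agent.Lib.Helper54.commutator_sup_inf_centralizer_of_coprime hpA hcop hAD
    rwa [hCD, sup_bot_eq] at this
  -- `[D, A] ≤ M*_σ`
  have hDle : ⁅D, A⁆ ≤ sigmaCore Mstar := by
    by_cases hps : p ∈ sigma Mstar
    · have hAs : A ≤ sigmaCore Mstar := le_sigmaCore_of_mem_sigma hG hMs hps hpA hA
      have hDn : D ≤ Subgroup.normalizer (sigmaCore Mstar : Set G) :=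
        inf_le_right.trans (le_normalizer_sigmaCore Mstar)
      calc ⁅D, A⁆ ≤ ⁅D, sigmaCore Mstar⁆ := Subgroup.commutator_mono le_rfl hAs
        _ ≤ sigmaCore Mstar := by
          rw [Subgroup.commutator_comm]
          exact Subgroup.le_normalizer_iff_commutator_le_left.1 hDn
    · obtain ⟨A1, hA1, hA1c, hN1⟩ := h124 Mstar hMs hA hps
      have hE : Exc Mstar p A A1 := ⟨hMs, hps, hA, h.elem, h.card, hA1, hA1c, hN1⟩
      have hnorm := h117 Mstar A1 hE
      have hK1 : ⁅D, A⁆ ≤ sigmaCore Mstar ⊔ A := by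
        have hDn : D ≤ Subgroup.normalizer ((sigmaCore Mstar ⊔ A : Subgroup G) : Set G) :=
          inf_le_right.trans hnorm
        calc ⁅D, A⁆ ≤ ⁅D, sigmaCore Mstar ⊔ A⁆ := Subgroup.commutator_mono le_rfl le_sup_right
          _ ≤ sigmaCore Mstar ⊔ A := by
            rw [Subgroup.commutator_comm]
            exact Subgroup.le_normalizer_iff_commutator_le_left.1 hDn
      have hK2 : ¬ p ∣ Nat.card ↥⁅D, A⁆ := by
        rw [hDeq]; exact hDp
      exact le_of_pprime_of_le_sup hpA (hA.trans (le_normalizer_sigmaCore Mstar))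
        (hE.not_dvd_card_sigmaCore hG) hK2 hK1
  -- conclude with 11.4
  by_contra hD1
  have hDss : D ≤ sigmaCore Mstar ⊓ sigmaCore M := by
    refine le_inf ?_ inf_le_left
    rw [← hDeq]; exact hDle
  have hne' : sigmaCore Mstar ⊓ sigmaCore M ≠ ⊥ := fun h0 => hD1 (le_bot_iff.mp (h0 ▸ hDss))
  exact hne (h.eq_of_sigmaCore_inf hG hMs hA hne')

/-- the literal shape of the second conjunct of S1416 (BG 12.4(b)) for a fixed `L`, `p`, `A` -/
def Hyp124b (L : Subgroup G) (p : ℕ) (A : Subgroup G) : Prop :=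
  (∀ A₀ : Subgroup G, A₀ ≤ A → Nat.card A₀ = p →
      ¬ (Subgroup.normalizer (A₀ : Set G) ≤ L ∧ ∀ L' : Subgroup G, IsCoatom L' →
        Subgroup.normalizer (A₀ : Set G) ≤ L' → L' = L)) →
    p ∈ Cfsg.sigma L ∧ Cfsg.alphaCore L = ⊥ ∧ Group.IsNilpotent (Cfsg.sigmaCore L)

/-- contrapositive of BG 12.4(b): if `p ∉ σ(L)` some `A₁ ≤ A` of order `p` has `N(A₁) ≤ L` (and `L`
is the only maximal subgroup over `N(A₁)`) -/
theorem exists_good_of_hyp124b {L A : Subgroup G} (h : Hyp124b L p A) (hps : p ∉ sigma L) :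
    ∃ A1 : Subgroup G, A1 ≤ A ∧ Nat.card A1 = p ∧ Subgroup.normalizer (A1 : Set G) ≤ L ∧
      ∀ L' : Subgroup G, IsCoatom L' → Subgroup.normalizer (A1 : Set G) ≤ L' → L' = L := by
  by_contra hcon
  push Not at hcon
  refine hps (h ?_).1
  intro A₀ hA₀ hc hN
  obtain ⟨L', hL', hNL', hne⟩ := hcon A₀ hA₀ hc hN.1
  exact hne (hN.2 L' hL' hNL')

/-- **BG Theorem 12.5(e)** with 12.4(b) supplied in the literal shape of S1416 -/
theorem sigmaCore_inf_eq_bot' (hG : IsMinSimpleOddOrder G) (h : Exc M p A A0)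
    (h116 : sigmaCore M ⊓ Subgroup.centralizer (A : Set G) = ⊥)
    (h117 : ∀ L A1 : Subgroup G, Exc L p A A1 →
      L ≤ Subgroup.normalizer ((sigmaCore L ⊔ A : Subgroup G) : Set G))
    (h124 : ∀ L : Subgroup G, IsCoatom L → A ≤ L → Hyp124b L p A)
    {Mstar : Subgroup G} (hMs : IsCoatom Mstar) (hne : Mstar ≠ M) (hA : A ≤ Mstar) :
    sigmaCore M ⊓ Mstar = ⊥ := by
  refine sigmaCore_inf_eq_bot hG h h116 h117 ?_ hMs hne hA
  intro L hL hAL hps
  obtain ⟨A1, h1, h2, h3, -⟩ := exists_good_of_hyp124b (h124 L hL hAL) hps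
  exact ⟨A1, h1, h2, h3⟩

end Cfsg.Agent.Lib.Helper91.BG125
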