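import Mathlib
import Cfsg.Prelude.Def_Local
import Cfsg.Agent.Lib.Helper12.LBDefs
import Cfsg.Agent.Lib.Helper29.LBalance

/-!
# K-S1301-LB-W : reduction of `L_{2'}`-balance to the case `O(G) = 1`

`lb_of_core : CoreStmt (G ⧸ O(G)) → LBStmt G` (keystone 1301011 of helper12's S1301 pack).
Adapted from `Helper29.pcomp_normalizer_le_pLayer`.
-/

set_option autoImplicit false
set_option linter.style.haveILetI false
universe u

namespace Cfsg.Agent.Lib.Helper91.LB

open Cfsg Cfsg.Agent.Lib.Helper12.LB Cfsg.Agent.Lib.Helper29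

/-- `NoCoprimeIndexNormal` passes to surjective images. -/
theorem noCoprimeIndexNormal_of_surjective {A B : Type*} [Group A] [Group B] (p : ℕ)
    (φ : A →* B) (hφ : Function.Surjective φ) (h : NoCoprimeIndexNormal p A) :
    NoCoprimeIndexNormal p B := by
  intro K hK hidx
  have h1 : (K.comap φ).Normal := hK.comap _
  have h2 : (K.comap φ).index = K.index := Subgroup.index_comap_of_surjective K hφ
  have h3 := h _ h1 (by rw [h2]; exact hidx)
  rw [eq_top_iff]
  intro x _
  obtain ⟨a, rfl⟩ := hφ x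
  have : a ∈ K.comap φ := by rw [h3]; trivial
  exact this

theorem lb_of_core (G : Type u) [Group G] [Finite G]
    (h : CoreStmt (G ⧸ pPrimeCore 2 G)) : LBStmt G := by
  classical
  haveI : Fact (Nat.Prime 2) := ⟨Nat.prime_two⟩
  intro R Q hR hQ
  set O : Subgroup G := pPrimeCore 2 G with hOdef
  set π := QuotientGroup.mk' O with hπ
  have hOc : (Nat.card O).Coprime 2 := pPrimeCore_coprime 2
  have hObot : pPrimeCore 2 (G ⧸ O) = ⊥ := pPrimeCore_quotient_eq_bot 2
  set Y : Subgroup G := Subgroup.normalizer (R : Set G) with hY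
  set P : Subgroup (G ⧸ O) := R.map π with hP
  have hPp : IsPGroup 2 P := hR.map π
  set N : Subgroup (G ⧸ O) := Subgroup.normalizer (P : Set (G ⧸ O)) with hN
  have hNY : N = Y.map π :=
    Cfsg.Agent.Lib.Helper15.normalizer_map_mk_of_coprime O hOc R hR
  set ON : Subgroup ↥N := pPrimeCore 2 ↥N with hON
  set OY : Subgroup ↥Y := pPrimeCore 2 ↥Y with hOY
  -- the restriction of π to Y → N
  have hmem : ∀ y : ↥Y, (π.comp Y.subtype) y ∈ N := by
    intro y
    rw [hNY]
    exact Subgroup.mem_map_of_mem π y.2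
  set g : ↥Y →* ↥N := (π.comp Y.subtype).codRestrict N hmem with hg
  have hgsurj : Function.Surjective g := by
    rintro ⟨n, hn⟩
    rw [hNY] at hn
    obtain ⟨y, hy, rfl⟩ := hn
    exact ⟨⟨y, hy⟩, rfl⟩
  set f : ↥Y →* ↥N ⧸ ON := (QuotientGroup.mk' ON).comp g with hf
  have hfsurj : Function.Surjective f :=
    (QuotientGroup.mk'_surjective ON).comp hgsurj
  -- kernel of f
  have hker : OY = f.ker := by
    have h1 : f.ker = ON.comap g := by
      rw [hf, ← MonoidHom.comap_ker, QuotientGroup.ker_mk']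
    rw [h1]
    apply le_antisymm
    · rw [← Subgroup.map_le_iff_le_comap]
      have hn : (OY.map g).Normal := Subgroup.Normal.map inferInstance g hgsurj
      have hc : (Nat.card (OY.map g)).Coprime 2 :=
        Nat.Coprime.coprime_dvd_left (Subgroup.card_map_dvd OY g) (pPrimeCore_coprime 2)
      exact normal_le_pPrimeCore 2 (OY.map g) hc
    · have hn : (ON.comap g).Normal := Subgroup.Normal.comap inferInstance g
      have hc : (Nat.card (ON.comap g)).Coprime 2 := by
        apply card_coprime_of_forall_orderOf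
        rintro ⟨y, hy⟩
        rw [Subgroup.orderOf_mk]
        have h2 : (g y) ^ Nat.card ON = 1 := by
          have := pow_card_eq_one_of_mem (Subgroup.mem_comap.mp hy)
          exact this
        have h3 : ((y : G) ^ Nat.card ON) ∈ O := by
          have h4 := congrArg Subtype.val h2
          rw [Subgroup.coe_pow] at h4
          have h5 : π ((y : G) ^ Nat.card ON) = 1 := by
            rw [map_pow]; exact h4
          exact (QuotientGroup.eq_one_iff _).mp h5
        have h6 : ((y : G) ^ Nat.card ON) ^ Nat.card O = 1 := pow_card_eq_one_of_mem h3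
        rw [← pow_mul] at h6
        have h7 : y ^ (Nat.card ON * Nat.card O) = 1 := by
          apply Subtype.ext
          rw [Subgroup.coe_pow]; exact h6
        have h8 : orderOf y ∣ Nat.card ON * Nat.card O := orderOf_dvd_of_pow_eq_one h7
        exact Nat.Coprime.coprime_dvd_left h8
          (Nat.Coprime.mul_left (pPrimeCore_coprime 2) hOc)
      exact normal_le_pPrimeCore 2 (ON.comap g) hc
  -- the induced isomorphism
  let e : (↥Y ⧸ OY) ≃* (↥N ⧸ ON) :=
    (QuotientGroup.quotientMulEquivOfEq hker).trans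
      (QuotientGroup.quotientKerEquivOfSurjective f hfsurj)
  have he : ∀ y : ↥Y, e (QuotientGroup.mk' OY y) = f y := fun y => rfl
  -- the image `Qb` of `Q` in `G / O`
  set Qb : Subgroup (G ⧸ O) := Q.map π with hQb
  have hQY : Q ≤ Y := hQ.comp.1
  have hQbN : Qb ≤ N := by
    rw [hNY]; exact Subgroup.map_mono hQY
  have hmapg : (Q.subgroupOf Y).map g = Qb.subgroupOf N := by
    ext x
    constructor
    · rintro ⟨y, hy, rfl⟩
      rw [Subgroup.mem_subgroupOf]
      exact Subgroup.mem_map_of_mem π (Subgroup.mem_subgroupOf.mp hy)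
    · intro hx
      rw [Subgroup.mem_subgroupOf] at hx
      obtain ⟨q, hq, hqx⟩ := hx
      refine ⟨⟨q, hQY hq⟩, Subgroup.mem_subgroupOf.mpr hq, ?_⟩
      apply Subtype.ext
      exact hqx
  have himg : img N Qb = (img Y Q).map e.toMonoidHom := by
    unfold img
    rw [Subgroup.map_map, ← hmapg, Subgroup.map_map]
    congr 1
  have hcompb : IsComponent (img N Qb) := by
    rw [himg]
    exact Cfsg.Agent.Lib.Helper30.isComponent_map_equiv e hQ.comp.2
  have hQbperf : ⁅Qb, Qb⁆ = Qb := by
    rw [hQb, ← Subgroup.map_commutator, hQ.perf]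
  have hQbnci : NoCoprimeIndexNormal 2 ↥Qb := by
    refine noCoprimeIndexNormal_of_surjective 2 (π.subgroupMap Q) ?_ hQ.nci
    exact MonoidHom.subgroupMap_surjective π Q
  have hQCb : QC N Qb := ⟨⟨hQbN, hcompb⟩, hQbperf, hQbnci⟩
  have hQE : Qb ≤ layer (G ⧸ O) := h hObot P Qb hPp hQCb
  -- back to G
  rw [← map_pLayer_eq_layer 2] at hQE
  have hJM : Q ≤ pLayer 2 G ⊔ O := le_sup_core_of_map_le 2 Q (pLayer 2 G) hQE
  have h1 : NoCoprimeIndexNormal 2 (Q.subgroupOf (pLayer 2 G ⊔ O)) :=
    noCoprimeIndexNormal_of_mulEquiv 2 (Subgroup.subgroupOfEquivOfLe hJM) hQ.nci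
  have hsn : (pLayer 2 G).IsSubnormal :=
    Subgroup.Normal.isSubnormal (Cfsg.Agent.Lib.Helper30.pLayer_normal 2)
  have h2 := le_of_subnormal_index_coprime 2 (Q.subgroupOf (pLayer 2 G ⊔ O)) h1
    ((pLayer 2 G).subgroupOf (pLayer 2 G ⊔ O)) hsn.subgroupOf
    (relIndex_sup_core_coprime 2 (pLayer 2 G))
  intro x hx
  exact h2 (show (⟨x, hJM hx⟩ : ↥(pLayer 2 G ⊔ O)) ∈ Q.subgroupOf (pLayer 2 G ⊔ O) from hx)

end Cfsg.Agent.Lib.Helper91.LB
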