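import Cfsg.Agent.Lib.Helper87.FusionSaturated
import Cfsg.Agent.Lib.Helper89.FusionAut
import Cfsg.Agent.Lib.Helper89.FusionConj
import Cfsg.Agent.Lib.Helper90.FusionExt
import Cfsg.Agent.Lib.Helper88.FusionRS1
import Cfsg.Agent.S5081

set_option autoImplicit false

namespace Cfsg.Agent.Lib.Helper91

open Cfsg Cfsg.FusionSystem Cfsg.Agent.Lib.Helper87

variable {Ω : Type*} [Group Ω] {S : Subgroup Ω}

/-- The automorphisms of `Q` that extend to a map of the system on a strictly larger subgroup. -/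
def extSet (F : FusionSystem S) (Q : Subgroup Ω) : Set (MulAut Q) :=
  {α : MulAut Q | ∃ (Q' : Subgroup Ω) (hQQ' : Q < Q') (φ : Q' →* Ω), φ ∈ F.Hom Q' ∧
    ∀ x : Q, φ (Subgroup.inclusion hQQ'.le x) = α x}

/-- The subgroup of `Aut(Q)` generated by `extSet`. -/
def extGroup (F : FusionSystem S) (Q : Subgroup Ω) : Subgroup (MulAut Q) := Subgroup.closure (extSet F Q)

/-- `χ` is a reference map at `P`: a map of the system from `N_S(P)` to `N_S(Q)` carrying `P` onto `Q`. -/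
def IsRef (F : FusionSystem S) (Q P : Subgroup Ω) (χ : normalizerIn S P →* Ω) : Prop :=
  χ ∈ F.Hom (normalizerIn S P) ∧ (∀ x, χ x ∈ normalizerIn S Q) ∧
    (∀ x : normalizerIn S P, (x : Ω) ∈ P → χ x ∈ Q) ∧
    ∀ q ∈ Q, ∃ x : normalizerIn S P, (x : Ω) ∈ P ∧ χ x = q

theorem exists_isRef [Finite S] (p : ℕ) [Fact p.Prime] (hS : IsPGroup p S) (F : FusionSystem S)
    {Q : Subgroup Ω} (hfa : F.IsFullyAutomized p Q) (hrec : F.IsReceptive Q) {P : Subgroup Ω}
    (hP : F.IsConj P Q) : ∃ χ, IsRef F Q P χ := by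
  obtain ⟨χ, hχ, hχN, hχmap, hχQ⟩ := exists_normalizer_hom p hS F Q P hfa hrec hP
  refine ⟨χ, hχ, hχN, hχQ, fun q hq => ?_⟩
  rw [← hχmap] at hq
  obtain ⟨x, hx, rfl⟩ := hq
  exact ⟨x, Subgroup.mem_subgroupOf.mp hx, rfl⟩

/-- `φ`, a map from `P` onto `P'` (both conjugate to `Q`), is good: read through suitable reference maps it
induces on `Q` an element of `extGroup`. -/
def Good (F : FusionSystem S) (Q P P' : Subgroup Ω) (φ : P →* Ω) : Prop :=
  ∃ (χ : normalizerIn S P →* Ω) (χ' : normalizerIn S P' →* Ω), IsRef F Q P χ ∧ IsRef F Q P' χ' ∧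
    ∃ a ∈ extGroup F Q, ∀ (x : P) (hx : (x : Ω) ∈ normalizerIn S P) (hx' : φ x ∈ normalizerIn S P')
      (q : Q), (q : Ω) = χ ⟨x, hx⟩ → χ' ⟨φ x, hx'⟩ = ((a q : Q) : Ω)

/-- The key lemma: a map that extends to a strictly larger subgroup is good with respect to any reference maps. -/
theorem exists_extGroup_of_extends [Finite S] (p : ℕ) [Fact p.Prime] (hS : IsPGroup p S) (F : FusionSystem S)
    (Q P P' R : Subgroup Ω) (hPR : P ≤ R) (hne : P ≠ R) (θ : R →* Ω) (hθ : θ ∈ F.Hom R)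
    (hθP : ∀ x : R, (x : Ω) ∈ P → θ x ∈ P') (hθonto : ∀ y ∈ P', ∃ x : R, (x : Ω) ∈ P ∧ θ x = y)
    (hP'S : P' ≤ S)
    (χ : normalizerIn S P →* Ω) (χ' : normalizerIn S P' →* Ω) (hχ : IsRef F Q P χ) (hχ' : IsRef F Q P' χ') :
    ∃ a ∈ extGroup F Q, ∀ (x : P) (hx : (x : Ω) ∈ normalizerIn S P)
      (hx' : θ (Subgroup.inclusion hPR x) ∈ normalizerIn S P') (q : Q),
      (q : Ω) = χ ⟨x, hx⟩ → χ' ⟨θ (Subgroup.inclusion hPR x), hx'⟩ = ((a q : Q) : Ω) := by
  have hRS : R ≤ S := hom_le F hθ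
  have : Finite R := finite_of_le hRS
  have : Finite P' := finite_of_le hP'S
  have hRp : IsPGroup p R := hS.to_le hRS
  obtain ⟨g, hgN, hgP⟩ := Cfsg.Agent.Lib.Helper89.exists_mem_normalizerIn_not_mem hRp hPR hne
  set N : Subgroup Ω := normalizerIn R P with hN
  have hPN : P ≤ N := le_normalizerIn hPR
  have hNR : N ≤ R := normalizerIn_le R P
  have hNS : N ≤ normalizerIn S P := fun n hn => ⟨hRS hn.1, hn.2⟩
  obtain ⟨hχF, hχN, hχQ, hχonto⟩ := hχ
  obtain ⟨hχ'F, hχ'N, hχ'Q, hχ'onto⟩ := hχ'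
  -- χ restricted to N
  set χN : N →* Ω := χ.comp (Subgroup.inclusion hNS) with hχNdef
  have hχNF : χN ∈ F.Hom N := restrict_mem F hNS hχF
  -- θ restricted to N, with values in the normalizer of P'
  set θN : N →* Ω := θ.comp (Subgroup.inclusion hNR) with hθNdef
  have hθNF : θN ∈ F.Hom N := restrict_mem F hNR hθ
  have hθNval : ∀ n : N, θN n ∈ normalizerIn S P' := by
    intro n
    refine ⟨hom_mem F hθNF n, ?_⟩
    apply mem_normalizer_of_conj_mem
    intro y hy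
    obtain ⟨x, hxP, rfl⟩ := hθonto y hy
    have hnx : (n : Ω) * (x : Ω) * (n : Ω)⁻¹ ∈ P := (Subgroup.mem_normalizer_iff.mp n.2.2 _).mp hxP
    have h1 : θN n * θ x * (θN n)⁻¹ = θ (Subgroup.inclusion hNR n * x * (Subgroup.inclusion hNR n)⁻¹) := by
      rw [map_mul, map_mul, map_inv]; rfl
    rw [h1]
    exact hθP _ hnx
  set τ : N →* Ω := χ'.comp (θN.codRestrict (normalizerIn S P') hθNval) with hτdef
  have hτF : τ ∈ F.Hom N := F.comp_mem hθNF hχ'F hθNval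
  obtain ⟨ι, hι, hιx⟩ := F.inv_mem hχNF
  have hιN : ∀ y : χN.range, ι y ∈ N := by
    rintro ⟨_, n, rfl⟩
    rw [hιx]; exact n.2
  set ã : χN.range →* Ω := τ.comp (ι.codRestrict N hιN) with hãdef
  have hãF : ã ∈ F.Hom χN.range := F.comp_mem hι hτF hιN
  have hãx : ∀ n : N, ã ⟨χN n, ⟨n, rfl⟩⟩ = τ n := by
    intro n
    show τ ⟨ι ⟨χN n, ⟨n, rfl⟩⟩, _⟩ = τ n
    congr 1
    exact Subtype.ext (hιx n)
  -- Q lies strictly inside the range of χN
  have hQle : Q ≤ χN.range := by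
    intro q hq
    obtain ⟨x, hxP, rfl⟩ := hχonto q hq
    exact ⟨⟨x, hPN hxP⟩, rfl⟩
  have hQlt : Q < χN.range := by
    refine lt_of_le_of_ne hQle (fun h => hgP ?_)
    have h1 : χN ⟨g, hgN⟩ ∈ Q := by rw [h]; exact ⟨_, rfl⟩
    obtain ⟨x, hxP, hx⟩ := hχonto _ h1
    have h2 : x = Subgroup.inclusion hNS ⟨g, hgN⟩ := F.injective_of_mem hχF hx
    have h3 : (x : Ω) = g := congrArg Subtype.val h2
    rw [← h3]; exact hxP
  -- ã maps Q into Q
  have hãQ : ∀ q : Q, ã (Subgroup.inclusion hQle q) ∈ Q := by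
    intro q
    obtain ⟨x, hxP, hx⟩ := hχonto q q.2
    have h1 : Subgroup.inclusion hQle q = ⟨χN ⟨x, hPN hxP⟩, ⟨_, rfl⟩⟩ := Subtype.ext hx.symm
    rw [h1, hãx]
    exact hχ'Q _ (hθP _ hxP)
  have hãQF : ã.comp (Subgroup.inclusion hQle) ∈ F.Hom Q := restrict_mem F hQle hãF
  have hrange := Cfsg.Agent.Lib.Helper90.range_eq_of_forall_mem F hãQF hãQ
  refine ⟨homEquiv F hãQF hrange, Subgroup.subset_closure ⟨χN.range, hQlt, ã, hãF, fun x => rfl⟩, ?_⟩
  intro x hx hx' q hq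
  rw [homEquiv_apply]
  show _ = ã (Subgroup.inclusion hQle q)
  have h1 : Subgroup.inclusion hQle q = ⟨χN ⟨x, hPN x.2⟩, ⟨_, rfl⟩⟩ := Subtype.ext hq
  rw [h1, hãx]
  rfl

/-- A subgroup admitting a reference map onto `Q ≠ S` is properly contained in its normalizer. -/
theorem ne_normalizerIn_of_isRef [Finite S] (p : ℕ) [Fact p.Prime] (hS : IsPGroup p S) (F : FusionSystem S)
    {Q P : Subgroup Ω} (hQS : Q ≤ S) (hQne : Q ≠ S) (hPS : P ≤ S) {χ : normalizerIn S P →* Ω}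
    (hχ : IsRef F Q P χ) : P ≠ normalizerIn S P := by
  intro hPN
  have hPeq : P = S := by
    by_contra hne
    obtain ⟨g, hgN, hgP⟩ := Cfsg.Agent.Lib.Helper89.exists_mem_normalizerIn_not_mem hS hPS hne
    rw [← hPN] at hgN
    exact hgP hgN
  apply hQne
  have : Finite Q := finite_of_le hQS
  have : Finite P := finite_of_le hPS
  apply Subgroup.eq_of_le_of_card_ge hQS
  rw [← hPeq]
  obtain ⟨hχF, -, hχQ, -⟩ := hχ
  refine Nat.card_le_card_of_injective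
    (fun x : P => (⟨χ ⟨x, le_normalizerIn hPS x.2⟩, hχQ _ x.2⟩ : Q)) ?_
  intro x y hxy
  have h1 : χ ⟨x, le_normalizerIn hPS x.2⟩ = χ ⟨y, le_normalizerIn hPS y.2⟩ := congrArg Subtype.val hxy
  have h2 := F.injective_of_mem hχF h1
  exact Subtype.ext (congrArg (fun z : normalizerIn S P => (z : Ω)) h2)

/-- Change of reference map. -/
theorem exists_extGroup_of_refs [Finite S] (p : ℕ) [Fact p.Prime] (hS : IsPGroup p S) (F : FusionSystem S)
    {Q P : Subgroup Ω} (hQS : Q ≤ S) (hQne : Q ≠ S) (hPS : P ≤ S)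
    (χ χ' : normalizerIn S P →* Ω) (hχ : IsRef F Q P χ) (hχ' : IsRef F Q P χ') :
    ∃ b ∈ extGroup F Q, ∀ (y : P) (hy : (y : Ω) ∈ normalizerIn S P) (q : Q),
      (q : Ω) = χ ⟨y, hy⟩ → χ' ⟨y, hy⟩ = ((b q : Q) : Ω) := by
  obtain ⟨b, hb, hbx⟩ := exists_extGroup_of_extends p hS F Q P P (normalizerIn S P) (le_normalizerIn hPS)
    (ne_normalizerIn_of_isRef p hS F hQS hQne hPS hχ) (normalizerIn S P).subtype
    (subtype_mem F (normalizerIn_le S P)) (fun x hx => hx)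
    (fun y hy => ⟨⟨y, le_normalizerIn hPS hy⟩, hy, rfl⟩) hPS χ χ' hχ hχ'
  exact ⟨b, hb, fun y hy q hq => hbx y hy hy q hq⟩

theorem good_comp [Finite S] (p : ℕ) [Fact p.Prime] (hS : IsPGroup p S) (F : FusionSystem S)
    {Q : Subgroup Ω} (hQS : Q ≤ S) (hQne : Q ≠ S) {P P' P'' : Subgroup Ω} (hP'S : P' ≤ S)
    {φ : P →* Ω} {ψ : P' →* Ω} (h : ∀ x, φ x ∈ P') (hφ : Good F Q P P' φ) (hψ : Good F Q P' P'' ψ) :
    Good F Q P P'' (ψ.comp (φ.codRestrict P' h)) := by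
  obtain ⟨χ₁, χ₂, h₁, h₂, a, ha, hc₁⟩ := hφ
  obtain ⟨χ₂', χ₃, h₂', h₃, a', ha', hc₂⟩ := hψ
  obtain ⟨b, hb, hbx⟩ := exists_extGroup_of_refs p hS F hQS hQne hP'S χ₂ χ₂' h₂ h₂'
  refine ⟨χ₁, χ₃, h₁, h₃, a' * b * a,
    (extGroup F Q).mul_mem ((extGroup F Q).mul_mem ha' hb) ha, fun x hx hx'' q hq => ?_⟩
  have hx' : φ x ∈ normalizerIn S P' := le_normalizerIn hP'S (h x)
  have e1 := hc₁ x hx hx' q hq
  have e2 := hbx ⟨φ x, h x⟩ hx' (a q) e1.symm
  exact hc₂ ⟨φ x, h x⟩ hx' hx'' (b (a q)) e2.symm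

theorem good_inv (F : FusionSystem S) {Q P P' : Subgroup Ω} (hPS : P ≤ S) {φ : P →* Ω} (hφ : Good F Q P P' φ)
    (h : ∀ x, φ x ∈ P') (ψ : P' →* Ω) (hinv : ∀ x : P, ψ ⟨φ x, h x⟩ = x) (honto : ∀ y : P', ∃ x : P, φ x = y) :
    Good F Q P' P ψ := by
  obtain ⟨χ, χ', hχ, hχ', a, ha, hc⟩ := hφ
  refine ⟨χ', χ, hχ', hχ, a⁻¹, (extGroup F Q).inv_mem ha, fun y hy hy' q' hq' => ?_⟩
  obtain ⟨x, hx⟩ := honto y
  have hyx : y = ⟨φ x, h x⟩ := Subtype.ext hx.symm
  have hψy : ψ y = x := by rw [hyx, hinv]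
  have hxN : (x : Ω) ∈ normalizerIn S P := le_normalizerIn hPS x.2
  set q : Q := ⟨χ ⟨x, hxN⟩, hχ.2.2.1 _ x.2⟩ with hq
  have hφN : φ x ∈ normalizerIn S P' := by rw [hx]; exact hy
  have e1 := hc x hxN hφN q rfl
  have e2 : q' = a q := by
    apply Subtype.ext
    rw [hq', ← e1]
    congr 1
    exact Subtype.ext hx.symm
  rw [e2, MulAut.inv_apply_self]
  show χ ⟨ψ y, hy'⟩ = χ ⟨x, hxN⟩
  congr 1
  exact Subtype.ext hψy

theorem ne_top_of_isConj [Finite S] (F : FusionSystem S) {Q P : Subgroup Ω} (hQne : Q ≠ S)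
    (hPQ : F.IsConj P Q) : P ≠ S := by
  intro h
  subst h
  exact hQne (Cfsg.Agent.Lib.Helper88.eq_of_isConj_top F hPQ)

/-- A map that is the restriction of a map of the system on a strictly larger subgroup is good. -/
theorem good_of_extends [Finite S] (p : ℕ) [Fact p.Prime] (hS : IsPGroup p S) (F : FusionSystem S)
    {Q : Subgroup Ω} (hfa : F.IsFullyAutomized p Q) (hrec : F.IsReceptive Q)
    {P R : Subgroup Ω} (hPR : P ≤ R) (hne : P ≠ R) (hPQ : F.IsConj P Q) (θ : R →* Ω) (hθ : θ ∈ F.Hom R) :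
    Good F Q P (θ.comp (Subgroup.inclusion hPR)).range (θ.comp (Subgroup.inclusion hPR)) := by
  have hθP : θ.comp (Subgroup.inclusion hPR) ∈ F.Hom P := restrict_mem F hPR hθ
  have hPP' : F.IsConj P (θ.comp (Subgroup.inclusion hPR)).range := ⟨_, hθP, rfl⟩
  have hP'Q : F.IsConj (θ.comp (Subgroup.inclusion hPR)).range Q := isConj_trans F (isConj_symm F hPP') hPQ
  obtain ⟨χ, hχ⟩ := exists_isRef p hS F hfa hrec hPQ
  obtain ⟨χ', hχ'⟩ := exists_isRef p hS F hfa hrec hP'Q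
  obtain ⟨a, ha, hax⟩ := exists_extGroup_of_extends p hS F Q P (θ.comp (Subgroup.inclusion hPR)).range R hPR hne θ hθ
    (fun x hx => ⟨⟨x, hx⟩, rfl⟩)
    (fun y hy => by
      obtain ⟨x, rfl⟩ := hy
      exact ⟨Subgroup.inclusion hPR x, x.2, rfl⟩)
    (isConj_le_left F hP'Q) χ χ' hχ hχ'
  exact ⟨χ, χ', hχ, hχ', a, ha, hax⟩

theorem good_cast (F : FusionSystem S) {Q P₁ P₂ : Subgroup Ω} (h : P₁ = P₂) (ψ : P₂ →* Ω)
    (hψ : Good F Q P₂ ψ.range ψ) :
    Good F Q P₁ (ψ.comp (Subgroup.inclusion h.le)).range (ψ.comp (Subgroup.inclusion h.le)) := by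
  subst h
  have e : ψ.comp (Subgroup.inclusion (le_refl P₁)) = ψ := MonoidHom.ext fun _ => rfl
  rw [e]
  exact hψ

/-- The subsystem of `F` in which the maps between conjugates of `Q` are required to be good. -/
def omitSystem [Finite S] (p : ℕ) [Fact p.Prime] (hS : IsPGroup p S) (F : FusionSystem S) (Q : Subgroup Ω)
    (hfa : F.IsFullyAutomized p Q) (hrec : F.IsReceptive Q) (hQne : Q ≠ S) : FusionSystem S where
  Hom P := {φ | φ ∈ F.Hom P ∧ (F.IsConj P Q → Good F Q P φ.range φ)}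
  le_of_mem h := F.le_of_mem h.1
  injective_of_mem h := F.injective_of_mem h.1
  conj_mem := by
    intro P g hP hg
    refine ⟨F.conj_mem hP hg, fun hPQ => ?_⟩
    have e : conjHom P g = (conjHom S g).comp (Subgroup.inclusion hP) := MonoidHom.ext fun _ => rfl
    rw [e]
    exact good_of_extends p hS F hfa hrec hP (ne_top_of_isConj F hQne hPQ) hPQ _ (F.conj_mem le_rfl hg)
  comp_mem := by
    intro P R φ ψ hφ hψ h
    refine ⟨F.comp_mem hφ.1 hψ.1 h, fun hPQ => ?_⟩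
    have hQS : Q ≤ S := hrec.1
    have hgφ : Good F Q P φ.range φ := hφ.2 hPQ
    have hPP' : F.IsConj P φ.range := ⟨φ, hφ.1, rfl⟩
    have hP'Q : F.IsConj φ.range Q := isConj_trans F (isConj_symm F hPP') hPQ
    have hP'R : φ.range ≤ R := by
      rintro _ ⟨x, rfl⟩; exact h x
    have hgψ : Good F Q φ.range (ψ.comp (Subgroup.inclusion hP'R)).range (ψ.comp (Subgroup.inclusion hP'R)) := by
      by_cases hne : φ.range = R
      · have hRQ : F.IsConj R Q := hne ▸ hP'Q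
        exact good_cast F hne ψ (hψ.2 hRQ)
      · exact good_of_extends p hS F hfa hrec hP'R hne hP'Q ψ hψ.1
    have h' : ∀ x : P, φ x ∈ φ.range := fun x => ⟨x, rfl⟩
    have hg := good_comp p hS F hQS hQne (isConj_le_left F hP'Q) h' hgφ hgψ
    have e1 : (ψ.comp (Subgroup.inclusion hP'R)).comp (φ.codRestrict φ.range h') = ψ.comp (φ.codRestrict R h) :=
      MonoidHom.ext fun _ => rfl
    have e2 : (ψ.comp (Subgroup.inclusion hP'R)).range = (ψ.comp (φ.codRestrict R h)).range := by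
      ext y
      constructor
      · rintro ⟨⟨_, x, rfl⟩, rfl⟩
        exact ⟨x, rfl⟩
      · rintro ⟨x, rfl⟩
        exact ⟨⟨φ x, x, rfl⟩, rfl⟩
    rw [e1, e2] at hg
    exact hg
  inv_mem := by
    intro P φ hφ
    obtain ⟨ψ, hψ, hψx⟩ := F.inv_mem hφ.1
    refine ⟨ψ, ⟨hψ, fun hc => ?_⟩, hψx⟩
    have hPP' : F.IsConj P φ.range := ⟨φ, hφ.1, rfl⟩
    have hPQ : F.IsConj P Q := isConj_trans F hPP' hc
    have hgφ : Good F Q P φ.range φ := hφ.2 hPQ
    have hrange : ψ.range = P := by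
      ext y
      constructor
      · rintro ⟨⟨_, x, rfl⟩, rfl⟩
        rw [hψx]; exact x.2
      · intro hy
        exact ⟨⟨φ ⟨y, hy⟩, ⟨y, hy⟩, rfl⟩, hψx ⟨y, hy⟩⟩
    rw [hrange]
    exact good_inv F (isConj_le_left F hPQ) hgφ (fun x => ⟨x, rfl⟩) ψ hψx
      (fun y => by
        obtain ⟨_, x, rfl⟩ := y
        exact ⟨x, rfl⟩)

theorem autInducedBy_self (P : Subgroup Ω) : autInducedBy P P = Inn P := by
  apply le_antisymm
  · intro α hα
    obtain ⟨g, hg, hgα⟩ := (Cfsg.Agent.Lib.Helper89.mem_autInducedBy_iff P P α).mp hα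
    refine ⟨⟨g, hg⟩, ?_⟩
    ext x
    rw [hgα]; rfl
  · exact Cfsg.Agent.Lib.Helper89.inn_le_autInducedBy le_rfl

/-- An essential subgroup is proper. -/
theorem ne_top_of_isEssential [Finite S] (p : ℕ) [Fact p.Prime] (F : FusionSystem S)
    (hF : F.IsSaturated p) {Q : Subgroup Ω} (hQ : F.IsEssential p Q) : Q ≠ S := by
  intro h
  subst h
  obtain ⟨-, -, hn, E, hdvd, -⟩ := hQ
  obtain ⟨-, R, hR⟩ := Cfsg.Agent.Lib.Helper88.isFullyAutomized_top_of_isSaturated F hF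
  rw [autInducedBy_self] at hR
  have : Finite (F.autGroup Q) := finite_autGroup F le_rfl
  have h1 : Nat.card (F.autGroup Q ⧸ (Inn Q).subgroupOf (F.autGroup Q)) =
      ((Inn Q).subgroupOf (F.autGroup Q)).index := rfl
  rw [h1, ← hR] at hdvd
  exact R.not_dvd_index hdvd

theorem isRef_subtype (F : FusionSystem S) {Q : Subgroup Ω} (hQS : Q ≤ S) :
    IsRef F Q Q (normalizerIn S Q).subtype :=
  ⟨subtype_mem F (normalizerIn_le S Q), fun x => x.2, fun _ hx => hx,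
    fun q hq => ⟨⟨q, le_normalizerIn hQS hq⟩, hq, rfl⟩⟩

/-- The main theorem: the class of an essential subgroup cannot be omitted. -/
theorem exists_omitting_system [Finite S] (p : ℕ) [Fact p.Prime] (hS : IsPGroup p S) (F : FusionSystem S)
    (hF : F.IsSaturated p) (Q : Subgroup Ω) (hQ : F.IsEssential p Q) :
    ∃ E : FusionSystem S, (∀ R : Subgroup Ω, R ≤ S → ¬ F.IsConj Q R → F.autGroup R ≤ E.autGroup R) ∧
      ¬ F ≤ E := by
  have hQne : Q ≠ S := ne_top_of_isEssential p F hF hQ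
  have hfn : F.IsFullyNormalized Q := hQ.2.1
  have hQS : Q ≤ S := hfn.1
  obtain ⟨hfc, hfa⟩ := fullyNormalized_props p hS F hF Q hfn
  have hrec : F.IsReceptive Q := isReceptive_of_isFullyCentralized p hS F hF Q hfc
  -- an automorphism outside the group generated by the extendable ones
  obtain ⟨α, hαF, hαH⟩ : ∃ α ∈ F.autGroup Q, α ∉ extGroup F Q := by
    by_contra hcon
    have hle : F.autGroup Q ≤ extGroup F Q := by
      intro α hα
      by_contra h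
      exact hcon ⟨α, hα, h⟩
    rcases Cfsg.Agent.S5081.result p hS F hF Q (lt_of_le_of_ne hQS hQne) hfn (extGroup F Q) rfl with
      ⟨hne, -⟩ | ⟨-, hn, -, htop, -⟩
    · exact hne hQ
    · apply htop
      have h1 : (extGroup F Q).subgroupOf (F.autGroup Q) = ⊤ := by
        rw [Subgroup.subgroupOf_eq_top]; exact hle
      rw [h1, ← MonoidHom.range_eq_map, MonoidHom.range_eq_top]
      exact QuotientGroup.mk'_surjective _
  refine ⟨omitSystem p hS F Q hfa hrec hQne, fun R hR hnc β hβ => ?_, fun hle => ?_⟩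
  · rw [Cfsg.Agent.Lib.Helper89.mem_autGroup_iff F hR] at hβ
    rw [Cfsg.Agent.Lib.Helper89.mem_autGroup_iff _ hR]
    exact ⟨hβ, fun hRQ => absurd (isConj_symm F hRQ) hnc⟩
  · apply hαH
    rw [Cfsg.Agent.Lib.Helper89.mem_autGroup_iff F hQS] at hαF
    have hgood := (hle Q hαF).2 (isConj_refl F hQS)
    have hrange : (Q.subtype.comp α.toMonoidHom).range = Q := by
      ext y
      constructor
      · rintro ⟨x, rfl⟩; exact (α x).2
      · intro hy
        exact ⟨α.symm ⟨y, hy⟩, by simp⟩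
    rw [hrange] at hgood
    obtain ⟨χ, χ', hχ, hχ', a, ha, hc⟩ := hgood
    obtain ⟨b, hb, hbx⟩ := exists_extGroup_of_refs p hS F hQS hQne hQS _ χ (isRef_subtype F hQS) hχ
    obtain ⟨b', hb', hb'x⟩ := exists_extGroup_of_refs p hS F hQS hQne hQS _ χ' (isRef_subtype F hQS) hχ'
    have hN : ∀ x : Q, (x : Ω) ∈ normalizerIn S Q := fun x => le_normalizerIn hQS x.2
    have key : α = b'⁻¹ * a * b := by
      ext x
      have e1 := hbx x (hN x) x rfl
      have e2 := hc x (hN x) (hN (α x)) (b x) e1.symm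
      have e3 := hb'x (α x) (hN (α x)) (α x) rfl
      have e4 : b' (α x) = a (b x) := Subtype.ext (e3.symm.trans e2)
      show ((α x : Q) : Ω) = ((b'⁻¹ (a (b x)) : Q) : Ω)
      rw [← e4, MulAut.inv_apply_self]
    rw [key]
    exact (extGroup F Q).mul_mem ((extGroup F Q).mul_mem ((extGroup F Q).inv_mem hb') ha) hb

end Cfsg.Agent.Lib.Helper91
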