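import Mathlib
import Cfsg.Agent.Lib.Helper94.THDefs

/-!
# K-TH leaf A0 (keystone 163201, architect helper94): an integral positive definite unimodular Gram matrix
is positive definite over `ℝ`

Nonnegativity on `ℚ^n` by clearing denominators, on `ℝ^n` by density; a real vector with `rq A x = 0` is
in the kernel of `A` (one-variable quadratic polynomial), impossible since `det A = 1`.
-/

set_option autoImplicit false

namespace Cfsg.Agent.Lib.Helper91.TH

open Matrix Cfsg.Agent.Lib.Helper94.TH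

section general

variable {n : ℕ}

theorem rq_smul (A : Matrix (Fin n) (Fin n) ℝ) (c : ℝ) (x : Fin n → ℝ) :
    rq A (c • x) = c ^ 2 * rq A x := by
  unfold rq
  rw [Matrix.mulVec_smul, dotProduct_smul, smul_dotProduct, smul_eq_mul, smul_eq_mul]
  ring

theorem rq_intCast (B : Matrix (Fin n) (Fin n) ℤ) (y : Fin n → ℤ) :
    rq (B.map (Int.cast : ℤ → ℝ)) (fun i => (y i : ℝ)) = ((y ⬝ᵥ (B *ᵥ y) : ℤ) : ℝ) := by
  unfold rq
  simp only [dotProduct, Matrix.mulVec, Matrix.map_apply]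
  push_cast
  rfl

theorem continuous_rq (A : Matrix (Fin n) (Fin n) ℝ) : Continuous (rq A) := by
  unfold rq
  exact Continuous.dotProduct continuous_id (Continuous.matrix_mulVec continuous_const continuous_id)

/-- a common denominator -/
theorem exists_common_den (q : Fin n → ℚ) :
    ∃ N : ℕ, 0 < N ∧ ∃ y : Fin n → ℤ, ∀ i, q i * (N : ℚ) = (y i : ℚ) := by
  classical
  refine ⟨∏ i, (q i).den, Finset.prod_pos (fun i _ => (q i).den_pos),
    fun i => (q i).num * ∏ j ∈ Finset.univ.erase i, ((q j).den : ℤ), fun i => ?_⟩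
  rw [← Finset.mul_prod_erase Finset.univ (fun j => (q j).den) (Finset.mem_univ i)]
  push_cast
  rw [← mul_assoc, Rat.mul_den_eq_num]

/-- nonnegativity on rational vectors -/
theorem rq_nonneg_rat (B : Matrix (Fin n) (Fin n) ℤ)
    (hpos : ∀ x : Fin n → ℤ, x ≠ 0 → 0 < x ⬝ᵥ (B *ᵥ x)) (q : Fin n → ℚ) :
    0 ≤ rq (B.map (Int.cast : ℤ → ℝ)) (fun i => ((q i : ℚ) : ℝ)) := by
  obtain ⟨N, hN, y, hy⟩ := exists_common_den q
  have hNr : (0 : ℝ) < (N : ℝ) := by exact_mod_cast hN
  have hy' : (fun i => (y i : ℝ)) = (N : ℝ) • (fun i => ((q i : ℚ) : ℝ)) := by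
    funext i
    have := congrArg (fun r : ℚ => (r : ℝ)) (hy i)
    simp only [Rat.cast_mul, Rat.cast_natCast, Rat.cast_intCast] at this
    rw [Pi.smul_apply, smul_eq_mul, ← this, mul_comm]
  have h1 : rq (B.map (Int.cast : ℤ → ℝ)) (fun i => (y i : ℝ))
      = (N : ℝ) ^ 2 * rq (B.map (Int.cast : ℤ → ℝ)) (fun i => ((q i : ℚ) : ℝ)) := by
    rw [hy', rq_smul]
  have h2 : (0 : ℝ) ≤ rq (B.map (Int.cast : ℤ → ℝ)) (fun i => (y i : ℝ)) := by
    rw [rq_intCast]
    by_cases h0 : y = 0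
    · subst h0; simp
    · exact_mod_cast (hpos y h0).le
  rw [h1] at h2
  exact nonneg_of_mul_nonneg_right h2 (by positivity)

/-- nonnegativity on real vectors, by density -/
theorem rq_nonneg_real (B : Matrix (Fin n) (Fin n) ℤ)
    (hpos : ∀ x : Fin n → ℤ, x ≠ 0 → 0 < x ⬝ᵥ (B *ᵥ x)) (x : Fin n → ℝ) :
    0 ≤ rq (B.map (Int.cast : ℤ → ℝ)) x := by
  have hd : DenseRange (Pi.map (fun (_ : Fin n) => (Rat.cast : ℚ → ℝ))) :=
    DenseRange.piMap (fun _ => Rat.denseRange_cast)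
  refine hd.induction_on (p := fun x => 0 ≤ rq (B.map (Int.cast : ℤ → ℝ)) x) x ?_ ?_
  · exact isClosed_le continuous_const (continuous_rq _)
  · intro q
    exact rq_nonneg_rat B hpos q

theorem rq_add_smul (A : Matrix (Fin n) (Fin n) ℝ) (hA : A.IsSymm) (x y : Fin n → ℝ) (t : ℝ) :
    rq A (x + t • y) = rq A x + 2 * t * (y ⬝ᵥ (A *ᵥ x)) + t ^ 2 * rq A y := by
  have hsym : x ⬝ᵥ (A *ᵥ y) = y ⬝ᵥ (A *ᵥ x) := by
    rw [Matrix.dotProduct_mulVec, ← Matrix.vecMul_transpose A x, hA.eq, dotProduct_comm]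
  unfold rq
  rw [Matrix.mulVec_add, Matrix.mulVec_smul, add_dotProduct, dotProduct_add, dotProduct_add,
    smul_dotProduct, smul_dotProduct, dotProduct_smul, dotProduct_smul, hsym]
  simp only [smul_eq_mul]
  ring

/-- for a positive semidefinite symmetric matrix, `rq A x = 0` forces `A x = 0` -/
theorem mulVec_eq_zero_of_rq_eq_zero (A : Matrix (Fin n) (Fin n) ℝ) (hA : A.IsSymm)
    (h0 : ∀ x, 0 ≤ rq A x) (x : Fin n → ℝ) (hx : rq A x = 0) : A *ᵥ x = 0 := by
  by_contra hne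
  set y := A *ᵥ x with hy
  have hc : 0 < y ⬝ᵥ y := by
    rcases (dotProduct_self_star_nonneg y).lt_or_eq with h | h
    · simpa using h
    · exfalso
      apply hne
      have : y ⬝ᵥ y = 0 := by simpa using h.symm
      exact dotProduct_self_eq_zero.mp this
  set c := y ⬝ᵥ y with hcdef
  set d := rq A y with hd
  have hd0 : 0 ≤ d := h0 y
  have key := h0 (x + (-c / (d + 1)) • y)
  rw [rq_add_smul A hA, hx, ← hy, ← hcdef, ← hd] at key
  have hd1 : 0 < d + 1 := by linarith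
  have : 0 + 2 * (-c / (d + 1)) * c + (-c / (d + 1)) ^ 2 * d
      = -(c ^ 2 * (d + 2)) / (d + 1) ^ 2 := by
    field_simp
    ring
  rw [this] at key
  have hneg : -(c ^ 2 * (d + 2)) / (d + 1) ^ 2 < 0 := by
    apply div_neg_of_neg_of_pos
    · have : 0 < c ^ 2 * (d + 2) := by positivity
      linarith
    · positivity
  linarith

end general

/-- **THA0** -/
theorem isPD_of_hyp {B : Matrix (Fin 24) (Fin 24) ℤ} (h : Hyp B) :
    IsPD (B.map (Int.cast : ℤ → ℝ)) := by
  have hsymm : (B.map (Int.cast : ℤ → ℝ)).IsSymm := by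
    unfold Matrix.IsSymm
    rw [← Matrix.transpose_map, h.symm.eq]
  refine ⟨hsymm, fun x hx => ?_⟩
  have h0 := rq_nonneg_real B h.pos
  rcases (h0 x).lt_or_eq with hlt | heq
  · exact hlt
  · exfalso
    have hker := mulVec_eq_zero_of_rq_eq_zero _ hsymm h0 x heq.symm
    have hdet : (B.map (Int.cast : ℤ → ℝ)).det = 0 :=
      Matrix.exists_mulVec_eq_zero_iff.mp ⟨x, hx, hker⟩
    have hdet1 : (B.map (Int.cast : ℤ → ℝ)).det = 1 := by
      have := (Int.castRingHom ℝ).map_det B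
      rw [h.det, map_one] at this
      rw [this]
      rfl
    rw [hdet1] at hdet
    exact one_ne_zero hdet

end Cfsg.Agent.Lib.Helper91.TH
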