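import Mathlib
import Cfsg.Prelude.Def_GeometricClasses
import Cfsg.Agent.S3762

set_option autoImplicit false

/-! K-SUMax-D6b: in a group of symplectic type and exponent `r * gcd 2 r`, commutators are central. -/

namespace Cfsg.Agent.Lib.Helper91.SUMax

open Cfsg Cfsg.Geo
open scoped Matrix MatrixGroups commutatorElement

/-- multiplying the left argument of a commutator by a central element does not change it -/
theorem commutatorElement_mul_central_left {T : Type*} [Group T] (a b z : T)
    (hz : ∀ g : T, g * z = z * g) : ⁅a * z, b⁆ = ⁅a, b⁆ := by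
  have h1 : z * b * z⁻¹ = b := by rw [← hz b]; group
  rw [commutatorElement_def, commutatorElement_def]
  calc a * z * b * (a * z)⁻¹ * b⁻¹ = a * (z * b * z⁻¹) * a⁻¹ * b⁻¹ := by group
    _ = a * b * a⁻¹ * b⁻¹ := by rw [h1]

/-- multiplying the right argument of a commutator by a central element does not change it -/
theorem commutatorElement_mul_central_right {T : Type*} [Group T] (a b z : T)
    (hz : ∀ g : T, g * z = z * g) : ⁅a, b * z⁆ = ⁅a, b⁆ := by
  have h1 : z * a⁻¹ * z⁻¹ = a⁻¹ := by rw [← hz a⁻¹]; group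
  rw [commutatorElement_def, commutatorElement_def]
  calc a * (b * z) * a⁻¹ * (b * z)⁻¹ = a * b * (z * a⁻¹ * z⁻¹) * b⁻¹ := by group
    _ = a * b * a⁻¹ * b⁻¹ := by rw [h1]

/-- abstract form: a finite `r`-group of symplectic type and exponent `r * gcd 2 r` has central
commutators -/
theorem commutator_central_of_symplectic {T : Type*} [Group T] [Finite T] {r : ℕ} [Fact r.Prime]
    (hp : IsPGroup r T)
    (hsymp : ∀ A : Subgroup T, A.Characteristic → IsMulCommutative A → IsCyclic A)
    (hexp : Monoid.exponent T = r * Nat.gcd 2 r) (a b c : T) : ⁅a, b⁆ * c = c * ⁅a, b⁆ := by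
  obtain ⟨E, S, hcomm, hsup, hE, hS⟩ := Cfsg.Agent.S3762.result hp hsymp
  -- orders of elements divide the exponent
  have hord : ∀ t : T, orderOf t ∣ r * Nat.gcd 2 r := fun t => hexp ▸ Monoid.order_dvd_exponent t
  -- `S` is cyclic
  have hScyc : IsCyclic S := by
    rcases hS with h | ⟨hr2, h16, hcase⟩
    · exact h
    · exfalso
      subst hr2
      have hord4 : ∀ t : T, orderOf t ∣ 4 := fun t => by simpa using hord t
      have hordS : ∀ s : S, orderOf s ∣ 4 := fun s => by
        rw [← Subgroup.orderOf_coe]; exact hord4 s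
      rcases hcase with ⟨m, ⟨f⟩⟩ | ⟨m, ⟨f⟩⟩ | ⟨n, hn, hcard, x, y, hx, -, -⟩
      · have hc : Nat.card S = 2 * m := by
          rw [Nat.card_congr f.toEquiv, DihedralGroup.nat_card]
        have h1 : orderOf (f.symm (DihedralGroup.r 1)) = m := by
          rw [f.symm.orderOf_eq, DihedralGroup.orderOf_r_one]
        have h2 := hordS (f.symm (DihedralGroup.r 1))
        rw [h1] at h2
        have : m ≤ 4 := Nat.le_of_dvd (by norm_num) h2
        omega
      · have h1 : orderOf (f.symm (QuaternionGroup.a 1)) = 2 * m := by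
          rw [f.symm.orderOf_eq, QuaternionGroup.orderOf_a_one]
        have h2 := hordS (f.symm (QuaternionGroup.a 1))
        rw [h1] at h2
        have hm : 2 * m ≤ 4 := Nat.le_of_dvd (by norm_num) h2
        have hm0 : m ≠ 0 := by
          rintro rfl
          have hpos := orderOf_pos (f.symm (QuaternionGroup.a 1))
          rw [h1] at hpos
          omega
        have : NeZero m := ⟨hm0⟩
        have hc : Nat.card S = 4 * m := by
          rw [Nat.card_congr f.toEquiv, Nat.card_eq_fintype_card, QuaternionGroup.card]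
        omega
      · have h2 := hordS x
        rw [hx] at h2
        have h3 : 2 ^ n ≤ 4 := Nat.le_of_dvd (by norm_num) h2
        have h4 : 2 ^ 3 ≤ 2 ^ n := Nat.pow_le_pow_right (by norm_num) hn
        omega
  -- every element is `e * s`
  have hSn : S ≤ Subgroup.normalizer (E : Set T) := by
    intro s hs
    rw [Subgroup.mem_normalizer_iff]
    intro e
    constructor
    · intro he
      have := hcomm e he s hs
      have e1 : s * e * s⁻¹ = e := by rw [← this]; group
      rwa [e1]
    · intro he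
      have := hcomm _ he s hs
      have e1 : e = s * e * s⁻¹ := by
        have h2 : s * e * s⁻¹ * s = s * (s * e * s⁻¹) := this
        have h3 : s * e = s * (s * e * s⁻¹) := by
          calc s * e = s * e * s⁻¹ * s := by group
            _ = s * (s * e * s⁻¹) := h2
        exact mul_left_cancel h3
      rw [e1]; exact he
  have hdecomp : ∀ t : T, ∃ e ∈ E, ∃ s ∈ S, t = e * s := by
    intro t
    have ht : t ∈ ((E ⊔ S : Subgroup T) : Set T) := by rw [hsup]; trivial
    rw [Subgroup.coe_mul_of_right_le_normalizer_left E S hSn] at ht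
    obtain ⟨e, he, s, hs, rfl⟩ := ht
    exact ⟨e, he, s, hs, rfl⟩
  -- `S` is central
  have hScomm : ∀ s ∈ S, ∀ s' ∈ S, s * s' = s' * s := by
    intro s hs s' hs'
    have hc : IsMulCommutative S := by
      have := hScyc
      exact ⟨⟨fun x y => (IsCyclic.commGroup (α := S)).mul_comm x y⟩⟩
    have := hc.is_comm.comm (⟨s, hs⟩ : S) ⟨s', hs'⟩
    exact congrArg Subtype.val this
  have hScen : ∀ s ∈ S, ∀ g : T, g * s = s * g := by
    intro s hs g
    obtain ⟨e, he, s', hs', rfl⟩ := hdecomp g
    calc e * s' * s = e * (s' * s) := by group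
      _ = e * (s * s') := by rw [hScomm s' hs' s hs]
      _ = (e * s) * s' := by group
      _ = (s * e) * s' := by rw [hcomm e he s hs]
      _ = s * (e * s') := by group
  -- commutators of elements of `E` are central
  have hEcen : ∀ e₁ ∈ E, ∀ e₂ ∈ E, ∀ g : T, ⁅e₁, e₂⁆ * g = g * ⁅e₁, e₂⁆ := by
    intro e₁ he₁ e₂ he₂ g
    rcases hE with hbot | hex
    · rw [hbot, Subgroup.mem_bot] at he₁ he₂
      subst he₁ he₂
      simp
    · have hmem : ⁅(⟨e₁, he₁⟩ : E), ⟨e₂, he₂⟩⁆ ∈ Subgroup.center E := by
        rw [← hex.1.2.2, commutator_def]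
        exact Subgroup.commutator_mem_commutator (Subgroup.mem_top _) (Subgroup.mem_top _)
      have hcE : ⁅e₁, e₂⁆ ∈ E := by
        rw [commutatorElement_def]
        exact E.mul_mem (E.mul_mem (E.mul_mem he₁ he₂) (E.inv_mem he₁)) (E.inv_mem he₂)
      obtain ⟨e, he, s, hs, rfl⟩ := hdecomp g
      have h1 : e * ⁅e₁, e₂⁆ = ⁅e₁, e₂⁆ * e := by
        have := (Subgroup.mem_center_iff.mp hmem) ⟨e, he⟩
        have := congrArg Subtype.val this
        simpa [commutatorElement_def] using this
      calc ⁅e₁, e₂⁆ * (e * s) = (⁅e₁, e₂⁆ * e) * s := by group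
        _ = (e * ⁅e₁, e₂⁆) * s := by rw [h1]
        _ = e * (⁅e₁, e₂⁆ * s) := by group
        _ = e * (s * ⁅e₁, e₂⁆) := by rw [hcomm _ hcE s hs]
        _ = e * s * ⁅e₁, e₂⁆ := by group
  obtain ⟨e₁, he₁, s₁, hs₁, rfl⟩ := hdecomp a
  obtain ⟨e₂, he₂, s₂, hs₂, rfl⟩ := hdecomp b
  rw [commutatorElement_mul_central_left _ _ _ (hScen s₁ hs₁),
    commutatorElement_mul_central_right _ _ _ (hScen s₂ hs₂)]
  exact hEcen e₁ he₁ e₂ he₂ c

/-- K-SUMax-D6b -/
theorem commutator_central_of_symplecticType {ι : Type} [Fintype ι] [DecidableEq ι] {K : Type*}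
    [Field K] [Fintype K] {r : ℕ}
    (R : Subgroup (GL ι K)) (hR : IsSymplecticTypeGroup r R) :
    ∀ g ∈ R, ∀ h ∈ R, ∀ x ∈ R, (g * h * g⁻¹ * h⁻¹) * x = x * (g * h * g⁻¹ * h⁻¹) := by
  intro g hg h hh x hx
  have : Fact r.Prime := ⟨hR.prime⟩
  have := commutator_central_of_symplectic (T := ↥R) hR.pGroup hR.cyclic_of_characteristic
    hR.exponent_eq ⟨g, hg⟩ ⟨h, hh⟩ ⟨x, hx⟩
  have := congrArg Subtype.val this
  simpa [commutatorElement_def] using this

end Cfsg.Agent.Lib.Helper91.SUMax
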