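import Mathlib
import Cfsg.Prelude.Def_GeometricClasses
import Cfsg.Agent.Lib.Helper61.AschDefs
import Cfsg.Agent.Lib.Helper43.SpAschDefs
import Cfsg.Agent.Lib.Helper43.SpAschDefs2
import Cfsg.Agent.Lib.Helper97.AschOB6b

/-!
# K-SpAsch-S4b1 (helper91, for helper43's S5662 pack)

`q` odd, the form is `alt ⊗ symm` in the coordinates `(e, P)` with symmetric factor of dimension `≥ 3`:
`SGeom.tensor`.
-/

set_option autoImplicit false

namespace Cfsg.Agent.Lib.Helper91.SpAsch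

open Cfsg Cfsg.Geo Cfsg.Agent.Lib.Helper61.Asch Cfsg.Agent.Lib.Helper43.SpAsch
open Cfsg.Agent.Lib.Helper97.AschO
open scoped Matrix Kronecker MatrixGroups

variable {F : Type*} [Field F]

theorem gForm_skew {k : ℕ} (g : Matrix (Fin k) (Fin k) F) (hg : gᵀ = -g) (x y : Fin k → F) :
    gForm g x y = - gForm g y x := by
  unfold gForm
  rw [Matrix.dotProduct_mulVec, ← Matrix.mulVec_transpose, hg, Matrix.neg_mulVec, neg_dotProduct,
    dotProduct_comm]

theorem two_ne_zero_of_odd_card [Fintype F] (hq : Odd (Fintype.card F)) : (2 : F) ≠ 0 := by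
  apply Ring.two_ne_zero
  intro h2
  have := FiniteField.even_card_iff_char_two.mp h2
  rw [Nat.odd_iff] at hq
  omega

/-- the alternating bilinear form with invertible skew Gram matrix `g`, in odd characteristic -/
theorem isSymplecticForm_gForm {k : ℕ} (g : Matrix (Fin k) (Fin k) F) (hg : gᵀ = -g) (hu : IsUnit g)
    (h2 : (2 : F) ≠ 0) : IsSymplecticForm (gForm g) := by
  have hnd : ∀ v : Fin k → F, v ≠ 0 → ∃ x, gForm g x v ≠ 0 := by
    intro v hv
    have h1 : g *ᵥ v ≠ 0 := by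
      intro h0
      apply hv
      obtain ⟨u, rfl⟩ := hu
      have h3 : ((u⁻¹ : (Matrix (Fin k) (Fin k) F)ˣ) : Matrix (Fin k) (Fin k) F) *ᵥ
          ((u : Matrix (Fin k) (Fin k) F) *ᵥ v) = v := by
        rw [Matrix.mulVec_mulVec, Units.inv_mul, Matrix.one_mulVec]
      rw [← h3, h0, Matrix.mulVec_zero]
    obtain ⟨i, hi⟩ : ∃ i, (g *ᵥ v) i ≠ 0 := by
      by_contra hcon
      push Not at hcon
      exact h1 (funext hcon)
    refine ⟨Pi.single i 1, ?_⟩
    unfold gForm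
    simpa using hi
  refine ⟨⟨?_, ?_, ?_, ?_⟩, gForm_skew g hg, ?_, ?_⟩
  · intro x y v
    unfold gForm
    rw [add_dotProduct]
  · intro c x v
    unfold gForm
    rw [smul_dotProduct, smul_eq_mul]
  · intro v x y
    unfold gForm
    rw [Matrix.mulVec_add, dotProduct_add]
  · intro c v x
    unfold gForm
    rw [Matrix.mulVec_smul, dotProduct_smul, smul_eq_mul]
  · intro v
    have h := gForm_skew g hg v v
    have h3 : (2 : F) * gForm g v v = 0 := by
      rw [two_mul]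
      nth_rewrite 1 [h]
      exact neg_add_cancel _
    rcases mul_eq_zero.mp h3 with h4 | h4
    · exact absurd h4 h2
    · exact h4
  · intro v hv
    obtain ⟨x, hx⟩ := hnd v hv
    refine ⟨⟨x, hx⟩, ⟨x, ?_⟩⟩
    rw [gForm_skew g hg]
    exact neg_ne_zero.mpr hx

variable [Fintype F] {n : ℕ}

local notation "V" => (Fin n → F)

/-- **K-SpAsch-S4b1**. -/
theorem sgeom_tensor_of_alt_symm {f : V → V → F} (hf : IsSymplecticForm f) (hq : Odd (Fintype.card F))
    (K : Subgroup (GL (Fin n) F)) (a b : ℕ) (hb : 3 ≤ b) (e : Fin n ≃ Fin a × Fin b) (P : GL (Fin n) F)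
    (G₁ : Matrix (Fin a) (Fin a) F) (G₂ : Matrix (Fin b) (Fin b) F) (hG₁ : IsUnit G₁) (hG₂ : IsUnit G₂)
    (h₁ : G₁ᵀ = -G₁) (h₂ : G₂ᵀ = G₂) (hform : IsKronForm f a b e P G₁ G₂)
    (hK : K ≤ tensorProductSubgroup a b e P) : SGeom f K := by
  refine SGeom.tensor hq a b e P (gForm G₁) (gForm G₂) hb
    (isSymplecticForm_gForm G₁ h₁ hG₁ (two_ne_zero_of_odd_card hq))
    (isSymmetricForm_gForm G₂ h₂ hG₂) ?_ hK
  refine ⟨1, one_ne_zero, ?_⟩
  intro x y
  rw [gramMatrix_gForm, gramMatrix_gForm, one_mul]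
  exact hform x y

end Cfsg.Agent.Lib.Helper91.SpAsch
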