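import Mathlib
import Cfsg.Agent.Lib.Helper16.BG1363Defs
import Cfsg.Agent.Lib.Helper55.Basic
import Cfsg.Agent.Lib.Helper64.BG14K
import Cfsg.Agent.Lib.Helper36.BG142Glue
import Cfsg.Agent.Lib.Helper31.FittingHall
import Cfsg.Agent.Lib.Helper13.BG12A
import Cfsg.Agent.S1350

/-!
# K-1435-P13t (keystone 143520, architect helper31): `T0_mem_tau2`
-/

set_option autoImplicit false

namespace Cfsg.Agent.Lib.Helper91.BG1435

open Cfsg Subgroup Cfsg.Agent.Lib.Helper55 Cfsg.Agent.Lib.Helper11.BG14D Cfsg.Agent.Lib.Helper16.BG1363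

variable {G : Type*} [Group G] [Finite G]

theorem T0_mem_tau2 (hG : IsMinSimpleOddOrder G) {H E T₀ : Subgroup G} (hH : IsCoatom H)
    (hκ : kappa H = ∅) (hE : IsComplIn E (sigmaCore H) H) (hTE : T₀ ≤ E) (hTp : (Nat.card T₀).Prime)
    (hTc : T₀ ≤ centralizer (sigmaCore H : Set G)) : Nat.card T₀ ∈ tau2 H := by
  have hEH : E ≤ H := hE.1
  have hTH : T₀ ≤ H := hTE.trans hEH
  have htH : Nat.card T₀ ∣ Nat.card H := Subgroup.card_dvd_of_le hTH
  have htE : Nat.card T₀ ∣ Nat.card E := Subgroup.card_dvd_of_le hTE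
  have hσ : Nat.card T₀ ∉ sigma H := by
    intro hs
    have hHall := (Cfsg.Agent.S1350.result hG H hH).1
    apply hHall.2.2 _ hTp hs
    have hcm : Nat.card E * Nat.card (sigmaCore H) = Nat.card H :=
      Cfsg.Agent.Lib.Helper31.IsComplIn.card_mul hE
    have h2 : Nat.card (sigmaCore H) * (sigmaCore H).relIndex H = Nat.card H := by
      have := Subgroup.relIndex_mul_relIndex ⊥ (sigmaCore H) H bot_le hE.2.1
      rwa [Subgroup.relIndex_bot_left, Subgroup.relIndex_bot_left] at this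
    have h3 : (sigmaCore H).relIndex H = Nat.card E := by
      rw [← hcm, mul_comm] at h2
      exact Nat.eq_of_mul_eq_mul_right Nat.card_pos h2
    rw [h3]
    exact htE
  have h2 : PRankLE (Nat.card T₀) 2 H := by
    by_contra h
    exact hσ (Cfsg.Agent.Lib.Helper13.BG12.mem_sigma_of_not_pRankLE_two hG hH hTp h)
  refine ⟨hTp, hσ, h2, fun h1 => ?_⟩
  have hC : sigmaCore H ⊓ centralizer (T₀ : Set G) ≠ ⊥ := by
    have hle : sigmaCore H ≤ centralizer (T₀ : Set G) := Subgroup.le_centralizer_iff.mp hTc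
    rw [inf_eq_left.mpr hle]
    exact Cfsg.Agent.Lib.Helper83.BG11.sigmaCore_ne_bot hG hH
      (Cfsg.Agent.Lib.Helper36.BG142.coatom_ne_bot' hG hH)
  have hk := Cfsg.Agent.Lib.Helper64.BG14.mem_kappa_of_cent_ne_bot hG hH hTp htH hσ h1 hTH rfl hC
  rw [hκ] at hk
  exact hk

end Cfsg.Agent.Lib.Helper91.BG1435
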