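import Cfsg.Agent.Lib.Helper11.Syl22Defs

/-!
# S4346 pack, leaf K-B0 (434609): a simple group with 22 Sylow 3-subgroups acts faithfully on them
-/

set_option autoImplicit false

namespace Cfsg.Agent.Lib.Helper91.Syl22Faithful

open Cfsg.Agent.Lib.Helper11.Syl22

theorem faithful {G : Type*} [Group G] (c : Ctx G) : Faithful G := by
  have hfin : Finite G := c.fin
  have hsimple : IsSimpleGroup G := c.simple
  intro g hg
  have hK : (MulAction.toPermHom G (Sylow 3 G)).ker.Normal := inferInstance
  rcases hK.eq_bot_or_eq_top with hbot | htop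
  · have hmem : g ∈ (MulAction.toPermHom G (Sylow 3 G)).ker := by
      rw [MonoidHom.mem_ker]
      ext Q
      simp [hg Q]
    rw [hbot] at hmem
    exact (Subgroup.mem_bot).1 hmem
  · exfalso
    have hall : ∀ (x : G) (Q : Sylow 3 G), x • Q = Q := by
      intro x Q
      have hx : x ∈ (MulAction.toPermHom G (Sylow 3 G)).ker := by
        rw [htop]; exact Subgroup.mem_top x
      rw [MonoidHom.mem_ker] at hx
      have := congrArg (fun σ : Equiv.Perm (Sylow 3 G) => σ Q) hx
      simpa using this
    have hsub : Subsingleton (Sylow 3 G) := by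
      refine ⟨fun P Q => ?_⟩
      obtain ⟨x, hx⟩ := MulAction.exists_smul_eq G P Q
      rw [← hx, hall x P]
    have h1 : Nat.card (Sylow 3 G) ≤ 1 := Finite.card_le_one_iff_subsingleton.2 hsub
    rw [c.h22] at h1
    omega

end Cfsg.Agent.Lib.Helper91.Syl22Faithful
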