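import Mathlib
import Cfsg.Agent.Lib.Helper12.SmallSimple
import Cfsg.Agent.Lib.Helper23.SylowPerm

set_option autoImplicit false

/-! K-S0496-1080: there is no non-abelian simple group of order `1080 = 2³·3³·5`. -/

namespace Cfsg.Agent.Lib.Helper91.Small1092

open Subgroup MulAction
open scoped Pointwise

/-- in a finite `p`-group of order divisible by `p ^ 2`, every element centralizer has order
divisible by `p ^ 2` -/
theorem sq_dvd_card_centralizer {P : Type*} [Group P] [Finite P] (p : ℕ) [Fact p.Prime]
    (hP : IsPGroup p P) (h2 : p ^ 2 ∣ Nat.card P) (y : P) :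
    p ^ 2 ∣ Nat.card (centralizer ({y} : Set P)) := by
  have hp : p.Prime := Fact.out
  by_cases hy : y ∈ center P
  · have : centralizer ({y} : Set P) = ⊤ := by
      rw [eq_top_iff]
      intro g _
      rw [mem_centralizer_iff]
      intro h hh
      rw [Set.mem_singleton_iff] at hh
      subst hh
      exact (mem_center_iff.mp hy g).symm
    rw [this, Subgroup.card_top]
    exact h2
  · have hnt : Nontrivial P := by
      refine ⟨⟨y, 1, ?_⟩⟩
      rintro rfl
      exact hy (one_mem _)
    have hZ : Nontrivial (center P) := hP.center_nontrivial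
    have hZC : center P ≤ centralizer ({y} : Set P) := center_le_centralizer _
    have hyC : y ∈ centralizer ({y} : Set P) := by
      rw [mem_centralizer_iff]
      intro h hh
      rw [Set.mem_singleton_iff] at hh
      rw [hh]
    obtain ⟨a, ha⟩ := IsPGroup.iff_card.mp (hP.to_subgroup (centralizer ({y} : Set P)))
    obtain ⟨b, hb⟩ := IsPGroup.iff_card.mp (hP.to_subgroup (center P))
    have hb1 : 1 ≤ b := by
      rcases Nat.eq_zero_or_pos b with h0 | h0
      · exfalso
        rw [h0, pow_zero] at hb
        have := (Subgroup.card_eq_one.mp hb)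
        exact (Subgroup.nontrivial_iff_ne_bot _).mp hZ this
      · exact h0
    have hlt : Nat.card (center P) < Nat.card (centralizer ({y} : Set P)) := by
      rcases (Nat.le_of_dvd Nat.card_pos (Subgroup.card_dvd_of_le hZC)).lt_or_eq with h | h
      · exact h
      · exfalso
        have := Subgroup.eq_of_le_of_card_ge hZC h.ge
        exact hy (this ▸ hyC)
    rw [ha, hb] at hlt
    have hab : b < a := (Nat.pow_lt_pow_iff_right hp.one_lt).mp hlt
    rw [ha]
    exact pow_dvd_pow p (by omega)

/-- a group of order `45` or `90` has a normal Sylow `5`-subgroup -/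
theorem sylow_five_normal {H : Type*} [Group H] [Finite H]
    (h : Nat.card H = 45 ∨ Nat.card H = 90) (Q : Sylow 5 H) : (Q : Subgroup H).Normal := by
  have : Fact (Nat.Prime 5) := ⟨by norm_num⟩
  have : Fact (Nat.Prime 2) := ⟨Nat.prime_two⟩
  have key45 : ∀ {K : Type _} [Group K] [Finite K], Nat.card K = 45 → Nat.card (Sylow 5 K) = 1 := by
    intro K _ _ hK
    have h1 : Nat.card (Sylow 5 K) ∣ 9 :=
      Helper23.card_sylow_dvd_of_card_eq 5 1 9 (by rw [hK]; norm_num) (by norm_num)
    have h2 : Nat.card (Sylow 5 K) % 5 = 1 := by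
      have := card_sylow_modEq_one 5 K
      rw [Nat.ModEq] at this
      simpa using this
    have hle : Nat.card (Sylow 5 K) ≤ 9 := Nat.le_of_dvd (by norm_num) h1
    generalize Nat.card (Sylow 5 K) = d at *
    interval_cases d <;> omega
  rcases h with h | h
  · exact Helper23.sylow_normal_of_card_eq_one 5 (key45 h) Q
  · -- a normal `2`-complement `K` of order `45`
    obtain ⟨P2⟩ : Nonempty (Sylow 2 H) := inferInstance
    have hP2card : Nat.card (P2 : Subgroup H) = 2 := by
      have := Helper23.sylow_card_of_card_eq 2 1 45 (by rw [h]; norm_num) (by norm_num) P2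
      simpa using this
    have hcyc : IsCyclic (P2 : Subgroup H) := isCyclic_of_prime_card hP2card
    have hmin : (Nat.card H).minFac = 2 := by
      rw [h]; exact (Nat.minFac_eq_two_iff _).mpr (by norm_num)
    have hNC : normalizer ((P2 : Subgroup H) : Set H) ≤ centralizer ((P2 : Subgroup H) : Set H) :=
      hcyc.normalizer_le_centralizer hmin
    have hc := MonoidHom.ker_transferSylow_isComplement' P2 hNC
    set K : Subgroup H := (MonoidHom.transferSylow P2 hNC).ker with hK
    have hKn : K.Normal := MonoidHom.normal_ker _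
    have hKcard : Nat.card K = 45 := by
      have := hc.card_mul_card
      rw [hP2card, h] at this
      omega
    -- the unique Sylow 5 of `K`
    obtain ⟨Q0⟩ : Nonempty (Sylow 5 K) := inferInstance
    have hQ0n : (Q0 : Subgroup K).Normal := Helper23.sylow_normal_of_card_eq_one 5 (key45 hKcard) Q0
    have hQ0c : (Q0 : Subgroup K).Characteristic := Sylow.characteristic_of_normal Q0 hQ0n
    have hQ0card : Nat.card (Q0 : Subgroup K) = 5 := by
      have := Helper23.sylow_card_of_card_eq 5 1 9 (by rw [hKcard]; norm_num) (by norm_num) Q0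
      simpa using this
    set Q1 : Subgroup H := (Q0 : Subgroup K).map K.subtype with hQ1
    have hQ1n : Q1.Normal := ConjAct.normal_of_characteristic_of_normal
    have hQ1card : Nat.card Q1 = 5 := by
      rw [hQ1, Subgroup.card_map_of_injective K.subtype_injective]
      exact hQ0card
    have hQcard : Nat.card (Q : Subgroup H) = 5 := by
      have := Helper23.sylow_card_of_card_eq 5 1 18 (by rw [h]; norm_num) (by norm_num) Q
      simpa using this
    -- `Q1` is a `5`-group, hence contained in a conjugate of ... use Sylow: `Q1 ≤ g • Q`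
    have hQ1p : IsPGroup 5 Q1 := IsPGroup.of_card (n := 1) (by rw [hQ1card, pow_one])
    obtain ⟨R, hR⟩ := hQ1p.exists_le_sylow
    have hRcard : Nat.card (R : Subgroup H) = 5 := by
      have := Helper23.sylow_card_of_card_eq 5 1 18 (by rw [h]; norm_num) (by norm_num) R
      simpa using this
    have hQ1R : Q1 = (R : Subgroup H) := Subgroup.eq_of_le_of_card_ge hR (by rw [hRcard, hQ1card])
    obtain ⟨g, hg⟩ := MulAction.exists_smul_eq H R Q
    have : (Q : Subgroup H) = Q1 := by
      rw [← hg, Sylow.coe_subgroup_smul, ← hQ1R]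
      exact Subgroup.Normal.conj_smul_eq_self g Q1
    rw [this]
    exact hQ1n

/-- K-S0496-1080 -/
theorem no_simple_1080 {G : Type*} [Group G] [Finite G] [IsSimpleGroup G] (hG : ¬ IsMulCommutative G)
    (h : Nat.card G = 1080) : False := by
  have : Fact (Nat.Prime 5) := ⟨by norm_num⟩
  have : Fact (Nat.Prime 3) := ⟨by norm_num⟩
  have h5 : Nat.card G = 5 ^ 1 * 216 := by rw [h]; norm_num
  obtain ⟨hd1, hd2, hd3, hd4⟩ := Helper12.sylow_count_spec hG 5 1 216 (by norm_num) h5 (by norm_num)
  obtain ⟨P⟩ : Nonempty (Sylow 5 G) := inferInstance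
  have hPcard : Nat.card (P : Subgroup G) = 5 := by
    have := Helper23.sylow_card_of_card_eq 5 1 216 h5 (by norm_num) P
    simpa using this
  have hNn := Helper23.card_normalizer_mul_card_sylow 5 P
  -- the number of Sylow 5-subgroups
  have hd : Nat.card (Sylow 5 G) = 36 := by
    have hcases : Nat.card (Sylow 5 G) = 6 ∨ Nat.card (Sylow 5 G) = 36 ∨
        Nat.card (Sylow 5 G) = 216 := by
      have hle : Nat.card (Sylow 5 G) ≤ 216 := Nat.le_of_dvd (by norm_num) hd1
      generalize Nat.card (Sylow 5 G) = d at *
      interval_cases d <;> omega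
    rcases hcases with h6 | h36 | h216
    · exfalso
      rw [h6, h] at hd4
      revert hd4
      decide
    · exact h36
    · exfalso
      exact Helper12.false_of_sylow_self_normalizing hG 5 216 (by rw [h]) (by norm_num) h216
  rw [hd, h] at hNn
  have hN : Nat.card (normalizer ((P : Subgroup G) : Set G)) = 30 := by omega
  -- `|C(P)| = 15`
  have hk1 := Helper23.SylowPerm.relIndex_centralizer_normalizer_dvd_pred 5 (P : Subgroup G) hPcard
  have hk2 := Helper23.SylowPerm.card_centralizer_mul_relIndex (P : Subgroup G)
  rw [hN] at hk2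
  have hk3 : (centralizer ((P : Subgroup G) : Set G)).relIndex
      (normalizer ((P : Subgroup G) : Set G)) ≠ 1 := by
    intro h1
    rw [Subgroup.relIndex_eq_one] at h1
    refine Helper12.false_of_normalizer_le_centralizer hG 5 P h1 ?_
    intro hbot
    rw [hbot, Subgroup.card_bot] at hPcard
    omega
  have hC : Nat.card (centralizer ((P : Subgroup G) : Set G)) = 15 := by
    generalize (centralizer ((P : Subgroup G) : Set G)).relIndex
      (normalizer ((P : Subgroup G) : Set G)) = k at *
    generalize Nat.card (centralizer ((P : Subgroup G) : Set G)) = c at *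
    have hk4 : k ∣ 4 := hk1
    have hkle : k ≤ 4 := Nat.le_of_dvd (by norm_num) hk4
    interval_cases k <;> omega
  -- an element `y` of order 3 centralizing `P`
  obtain ⟨y0, hy0⟩ := exists_prime_orderOf_dvd_card' (G := ↥(centralizer ((P : Subgroup G) : Set G))) 3
    (by rw [hC]; norm_num)
  set y : G := (y0 : G) with hy
  have hyord : orderOf y = 3 := by
    rw [hy, Subgroup.orderOf_coe]; exact hy0
  have hyC : y ∈ centralizer ((P : Subgroup G) : Set G) := y0.2
  have hy1 : y ≠ 1 := by
    intro h1
    rw [h1, orderOf_one] at hyord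
    omega
  -- `P ≤ C(y)`
  have hPCy : (P : Subgroup G) ≤ centralizer ({y} : Set G) := by
    intro x hx
    rw [mem_centralizer_iff]
    intro z hz
    rw [Set.mem_singleton_iff] at hz
    subst hz
    exact ((mem_centralizer_iff.mp hyC) x hx).symm
  -- a Sylow 3-subgroup containing `y`
  have hy3 : IsPGroup 3 (zpowers y) := by
    apply IsPGroup.of_card (n := 1)
    rw [Nat.card_zpowers, hyord, pow_one]
  obtain ⟨P3, hP3⟩ := hy3.exists_le_sylow
  have hyP3 : y ∈ (P3 : Subgroup G) := hP3 (mem_zpowers y)
  have hP3card : Nat.card (P3 : Subgroup G) = 3 ^ 3 :=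
    Helper23.sylow_card_of_card_eq 3 3 40 (by rw [h]; norm_num) (by norm_num) P3
  have h9 : 9 ∣ Nat.card (centralizer ({y} : Set G)) := by
    have h1 := sq_dvd_card_centralizer (P := ↥(P3 : Subgroup G)) 3 P3.isPGroup'
      (by rw [hP3card]; norm_num) ⟨y, hyP3⟩
    have h2 : (centralizer ({(⟨y, hyP3⟩ : ↥(P3 : Subgroup G))} : Set ↥(P3 : Subgroup G))).map
        (P3 : Subgroup G).subtype ≤ centralizer ({y} : Set G) := by
      rintro _ ⟨x, hx, rfl⟩
      rw [SetLike.mem_coe, mem_centralizer_iff] at hx
      rw [mem_centralizer_iff]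
      intro z hz
      rw [Set.mem_singleton_iff] at hz
      subst hz
      have := hx ⟨y, hyP3⟩ (Set.mem_singleton _)
      exact congrArg Subtype.val this
    have h3 := Subgroup.card_dvd_of_le h2
    rw [Subgroup.card_map_of_injective (P3 : Subgroup G).subtype_injective] at h3
    exact (by norm_num at h1 ⊢; exact h1 : (9 : ℕ) ∣ _).trans h3
  have h5' : 5 ∣ Nat.card (centralizer ({y} : Set G)) := by
    have := Subgroup.card_dvd_of_le hPCy
    rwa [hPcard] at this
  have h45 : 45 ∣ Nat.card (centralizer ({y} : Set G)) :=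
    (Nat.Coprime.mul_dvd_of_dvd_of_dvd (by norm_num : Nat.Coprime 9 5) h9 h5')
  -- the index of `C(y)`
  have hCtop : centralizer ({y} : Set G) ≠ ⊤ := by
    intro htop
    have hyZ : y ∈ center G := by
      rw [mem_center_iff]
      intro g
      have : g ∈ centralizer ({y} : Set G) := htop ▸ mem_top g
      exact ((mem_centralizer_iff.mp this) y (Set.mem_singleton _)).symm
    rcases (inferInstance : (center G).Normal).eq_bot_or_eq_top with hb | ht
    · rw [hb, mem_bot] at hyZ
      exact hy1 hyZ
    · apply hG
      refine ⟨⟨fun a b => ?_⟩⟩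
      have : a ∈ center G := ht ▸ mem_top a
      exact (mem_center_iff.mp this b).symm
  have hfact := Helper23.card_dvd_factorial_index hG _ hCtop
  have hidx := Subgroup.card_mul_index (centralizer ({y} : Set G))
  rw [h] at hfact hidx
  obtain ⟨j, hj⟩ := h45
  have hcard : Nat.card (centralizer ({y} : Set G)) = 45 ∨
      Nat.card (centralizer ({y} : Set G)) = 90 := by
    generalize (centralizer ({y} : Set G)).index = i at *
    generalize Nat.card (centralizer ({y} : Set G)) = c at *
    subst hj
    have hji : j * i = 24 := by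
      have : 45 * (j * i) = 45 * 24 := by rw [← mul_assoc]; omega
      exact Nat.eq_of_mul_eq_mul_left (by norm_num) this
    have hile : i ≤ 24 := by
      have : i ∣ 24 := Dvd.intro_left j hji
      exact Nat.le_of_dvd (by norm_num) this
    interval_cases i <;> first | omega | (exfalso; revert hfact; decide)
  -- `P` is normal in `C(y)`
  set H : Subgroup G := centralizer ({y} : Set G) with hH
  have hPsyl : ∃ Q : Sylow 5 ↥H, (Q : Subgroup ↥H) = (P : Subgroup G).subgroupOf H := by
    have hcardQ : Nat.card ((P : Subgroup G).subgroupOf H) = 5 := by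
      exact (Nat.card_congr (Subgroup.subgroupOfEquivOfLe hPCy).toEquiv).trans hPcard
    have hpg : IsPGroup 5 ((P : Subgroup G).subgroupOf H) :=
      IsPGroup.of_card (n := 1) (by rw [hcardQ, pow_one])
    obtain ⟨Q, hQ⟩ := hpg.exists_le_sylow
    refine ⟨Q, (Subgroup.eq_of_le_of_card_ge hQ ?_).symm⟩
    rw [hcardQ]
    rcases hcard with h45 | h90
    · have := Helper23.sylow_card_of_card_eq 5 1 9 (by rw [h45]; norm_num) (by norm_num) Q
      omega
    · have := Helper23.sylow_card_of_card_eq 5 1 18 (by rw [h90]; norm_num) (by norm_num) Q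
      omega
  obtain ⟨Q, hQ⟩ := hPsyl
  have hQn : (Q : Subgroup ↥H).Normal := sylow_five_normal hcard Q
  rw [hQ] at hQn
  have hHN : H ≤ normalizer ((P : Subgroup G) : Set G) := by
    have := Subgroup.normal_subgroupOf_iff_le_normalizer hPCy |>.mp hQn
    exact this
  have hdvd := Subgroup.card_dvd_of_le hHN
  rw [hN] at hdvd
  rcases hcard with h45 | h90
  · rw [h45] at hdvd; omega
  · rw [h90] at hdvd; omega

end Cfsg.Agent.Lib.Helper91.Small1092
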