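import Cfsg.Agent.Lib.Helper87.FusionSaturated
import Cfsg.Agent.Lib.Helper87.FusionCentric
import Cfsg.Agent.Lib.Helper88.FusionBasic
import Cfsg.Agent.Lib.Helper89.NormalCrit
import Cfsg.Agent.Lib.Helper90.FusionNormal
import Cfsg.Agent.Lib.Helper90.FusionRadical
import Cfsg.Agent.Lib.Helper90.StabChain
import Cfsg.Agent.S5086
import Cfsg.Prelude.Def_FusionComponents

set_option autoImplicit false

namespace Cfsg.Agent.Lib.Helper91

open Cfsg Cfsg.FusionSystem Cfsg.Agent.Lib.Helper87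

variable {Ω : Type*} [Group Ω] {S : Subgroup Ω}

/-- The elements of `S` inducing on `Q` an automorphism lying in `B`. -/
def autPreimage (S Q : Subgroup Ω) (B : Subgroup (MulAut Q)) : Subgroup Ω where
  carrier := {s | s ∈ S ∧ ∃ β ∈ B, ∀ x : Q, ((β x : Q) : Ω) = s * x * s⁻¹}
  one_mem' := ⟨S.one_mem, 1, B.one_mem, fun x => by simp⟩
  mul_mem' := by
    rintro s t ⟨hs, β, hβ, hβs⟩ ⟨ht, γ, hγ, hγt⟩
    refine ⟨S.mul_mem hs ht, β * γ, B.mul_mem hβ hγ, fun x => ?_⟩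
    rw [MulAut.mul_apply, hβs, hγt]
    group
  inv_mem' := by
    rintro s ⟨hs, β, hβ, hβs⟩
    refine ⟨S.inv_mem hs, β⁻¹, B.inv_mem hβ, fun x => ?_⟩
    have h := hβs (β⁻¹ x)
    rw [MulAut.apply_inv_self] at h
    rw [h]; group

theorem mem_autPreimage {Q : Subgroup Ω} {B : Subgroup (MulAut Q)} {s : Ω} :
    s ∈ autPreimage S Q B ↔ s ∈ S ∧ ∃ β ∈ B, ∀ x : Q, ((β x : Q) : Ω) = s * x * s⁻¹ := Iff.rfl

theorem autPreimage_le (Q : Subgroup Ω) (B : Subgroup (MulAut Q)) : autPreimage S Q B ≤ S :=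
  fun _ h => h.1

/-- `autPreimage` is strongly closed when `Q` is normal in `F` and `B` is normalized by `Aut_F(Q)`. -/
theorem stronglyClosed_autPreimage (F : FusionSystem S) {Q : Subgroup Ω} (hQ : F.IsNormal Q)
    (B : Subgroup (MulAut Q)) (hBn : ∀ α ∈ F.autGroup Q, ∀ β ∈ B, α * β * α⁻¹ ∈ B) :
    F.StronglyClosed (autPreimage S Q B) := by
  refine ⟨autPreimage_le Q B, fun A hA φ hφ a => ?_⟩
  refine ⟨hom_mem F hφ a, ?_⟩
  obtain ⟨ψ, hψ, hψA, hψQ⟩ := hQ.2 A φ hφ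
  obtain ⟨-, β, hβB, hβ⟩ := hA a.2
  -- the restriction of ψ to Q
  have hψQF : ψ.comp (Subgroup.inclusion (le_sup_right : Q ≤ A ⊔ Q)) ∈ F.Hom Q :=
    restrict_mem F le_sup_right hψ
  have hrange : (ψ.comp (Subgroup.inclusion (le_sup_right : Q ≤ A ⊔ Q))).range = Q := by
    ext y
    constructor
    · rintro ⟨x, rfl⟩
      have : ψ (Subgroup.inclusion le_sup_right x) ∈ (Q.subgroupOf (A ⊔ Q)).map ψ := by
        refine ⟨Subgroup.inclusion le_sup_right x, ?_, rfl⟩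
        show _ ∈ Q.subgroupOf (A ⊔ Q)
        rw [Subgroup.mem_subgroupOf]
        exact x.2
      rw [hψQ] at this
      exact this
    · intro hy
      have hy' : y ∈ (Q.subgroupOf (A ⊔ Q)).map ψ := by rw [hψQ]; exact hy
      obtain ⟨w, hw, rfl⟩ := hy'
      have hw' : w ∈ Q.subgroupOf (A ⊔ Q) := hw
      rw [Subgroup.mem_subgroupOf] at hw'
      exact ⟨⟨w, hw'⟩, rfl⟩
  set αQ : MulAut Q := homEquiv F hψQF hrange with hαQ
  have hαQF : αQ ∈ F.autGroup Q := homEquiv_mem_autGroup F hψQF hrange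
  have hαQx : ∀ x : Q, ((αQ x : Q) : Ω) = ψ (Subgroup.inclusion le_sup_right x) := fun x => rfl
  refine ⟨αQ * β * αQ⁻¹, hBn αQ hαQF β hβB, fun x => ?_⟩
  rw [MulAut.mul_apply, MulAut.mul_apply, hαQx]
  set x' : Q := αQ⁻¹ x with hx'
  have h1 : Subgroup.inclusion (le_sup_right : Q ≤ A ⊔ Q) (β x') =
      Subgroup.inclusion (le_sup_left : A ≤ A ⊔ Q) a * Subgroup.inclusion le_sup_right x' *
        (Subgroup.inclusion (le_sup_left : A ≤ A ⊔ Q) a)⁻¹ := by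
    apply Subtype.ext
    exact hβ x'
  rw [h1, map_mul, map_mul, map_inv, hψA, ← hαQx, hx', MulAut.apply_inv_self]

/-- The automorphisms of `P` restricting on `Q ≤ P` to an element of `B`. -/
def resSubgroup {P Q : Subgroup Ω} (hQP : Q ≤ P) (B : Subgroup (MulAut Q)) : Subgroup (MulAut P) where
  carrier := {β | ∃ β₀ ∈ B, ∀ x : Q, ((β ⟨x, hQP x.2⟩ : P) : Ω) = ((β₀ x : Q) : Ω)}
  one_mem' := ⟨1, B.one_mem, fun x => rfl⟩
  mul_mem' := by
    rintro β γ ⟨β₀, hβ₀, hβ⟩ ⟨γ₀, hγ₀, hγ⟩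
    refine ⟨β₀ * γ₀, B.mul_mem hβ₀ hγ₀, fun x => ?_⟩
    rw [MulAut.mul_apply, MulAut.mul_apply, ← hβ]
    congr 2
    exact Subtype.ext (hγ x)
  inv_mem' := by
    rintro β ⟨β₀, hβ₀, hβ⟩
    refine ⟨β₀⁻¹, B.inv_mem hβ₀, fun x => ?_⟩
    have h := hβ (β₀⁻¹ x)
    rw [MulAut.apply_inv_self] at h
    have h2 : β ⟨((β₀⁻¹ x : Q) : Ω), hQP (β₀⁻¹ x).2⟩ = ⟨x, hQP x.2⟩ := Subtype.ext h
    rw [← h2, MulAut.inv_apply_self]

theorem mem_resSubgroup {P Q : Subgroup Ω} (hQP : Q ≤ P) (B : Subgroup (MulAut Q)) {β : MulAut P} :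
    β ∈ resSubgroup hQP B ↔ ∃ β₀ ∈ B, ∀ x : Q, ((β ⟨x, hQP x.2⟩ : P) : Ω) = ((β₀ x : Q) : Ω) := Iff.rfl

theorem resSubgroup_pow {P Q : Subgroup Ω} (hQP : Q ≤ P) {β : MulAut P} {β₀ : MulAut Q}
    (h : ∀ x : Q, ((β ⟨x, hQP x.2⟩ : P) : Ω) = ((β₀ x : Q) : Ω)) (n : ℕ) :
    ∀ x : Q, (((β ^ n) ⟨x, hQP x.2⟩ : P) : Ω) = (((β₀ ^ n) x : Q) : Ω) := by
  induction n with
  | zero => intro x; rfl
  | succ n ih =>
    intro x
    rw [pow_succ, pow_succ, MulAut.mul_apply, MulAut.mul_apply, ← ih]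
    congr 2
    exact Subtype.ext (h x)

/-- `Aut_F(P) ∩ resSubgroup` is a `p`-group when `Q` is centric and normal in `P`, and `B` is a `p`-group. -/
theorem isPGroup_resSubgroup [Finite S] (p : ℕ) [Fact p.Prime] (hS : IsPGroup p S)
    (F : FusionSystem S) {P Q : Subgroup Ω} (hQP : Q ≤ P) (hPS : P ≤ S) (hQ : F.IsCentric Q)
    (hn : P ≤ Subgroup.normalizer (Q : Set Ω)) (B : Subgroup (MulAut Q)) (hBp : IsPGroup p B) :
    IsPGroup p (resSubgroup hQP B) := by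
  rintro ⟨β, β₀, hβ₀, hβ⟩
  obtain ⟨k, hk⟩ := hBp ⟨β₀, hβ₀⟩
  have hk' : β₀ ^ p ^ k = 1 := congrArg Subtype.val hk
  have hfix : β ^ p ^ k ∈ fixingSubgroup P Q := by
    intro x hx
    apply Subtype.ext
    have := resSubgroup_pow hQP hβ (p ^ k) ⟨x, hx⟩
    rw [hk'] at this
    exact this
  obtain ⟨m, hm⟩ := isPGroup_fixing_centric p hS F hQP hPS hQ hn ⟨β ^ p ^ k, hfix⟩
  have hm' : (β ^ p ^ k) ^ p ^ m = 1 := congrArg Subtype.val hm
  refine ⟨k + m, Subtype.ext ?_⟩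
  show β ^ p ^ (k + m) = 1
  rw [pow_add, pow_mul, hm']

/-- `resSubgroup` is normalized by `Aut_F(P)` when `Q` is strongly closed and `B` is normalized by `Aut_F(Q)`. -/
theorem resSubgroup_conj_mem (F : FusionSystem S) {P Q : Subgroup Ω} (hQP : Q ≤ P) (hPS : P ≤ S)
    (hQ : F.StronglyClosed Q) (B : Subgroup (MulAut Q))
    (hBn : ∀ α ∈ F.autGroup Q, ∀ β ∈ B, α * β * α⁻¹ ∈ B)
    {α β : MulAut P} (hα : α ∈ F.autGroup P) (hβ : β ∈ resSubgroup hQP B) :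
    α * β * α⁻¹ ∈ resSubgroup hQP B := by
  obtain ⟨β₀, hβ₀, hβx⟩ := hβ
  have hpres : ∀ γ ∈ F.autGroup P, ∀ x : Q, ((γ ⟨x, hQP x.2⟩ : P) : Ω) ∈ Q := by
    intro γ hγ x
    have h1 := Cfsg.Agent.Lib.Helper89.stronglyClosed_map_aut_eq hQ hPS γ hγ
    have h2 : γ ⟨x, hQP x.2⟩ ∈ (Q.subgroupOf P).map γ.toMonoidHom :=
      ⟨⟨x, hQP x.2⟩, Subgroup.mem_subgroupOf.mpr x.2, rfl⟩
    rw [h1] at h2
    exact Subgroup.mem_subgroupOf.mp h2
  have h := hpres α hα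
  have h' := hpres α⁻¹ ((F.autGroup P).inv_mem hα)
  set α₀ : MulAut Q := Cfsg.Agent.Lib.Helper90.restrictAut hQP α h h' with hα₀
  have hα₀F : α₀ ∈ F.autGroup Q :=
    Cfsg.Agent.Lib.Helper90.restrictAut_mem_autGroup F hPS hQP α hα h h'
  refine ⟨α₀ * β₀ * α₀⁻¹, hBn α₀ hα₀F β₀ hβ₀, fun x => ?_⟩
  rw [MulAut.mul_apply, MulAut.mul_apply, MulAut.mul_apply, MulAut.mul_apply]
  have e1 : α⁻¹ ⟨x, hQP x.2⟩ = ⟨((α₀⁻¹ x : Q) : Ω), hQP (α₀⁻¹ x).2⟩ := Subtype.ext rfl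
  rw [e1]
  have e2 : β ⟨((α₀⁻¹ x : Q) : Ω), hQP (α₀⁻¹ x).2⟩ =
      ⟨((β₀ (α₀⁻¹ x) : Q) : Ω), hQP (β₀ (α₀⁻¹ x)).2⟩ := Subtype.ext (hβx _)
  rw [e2]
  rfl

/-- In a radical subgroup, a `p`-subgroup of `Aut(P)` whose part in `Aut_F(P)` is normalized by `Aut_F(P)`
has that part inside `Inn(P)`. -/
theorem inf_autGroup_le_inn_of_isRadical (F : FusionSystem S) {p : ℕ} {P : Subgroup Ω}
    (hrad : F.IsRadical p P) (D : Subgroup (MulAut P)) (hDp : IsPGroup p D)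
    (hDn : ∀ α ∈ F.autGroup P, ∀ β ∈ D, α * β * α⁻¹ ∈ D) : D ⊓ F.autGroup P ≤ Inn P := by
  intro β hβ
  have hnormal : ((D ⊓ F.autGroup P).subgroupOf (F.autGroup P)).Normal := by
    constructor
    intro n hn g
    rw [Subgroup.mem_subgroupOf] at hn ⊢
    refine ⟨hDn g g.2 n hn.1, ?_⟩
    exact (F.autGroup P).mul_mem ((F.autGroup P).mul_mem g.2 hn.2) ((F.autGroup P).inv_mem g.2)
  have hpg : IsPGroup p ((D ⊓ F.autGroup P).subgroupOf (F.autGroup P)) :=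
    (hDp.to_le inf_le_left).comap_subtype
  have hle : (D ⊓ F.autGroup P).subgroupOf (F.autGroup P) ≤ pCore p (F.autGroup P) :=
    le_sSup ⟨hnormal, hpg⟩
  have h1 : (⟨β, hβ.2⟩ : F.autGroup P) ∈ pCore p (F.autGroup P) :=
    hle (Subgroup.mem_subgroupOf.mpr hβ)
  have h2 : β ∈ (pCore p (F.autGroup P)).map (F.autGroup P).subtype := ⟨⟨β, hβ.2⟩, h1, rfl⟩
  rw [hrad.2] at h2
  exact h2

/-- Conjugation by elements of `S` stabilizes a strongly closed subgroup. -/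
theorem stronglyClosed_conj_mem' (F : FusionSystem S) {U : Subgroup Ω} (hU : F.StronglyClosed U) :
    ∀ g ∈ S, ∀ y ∈ U, g * y * g⁻¹ ∈ U := by
  intro g hg y hy
  exact hU.2 U le_rfl (conjHom U g) (F.conj_mem hU.1 hg) ⟨y, hy⟩

/-- **Lemma N.** Let `Q` be normal and centric in the saturated system `F`, and `B` a `p`-subgroup of `Aut(Q)`
normalized by `Aut_F(Q)`. Then the preimage of `B` in `S` is normal in `F`. -/
theorem isNormal_autPreimage [Finite S] (p : ℕ) [Fact p.Prime] (hS : IsPGroup p S)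
    (F : FusionSystem S) (hF : F.IsSaturated p) {Q : Subgroup Ω} (hQ : F.IsNormal Q) (hQc : F.IsCentric Q)
    (B : Subgroup (MulAut Q)) (hBp : IsPGroup p B)
    (hBn : ∀ α ∈ F.autGroup Q, ∀ β ∈ B, α * β * α⁻¹ ∈ B) :
    F.IsNormal (autPreimage S Q B) := by
  have hsc := stronglyClosed_autPreimage F hQ B hBn
  rw [Cfsg.Agent.S5086.result p hS F hF]
  refine ⟨hsc, fun P hPc hPr => ?_⟩
  have hPS : P ≤ S := hPc.1
  have hQP : Q ≤ P := Cfsg.Agent.Lib.Helper89.IsNormal.le_of_centric_radical hS hQ hPc hPr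
  have hQsc := Cfsg.Agent.Lib.Helper89.IsNormal.stronglyClosed hQ
  have hQn : P ≤ Subgroup.normalizer (Q : Set Ω) := by
    intro g hg
    have : Finite Q := finite_of_le hQ.1
    exact mem_normalizer_of_conj_mem (fun y hy => stronglyClosed_conj_mem' F hQsc g (hPS hg) y hy)
  by_contra hUP
  obtain ⟨g, hgU, hgn, hgP⟩ := Cfsg.Agent.Lib.Helper90.exists_normalizer_not_mem hS
    (autPreimage_le Q B) hPS (stronglyClosed_conj_mem' F hsc) hUP
  apply hgP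
  have hgS : g ∈ S := hgU.1
  obtain ⟨β₀, hβ₀, hβ₀g⟩ := hgU.2
  have hmem : conjAut P g hgn ∈ resSubgroup hQP B ⊓ F.autGroup P := by
    refine ⟨⟨β₀, hβ₀, fun x => ?_⟩, ?_⟩
    · rw [hβ₀g]; rfl
    · exact autInducedBy_le_autGroup F hPS (conjAut_mem_autInducedBy hgS hgn)
  have hInn := inf_autGroup_le_inn_of_isRadical F hPr (resSubgroup hQP B)
    (isPGroup_resSubgroup p hS F hQP hPS hQc hQn B hBp)
    (fun α hα β hβ => resSubgroup_conj_mem F hQP hPS hQsc B hBn hα hβ) hmem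
  have hmem' : Cfsg.Agent.Lib.Helper89.conjAut P g hgn ∈ Inn P := by
    have : Cfsg.Agent.Lib.Helper89.conjAut P g hgn = conjAut P g hgn := by
      ext x; rfl
    rw [this]; exact hInn
  exact Cfsg.Agent.Lib.Helper89.mem_of_conjAut_mem_inn F hPc hgS hgn hmem'

/-- **Lemma M.** If `E` is a saturated subsystem of `F` over a subgroup `T` strongly closed in `F`, and `Q` is
normal in `F`, then `Q ∩ T` is normal in `E`. -/
theorem isNormal_inf_of_subsystem {T : Subgroup Ω} [Finite T] (p : ℕ) [Fact p.Prime] (hT : IsPGroup p T)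
    (F : FusionSystem S) (E : FusionSystem T) (hE : E.IsSaturated p) (hEF : E.IsSubsystemOf F)
    (hTsc : F.StronglyClosed T) {Q : Subgroup Ω} (hQ : F.IsNormal Q) : E.IsNormal (Q ⊓ T) := by
  have hQsc := Cfsg.Agent.Lib.Helper89.IsNormal.stronglyClosed hQ
  have hsc : E.StronglyClosed (Q ⊓ T) := by
    refine ⟨inf_le_right, fun A hA φ hφ a => ⟨?_, hom_mem E hφ a⟩⟩
    exact hQsc.2 A (hA.trans inf_le_left) φ (hEF A hφ) a
  rw [Cfsg.Agent.S5086.result p hT E hE]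
  refine ⟨hsc, fun P hPc hPr => ?_⟩
  have hPT : P ≤ T := hPc.1
  have hTS : T ≤ S := hTsc.1
  by_contra hRP
  obtain ⟨g, hgR, hgn, hgP⟩ := Cfsg.Agent.Lib.Helper90.exists_normalizer_not_mem hT
    (inf_le_right : Q ⊓ T ≤ T) hPT (stronglyClosed_conj_mem' E hsc) hRP
  apply hgP
  have hgT : g ∈ T := hgR.2
  have hRp : IsPGroup p (Q ⊓ T : Subgroup Ω) := hT.to_le inf_le_right
  have hDn : ∀ α ∈ E.autGroup P, ∀ d ∈ autInducedBy (Q ⊓ T) P, α * d * α⁻¹ ∈ autInducedBy (Q ⊓ T) P := by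
    intro α hα d hd
    obtain ⟨k, hkR, hk⟩ := mem_autInducedBy_iff.mp hd
    have hαE := (mem_autGroup_iff E hPT).mp hα
    have hαF : P.subtype.comp α.toMonoidHom ∈ F.Hom P := hEF P hαE
    obtain ⟨ψ, hψ, hψP, hψQ⟩ := hQ.2 P _ hαF
    have hkPQ : k ∈ P ⊔ Q := (le_sup_right : Q ≤ P ⊔ Q) hkR.1
    have hk'Q : ψ ⟨k, hkPQ⟩ ∈ Q := by
      have : ψ ⟨k, hkPQ⟩ ∈ (Q.subgroupOf (P ⊔ Q)).map ψ :=
        ⟨⟨k, hkPQ⟩, Subgroup.mem_subgroupOf.mpr hkR.1, rfl⟩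
      rwa [hψQ] at this
    have hk'T : ψ ⟨k, hkPQ⟩ ∈ T := by
      have hres := restrict_mem F (inf_le_left : (P ⊔ Q) ⊓ T ≤ P ⊔ Q) hψ
      exact hTsc.2 _ inf_le_right _ hres ⟨k, hkPQ, hkR.2⟩
    refine mem_autInducedBy_iff.mpr ⟨ψ ⟨k, hkPQ⟩, ⟨hk'Q, hk'T⟩, fun y => ?_⟩
    rw [MulAut.mul_apply, MulAut.mul_apply]
    set y' : P := α⁻¹ y with hy'
    have h1 : ((α (d y') : P) : Ω) = ψ (Subgroup.inclusion le_sup_left (d y')) := (hψP (d y')).symm
    have h2 : Subgroup.inclusion (le_sup_left : P ≤ P ⊔ Q) (d y') =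
        ⟨k, hkPQ⟩ * Subgroup.inclusion le_sup_left y' * ⟨k, hkPQ⟩⁻¹ := by
      apply Subtype.ext
      exact hk y'
    rw [h1, h2, map_mul, map_mul, map_inv, hψP y']
    show ψ ⟨k, hkPQ⟩ * ((α y' : P) : Ω) * (ψ ⟨k, hkPQ⟩)⁻¹ = _
    rw [hy', MulAut.apply_inv_self]
  have hmem : conjAut P g hgn ∈ autInducedBy (Q ⊓ T) P ⊓ E.autGroup P :=
    ⟨conjAut_mem_autInducedBy hgR hgn,
      autInducedBy_le_autGroup E hPT (conjAut_mem_autInducedBy hgT hgn)⟩
  have hInn := inf_autGroup_le_inn_of_isRadical E hPr (autInducedBy (Q ⊓ T) P)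
    (isPGroup_autInducedBy hRp P) hDn hmem
  have hmem' : Cfsg.Agent.Lib.Helper89.conjAut P g hgn ∈ Inn P := by
    have : Cfsg.Agent.Lib.Helper89.conjAut P g hgn = conjAut P g hgn := by
      ext x; rfl
    rw [this]; exact hInn
  exact Cfsg.Agent.Lib.Helper89.mem_of_conjAut_mem_inn E hPc hgT hgn hmem'

/-- A subgroup normal in the system is its only conjugate. -/
theorem eq_of_isConj_of_isNormal (E : FusionSystem S) {R R' : Subgroup Ω} (hR : E.IsNormal R)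
    (h : E.IsConj R R') : R' = R := by
  obtain ⟨φ, hφ, rfl⟩ := h
  obtain ⟨ψ, -, hψR, hψmap⟩ := hR.2 R φ hφ
  ext y
  constructor
  · rintro ⟨x, rfl⟩
    have : ψ (Subgroup.inclusion le_sup_left x) ∈ (R.subgroupOf (R ⊔ R)).map ψ :=
      ⟨_, Subgroup.mem_subgroupOf.mpr x.2, rfl⟩
    rw [hψmap, hψR] at this
    exact this
  · intro hy
    have hy' : y ∈ (R.subgroupOf (R ⊔ R)).map ψ := by rw [hψmap]; exact hy
    obtain ⟨w, hw, rfl⟩ := hy'
    have hw' : w ∈ R.subgroupOf (R ⊔ R) := hw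
    rw [Subgroup.mem_subgroupOf] at hw'
    refine ⟨⟨w, hw'⟩, ?_⟩
    rw [← hψR]
    rfl

/-- The two step chain `⊥ ≤ R ≤ ⊤`. -/
def twoStepChain {P : Type*} [Group P] (R : Subgroup P) : ℕ → Subgroup P
  | 0 => ⊥
  | 1 => R
  | _ => ⊤

theorem twoStepChain_monotone {P : Type*} [Group P] (R : Subgroup P) : Monotone (twoStepChain R) := by
  apply monotone_nat_of_le_succ
  intro n
  match n with
  | 0 => exact bot_le
  | 1 => exact le_top
  | (n + 2) => exact le_rfl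

/-- A normal subsystem of a constrained fusion system is constrained. -/
theorem isConstrained_of_isNormalIn [Finite S] (p : ℕ) [Fact p.Prime] (hS : IsPGroup p S)
    (F : FusionSystem S) (hF : F.IsConstrained p) {T : Subgroup Ω} (E : FusionSystem T)
    (hE : E.IsNormalIn F p) : E.IsConstrained p := by
  obtain ⟨⟨hEsat, hFsat, hEF, hTsc, -, -⟩, -⟩ := hE
  have hTS : T ≤ S := hTsc.1
  have : Finite T := finite_of_le hTS
  have hT : IsPGroup p T := hS.to_le hTS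
  obtain ⟨-, Q₀, hQ₀n, hQ₀c⟩ := hF
  have hQn : F.IsNormal F.core := Cfsg.Agent.Lib.Helper88.isNormal_core F
  have hQS : F.core ≤ S := hQn.1
  have hQ₀le : Q₀ ≤ F.core := le_sSup hQ₀n
  have hQc : F.IsCentric F.core := isCentric_of_le F hQ₀c hQ₀le hQS
  have hQsc := Cfsg.Agent.Lib.Helper89.IsNormal.stronglyClosed hQn
  have hRn : E.IsNormal (F.core ⊓ T) := isNormal_inf_of_subsystem p hT F E hEsat hEF hTsc hQn
  refine ⟨hEsat, F.core ⊓ T, hRn, inf_le_right, fun R' hR' => ?_⟩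
  rw [eq_of_isConj_of_isNormal E hRn hR']
  intro x hx
  have hxT : x ∈ T := hx.1
  have hxS : x ∈ S := hTS hxT
  have hxc : ∀ y ∈ F.core ⊓ T, y * x = x * y := (mem_centralizerIn.mp hx).2
  refine ⟨?_, hxT⟩
  -- the chain stabilizer
  set c := twoStepChain (T.subgroupOf F.core) with hc
  have hmono := twoStepChain_monotone (T.subgroupOf F.core)
  have : Finite F.core := finite_of_le hQS
  have hQp : IsPGroup p F.core := hS.to_le hQS
  have hBp : IsPGroup p (Cfsg.Agent.Lib.Helper90.stabChain c hmono) :=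
    Cfsg.Agent.Lib.Helper90.stabChain_isPGroup hQp c rfl hmono 2 rfl
  have hBn : ∀ α ∈ F.autGroup F.core, ∀ β ∈ Cfsg.Agent.Lib.Helper90.stabChain c hmono,
      α * β * α⁻¹ ∈ Cfsg.Agent.Lib.Helper90.stabChain c hmono := by
    intro α hα β hβ
    have hpres : ∀ γ ∈ F.autGroup F.core, ∀ j, ∀ y ∈ c j, γ y ∈ c j := by
      intro γ hγ j y hy
      match j with
      | 0 =>
        have : y = 1 := Subgroup.mem_bot.mp hy
        rw [this, map_one]; exact Subgroup.one_mem _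
      | 1 =>
        have h1 := Cfsg.Agent.Lib.Helper89.stronglyClosed_map_aut_eq hTsc hQS γ hγ
        have h2 : γ y ∈ (T.subgroupOf F.core).map γ.toMonoidHom := ⟨y, hy, rfl⟩
        rw [h1] at h2
        exact h2
      | (j + 2) => exact Subgroup.mem_top _
    exact Cfsg.Agent.Lib.Helper90.stabChain_conj_mem c hmono α (hpres α hα)
      (hpres α⁻¹ ((F.autGroup F.core).inv_mem hα)) hβ
  have hU := isNormal_autPreimage p hS F hFsat hQn hQc _ hBp hBn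
  have hUle : autPreimage S F.core (Cfsg.Agent.Lib.Helper90.stabChain c hmono) ≤ F.core := le_sSup hU
  apply hUle
  -- `x` lies in the preimage
  have hnorm : ∀ s ∈ S, s ∈ Subgroup.normalizer (F.core : Set Ω) := fun s hs =>
    mem_normalizer_of_conj_mem (fun y hy => stronglyClosed_conj_mem' F hQsc s hs y hy)
  have hTn := stronglyClosed_conj_mem' F hTsc
  have hfwd : ∀ s ∈ T, (∀ y ∈ F.core ⊓ T, y * s = s * y) → ∀ (hs : s ∈ Subgroup.normalizer (F.core : Set Ω)),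
      ∀ i, ∀ y ∈ c (i + 1), y⁻¹ * (conjAut F.core s hs) y ∈ c i := by
    intro s hsT hsc hs i y hy
    match i with
    | 0 =>
      have hyT : (y : Ω) ∈ T := Subgroup.mem_subgroupOf.mp hy
      show _ ∈ (⊥ : Subgroup F.core)
      rw [Subgroup.mem_bot]
      apply Subtype.ext
      show (y : Ω)⁻¹ * (s * (y : Ω) * s⁻¹) = 1
      rw [← hsc y ⟨y.2, hyT⟩]; group
    | 1 =>
      show _ ∈ T.subgroupOf F.core
      rw [Subgroup.mem_subgroupOf]
      show (y : Ω)⁻¹ * (s * (y : Ω) * s⁻¹) ∈ T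
      have h1 : (y : Ω)⁻¹ * (s * (y : Ω) * s⁻¹) = ((y : Ω)⁻¹ * s * ((y : Ω)⁻¹)⁻¹) * s⁻¹ := by group
      rw [h1]
      exact T.mul_mem (hTn _ (S.inv_mem (hQS y.2)) s hsT) (T.inv_mem hsT)
    | (i + 2) => exact Subgroup.mem_top _
  have hxinv : ∀ y ∈ F.core ⊓ T, y * x⁻¹ = x⁻¹ * y := by
    intro y hy
    have := hxc y hy
    calc y * x⁻¹ = x⁻¹ * (x * y) * x⁻¹ := by group
      _ = x⁻¹ * (y * x) * x⁻¹ := by rw [this]
      _ = x⁻¹ * y := by group
  refine ⟨hxS, conjAut F.core x (hnorm x hxS), ?_, fun y => rfl⟩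
  intro i y hy
  refine ⟨hfwd x hxT hxc _ i y hy, ?_⟩
  have hinv : (conjAut F.core x (hnorm x hxS))⁻¹ = conjAut F.core x⁻¹ (hnorm x⁻¹ (S.inv_mem hxS)) := by
    rw [inv_eq_iff_mul_eq_one]
    ext z
    rw [MulAut.mul_apply, conjAut_apply, conjAut_apply]
    show x * (x⁻¹ * (z : Ω) * x⁻¹⁻¹) * x⁻¹ = z
    group
  rw [hinv]
  exact hfwd x⁻¹ (T.inv_mem hxT) hxinv _ i y hy

/-- A subnormal subsystem of a constrained fusion system is constrained. -/
theorem isConstrained_of_isSubnormalIn {T S' : Subgroup Ω} (E : FusionSystem T) (F : FusionSystem S') (p : ℕ)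
    (h : E.IsSubnormalIn F p) :
    ∀ [Fact p.Prime], Finite S' → IsPGroup p S' → F.IsConstrained p → E.IsConstrained p := by
  induction h with
  | refl F p => intro _ _ _ hF; exact hF
  | step hED hDF ih =>
    intro _ hfin hS hF
    have hUS := hDF.1.2.2.2.1.1
    have := isConstrained_of_isNormalIn _ hS _ hF _ hDF
    exact ih (finite_of_le hUS) (hS.to_le hUS) this

end Cfsg.Agent.Lib.Helper91
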