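import Cfsg.Agent.Lib.Helper87.FusionSaturated
import Cfsg.Agent.Lib.Helper87.FusionCentric
import Cfsg.Agent.Lib.Helper89.FusionAut
import Cfsg.Agent.S5095

set_option autoImplicit false

namespace Cfsg.Agent.Lib.Helper91

open Cfsg Cfsg.FusionSystem Cfsg.Agent.Lib.Helper87

variable {Ω : Type*} [Group Ω] {S : Subgroup Ω}

/-- One step: a map of `F` defined on `N = N_R(Q)` whose restriction to the `F`-centric subgroup `Q` lies in the
saturated subsystem `F'` lies itself in `F'`. -/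
theorem hom_mem_of_restrict_centric_step [Finite S] (p : ℕ) [Fact p.Prime] (hS : IsPGroup p S)
    (F F' : FusionSystem S) (hF : F.IsSaturated p) (hF' : F'.IsSaturated p) (hle : F' ≤ F)
    (Q N : Subgroup Ω) (hQN : Q ≤ N) (hNQ : N ≤ Subgroup.normalizer (Q : Set Ω)) (hQ : F.IsCentric Q)
    (ψ : N →* Ω) (hψ : ψ ∈ F.Hom N) (hθ : ψ.comp (Subgroup.inclusion hQN) ∈ F'.Hom Q) :
    ψ ∈ F'.Hom N := by
  have hNS : N ≤ S := hom_le F hψ
  have hQS : Q ≤ S := hQN.trans hNS
  have : Finite Q := finite_of_le hQS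
  set θ : Q →* Ω := ψ.comp (Subgroup.inclusion hQN) with hθdef
  set Q' : Subgroup Ω := θ.range with hQ'
  have hQ'S : Q' ≤ S := by
    rintro _ ⟨x, rfl⟩
    exact hom_mem F' hθ x
  have : Finite Q' := finite_of_le hQ'S
  obtain ⟨Q₂, hconj, hfa, hrec⟩ := hF' Q' hQ'S
  obtain ⟨χ, hχ, hχN, hχmap, hχQ⟩ := exists_normalizer_hom p hS F' Q₂ Q' hfa hrec hconj
  -- ψ maps N into the normalizer of Q'
  have hψN : ∀ g : N, ψ g ∈ normalizerIn S Q' := by
    intro g
    refine ⟨hom_mem F hψ g, ?_⟩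
    apply mem_normalizer_of_conj_mem
    rintro _ ⟨x, rfl⟩
    have hgx : (g : Ω) * (x : Ω) * (g : Ω)⁻¹ ∈ Q := (Subgroup.mem_normalizer_iff.mp (hNQ g.2) x).mp x.2
    refine ⟨⟨_, hgx⟩, ?_⟩
    show ψ (Subgroup.inclusion hQN ⟨_, hgx⟩) = ψ g * ψ (Subgroup.inclusion hQN x) * (ψ g)⁻¹
    rw [← map_inv, ← map_mul, ← map_mul]
    rfl
  -- the composite ρ' = χ ∘ ψ
  have hχF : χ ∈ F.Hom (normalizerIn S Q') := hle _ hχ
  set ρ' : N →* Ω := χ.comp (ψ.codRestrict (normalizerIn S Q') hψN) with hρ'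
  have hρ'F : ρ' ∈ F.Hom N := F.comp_mem hψ hχF hψN
  -- its restriction a to Q lies in F'
  have hθN : ∀ x : Q, θ x ∈ normalizerIn S Q' := fun x => hψN (Subgroup.inclusion hQN x)
  set a : Q →* Ω := χ.comp (θ.codRestrict (normalizerIn S Q') hθN) with ha
  have haF' : a ∈ F'.Hom Q := F'.comp_mem hθ hχ hθN
  have haρ' : ∀ x : Q, a x = ρ' (Subgroup.inclusion hQN x) := fun x => rfl
  have har : a.range = Q₂ := by
    rw [← hχmap]
    ext y
    constructor
    · rintro ⟨x, rfl⟩
      refine ⟨θ.codRestrict (normalizerIn S Q') hθN x, ?_, rfl⟩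
      show _ ∈ Q'.subgroupOf (normalizerIn S Q')
      rw [Subgroup.mem_subgroupOf]
      exact ⟨x, rfl⟩
    · rintro ⟨w, hw, rfl⟩
      have hw' : w ∈ Q'.subgroupOf (normalizerIn S Q') := hw
      rw [Subgroup.mem_subgroupOf] at hw'
      obtain ⟨x, hx⟩ := hw'
      refine ⟨x, ?_⟩
      show χ (θ.codRestrict (normalizerIn S Q') hθN x) = χ w
      congr 1
      exact Subtype.ext hx
  obtain ⟨ã, hã, hãa⟩ := hrec.2 Q a haF' har
  -- N lies in the extender of a
  have hNext : N ≤ extender S Q a := by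
    intro g hg
    rw [mem_extender_iff]
    refine ⟨hNS hg, hNQ hg, ρ' ⟨g, hg⟩, hom_mem F hρ'F _, fun x hx => ?_⟩
    rw [haρ', haρ', ← map_inv, ← map_mul, ← map_mul]
    rfl
  have hρF' : ã.comp (Subgroup.inclusion hNext) ∈ F'.Hom N := restrict_mem F' hNext hã
  set ρ : N →* Ω := ã.comp (Subgroup.inclusion hNext) with hρ
  have hρF : ρ ∈ F.Hom N := hle _ hρF'
  have hagree : ∀ x : N, (x : Ω) ∈ Q → ρ x = ρ' x := by
    intro x hx
    have h1 := hãa x hx (hNext x.2)
    show ã (Subgroup.inclusion hNext x) = ρ' x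
    have h2 : (Subgroup.inclusion hNext x) = ⟨(x : Ω), hNext x.2⟩ := rfl
    rw [h2, h1, haρ']
    rfl
  obtain ⟨z, hzQ, -, hz⟩ := Cfsg.Agent.S5095.result p hS F hF N Q hQN hQ ρ ρ' hρF hρ'F hagree
  -- ρ' = ρ ∘ c_z lies in F'
  have hρ'F' : ρ' ∈ F'.Hom N := by
    have hc : conjHom N (z : Ω) ∈ F'.Hom N := F'.conj_mem hNS (hNS z.2)
    have hcN : ∀ y : N, conjHom N (z : Ω) y ∈ N := by
      intro y
      show (z : Ω) * (y : Ω) * (z : Ω)⁻¹ ∈ N
      exact N.mul_mem (N.mul_mem z.2 y.2) (N.inv_mem z.2)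
    refine comp_mem' F' hc hρF' hcN (fun y => ?_)
    rw [hz y]
    rfl
  -- ψ = χ⁻¹ ∘ ρ'
  obtain ⟨χi, hχi, hχix⟩ := F'.inv_mem hχ
  have hρ'r : ∀ y : N, ρ' y ∈ χ.range := fun y => ⟨_, rfl⟩
  refine comp_mem' F' hρ'F' hχi hρ'r (fun y => ?_)
  have := hχix (ψ.codRestrict (normalizerIn S Q') hψN y)
  exact this.symm

/-- A map of `F` whose restriction to an `F`-centric subgroup lies in the saturated subsystem `F'` lies in `F'`. -/
theorem hom_mem_of_restrict_centric [Finite S] (p : ℕ) [Fact p.Prime] (hS : IsPGroup p S)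
    (F F' : FusionSystem S) (hF : F.IsSaturated p) (hF' : F'.IsSaturated p) (hle : F' ≤ F) :
    ∀ (n : ℕ) (Q R : Subgroup Ω) (hQR : Q ≤ R), Nat.card R ≤ Nat.card Q + n → F.IsCentric Q →
      ∀ ψ : R →* Ω, ψ ∈ F.Hom R → ψ.comp (Subgroup.inclusion hQR) ∈ F'.Hom Q → ψ ∈ F'.Hom R := by
  intro n
  induction n with
  | zero =>
    intro Q R hQR hcard _ ψ hψ hθ
    have hRS : R ≤ S := hom_le F hψ
    have : Finite R := finite_of_le hRS
    have hQReq : Q = R := Subgroup.eq_of_le_of_card_ge hQR (by omega)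
    subst hQReq
    exact hom_congr F' hθ (fun x => rfl)
  | succ n ih =>
    intro Q R hQR hcard hQ ψ hψ hθ
    have hRS : R ≤ S := hom_le F hψ
    have : Finite R := finite_of_le hRS
    by_cases hQReq : Q = R
    · subst hQReq
      exact hom_congr F' hθ (fun x => rfl)
    · obtain ⟨g, hgN, hgQ⟩ := Cfsg.Agent.Lib.Helper89.exists_mem_normalizerIn_not_mem (hS.to_le hRS) hQR hQReq
      set N := normalizerIn R Q with hN
      have hQN : Q ≤ N := le_normalizerIn hQR
      have hNR : N ≤ R := normalizerIn_le R Q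
      have hNQ : N ≤ Subgroup.normalizer (Q : Set Ω) := inf_le_right
      have hψN : ψ.comp (Subgroup.inclusion hNR) ∈ F.Hom N := restrict_mem F hNR hψ
      have hstep := hom_mem_of_restrict_centric_step p hS F F' hF hF' hle Q N hQN hNQ hQ _ hψN
        (hom_congr F' hθ (fun x => rfl))
      have : Finite N := finite_of_le (hNR.trans hRS)
      have hlt : Nat.card Q < Nat.card N := by
        have h1 : Nat.card Q ≤ Nat.card N :=
          Nat.card_le_card_of_injective (Subgroup.inclusion hQN) (Subgroup.inclusion_injective hQN)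
        rcases Nat.lt_or_eq_of_le h1 with h | h
        · exact h
        · exfalso
          have := Subgroup.eq_of_le_of_card_ge hQN (by omega)
          rw [this] at hgQ
          exact hgQ hgN
      exact ih N R hNR (by omega) (isCentric_of_le F hQ hQN (hNR.trans hRS)) ψ hψ hstep

/-- Convenient form of `hom_mem_of_restrict_centric`. -/
theorem hom_mem_of_restrict_centric' [Finite S] (p : ℕ) [Fact p.Prime] (hS : IsPGroup p S)
    (F F' : FusionSystem S) (hF : F.IsSaturated p) (hF' : F'.IsSaturated p) (hle : F' ≤ F)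
    (Q R : Subgroup Ω) (hQR : Q ≤ R) (hQ : F.IsCentric Q) (ψ : R →* Ω) (hψ : ψ ∈ F.Hom R)
    (h : ψ.comp (Subgroup.inclusion hQR) ∈ F'.Hom Q) : ψ ∈ F'.Hom R :=
  hom_mem_of_restrict_centric p hS F F' hF hF' hle (Nat.card R) Q R hQR (Nat.le_add_left _ _) hQ ψ hψ h

/-- An `F`-conjugate of an `F`-centric subgroup is `F`-centric. -/
theorem isCentric_of_isConj (F : FusionSystem S) {P P' : Subgroup Ω} (hP : F.IsCentric P)
    (h : F.IsConj P P') : F.IsCentric P' :=
  ⟨isConj_le_right F h, fun Q hQ => hP.2 Q (isConj_trans F h hQ)⟩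

/-- `S` itself is `F`-centric. -/
theorem isCentric_self [Finite S] (F : FusionSystem S) : F.IsCentric S := by
  refine ⟨le_refl _, ?_⟩
  rintro Q ⟨φ, hφ, rfl⟩
  have hinj : Function.Injective φ := F.injective_of_mem hφ
  have hle : φ.range ≤ S := by
    rintro _ ⟨x, rfl⟩
    exact hom_mem F hφ x
  have : Finite φ.range := finite_of_le hle
  have hcard : Nat.card S ≤ Nat.card φ.range :=
    Nat.card_le_card_of_injective φ.rangeRestrict (by
      intro x y hxy
      apply hinj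
      exact congrArg Subtype.val hxy)
  have : φ.range = S := Subgroup.eq_of_le_of_card_ge hle hcard
  rw [this]
  exact inf_le_left

/-- Below every `F`-centric subgroup there is a minimal `F`-centric subgroup. -/
theorem exists_minimal_centric_le [Finite S] (F : FusionSystem S) :
    ∀ (n : ℕ) (P : Subgroup Ω), Nat.card P ≤ n → F.IsCentric P →
      ∃ Q : Subgroup Ω, Q ≤ P ∧ F.IsCentric Q ∧ ∀ R : Subgroup Ω, R < Q → ¬ F.IsCentric R := by
  intro n
  induction n with
  | zero =>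
    intro P hcard hP
    have : Finite P := finite_of_le hP.1
    have := Nat.card_pos (α := P)
    omega
  | succ n ih =>
    intro P hcard hP
    have : Finite P := finite_of_le hP.1
    by_cases h : ∃ R : Subgroup Ω, R < P ∧ F.IsCentric R
    · obtain ⟨R, hRP, hR⟩ := h
      have hlt : Nat.card R < Nat.card P := by
        obtain ⟨g, hgP, hgR⟩ := SetLike.exists_of_lt hRP
        exact Cfsg.Agent.Lib.Helper89.card_lt_of_mem_not_mem hRP.le hgP hgR
      obtain ⟨Q, hQR, hQ, hmin⟩ := ih R (by omega) hR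
      exact ⟨Q, hQR.trans hRP.le, hQ, hmin⟩
    · push Not at h
      exact ⟨P, le_refl _, hP, fun R hR => h R hR⟩

end Cfsg.Agent.Lib.Helper91
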