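import Mathlib

set_option autoImplicit false

/-!
# A Frattini argument for a `3`-subgroup over a normal `2`-subgroup
-/

namespace Cfsg.Agent.Lib.Helper91

section Frattini
variable {G : Type*} [Group G]

theorem eq_one_of_two_three' {x : G} {j k : ℕ} (h2 : x ^ (2 ^ j) = 1) (h3 : x ^ (3 ^ k) = 1) :
    x = 1 := by
  have d2 := orderOf_dvd_of_pow_eq_one h2
  have d3 := orderOf_dvd_of_pow_eq_one h3
  have hco : Nat.Coprime (2 ^ j) (3 ^ k) := Nat.Coprime.pow j k (by norm_num)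
  have := Nat.dvd_gcd d2 d3
  rw [hco.gcd_eq_one, Nat.dvd_one] at this
  exact orderOf_eq_one_iff.mp this

/-- in a finite group, conjugating a subgroup into itself means normalising it -/
theorem mem_normalizer_of_conj_mem [Finite G] {P : Subgroup G} {g : G}
    (h : ∀ x ∈ P, g * x * g⁻¹ ∈ P) : g ∈ Subgroup.normalizer (P : Set G) := by
  rw [Subgroup.mem_normalizer_iff]
  intro x
  refine ⟨h x, fun hx => ?_⟩
  let f : P → P := fun y => ⟨g * y.1 * g⁻¹, h y.1 y.2⟩
  have hinj : Function.Injective f := by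
    intro y z hyz
    have := congrArg Subtype.val hyz
    simp only [f] at this
    apply Subtype.ext
    exact mul_left_cancel (mul_right_cancel this)
  have hsurj := Finite.injective_iff_surjective.mp hinj
  obtain ⟨y, hy⟩ := hsurj ⟨g * x * g⁻¹, hx⟩
  have := congrArg Subtype.val hy
  simp only [f] at this
  have hxy : y.1 = x := mul_left_cancel (mul_right_cancel this)
  rw [← hxy]; exact y.2

/-- Frattini: if `g` conjugates the `3`-subgroup `P` into `P N`, `N` a normal `2`-subgroup, then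
some `m g` with `m ∈ N` normalises `P`. -/
theorem frattini_lift [Finite G] {N P : Subgroup G} [hNn : N.Normal] (hN : IsPGroup 2 N)
    (hP : IsPGroup 3 P) {g : G} (hg : ∀ x ∈ P, g * x * g⁻¹ ∈ P ⊔ N) :
    ∃ m ∈ N, m * g ∈ Subgroup.normalizer (P : Set G) := by
  haveI : Fact (Nat.Prime 3) := ⟨Nat.prime_three⟩
  set J : Subgroup G := P ⊔ N with hJ
  have hPJ : P ≤ J := le_sup_left
  -- `P` as a Sylow subgroup of `J`
  let S : Sylow 3 ↥J :=
    { toSubgroup := P.subgroupOf J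
      isPGroup' := hP.comap_subtype
      is_maximal' := by
        intro Q hQ hle
        refine le_antisymm ?_ hle
        intro q hq
        have hqJ : (q : G) ∈ P ⊔ N := q.2
        obtain ⟨p, hp, n, hn, hpn⟩ := Subgroup.mem_sup_of_normal_right.mp hqJ
        have hp' : (⟨p, hPJ hp⟩ : ↥J) ∈ Q := hle (by
          rw [Subgroup.mem_subgroupOf]; exact hp)
        have hn' : (⟨p, hPJ hp⟩ : ↥J)⁻¹ * q ∈ Q := Subgroup.mul_mem _ (Subgroup.inv_mem _ hp') hq
        obtain ⟨k, hk⟩ := hQ ⟨_, hn'⟩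
        have hk' : (p⁻¹ * (q : G)) ^ (3 ^ k) = 1 := by
          have := congrArg Subtype.val (congrArg Subtype.val hk)
          simpa using this
        have hnq : p⁻¹ * (q : G) = n := by rw [← hpn]; group
        rw [hnq] at hk'
        obtain ⟨j, hj⟩ := hN ⟨n, hn⟩
        have hj' : n ^ (2 ^ j) = 1 := by
          have := congrArg Subtype.val hj
          simpa using this
        have hn1 : n = 1 := eq_one_of_two_three' hj' hk'
        rw [hn1, mul_one] at hpn
        rw [Subgroup.mem_subgroupOf, ← hpn]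
        exact hp }
  -- the conjugate of `P`
  have hP2 : IsPGroup 3 ((P.map (MulAut.conj g).toMonoidHom).subgroupOf J) :=
    (hP.map _).comap_subtype
  obtain ⟨Q2, hQ2⟩ := hP2.exists_le_sylow
  obtain ⟨j, hj⟩ := MulAction.exists_smul_eq ↥J S Q2
  -- for x ∈ P : j⁻¹ (g x g⁻¹) j ∈ P
  have hconj : ∀ x ∈ P, ((j : G)⁻¹ * g) * x * ((j : G)⁻¹ * g)⁻¹ ∈ P := by
    intro x hx
    have h1 : (⟨g * x * g⁻¹, hg x hx⟩ : ↥J) ∈ (P.map (MulAut.conj g).toMonoidHom).subgroupOf J := by
      rw [Subgroup.mem_subgroupOf]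
      exact ⟨x, hx, by simp [MulAut.conj_apply]⟩
    have h2 : (⟨g * x * g⁻¹, hg x hx⟩ : ↥J) ∈ (Q2 : Subgroup ↥J) := hQ2 h1
    rw [← hj, Sylow.coe_subgroup_smul, Subgroup.mem_pointwise_smul_iff_inv_smul_mem] at h2
    have h3 : (MulAut.conj j)⁻¹ • (⟨g * x * g⁻¹, hg x hx⟩ : ↥J) ∈ P.subgroupOf J := h2
    rw [Subgroup.mem_subgroupOf] at h3
    have h4 : (((MulAut.conj j)⁻¹ • (⟨g * x * g⁻¹, hg x hx⟩ : ↥J) : ↥J) : G) =
        (j : G)⁻¹ * (g * x * g⁻¹) * (j : G) := by
      simp [MulAut.smul_def, MulAut.conj_inv_apply]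
    rw [h4] at h3
    have h5 : ((j : G)⁻¹ * g) * x * ((j : G)⁻¹ * g)⁻¹ = (j : G)⁻¹ * (g * x * g⁻¹) * (j : G) := by
      group
    rw [h5]; exact h3
  have hnorm := mem_normalizer_of_conj_mem hconj
  have hjJ : (j : G)⁻¹ ∈ P ⊔ N := Subgroup.inv_mem _ j.2
  obtain ⟨p, hp, n, hn, hpn⟩ := Subgroup.mem_sup_of_normal_right.mp hjJ
  refine ⟨n, hn, ?_⟩
  have hpnorm : p⁻¹ ∈ Subgroup.normalizer (P : Set G) :=
    Subgroup.le_normalizer (Subgroup.inv_mem _ hp)
  have : n * g = p⁻¹ * ((j : G)⁻¹ * g) := by rw [← hpn]; group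
  rw [this]
  exact Subgroup.mul_mem _ hpnorm hnorm

end Frattini

end Cfsg.Agent.Lib.Helper91
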