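import Mathlib
import Cfsg.Prelude.Def_SporadicB
import Cfsg.Prelude.Def_FischerSpaces

set_option autoImplicit false

/-!
# 3-transposition sets in which commuting is an equivalence relation

`S₄` identities, the subgroup `commKernel D` generated by the products of commuting members of `D`,
which is a normal `2`-subgroup, and its transitivity on the blocks.
-/

namespace Cfsg.Agent.Lib.Helper91

section S4
variable {G : Type*} [Group G]

/-- the `S₄` identities: `a, d, e` involutions, `d e = e d`, `(a d)^3 = (a e)^3 = 1`. -/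
theorem s4_mul_conj {a d e : G} (hd : d * d = 1) (he : e * e = 1)
    (had : a * d * a = d * a * d) (hae : a * e * a = e * a * e) :
    a * ((d * e) * a * (d * e)⁻¹) = d * a * (d * e) * a * d := by
  have hinv : (d * e)⁻¹ = e * d := by
    rw [eq_comm, ← mul_eq_one_iff_eq_inv]
    calc e * d * (d * e) = e * (d * d) * e := by simp only [mul_assoc]
      _ = 1 := by rw [hd, mul_one, he]
  rw [hinv]
  calc a * (d * e * a * (e * d)) = a * d * (e * a * e) * d := by simp only [mul_assoc]
    _ = a * d * (a * e * a) * d := by rw [hae]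
    _ = (a * d * a) * e * a * d := by simp only [mul_assoc]
    _ = (d * a * d) * e * a * d := by rw [had]
    _ = d * a * (d * e) * a * d := by simp only [mul_assoc]

theorem s4_sq {a d e : G} (ha : a * a = 1) (hd : d * d = 1) (he : e * e = 1)
    (hde : d * e = e * d) (had : a * d * a = d * a * d) (hae : a * e * a = e * a * e) :
    (a * ((d * e) * a * (d * e)⁻¹)) * (a * ((d * e) * a * (d * e)⁻¹)) = 1 := by
  rw [s4_mul_conj hd he had hae]
  have hdede : d * e * (d * e) = 1 := by
    calc d * e * (d * e) = d * (e * d) * e := by simp only [mul_assoc]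
      _ = d * (d * e) * e := by rw [hde]
      _ = (d * d) * (e * e) := by simp only [mul_assoc]
      _ = 1 := by rw [hd, he, one_mul]
  calc d * a * (d * e) * a * d * (d * a * (d * e) * a * d)
      = d * a * (d * e) * a * (d * d) * a * (d * e) * a * d := by simp only [mul_assoc]
    _ = d * a * (d * e) * (a * a) * (d * e) * a * d := by rw [hd]; simp only [mul_assoc, mul_one]
    _ = d * a * (d * e * (d * e)) * a * d := by rw [ha]; simp only [mul_assoc, mul_one]
    _ = d * (a * a) * d := by rw [hdede]; simp only [mul_assoc, mul_one]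
    _ = 1 := by rw [ha, mul_one, hd]

theorem s4_conj {a d e : G} (ha : a * a = 1) (hd : d * d = 1) (he : e * e = 1)
    (hde : d * e = e * d) (had : a * d * a = d * a * d) (hae : a * e * a = e * a * e) :
    (a * ((d * e) * a * (d * e)⁻¹)) * d * (a * ((d * e) * a * (d * e)⁻¹))⁻¹ = e := by
  have hsq := s4_sq ha hd he hde had hae
  have hinv : (a * ((d * e) * a * (d * e)⁻¹))⁻¹ = a * ((d * e) * a * (d * e)⁻¹) := by
    rw [eq_comm, ← mul_eq_one_iff_eq_inv]; exact hsq
  rw [hinv, s4_mul_conj hd he had hae]
  have hded : d * e * d = e := by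
    rw [hde, mul_assoc, hd, mul_one]
  have key : a * (d * e) * a * d * a * (d * e) * a = e := by
    calc a * (d * e) * a * d * a * (d * e) * a
        = a * (d * e) * (a * d * a) * (d * e) * a := by simp only [mul_assoc]
      _ = a * (d * e) * (d * a * d) * (e * d) * a := by rw [had, hde]
      _ = a * (d * e * d) * a * (d * e * d) * a := by simp only [mul_assoc]
      _ = a * e * a * e * a := by rw [hded]
      _ = (a * e * a) * e * a := by simp only [mul_assoc]
      _ = (e * a * e) * e * a := by rw [hae]
      _ = e * a * (e * e) * a := by simp only [mul_assoc]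
      _ = e := by rw [he, mul_one, mul_assoc, ha, mul_one]
  calc d * a * (d * e) * a * d * d * (d * a * (d * e) * a * d)
      = d * a * (d * e) * a * (d * d) * d * a * (d * e) * a * d := by simp only [mul_assoc]
    _ = d * (a * (d * e) * a * d * a * (d * e) * a) * d := by rw [hd]; simp only [mul_assoc, mul_one]
    _ = d * e * d := by rw [key]
    _ = e := hded

end S4

section Basic
variable {G : Type*} [Group G] {D : Set G}

theorem tt_mul_self (hT : Cfsg.IsThreeTranspositionSet D) {d : G} (hd : d ∈ D) : d * d = 1 := by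
  have h := pow_orderOf_eq_one d
  rw [hT.1 d hd, pow_two] at h
  exact h

theorem tt_inv (hT : Cfsg.IsThreeTranspositionSet D) {d : G} (hd : d ∈ D) : d⁻¹ = d := by
  rw [eq_comm, ← mul_eq_one_iff_eq_inv]; exact tt_mul_self hT hd

theorem tt_ne_one (hT : Cfsg.IsThreeTranspositionSet D) {d : G} (hd : d ∈ D) : d ≠ 1 := by
  intro h
  have := hT.1 d hd
  rw [h, orderOf_one] at this
  omega

/-- two involutions whose product squares to one commute -/
theorem commute_of_sq {a b : G} (ha : a * a = 1) (hb : b * b = 1) (h : (a * b) ^ 2 = 1) :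
    Commute a b := by
  have h1 : a * b * (a * b) = 1 := by rw [← pow_two]; exact h
  have h2 : a * b = (a * b)⁻¹ := by rw [← mul_eq_one_iff_eq_inv]; exact h1
  have ha' : a⁻¹ = a := by rw [eq_comm, ← mul_eq_one_iff_eq_inv]; exact ha
  have hb' : b⁻¹ = b := by rw [eq_comm, ← mul_eq_one_iff_eq_inv]; exact hb
  rw [mul_inv_rev, ha', hb'] at h2
  exact h2

/-- the braid relation for two non-commuting members -/
theorem tt_braid (hT : Cfsg.IsThreeTranspositionSet D) {a d : G} (ha : a ∈ D) (hd : d ∈ D)
    (hnc : ¬ Commute a d) : a * d * a = d * a * d := by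
  have haa := tt_mul_self hT ha
  have hdd := tt_mul_self hT hd
  rcases hT.2 a ha d hd with h | h
  · exact absurd (commute_of_sq haa hdd h) hnc
  · have h1 : a * d * a * (d * a * d) = 1 := by
      have : (a * d) ^ 3 = a * d * a * (d * a * d) := by
        rw [pow_succ, pow_two]; simp only [mul_assoc]
      rw [← this]; exact h
    have h2 : (d * a * d)⁻¹ = d * a * d := by
      rw [eq_comm, ← mul_eq_one_iff_eq_inv]
      calc d * a * d * (d * a * d) = d * a * (d * d) * a * d := by simp only [mul_assoc]
        _ = d * (a * a) * d := by rw [hdd]; simp only [mul_assoc, mul_one]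
        _ = 1 := by rw [haa, mul_one, hdd]
    rw [mul_eq_one_iff_eq_inv, h2] at h1
    exact h1

theorem tt_conj_mem_iff (hc : ∀ g : G, ∀ d ∈ D, g * d * g⁻¹ ∈ D) (g : G) {d : G} :
    g * d * g⁻¹ ∈ D ↔ d ∈ D := by
  constructor
  · intro h
    have := hc g⁻¹ _ h
    simpa [mul_assoc] using this
  · exact hc g d

end Basic

section Blocks
variable {G : Type*} [Group G] (D : Set G)

/-- the products of two commuting members of `D` -/
def commGens : Set G := {x | ∃ a ∈ D, ∃ b ∈ D, Commute a b ∧ x = a * b}

/-- the subgroup generated by the products of two commuting members of `D` -/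
def commKernel : Subgroup G := Subgroup.closure (commGens D)

/-- the products `d v` with `v` in `D` commuting with `d` -/
def blockGens (d : G) : Set G := {x | ∃ v ∈ D, Commute d v ∧ x = d * v}

/-- the subgroup generated by the `d v` -/
def blockSub (d : G) : Subgroup G := Subgroup.closure (blockGens D d)

variable {D}

theorem mul_mem_commKernel {a b : G} (ha : a ∈ D) (hb : b ∈ D) (h : Commute a b) :
    a * b ∈ commKernel D :=
  Subgroup.subset_closure ⟨a, ha, b, hb, h, rfl⟩

theorem commKernel_normal (hc : ∀ g : G, ∀ d ∈ D, g * d * g⁻¹ ∈ D) : (commKernel D).Normal := by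
  constructor
  intro n hn g
  unfold commKernel at hn ⊢
  induction hn using Subgroup.closure_induction with
  | mem x hx =>
    obtain ⟨a, ha, b, hb, hab, rfl⟩ := hx
    apply Subgroup.subset_closure
    refine ⟨g * a * g⁻¹, hc g a ha, g * b * g⁻¹, hc g b hb, ?_, by group⟩
    have := hab.eq
    show g * a * g⁻¹ * (g * b * g⁻¹) = g * b * g⁻¹ * (g * a * g⁻¹)
    calc g * a * g⁻¹ * (g * b * g⁻¹) = g * (a * b) * g⁻¹ := by group
      _ = g * (b * a) * g⁻¹ := by rw [this]
      _ = g * b * g⁻¹ * (g * a * g⁻¹) := by group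
  | one => simp
  | mul x y _ _ hx hy =>
    have : g * (x * y) * g⁻¹ = (g * x * g⁻¹) * (g * y * g⁻¹) := by group
    rw [this]; exact Subgroup.mul_mem _ hx hy
  | inv x _ hx =>
    have : g * x⁻¹ * g⁻¹ = (g * x * g⁻¹)⁻¹ := by group
    rw [this]; exact Subgroup.inv_mem _ hx

theorem blockSub_le_commKernel {d : G} (hd : d ∈ D) : blockSub D d ≤ commKernel D := by
  unfold blockSub
  rw [Subgroup.closure_le]
  rintro x ⟨v, hv, hdv, rfl⟩
  exact mul_mem_commKernel hd hv hdv

theorem commKernel_le_iSup : commKernel D ≤ ⨆ a ∈ D, blockSub D a := by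
  unfold commKernel
  rw [Subgroup.closure_le]
  rintro x ⟨a, ha, b, hb, hab, rfl⟩
  have h1 : a * b ∈ blockSub D a := Subgroup.subset_closure ⟨b, hb, hab, rfl⟩
  have h2 : blockSub D a ≤ ⨆ a ∈ D, blockSub D a := le_biSup (fun a => blockSub D a) ha
  exact h2 h1

variable (hT : Cfsg.IsThreeTranspositionSet D)
  (htr : ∀ a ∈ D, ∀ b ∈ D, ∀ c ∈ D, Commute a b → Commute b c → Commute a c)

include hT htr

omit hT in
theorem blockSub_commute_mem {d : G} (hd : d ∈ D) {x : G} (hx : x ∈ blockSub D d) {w : G}
    (hw : w ∈ D) (hdw : Commute d w) : Commute x w := by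
  unfold blockSub at hx
  induction hx using Subgroup.closure_induction with
  | mem x hx =>
    obtain ⟨v, hv, hdv, rfl⟩ := hx
    exact Commute.mul_left hdw (htr v hv d hd w hw hdv.symm hdw)
  | one => exact Commute.one_left w
  | mul x y _ _ hx hy => exact Commute.mul_left hx hy
  | inv x _ hx => exact Commute.inv_left hx

theorem blockSub_commute {d : G} (hd : d ∈ D) {x y : G} (hx : x ∈ blockSub D d)
    (hy : y ∈ blockSub D d) : Commute x y := by
  unfold blockSub at hy
  induction hy using Subgroup.closure_induction with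
  | mem y hy =>
    obtain ⟨v, hv, hdv, rfl⟩ := hy
    exact Commute.mul_right (blockSub_commute_mem htr hd hx hd (Commute.refl d))
      (blockSub_commute_mem htr hd hx hv hdv)
  | one => exact Commute.one_right x
  | mul y z _ _ hy hz => exact Commute.mul_right hy hz
  | inv y _ hy => exact Commute.inv_right hy

theorem blockSub_mul_self {d : G} (hd : d ∈ D) {x : G} (hx : x ∈ blockSub D d) : x * x = 1 := by
  have hx' := hx
  unfold blockSub at hx
  induction hx using Subgroup.closure_induction with
  | mem x hx =>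
    obtain ⟨v, hv, hdv, rfl⟩ := hx
    calc d * v * (d * v) = d * (v * d) * v := by simp only [mul_assoc]
      _ = d * (d * v) * v := by rw [hdv.eq]
      _ = (d * d) * (v * v) := by simp only [mul_assoc]
      _ = 1 := by rw [tt_mul_self hT hd, tt_mul_self hT hv, one_mul]
  | one => simp
  | mul x y hx0 hy0 hx hy =>
    have hxm : x ∈ blockSub D d := hx0
    have hym : y ∈ blockSub D d := hy0
    have hxy := (blockSub_commute hT htr hd hxm hym).eq
    calc x * y * (x * y) = x * (y * x) * y := by simp only [mul_assoc]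
      _ = x * (x * y) * y := by rw [hxy]
      _ = (x * x) * (y * y) := by simp only [mul_assoc]
      _ = 1 := by rw [hx hxm, hy hym, one_mul]
  | inv x hx0 hx =>
    have hxm : x ∈ blockSub D d := hx0
    rw [← mul_inv_rev, hx hxm, inv_one]

theorem blockSub_isPGroup {d : G} (hd : d ∈ D) : IsPGroup 2 (blockSub D d) := by
  intro g
  refine ⟨1, ?_⟩
  rw [pow_one, pow_two]
  apply Subtype.ext
  simpa using blockSub_mul_self hT htr hd g.2

omit htr in
/-- conjugating a member `v` by a product of two commuting members gives a member commuting with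
`v` -/
theorem conj_commGen_commute (htr : ∀ a ∈ D, ∀ b ∈ D, ∀ c ∈ D, Commute a b → Commute b c → Commute a c)
    (hc : ∀ g : G, ∀ d ∈ D, g * d * g⁻¹ ∈ D) {e f v : G} (he : e ∈ D) (hf : f ∈ D)
    (hef : Commute e f) (hv : v ∈ D) :
    Commute v ((e * f) * v * (e * f)⁻¹) := by
  by_cases hve : Commute v e
  · have hvf : Commute v f := htr v hv e he f hf hve hef
    have : (e * f) * v * (e * f)⁻¹ = v := by
      have h1 : (e * f) * v = v * (e * f) := ((hve.mul_right hvf).eq).symm
      rw [h1, mul_assoc, mul_inv_cancel, mul_one]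
    rw [this]
  · have hvf : ¬ Commute v f := fun h => hve (htr v hv f hf e he h hef.symm)
    have hsq := s4_sq (tt_mul_self hT hv) (tt_mul_self hT he) (tt_mul_self hT hf) hef.eq
      (tt_braid hT hv he hve) (tt_braid hT hv hf hvf)
    have hv' : (e * f) * v * (e * f)⁻¹ ∈ D := hc _ v hv
    apply commute_of_sq (tt_mul_self hT hv) (tt_mul_self hT hv')
    rw [pow_two]; exact hsq

theorem commGen_mem_normalizer (hc : ∀ g : G, ∀ d ∈ D, g * d * g⁻¹ ∈ D) {d e f : G} (hd : d ∈ D)
    (he : e ∈ D) (hf : f ∈ D) (hef : Commute e f) :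
    e * f ∈ Subgroup.normalizer (blockSub D d : Set G) := by
  set x := e * f with hx
  have hxx : x * x = 1 := by
    calc e * f * (e * f) = e * (f * e) * f := by simp only [mul_assoc]
      _ = e * (e * f) * f := by rw [hef.eq]
      _ = (e * e) * (f * f) := by simp only [mul_assoc]
      _ = 1 := by rw [tt_mul_self hT he, tt_mul_self hT hf, one_mul]
  have hxinv : x⁻¹ = x := by rw [eq_comm, ← mul_eq_one_iff_eq_inv]; exact hxx
  have key : ∀ h ∈ blockSub D d, x * h * x⁻¹ ∈ blockSub D d := by
    intro h hh
    unfold blockSub at hh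
    induction hh using Subgroup.closure_induction with
    | mem h hh =>
      obtain ⟨v, hv, hdv, rfl⟩ := hh
      -- x (d v) x⁻¹ = d' v'
      have hd' : x * d * x⁻¹ ∈ D := hc _ d hd
      have hv' : x * v * x⁻¹ ∈ D := hc _ v hv
      have hdd' : Commute d (x * d * x⁻¹) := conj_commGen_commute hT htr hc he hf hef hd
      have hvv' : Commute v (x * v * x⁻¹) := conj_commGen_commute hT htr hc he hf hef hv
      have hdv' : Commute d (x * v * x⁻¹) := htr d hd v hv _ hv' hdv hvv'
      have h1 : d * (x * d * x⁻¹) ∈ blockSub D d := Subgroup.subset_closure ⟨_, hd', hdd', rfl⟩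
      have h2 : d * (x * v * x⁻¹) ∈ blockSub D d := Subgroup.subset_closure ⟨_, hv', hdv', rfl⟩
      have h3 : x * (d * v) * x⁻¹ = (d * (x * d * x⁻¹))⁻¹ * (d * (x * v * x⁻¹)) := by
        have h5 : ∀ y : G, (d * (y * d * y⁻¹))⁻¹ * (d * (y * v * y⁻¹)) = y * (d⁻¹ * v) * y⁻¹ := by
          intro y; group
        rw [h5 x, tt_inv hT hd]
      rw [h3]
      exact Subgroup.mul_mem _ (Subgroup.inv_mem _ h1) h2
    | one => simp
    | mul h k _ _ hh hk =>
      have : x * (h * k) * x⁻¹ = (x * h * x⁻¹) * (x * k * x⁻¹) := by group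
      rw [this]; exact Subgroup.mul_mem _ hh hk
    | inv h _ hh =>
      have : x * h⁻¹ * x⁻¹ = (x * h * x⁻¹)⁻¹ := by group
      rw [this]; exact Subgroup.inv_mem _ hh
  rw [Subgroup.mem_normalizer_iff]
  intro h
  constructor
  · exact key h
  · intro hh
    have := key _ hh
    rw [hxinv] at this
    have h4 : x * (x * h * x) * x = h := by
      calc x * (x * h * x) * x = (x * x) * h * (x * x) := by simp only [mul_assoc]
        _ = h := by rw [hxx, one_mul, mul_one]
    rw [h4] at this
    exact this

theorem blockSub_le_normalizer (hc : ∀ g : G, ∀ d ∈ D, g * d * g⁻¹ ∈ D) {d e : G} (hd : d ∈ D)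
    (he : e ∈ D) : blockSub D e ≤ Subgroup.normalizer (blockSub D d : Set G) := by
  unfold blockSub
  rw [Subgroup.closure_le]
  rintro x ⟨f, hf, hef, rfl⟩
  exact commGen_mem_normalizer hT htr hc hd he hf hef

theorem iSup_blockSub_isPGroup (hc : ∀ g : G, ∀ d ∈ D, g * d * g⁻¹ ∈ D) (s : Finset G)
    (hs : ∀ a ∈ s, a ∈ D) : IsPGroup 2 (⨆ a ∈ s, blockSub D a : Subgroup G) := by
  classical
  induction s using Finset.induction_on with
  | empty =>
    have : (⨆ a ∈ (∅ : Finset G), blockSub D a : Subgroup G) = ⊥ := by simp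
    rw [this]
    exact IsPGroup.of_bot
  | insert a s _ ih =>
    rw [Finset.iSup_insert]
    have ha : a ∈ D := hs a (Finset.mem_insert_self a s)
    have ih' := ih (fun b hb => hs b (Finset.mem_insert_of_mem hb))
    rw [sup_comm]
    apply IsPGroup.to_sup_of_normal_right' ih' (blockSub_isPGroup hT htr ha)
    apply iSup₂_le
    intro b hb
    exact blockSub_le_normalizer hT htr hc ha (hs b (Finset.mem_insert_of_mem hb))

theorem commKernel_isPGroup [Finite G] (hc : ∀ g : G, ∀ d ∈ D, g * d * g⁻¹ ∈ D) :
    IsPGroup 2 (commKernel D) := by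
  classical
  have hfin : D.Finite := Set.toFinite D
  have h1 := iSup_blockSub_isPGroup hT htr hc hfin.toFinset (fun a ha => by simpa using ha)
  have h2 : commKernel D ≤ ⨆ a ∈ hfin.toFinset, blockSub D a := by
    refine le_trans commKernel_le_iSup ?_
    apply iSup₂_le
    intro a ha
    exact le_biSup (fun a => blockSub D a) (by simpa using ha)
  exact h1.to_le h2

/-- `commKernel D` acts transitively on the blocks, with an explicit conjugating element -/
theorem exists_conj_of_commute {a d e : G} (ha : a ∈ D) (hd : d ∈ D)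
    (he : e ∈ D) (hde : Commute d e) (had : ¬ Commute a d)
    (hc : ∀ g : G, ∀ d ∈ D, g * d * g⁻¹ ∈ D) :
    a * ((d * e) * a * (d * e)⁻¹) ∈ commKernel D ∧
      (a * ((d * e) * a * (d * e)⁻¹)) * d * (a * ((d * e) * a * (d * e)⁻¹))⁻¹ = e := by
  have hae : ¬ Commute a e := fun h => had (htr a ha e he d hd h hde.symm)
  constructor
  · exact mul_mem_commKernel ha (hc _ a ha) (conj_commGen_commute hT htr hc hd he hde ha)
  · exact s4_conj (tt_mul_self hT ha) (tt_mul_self hT hd) (tt_mul_self hT he) hde.eq
      (tt_braid hT ha hd had) (tt_braid hT ha he hae)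

end Blocks

end Cfsg.Agent.Lib.Helper91
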