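import Mathlib
import Cfsg.Agent.Lib.Helper91.ThreeTranspBlocks

set_option autoImplicit false

/-!
# The quotient of a 3-transposition class by `commKernel D`

When commuting is an equivalence relation on the class `D`, the image of `D` in
`G ⧸ commKernel D` is a class of 3-transpositions no two distinct members of which commute.
-/

namespace Cfsg.Agent.Lib.Helper91

section Aux
variable {G : Type*} [Group G]

theorem eq_one_of_two_three {x : G} {j k : ℕ} (h2 : x ^ (2 ^ j) = 1) (h3 : x ^ (3 ^ k) = 1) :
    x = 1 := by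
  have d2 := orderOf_dvd_of_pow_eq_one h2
  have d3 := orderOf_dvd_of_pow_eq_one h3
  have hco : Nat.Coprime (2 ^ j) (3 ^ k) := Nat.Coprime.pow j k (by norm_num)
  have := Nat.dvd_gcd d2 d3
  rw [hco.gcd_eq_one, Nat.dvd_one] at this
  exact orderOf_eq_one_iff.mp this

theorem eq_one_of_mem_two_of_three {N : Subgroup G} (hN : IsPGroup 2 N) {x : G} (hx : x ∈ N)
    {k : ℕ} (h3 : x ^ (3 ^ k) = 1) : x = 1 := by
  obtain ⟨j, hj⟩ := hN ⟨x, hx⟩
  have hj' : x ^ (2 ^ j) = 1 := by
    have := congrArg Subtype.val hj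
    simpa using this
  exact eq_one_of_two_three hj' h3

theorem eq_one_of_mem_two_of_mem_three {N P : Subgroup G} (hN : IsPGroup 2 N) (hP : IsPGroup 3 P)
    {x : G} (hx : x ∈ N) (hx' : x ∈ P) : x = 1 := by
  obtain ⟨k, hk⟩ := hP ⟨x, hx'⟩
  have hk' : x ^ (3 ^ k) = 1 := by
    have := congrArg Subtype.val hk
    simpa using this
  exact eq_one_of_mem_two_of_three hN hx hk'

end Aux

section FromClass
variable {G : Type*} [Group G] {D : Set G}

theorem mem_conjOf_iff {a b : G} : b ∈ conjugatesOf a ↔ IsConj a b := Iff.rfl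

theorem class_conj_mem (hD : Cfsg.IsThreeTranspositionClass D) :
    ∀ g : G, ∀ d ∈ D, g * d * g⁻¹ ∈ D := by
  obtain ⟨_, ⟨d0, _, hD0⟩, _⟩ := hD
  intro g d hd
  rw [hD0] at hd ⊢
  rw [mem_conjOf_iff, isConj_iff] at hd ⊢
  obtain ⟨c, hc⟩ := hd
  refine ⟨g * c, ?_⟩
  rw [← hc]; group

theorem class_exists_conj (hD : Cfsg.IsThreeTranspositionClass D) {a b : G} (ha : a ∈ D)
    (hb : b ∈ D) : ∃ g : G, g * a * g⁻¹ = b := by
  obtain ⟨_, ⟨d0, _, hD0⟩, _⟩ := hD
  rw [hD0] at ha hb
  rw [mem_conjOf_iff] at ha hb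
  exact isConj_iff.mp (ha.symm.trans hb)

/-- the perp hypothesis at one member gives transitivity of commuting on `D` -/
theorem class_commute_trans (hD : Cfsg.IsThreeTranspositionClass D) {d : G} (hd : d ∈ D)
    (hV : {y : G | y ∈ D ∧ Commute d y} = {v : G | v ∈ D ∧ ∀ e ∈ D, Commute v e ↔ Commute d e}) :
    ∀ a ∈ D, ∀ b ∈ D, ∀ c ∈ D, Commute a b → Commute b c → Commute a c := by
  have hc := class_conj_mem hD
  -- property at d
  have hPd : ∀ y ∈ D, Commute d y → ∀ e ∈ D, (Commute y e ↔ Commute d e) := by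
    intro y hy hdy
    have : y ∈ {y : G | y ∈ D ∧ Commute d y} := ⟨hy, hdy⟩
    rw [hV] at this
    exact this.2
  -- property at any member
  have hP : ∀ b ∈ D, ∀ y ∈ D, Commute b y → ∀ e ∈ D, (Commute y e ↔ Commute b e) := by
    intro b hb y hy hby e he
    obtain ⟨g, hg⟩ := class_exists_conj hD hb hd
    -- g b g⁻¹ = d
    have hy' : g * y * g⁻¹ ∈ D := hc g y hy
    have he' : g * e * g⁻¹ ∈ D := hc g e he
    have h1 : Commute d (g * y * g⁻¹) := by
      rw [← hg]; exact (Commute.conj_iff g).mpr hby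
    have h2 := hPd _ hy' h1 _ he'
    rw [Commute.conj_iff, ← hg, Commute.conj_iff] at h2
    exact h2
  intro a ha b hb c hc' hab hbc
  exact (hP b hb a ha hab.symm c hc').mpr hbc

/-- if some member lies in `commKernel D` then `D` is a singleton -/
theorem class_not_mem_commKernel [Finite G] (hD : Cfsg.IsThreeTranspositionClass D)
    (hD2 : ∃ a ∈ D, ∃ b ∈ D, a ≠ b)
    (htr : ∀ a ∈ D, ∀ b ∈ D, ∀ c ∈ D, Commute a b → Commute b c → Commute a c)
    {d : G} (hd : d ∈ D) : d ∉ commKernel D := by
  intro hdN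
  have hT := hD.1
  have hc := class_conj_mem hD
  have hN2 := commKernel_isPGroup hT htr hc
  -- all of D lies in N
  have hDN : ∀ y ∈ D, y ∈ commKernel D := by
    intro y hy
    obtain ⟨g, hg⟩ := class_exists_conj hD hd hy
    rw [← hg]
    exact (commKernel_normal hc).conj_mem d hdN g
  -- so all members commute
  have hcomm : ∀ a ∈ D, ∀ b ∈ D, Commute a b := by
    intro a ha b hb
    have hab : a * b ∈ commKernel D := Subgroup.mul_mem _ (hDN a ha) (hDN b hb)
    rcases hT.2 a ha b hb with h | h
    · exact commute_of_sq (tt_mul_self hT ha) (tt_mul_self hT hb) h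
    · have : a * b = 1 := eq_one_of_mem_two_of_three hN2 hab (k := 1) (by simpa using h)
      have hba : b = a := by
        have h1 : a * b = a * a := by rw [this, tt_mul_self hT ha]
        exact mul_left_cancel h1
      rw [hba]
  obtain ⟨a, ha, b, hb, hab⟩ := hD2
  apply hab
  obtain ⟨g, hg⟩ := class_exists_conj hD ha hb
  -- g commutes with a since g ∈ closure D
  have hg' : g ∈ Subgroup.closure D := by rw [hD.2.2]; trivial
  have hga : Commute g a := by
    have hle : Subgroup.closure D ≤ Subgroup.centralizer {a} := by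
      rw [Subgroup.closure_le]
      intro y hy
      rw [SetLike.mem_coe, Subgroup.mem_centralizer_iff]
      intro z hz
      rw [Set.mem_singleton_iff] at hz
      rw [hz]
      exact (hcomm a ha y hy).eq
    have := hle hg'
    rw [Subgroup.mem_centralizer_iff] at this
    exact (this a rfl).symm
  rw [← hg, hga.eq, mul_assoc, mul_inv_cancel, mul_one]

end FromClass

section Quot
variable {G : Type*} [Group G] [Finite G] {D : Set G}

omit [Finite G] in
/-- members with the same image commute -/
theorem commute_of_div_mem (hT : Cfsg.IsThreeTranspositionSet D)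
    (hN2 : IsPGroup 2 (commKernel D)) {a b : G} (ha : a ∈ D) (hb : b ∈ D)
    (hab : a * b ∈ commKernel D) : Commute a b := by
  rcases hT.2 a ha b hb with h | h
  · exact commute_of_sq (tt_mul_self hT ha) (tt_mul_self hT hb) h
  · have : a * b = 1 := eq_one_of_mem_two_of_three hN2 hab (k := 1) (by simpa using h)
    have hba : b = a := by
      have h1 : a * b = a * a := by rw [this, tt_mul_self hT ha]
      exact mul_left_cancel h1
    rw [hba]

theorem quot_isClass (hD : Cfsg.IsThreeTranspositionClass D)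
    (hD2 : ∃ a ∈ D, ∃ b ∈ D, a ≠ b)
    (htr : ∀ a ∈ D, ∀ b ∈ D, ∀ c ∈ D, Commute a b → Commute b c → Commute a c)
    [hn : (commKernel D).Normal] :
    Cfsg.IsThreeTranspositionClass ((QuotientGroup.mk' (commKernel D)) '' D) := by
  have hT := hD.1
  have hc := class_conj_mem hD
  refine ⟨⟨?_, ?_⟩, ?_, ?_⟩
  · rintro _ ⟨d, hd, rfl⟩
    have : Fact (Nat.Prime 2) := ⟨Nat.prime_two⟩
    apply orderOf_eq_prime
    · rw [← map_pow, pow_two, tt_mul_self hT hd, map_one]
    · intro h
      have : d ∈ commKernel D := by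
        rw [← QuotientGroup.ker_mk' (commKernel D), MonoidHom.mem_ker]; exact h
      exact class_not_mem_commKernel hD hD2 htr hd this
  · rintro _ ⟨d, hd, rfl⟩ _ ⟨e, he, rfl⟩
    rcases hT.2 d hd e he with h | h
    · left; rw [← map_mul, ← map_pow, h, map_one]
    · right; rw [← map_mul, ← map_pow, h, map_one]
  · obtain ⟨_, ⟨d0, hd0, hD0⟩, _⟩ := hD
    refine ⟨QuotientGroup.mk' (commKernel D) d0, ⟨d0, hd0, rfl⟩, ?_⟩
    ext z
    constructor
    · rintro ⟨y, hy, rfl⟩
      rw [hD0, mem_conjOf_iff, isConj_iff] at hy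
      obtain ⟨c, hc'⟩ := hy
      rw [mem_conjOf_iff, isConj_iff]
      refine ⟨QuotientGroup.mk' (commKernel D) c, ?_⟩
      rw [← hc', map_mul, map_mul, map_inv]
    · intro hz
      rw [mem_conjOf_iff, isConj_iff] at hz
      obtain ⟨c, hc'⟩ := hz
      obtain ⟨g, rfl⟩ := QuotientGroup.mk'_surjective (commKernel D) c
      refine ⟨g * d0 * g⁻¹, hc g d0 hd0, ?_⟩
      rw [← hc', map_mul, map_mul, map_inv]
  · rw [← MonoidHom.map_closure, hD.2.2, ← MonoidHom.range_eq_map,
      MonoidHom.range_eq_top]
    exact QuotientGroup.mk'_surjective (commKernel D)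

theorem quot_width_one (hT : Cfsg.IsThreeTranspositionSet D) [hn : (commKernel D).Normal] :
    ∀ a ∈ (QuotientGroup.mk' (commKernel D)) '' D,
      ∀ b ∈ (QuotientGroup.mk' (commKernel D)) '' D, Commute a b → a = b := by
  rintro _ ⟨a, ha, rfl⟩ _ ⟨b, hb, rfl⟩ hab
  -- (ab)^2 ∈ N
  have h2 : (a * b) ^ 2 ∈ commKernel D := by
    rw [← QuotientGroup.ker_mk' (commKernel D), MonoidHom.mem_ker, map_pow, map_mul, pow_two]
    have e1 : QuotientGroup.mk' (commKernel D) a * QuotientGroup.mk' (commKernel D) a = 1 := by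
      rw [← map_mul, tt_mul_self hT ha, map_one]
    have e2 : QuotientGroup.mk' (commKernel D) b * QuotientGroup.mk' (commKernel D) b = 1 := by
      rw [← map_mul, tt_mul_self hT hb, map_one]
    calc QuotientGroup.mk' (commKernel D) a * QuotientGroup.mk' (commKernel D) b *
          (QuotientGroup.mk' (commKernel D) a * QuotientGroup.mk' (commKernel D) b)
        = QuotientGroup.mk' (commKernel D) a * (QuotientGroup.mk' (commKernel D) b *
          QuotientGroup.mk' (commKernel D) a) * QuotientGroup.mk' (commKernel D) b := by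
          simp only [mul_assoc]
      _ = QuotientGroup.mk' (commKernel D) a * (QuotientGroup.mk' (commKernel D) a *
          QuotientGroup.mk' (commKernel D) b) * QuotientGroup.mk' (commKernel D) b := by
          rw [hab.eq]
      _ = (QuotientGroup.mk' (commKernel D) a * QuotientGroup.mk' (commKernel D) a) *
          (QuotientGroup.mk' (commKernel D) b * QuotientGroup.mk' (commKernel D) b) := by
          simp only [mul_assoc]
      _ = 1 := by rw [e1, e2, one_mul]
  have hab' : a * b ∈ commKernel D := by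
    rcases hT.2 a ha b hb with h | h
    · exact mul_mem_commKernel ha hb
        (commute_of_sq (tt_mul_self hT ha) (tt_mul_self hT hb) h)
    · have : a * b = ((a * b) ^ 2)⁻¹ := by
        rw [eq_comm, inv_eq_iff_mul_eq_one, ← pow_succ]
        exact h
      rw [this]
      exact Subgroup.inv_mem _ h2
  have h3 : QuotientGroup.mk' (commKernel D) (a * b) = 1 := by
    rw [← MonoidHom.mem_ker, QuotientGroup.ker_mk']; exact hab'
  rw [map_mul] at h3
  have e2 : QuotientGroup.mk' (commKernel D) b * QuotientGroup.mk' (commKernel D) b = 1 := by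
    rw [← map_mul, tt_mul_self hT hb, map_one]
  have : QuotientGroup.mk' (commKernel D) a * QuotientGroup.mk' (commKernel D) b =
      QuotientGroup.mk' (commKernel D) b * QuotientGroup.mk' (commKernel D) b := by rw [h3, e2]
  exact mul_right_cancel this

end Quot

end Cfsg.Agent.Lib.Helper91
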