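import Mathlib
import Cfsg.Agent.S0215
import Cfsg.Agent.Lib.Helper74.WidthOne
import Cfsg.Agent.Lib.Helper91.ThreeTranspQuot
import Cfsg.Agent.Lib.Helper91.FrattiniLift
import Cfsg.Agent.Lib.Helper30.FStar
import Cfsg.Agent.Lib.Helper28.FStar

set_option autoImplicit false

/-!
# Classes of 3-transpositions and the generalized Fitting subgroup
-/

namespace Cfsg.Agent.Lib.Helper91

section General
variable {G : Type*} [Group G]

theorem eq_one_of_prime_gt_three {x : G} {p k : ℕ} (hp : p.Prime) (h3 : 3 < p)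
    (hx : x ^ (p ^ k) = 1) (h : x ^ 2 = 1 ∨ x ^ 3 = 1) : x = 1 := by
  have d1 := orderOf_dvd_of_pow_eq_one hx
  obtain ⟨j, _, hj⟩ := (Nat.dvd_prime_pow hp).mp d1
  rcases Nat.eq_zero_or_pos j with h0 | hpos
  · rw [h0, pow_zero] at hj
    exact orderOf_eq_one_iff.mp hj
  · exfalso
    have hpd : p ∣ orderOf x := by rw [hj]; exact dvd_pow_self p hpos.ne'
    rcases h with h | h
    · have := Nat.le_of_dvd (by norm_num) (hpd.trans (orderOf_dvd_of_pow_eq_one h))
      omega
    · have := Nat.le_of_dvd (by norm_num) (hpd.trans (orderOf_dvd_of_pow_eq_one h))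
      omega

/-- powers of an involution -/
theorem zpowers_involution {d : G} (hdd : d * d = 1) {y : G} (hy : y ∈ Subgroup.zpowers d) :
    y = 1 ∨ y = d := by
  obtain ⟨k, rfl⟩ := Subgroup.mem_zpowers_iff.mp hy
  have h2 : d ^ (2 : ℤ) = 1 := by rw [zpow_two]; exact hdd
  rcases Int.even_or_odd' k with ⟨m, hm | hm⟩
  · left; rw [hm, zpow_mul, h2, one_zpow]
  · right; rw [hm, zpow_add, zpow_mul, h2, one_zpow, one_mul, zpow_one]

/-- the three subgroups lemma for a perfect subgroup and an involution -/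
theorem le_centralizer_of_commutator_mem {L : Subgroup G} (hL : ⁅L, L⁆ = L) {d : G}
    (hdd : d * d = 1)
    (h : ∀ z ∈ L, z * d * z⁻¹ * d⁻¹ ∈ Subgroup.centralizer (L : Set G)) :
    L ≤ Subgroup.centralizer {d} := by
  have h1 : ⁅L, Subgroup.zpowers d⁆ ≤ Subgroup.centralizer (L : Set G) := by
    rw [Subgroup.commutator_le]
    intro z hz y hy
    rcases zpowers_involution hdd hy with rfl | rfl
    · rw [commutatorElement_def]; simp
    · rw [commutatorElement_def]; exact h z hz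
  have h2 : ⁅⁅L, Subgroup.zpowers d⁆, L⁆ = ⊥ := Subgroup.commutator_eq_bot_iff_le_centralizer.mpr h1
  have h3 : ⁅⁅Subgroup.zpowers d, L⁆, L⁆ = ⊥ := by rw [Subgroup.commutator_comm (Subgroup.zpowers d) L]; exact h2
  have h4 := Subgroup.commutator_commutator_eq_bot_of_rotate h2 h3
  rw [hL, Subgroup.commutator_eq_bot_iff_le_centralizer] at h4
  intro z hz
  have := h4 hz
  rw [Subgroup.mem_centralizer_iff] at this ⊢
  intro y hy
  rw [Set.mem_singleton_iff] at hy
  rw [hy]
  exact this d (Subgroup.mem_zpowers d)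

end General

section Class
variable {G : Type*} [Group G] {D : Set G}

theorem tt_mul_conj_mem (hT : Cfsg.IsThreeTranspositionSet D) {N : Subgroup G} [hN : N.Normal]
    {d x : G} (hd : d ∈ D) (hx : x ∈ N) : d * (x * d * x⁻¹) ∈ N := by
  have h3 : d * (x * d * x⁻¹) = (d * x * d⁻¹) * x⁻¹ := by
    rw [tt_inv hT hd]; simp only [mul_assoc]
  rw [h3]
  exact Subgroup.mul_mem _ (hN.conj_mem x hx d) (Subgroup.inv_mem _ hx)

theorem conj_eq_self_iff_commute {d x : G} : x * d * x⁻¹ = d ↔ Commute d x := by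
  constructor
  · intro h
    show d * x = x * d
    calc d * x = (x * d * x⁻¹) * x := by rw [h]
      _ = x * d := by group
  · intro h
    rw [← h.eq, mul_assoc, mul_inv_cancel, mul_one]

theorem le_center_of_commute_class (hD : Cfsg.IsThreeTranspositionClass D) {N : Subgroup G}
    (h : ∀ d ∈ D, ∀ x ∈ N, Commute d x) : N ≤ Subgroup.center G := by
  intro x hx
  rw [Subgroup.mem_center_iff]
  intro g
  have hle : Subgroup.closure D ≤ Subgroup.centralizer {x} := by
    rw [Subgroup.closure_le]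
    intro d hd
    rw [SetLike.mem_coe, Subgroup.mem_centralizer_iff]
    intro y hy
    rw [Set.mem_singleton_iff] at hy
    rw [hy]
    exact (h d hd x hx).eq.symm
  have hg : g ∈ Subgroup.closure D := by rw [hD.2.2]; trivial
  have := hle hg
  rw [Subgroup.mem_centralizer_iff] at this
  exact (this x rfl).symm

theorem exists_not_commute_of_not_le_center (hD : Cfsg.IsThreeTranspositionClass D)
    {N : Subgroup G} [hN : N.Normal] (h : ¬ N ≤ Subgroup.center G) {d : G} (hd : d ∈ D) :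
    ∃ x ∈ N, ¬ Commute d x := by
  by_contra hcon
  push Not at hcon
  apply h
  apply le_center_of_commute_class hD
  intro d' hd' x hx
  obtain ⟨g, hg⟩ := class_exists_conj hD hd hd'
  have h3 : g⁻¹ * x * g⁻¹⁻¹ ∈ N := hN.conj_mem x hx g⁻¹
  have h4 := hcon _ h3
  rw [← hg]
  have h5 : Commute (g * d * g⁻¹) (g * (g⁻¹ * x * g⁻¹⁻¹) * g⁻¹) := (Commute.conj_iff g).mpr h4
  have h6 : g * (g⁻¹ * x * g⁻¹⁻¹) * g⁻¹ = x := by group
  rw [h6] at h5
  exact h5

theorem pCore_le_center_of_gt_three (hD : Cfsg.IsThreeTranspositionClass D) {p : ℕ}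
    (hp : p.Prime) (h3 : 3 < p) : Cfsg.pCore p G ≤ Subgroup.center G := by
  have hT := hD.1
  have hc := class_conj_mem hD
  haveI : (Cfsg.pCore p G).Normal := Cfsg.Agent.Lib.Helper76.pCore_normal p
  apply le_center_of_commute_class hD
  intro d hd x hx
  have hmem := tt_mul_conj_mem hT hd hx
  have he : x * d * x⁻¹ ∈ D := hc x d hd
  obtain ⟨k, hk⟩ := (Cfsg.Agent.Lib.Helper76.pCore_isPGroup (G := G) p) ⟨_, hmem⟩
  have hk' : (d * (x * d * x⁻¹)) ^ (p ^ k) = 1 := by
    have := congrArg Subtype.val hk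
    simpa using this
  have h1 := eq_one_of_prime_gt_three hp h3 hk' (hT.2 d hd _ he)
  rw [← conj_eq_self_iff_commute]
  have h2 : d * (x * d * x⁻¹) = d * d := by rw [h1, tt_mul_self hT hd]
  exact mul_left_cancel h2

/-- no product of order six -/
theorem no_order_six (hT : Cfsg.IsThreeTranspositionSet D) {e d f : G} (he : e ∈ D) (hd : d ∈ D)
    (hf : f ∈ D) (h2 : (e * d) ^ 2 = 1) (hne : e ≠ d) (h3 : (d * f) ^ 3 = 1) (hnf : d ≠ f)
    (hcomm : Commute (e * d) (d * f)) : False := by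
  have hdd := tt_mul_self hT hd
  have hef : e * f = (e * d) * (d * f) := by
    calc e * f = e * (d * d) * f := by rw [hdd, mul_one]
      _ = (e * d) * (d * f) := by simp only [mul_assoc]
  have hu1 : e * d ≠ 1 := by
    intro h
    apply hne
    have : e * d = d * d := by rw [h, hdd]
    exact mul_right_cancel this
  have hv1 : d * f ≠ 1 := by
    intro h
    apply hnf
    have : d * f = d * d := by rw [h, hdd]
    exact (mul_left_cancel this).symm
  rcases hT.2 e he f hf with h | h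
  · rw [hef, hcomm.mul_pow, h2, one_mul] at h
    -- (df)^2 = 1 and (df)^3 = 1
    apply hv1
    have : (d * f) ^ 3 = (d * f) ^ 2 * (d * f) := pow_succ _ 2
    rw [h3, h, one_mul] at this
    exact this.symm
  · rw [hef, hcomm.mul_pow, h3, mul_one] at h
    apply hu1
    have : (e * d) ^ 3 = (e * d) ^ 2 * (e * d) := pow_succ _ 2
    rw [h, h2, one_mul] at this
    exact this.symm

end Class

section Layer
variable {G : Type*} [Group G] [Finite G] {D : Set G}

open Cfsg.Agent.Lib.Helper30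

/-- if the commutators `[z, d]`, `z ∈ L`, generate a nilpotent subgroup, then the perfect normal
subgroup `L` of the layer centralizes `d` -/
theorem le_centralizer_of_nilpotent_comm {L : Subgroup G} [hLn : L.Normal]
    (hLE : L ≤ Cfsg.layer G) (hL : ⁅L, L⁆ = L) {d : G} (hdd : d * d = 1)
    (hnil : Group.IsNilpotent ↥(Subgroup.closure {x : G | ∃ z ∈ L, x = z * d * z⁻¹ * d⁻¹})) :
    L ≤ Subgroup.centralizer {d} := by
  set B := Subgroup.closure {x : G | ∃ z ∈ L, x = z * d * z⁻¹ * d⁻¹} with hB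
  have hBL : B ≤ L := by
    rw [hB, Subgroup.closure_le]
    rintro x ⟨z, hz, rfl⟩
    have : z * d * z⁻¹ * d⁻¹ = z * (d * z⁻¹ * d⁻¹) := by group
    rw [SetLike.mem_coe, this]
    exact Subgroup.mul_mem _ hz (hLn.conj_mem _ (Subgroup.inv_mem _ hz) d)
  have hgen : ∀ z ∈ L, z * d * z⁻¹ * d⁻¹ ∈ B := fun z hz => Subgroup.subset_closure ⟨z, hz, rfl⟩
  have hnorm : L ≤ Subgroup.normalizer (B : Set G) := by
    intro w hw
    apply mem_normalizer_of_conj_mem
    intro x hx
    rw [hB] at hx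
    induction hx using Subgroup.closure_induction with
    | mem x hx =>
      obtain ⟨z, hz, rfl⟩ := hx
      have h3 : w * (z * d * z⁻¹ * d⁻¹) * w⁻¹ =
          ((w * z) * d * (w * z)⁻¹ * d⁻¹) * (w * d * w⁻¹ * d⁻¹)⁻¹ := by group
      rw [h3]
      exact Subgroup.mul_mem _ (hgen _ (Subgroup.mul_mem _ hw hz)) (Subgroup.inv_mem _ (hgen _ hw))
    | one => simp
    | mul x y _ _ hx hy =>
      have : w * (x * y) * w⁻¹ = (w * x * w⁻¹) * (w * y * w⁻¹) := by group
      rw [this]; exact Subgroup.mul_mem _ hx hy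
    | inv x _ hx =>
      have : w * x⁻¹ * w⁻¹ = (w * x * w⁻¹)⁻¹ := by group
      rw [this]; exact Subgroup.inv_mem _ hx
  have hBsn : B.IsSubnormal :=
    Subgroup.IsSubnormal.step B L hBL hLn.isSubnormal
      ((Subgroup.normal_subgroupOf_iff_le_normalizer hBL).mpr hnorm)
  have hBF : B ≤ Cfsg.fittingSubgroup G := subnormal_nilpotent_le_fitting hBsn hnil
  have hFE : Cfsg.fittingSubgroup G ≤ Subgroup.centralizer (Cfsg.layer G : Set G) := by
    rw [← Subgroup.commutator_eq_bot_iff_le_centralizer, Subgroup.commutator_comm]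
    exact layer_commute_fitting
  have hEL : Subgroup.centralizer (Cfsg.layer G : Set G) ≤ Subgroup.centralizer (L : Set G) :=
    Subgroup.centralizer_le hLE
  apply le_centralizer_of_commutator_mem hL hdd
  intro z hz
  exact hEL (hFE (hBF (hgen z hz)))

/-- some `L`-conjugate of `d` does not commute with `d` -/
theorem exists_conj_not_commute (hT : Cfsg.IsThreeTranspositionSet D) {L : Subgroup G}
    [hLn : L.Normal] (hLE : L ≤ Cfsg.layer G) (hL : ⁅L, L⁆ = L) {d : G} (hd : d ∈ D)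
    (hnc : ¬ L ≤ Subgroup.centralizer {d}) : ∃ z ∈ L, ¬ Commute d (z * d * z⁻¹) := by
  by_contra hcon
  push Not at hcon
  apply hnc
  have hdd := tt_mul_self hT hd
  have hdinv := tt_inv hT hd
  -- conjugates commute pairwise
  have hcc : ∀ z ∈ L, ∀ z' ∈ L, Commute (z * d * z⁻¹) (z' * d * z'⁻¹) := by
    intro z hz z' hz'
    have h3 := hcon (z⁻¹ * z') (Subgroup.mul_mem _ (Subgroup.inv_mem _ hz) hz')
    have h4 := (Commute.conj_iff z).mpr h3
    have h5 : z * ((z⁻¹ * z') * d * (z⁻¹ * z')⁻¹) * z⁻¹ = z' * d * z'⁻¹ := by group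
    rw [h5] at h4
    exact h4
  have hcomm : ∀ x ∈ {x : G | ∃ z ∈ L, x = z * d * z⁻¹ * d⁻¹},
      ∀ y ∈ {x : G | ∃ z ∈ L, x = z * d * z⁻¹ * d⁻¹}, x * y = y * x := by
    rintro x ⟨z, hz, rfl⟩ y ⟨z', hz', rfl⟩
    rw [hdinv]
    have c1 : Commute (z * d * z⁻¹) (z' * d * z'⁻¹) := hcc z hz z' hz'
    have c2 : Commute (z * d * z⁻¹) d := (hcon z hz).symm
    have c3 : Commute d (z' * d * z'⁻¹) := hcon z' hz'
    have c4 : Commute d d := Commute.refl d
    exact ((c1.mul_right c2).mul_left (c3.mul_right c4)).eq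
  letI : CommGroup ↥(Subgroup.closure {x : G | ∃ z ∈ L, x = z * d * z⁻¹ * d⁻¹}) :=
    Subgroup.closureCommGroupOfComm hcomm
  exact le_centralizer_of_nilpotent_comm hLE hL hdd CommGroup.isNilpotent

/-- some `L`-conjugate of `d`, different from `d`, commutes with `d` -/
theorem exists_conj_commute_ne (hT : Cfsg.IsThreeTranspositionSet D)
    (hc : ∀ g : G, ∀ d ∈ D, g * d * g⁻¹ ∈ D) {L : Subgroup G}
    [hLn : L.Normal] (hLE : L ≤ Cfsg.layer G) (hL : ⁅L, L⁆ = L) {d : G} (hd : d ∈ D)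
    (hnc : ¬ L ≤ Subgroup.centralizer {d}) :
    ∃ z ∈ L, z * d * z⁻¹ ≠ d ∧ Commute d (z * d * z⁻¹) := by
  by_contra hcon
  push Not at hcon
  apply hnc
  have hp3 : Fact (Nat.Prime 3) := ⟨Nat.prime_three⟩
  have hdd := tt_mul_self hT hd
  have hdinv := tt_inv hT hd
  set X : Set G := {x : G | ∃ z ∈ L, x = z * d * z⁻¹} with hX
  have hdX : d ∈ X := ⟨1, Subgroup.one_mem _, by simp⟩
  have hXinv : ∀ x ∈ X, x⁻¹ = x := by
    rintro x ⟨z, hz, rfl⟩
    rw [mul_inv_rev, mul_inv_rev, inv_inv, hdinv, mul_assoc]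
  -- X is closed under conjugation by L and by d, hence by X
  have hXL : ∀ w ∈ L, ∀ x ∈ X, w * x * w⁻¹ ∈ X := by
    rintro w hw x ⟨z, hz, rfl⟩
    exact ⟨w * z, Subgroup.mul_mem _ hw hz, by group⟩
  have hXd : ∀ x ∈ X, d * x * d⁻¹ ∈ X := by
    rintro x ⟨z, hz, rfl⟩
    refine ⟨d * z * d⁻¹, hLn.conj_mem z hz d, ?_⟩
    have : (d * z * d⁻¹) * d * (d * z * d⁻¹)⁻¹ = d * z * (d⁻¹ * d * d) * z⁻¹ * d⁻¹ := by group
    rw [this, inv_mul_cancel, one_mul]
    group
  have hXX : ∀ y ∈ X, ∀ x ∈ X, y * x * y⁻¹ ∈ X := by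
    rintro y ⟨w, hw, rfl⟩ x hx
    have h3 : (w * d * w⁻¹) * x * (w * d * w⁻¹)⁻¹ =
        w * (d * (w⁻¹ * x * w⁻¹⁻¹) * d⁻¹) * w⁻¹ := by group
    rw [h3]
    exact hXL w hw _ (hXd _ (hXL w⁻¹ (Subgroup.inv_mem _ hw) x hx))
  set H := Subgroup.closure X with hH
  have hHX : ∀ g ∈ H, (∀ x ∈ X, g * x * g⁻¹ ∈ X) ∧ (∀ x ∈ X, g⁻¹ * x * g ∈ X) := by
    intro g hg
    rw [hH] at hg
    induction hg using Subgroup.closure_induction with
    | mem y hy =>
      refine ⟨hXX y hy, ?_⟩
      intro x hx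
      have := hXX y hy x hx
      rw [hXinv y hy] at this ⊢
      exact this
    | one => simp
    | mul g h _ _ hg hh =>
      constructor
      · intro x hx
        have : g * h * x * (g * h)⁻¹ = g * (h * x * h⁻¹) * g⁻¹ := by group
        rw [this]; exact hg.1 _ (hh.1 x hx)
      · intro x hx
        have : (g * h)⁻¹ * x * (g * h) = h⁻¹ * (g⁻¹ * x * g) * h := by group
        rw [this]; exact hh.2 _ (hg.2 x hx)
    | inv g _ hg =>
      constructor
      · intro x hx
        have := hg.2 x hx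
        rw [inv_inv]; exact this
      · intro x hx
        have := hg.1 x hx
        rw [inv_inv]; exact this
  -- the width-one structure on H
  set D' : Set ↥H := {x : ↥H | (x : G) ∈ X} with hD'
  have hXD : ∀ x ∈ X, x ∈ D := by
    rintro x ⟨z, hz, rfl⟩
    exact hc z d hd
  have hWO : Cfsg.Agent.Lib.Helper74.WOSet D' :=
    { ord := by
        intro x hx
        rw [← Subgroup.orderOf_coe]
        exact hT.1 _ (hXD _ hx)
      conj := by
        intro g x hx
        show ((g * x * g⁻¹ : ↥H) : G) ∈ X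
        have := (hHX g g.2).1 _ hx
        simpa using this
      cube := by
        intro x hx y hy hxy
        obtain ⟨z, hz, hxz⟩ := hx
        obtain ⟨z', hz', hyz⟩ := hy
        have hne : (z⁻¹ * z') * d * (z⁻¹ * z')⁻¹ ≠ d := by
          intro h
          apply hxy
          apply Subtype.ext
          rw [hxz, hyz]
          have h5 : z' * d * z'⁻¹ = z * ((z⁻¹ * z') * d * (z⁻¹ * z')⁻¹) * z⁻¹ := by group
          rw [h5, h]
        have hzz : z⁻¹ * z' ∈ L := Subgroup.mul_mem _ (Subgroup.inv_mem _ hz) hz'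
        have hnc' := hcon _ hzz hne
        have he'D : (z⁻¹ * z') * d * (z⁻¹ * z')⁻¹ ∈ D := hc _ d hd
        have h3 : (d * ((z⁻¹ * z') * d * (z⁻¹ * z')⁻¹)) ^ 3 = 1 := by
          rcases hT.2 d hd _ he'D with h | h
          · exact absurd (commute_of_sq hdd (tt_mul_self hT he'D) h) hnc'
          · exact h
        apply Subtype.ext
        show ((x : G) * (y : G)) ^ 3 = 1
        rw [hxz, hyz]
        have h6 : z * d * z⁻¹ * (z' * d * z'⁻¹) =
            z * (d * ((z⁻¹ * z') * d * (z⁻¹ * z')⁻¹)) * z⁻¹ := by group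
        rw [h6, conj_pow, h3]
        group }
  have hgen : Subgroup.closure D' = ⊤ := Subgroup.closure_closure_coe_preimage
  have hZ : Cfsg.Agent.Lib.Helper74.WOZStar ↥H :=
    fun P u hu huP hiso => Cfsg.Agent.S0215.result P u hu huP hiso
  have hdH : d ∈ H := Subgroup.subset_closure hdX
  have hdD' : (⟨d, hdH⟩ : ↥H) ∈ D' := hdX
  obtain ⟨P, hPn, hP3, hP⟩ := Cfsg.Agent.Lib.Helper74.width_one_main hZ hWO hgen hdD'
  have hle : Subgroup.closure {x : G | ∃ z ∈ L, x = z * d * z⁻¹ * d⁻¹} ≤ P.map H.subtype := by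
    rw [Subgroup.closure_le]
    rintro x ⟨z, hz, rfl⟩
    have hxX : z * d * z⁻¹ ∈ X := ⟨z, hz, rfl⟩
    have hxH : z * d * z⁻¹ ∈ H := Subgroup.subset_closure hxX
    obtain ⟨q, hq, hqe⟩ := hP ⟨z * d * z⁻¹, hxH⟩ hxX
    have h3 : q * (⟨d, hdH⟩ * q⁻¹ * (⟨d, hdH⟩ : ↥H)⁻¹) ∈ P :=
      Subgroup.mul_mem _ hq (hPn.conj_mem _ (Subgroup.inv_mem _ hq) _)
    refine ⟨_, h3, ?_⟩
    have h4 := congrArg Subtype.val hqe
    simp only [Subgroup.coe_mul, Subgroup.coe_inv] at h4
    simp only [Subgroup.coe_subtype, Subgroup.coe_mul, Subgroup.coe_inv]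
    rw [h4]; group
  have hB3 : IsPGroup 3 ↥(Subgroup.closure {x : G | ∃ z ∈ L, x = z * d * z⁻¹ * d⁻¹}) :=
    (hP3.map H.subtype).to_le hle
  exact le_centralizer_of_nilpotent_comm hLE hL hdd hB3.isNilpotent

end Layer

end Cfsg.Agent.Lib.Helper91
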