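import Mathlib
import Cfsg.Agent.Lib.Helper91.ThreeTranspFitting

set_option autoImplicit false

/-!
# The Fitting trichotomy for classes of 3-transpositions (S5351)
-/

namespace Cfsg.Agent.Lib.Helper91

section Tri
variable {G : Type*} [Group G] [Finite G] {D : Set G}

open Cfsg.Agent.Lib.Helper30

theorem exists_conj_two (hD : Cfsg.IsThreeTranspositionClass D)
    (h2 : ¬ Cfsg.pCore 2 G ≤ Subgroup.center G) {d : G} (hd : d ∈ D) :
    ∃ e ∈ D, e ≠ d ∧ e * d ∈ Cfsg.pCore 2 G ∧ (e * d) ^ 2 = 1 := by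
  have hT := hD.1
  have hc := class_conj_mem hD
  haveI : (Cfsg.pCore 2 G).Normal := Cfsg.Agent.Lib.Helper76.pCore_normal 2
  obtain ⟨x, hx, hnx⟩ := exists_not_commute_of_not_le_center hD h2 hd
  have heD : x * d * x⁻¹ ∈ D := hc x d hd
  have hne : x * d * x⁻¹ ≠ d := fun h => hnx (conj_eq_self_iff_commute.mp h)
  have hmem : d * (x * d * x⁻¹) ∈ Cfsg.pCore 2 G := tt_mul_conj_mem hT hd hx
  have hinv : (x * d * x⁻¹) * d = (d * (x * d * x⁻¹))⁻¹ := by
    rw [mul_inv_rev, tt_inv hT heD, tt_inv hT hd]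
  have hmem' : (x * d * x⁻¹) * d ∈ Cfsg.pCore 2 G := by
    rw [hinv]; exact Subgroup.inv_mem _ hmem
  refine ⟨x * d * x⁻¹, heD, hne, hmem', ?_⟩
  rcases hT.2 _ heD d hd with h | h
  · exact h
  · exfalso
    have h1 : (x * d * x⁻¹) * d = 1 :=
      eq_one_of_mem_two_of_three (Cfsg.Agent.Lib.Helper76.pCore_isPGroup (G := G) 2) hmem'
        (k := 1) (by simpa using h)
    apply hne
    have : (x * d * x⁻¹) * d = d * d := by rw [h1, tt_mul_self hT hd]
    exact mul_right_cancel this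

theorem exists_conj_three (hD : Cfsg.IsThreeTranspositionClass D)
    (h3 : ¬ Cfsg.pCore 3 G ≤ Subgroup.center G) {d : G} (hd : d ∈ D) :
    ∃ f ∈ D, d ≠ f ∧ d * f ∈ Cfsg.pCore 3 G ∧ (d * f) ^ 3 = 1 := by
  have hT := hD.1
  have hc := class_conj_mem hD
  haveI : (Cfsg.pCore 3 G).Normal := Cfsg.Agent.Lib.Helper76.pCore_normal 3
  obtain ⟨x, hx, hnx⟩ := exists_not_commute_of_not_le_center hD h3 hd
  have hfD : x * d * x⁻¹ ∈ D := hc x d hd
  have hne : x * d * x⁻¹ ≠ d := fun h => hnx (conj_eq_self_iff_commute.mp h)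
  have hmem : d * (x * d * x⁻¹) ∈ Cfsg.pCore 3 G := tt_mul_conj_mem hT hd hx
  refine ⟨x * d * x⁻¹, hfD, hne.symm, hmem, ?_⟩
  rcases hT.2 d hd _ hfD with h | h
  · exfalso
    obtain ⟨k, hk⟩ := (Cfsg.Agent.Lib.Helper76.pCore_isPGroup (G := G) 3) ⟨_, hmem⟩
    have hk' : (d * (x * d * x⁻¹)) ^ (3 ^ k) = 1 := by
      have := congrArg Subtype.val hk
      simpa using this
    have h1 : d * (x * d * x⁻¹) = 1 := eq_one_of_two_three (j := 1) (by simpa using h) hk'
    apply hne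
    have : d * (x * d * x⁻¹) = d * d := by rw [h1, tt_mul_self hT hd]
    exact mul_left_cancel this
  · exact h

theorem layer_not_le_centralizer (hD : Cfsg.IsThreeTranspositionClass D)
    (hE : Cfsg.layer G ≠ ⊥) {d : G} (hd : d ∈ D) :
    ¬ Cfsg.layer G ≤ Subgroup.centralizer {d} := by
  intro hle
  have hnc : ¬ Cfsg.layer G ≤ Subgroup.center G := by
    intro h
    apply hE
    have h1 : ⁅Cfsg.layer G, Cfsg.layer G⁆ = ⊥ := by
      rw [Subgroup.commutator_eq_bot_iff_le_centralizer]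
      intro x hx
      rw [Subgroup.mem_centralizer_iff]
      intro y _
      exact (Subgroup.mem_center_iff.mp (h hx) y)
    rw [← layer_perfect (G := G), h1]
  obtain ⟨x, hx, hnx⟩ := exists_not_commute_of_not_le_center hD hnc hd
  apply hnx
  have := hle hx
  rw [Subgroup.mem_centralizer_iff] at this
  exact this d rfl

theorem commute_layer_fitting {y x : G} (hy : y ∈ Cfsg.layer G)
    (hx : x ∈ Cfsg.fittingSubgroup G) : Commute x y := by
  have h := layer_commute_fitting (G := G)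
  rw [Subgroup.commutator_eq_bot_iff_le_centralizer] at h
  have := h hy
  rw [Subgroup.mem_centralizer_iff] at this
  exact this x hx

theorem layer_eq_bot_of_pCore_two (hD : Cfsg.IsThreeTranspositionClass D)
    (h2 : ¬ Cfsg.pCore 2 G ≤ Subgroup.center G) : Cfsg.layer G = ⊥ := by
  by_contra hE
  have hT := hD.1
  have hc := class_conj_mem hD
  have hp2 : Fact (Nat.Prime 2) := ⟨Nat.prime_two⟩
  obtain ⟨d0, hd0, _⟩ := hD.2.1
  obtain ⟨e, heD, hne, hmem, hsq⟩ := exists_conj_two hD h2 hd0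
  have hncE := layer_not_le_centralizer hD hE hd0
  obtain ⟨z, hz, hnz⟩ := exists_conj_not_commute hT (le_refl _) layer_perfect hd0 hncE
  have hfD : z * d0 * z⁻¹ ∈ D := hc z d0 hd0
  have hdf : d0 * (z * d0 * z⁻¹) ∈ Cfsg.layer G := tt_mul_conj_mem hT hd0 hz
  have h3 : (d0 * (z * d0 * z⁻¹)) ^ 3 = 1 := by
    rcases hT.2 d0 hd0 _ hfD with h | h
    · exact absurd (commute_of_sq (tt_mul_self hT hd0) (tt_mul_self hT hfD) h) hnz
    · exact h
  have hnf : d0 ≠ z * d0 * z⁻¹ := by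
    intro h
    apply hnz
    rw [← h]
  have hcomm : Commute (e * d0) (d0 * (z * d0 * z⁻¹)) :=
    commute_layer_fitting hdf (Cfsg.Agent.Lib.Helper76.pCore_le_fittingSubgroup 2 hmem)
  exact no_order_six hT heD hd0 hfD hsq hne h3 hnf hcomm

theorem layer_eq_bot_of_pCore_three (hD : Cfsg.IsThreeTranspositionClass D)
    (h3 : ¬ Cfsg.pCore 3 G ≤ Subgroup.center G) : Cfsg.layer G = ⊥ := by
  by_contra hE
  have hT := hD.1
  have hc := class_conj_mem hD
  have hp3 : Fact (Nat.Prime 3) := ⟨Nat.prime_three⟩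
  obtain ⟨d0, hd0, _⟩ := hD.2.1
  obtain ⟨f, hfD, hnf, hmem, hcube⟩ := exists_conj_three hD h3 hd0
  have hncE := layer_not_le_centralizer hD hE hd0
  obtain ⟨z, hz, hne, hcz⟩ := exists_conj_commute_ne hT hc (le_refl _) layer_perfect hd0 hncE
  have heD : z * d0 * z⁻¹ ∈ D := hc z d0 hd0
  have hde : d0 * (z * d0 * z⁻¹) ∈ Cfsg.layer G := tt_mul_conj_mem hT hd0 hz
  have hinv : (z * d0 * z⁻¹) * d0 = (d0 * (z * d0 * z⁻¹))⁻¹ := by
    rw [mul_inv_rev, tt_inv hT heD, tt_inv hT hd0]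
  have hed : (z * d0 * z⁻¹) * d0 ∈ Cfsg.layer G := by
    rw [hinv]; exact Subgroup.inv_mem _ hde
  have hsq : ((z * d0 * z⁻¹) * d0) ^ 2 = 1 := by
    rw [pow_two]
    calc (z * d0 * z⁻¹) * d0 * ((z * d0 * z⁻¹) * d0)
        = (z * d0 * z⁻¹) * (d0 * (z * d0 * z⁻¹)) * d0 := by simp only [mul_assoc]
      _ = (z * d0 * z⁻¹) * ((z * d0 * z⁻¹) * d0) * d0 := by rw [hcz.eq]
      _ = ((z * d0 * z⁻¹) * (z * d0 * z⁻¹)) * (d0 * d0) := by simp only [mul_assoc]
      _ = 1 := by rw [tt_mul_self hT heD, tt_mul_self hT hd0, one_mul]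
  have hcomm : Commute ((z * d0 * z⁻¹) * d0) (d0 * f) :=
    (commute_layer_fitting hed (Cfsg.Agent.Lib.Helper76.pCore_le_fittingSubgroup 3 hmem)).symm
  exact no_order_six hT heD hd0 hfD hsq hne hcube hnf hcomm

theorem not_both_pCore (hD : Cfsg.IsThreeTranspositionClass D)
    (h2 : ¬ Cfsg.pCore 2 G ≤ Subgroup.center G) (h3 : ¬ Cfsg.pCore 3 G ≤ Subgroup.center G) :
    False := by
  have hT := hD.1
  obtain ⟨d0, hd0, _⟩ := hD.2.1
  obtain ⟨e, heD, hne, hmem2, hsq⟩ := exists_conj_two hD h2 hd0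
  obtain ⟨f, hfD, hnf, hmem3, hcube⟩ := exists_conj_three hD h3 hd0
  have hdis : Disjoint (Cfsg.pCore 2 G) (Cfsg.pCore 3 G) := by
    rw [Subgroup.disjoint_def]
    intro x hx2 hx3
    exact eq_one_of_mem_two_of_mem_three (Cfsg.Agent.Lib.Helper76.pCore_isPGroup (G := G) 2)
      (Cfsg.Agent.Lib.Helper76.pCore_isPGroup (G := G) 3) hx2 hx3
  have hcomm : Commute (e * d0) (d0 * f) :=
    Subgroup.commute_of_normal_of_disjoint _ _ (Cfsg.Agent.Lib.Helper76.pCore_normal 2)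
      (Cfsg.Agent.Lib.Helper76.pCore_normal 3) hdis _ _ hmem2 hmem3
  exact no_order_six hT heD hd0 hfD hsq hne hcube hnf hcomm

theorem layer_ne_bot_of_central (hD : Cfsg.IsThreeTranspositionClass D)
    (hD2 : ∃ a ∈ D, ∃ b ∈ D, a ≠ b)
    (h2 : Cfsg.pCore 2 G ≤ Subgroup.center G) (h3 : Cfsg.pCore 3 G ≤ Subgroup.center G) :
    Cfsg.layer G ≠ ⊥ := by
  intro hE
  have hF : Cfsg.fittingSubgroup G ≤ Subgroup.center G := by
    rw [Cfsg.Agent.Lib.Helper76.fittingSubgroup_eq_pCoreJoin]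
    unfold Cfsg.Agent.Lib.Helper76.pCoreJoin
    apply iSup_le
    rintro ⟨p, hp⟩
    have hpp : p.Prime := (Nat.mem_primeFactors.mp hp).1
    show Cfsg.pCore p G ≤ Subgroup.center G
    by_cases hp2 : p = 2
    · rw [hp2]; exact h2
    by_cases hp3 : p = 3
    · rw [hp3]; exact h3
    have hgt : 3 < p := by
      have h2le := hpp.two_le
      rcases Nat.lt_or_ge 3 p with h | h
      · exact h
      · exfalso
        interval_cases p <;> simp_all
    exact pCore_le_center_of_gt_three hD hpp hgt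
  have hFstar : Cfsg.generalizedFittingSubgroup G ≤ Subgroup.center G := by
    unfold Cfsg.generalizedFittingSubgroup
    rw [hE, bot_sup_eq]; exact hF
  have hcent : Subgroup.centralizer (Cfsg.generalizedFittingSubgroup G : Set G) = ⊤ := by
    rw [eq_top_iff]
    intro g _
    rw [Subgroup.mem_centralizer_iff]
    intro x hx
    exact (Subgroup.mem_center_iff.mp (hFstar hx) g).symm
  have htop : (⊤ : Subgroup G) ≤ Subgroup.center G := by
    rw [← hcent]
    exact le_trans Cfsg.Agent.Lib.Helper28.centralizer_genFitting_le hFstar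
  obtain ⟨a, ha, b, hb, hab⟩ := hD2
  apply hab
  obtain ⟨g, hg⟩ := class_exists_conj hD ha hb
  have hac : a ∈ Subgroup.center G := htop trivial
  rw [← hg, Subgroup.mem_center_iff.mp hac g, mul_assoc, mul_inv_cancel, mul_one]

theorem fitting_trichotomy (hD : Cfsg.IsThreeTranspositionClass D)
    (hD2 : ∃ a ∈ D, ∃ b ∈ D, a ≠ b) :
    (∀ p : ℕ, p.Prime → 3 < p → Cfsg.pCore p G ≤ Subgroup.center G) ∧
    ((¬ Cfsg.pCore 2 G ≤ Subgroup.center G ∧ Cfsg.pCore 3 G ≤ Subgroup.center G ∧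
        Cfsg.layer G = ⊥) ∨
     (Cfsg.pCore 2 G ≤ Subgroup.center G ∧ ¬ Cfsg.pCore 3 G ≤ Subgroup.center G ∧
        Cfsg.layer G = ⊥) ∨
     (Cfsg.pCore 2 G ≤ Subgroup.center G ∧ Cfsg.pCore 3 G ≤ Subgroup.center G ∧
        Cfsg.layer G ≠ ⊥)) := by
  refine ⟨fun p hp h3 => pCore_le_center_of_gt_three hD hp h3, ?_⟩
  by_cases h2 : Cfsg.pCore 2 G ≤ Subgroup.center G
  · by_cases h3 : Cfsg.pCore 3 G ≤ Subgroup.center G
    · exact Or.inr (Or.inr ⟨h2, h3, layer_ne_bot_of_central hD hD2 h2 h3⟩)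
    · exact Or.inr (Or.inl ⟨h2, h3, layer_eq_bot_of_pCore_three hD h3⟩)
  · by_cases h3 : Cfsg.pCore 3 G ≤ Subgroup.center G
    · exact Or.inl ⟨h2, h3, layer_eq_bot_of_pCore_two hD h2⟩
    · exact absurd (not_both_pCore hD h2 h3) id

end Tri

end Cfsg.Agent.Lib.Helper91
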