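import Mathlib
import Cfsg.Agent.S0144
import Cfsg.Agent.Lib.Helper91.FittingTrichotomy
import Cfsg.Agent.Lib.Helper38.Component

set_option autoImplicit false

/-!
# The component of a 3-transposition group with central `O_2`, `O_3` (S5352)
-/

namespace Cfsg.Agent.Lib.Helper91

section Small
variable {S : Type*} [Group S] [Finite S]

/-- a finite group all of whose elements have order at most three is solvable (Burnside) -/
theorem solvable_of_sq_or_cube (h : ∀ x : S, x ^ 2 = 1 ∨ x ^ 3 = 1) : Group.IsSolvable S := by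
  have hn0 : Nat.card S ≠ 0 := Nat.card_pos.ne'
  obtain ⟨a, m, hm2, hm⟩ := Nat.exists_eq_pow_mul_and_not_dvd hn0 2 (by norm_num)
  have hm0 : m ≠ 0 := by
    rintro rfl
    rw [mul_zero] at hm
    exact hn0 hm
  obtain ⟨b, m', hm3, hm'⟩ := Nat.exists_eq_pow_mul_and_not_dvd hm0 3 (by norm_num)
  have hm'1 : m' = 1 := by
    by_contra hne
    obtain ⟨p, hp, hpm⟩ := Nat.exists_prime_and_dvd hne
    have hpS : p ∣ Nat.card S := by
      rw [hm, hm']
      exact Dvd.dvd.mul_left (Dvd.dvd.mul_left hpm _) _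
    haveI : Fact p.Prime := ⟨hp⟩
    obtain ⟨x, hx⟩ := exists_prime_orderOf_dvd_card' p hpS
    rcases h x with h2 | h3
    · have := orderOf_dvd_of_pow_eq_one h2
      rw [hx] at this
      have hp2 : p = 2 := (Nat.prime_dvd_prime_iff_eq hp Nat.prime_two).mp this
      apply hm2
      rw [hm', ← hp2]
      exact Dvd.dvd.mul_left hpm _
    · have := orderOf_dvd_of_pow_eq_one h3
      rw [hx] at this
      have hp3 : p = 3 := (Nat.prime_dvd_prime_iff_eq hp Nat.prime_three).mp this
      apply hm3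
      rw [← hp3]
      exact hpm
  rw [hm'1, mul_one] at hm'
  rw [hm'] at hm
  exact Cfsg.Agent.S0144.result 2 3 a b Nat.prime_two Nat.prime_three hm

end Small

section Comp
variable {G : Type*} [Group G] [Finite G] {D : Set G}

open Cfsg.Agent.Lib.Helper30

/-- a quasisimple group has an element whose square and cube are both non-central -/
theorem quasisimple_exists_large {K : Type*} [Group K] [Finite K] (hK : Cfsg.IsQuasisimple K) :
    ∃ z : K, z ^ 2 ∉ Subgroup.center K ∧ z ^ 3 ∉ Subgroup.center K := by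
  by_contra hcon
  push Not at hcon
  have hsimple := hK.2
  have hsol : Group.IsSolvable (K ⧸ Subgroup.center K) := by
    apply solvable_of_sq_or_cube
    intro x
    obtain ⟨z, rfl⟩ := QuotientGroup.mk'_surjective (Subgroup.center K) x
    by_cases h2 : z ^ 2 ∈ Subgroup.center K
    · left
      rw [← map_pow, ← MonoidHom.mem_ker, QuotientGroup.ker_mk']
      exact h2
    · right
      rw [← map_pow, ← MonoidHom.mem_ker, QuotientGroup.ker_mk']
      exact hcon z h2
  have hcomm : ∀ a b : K ⧸ Subgroup.center K, a * b = b * a :=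
    IsSimpleGroup.comm_iff_isSolvable.mpr hsol
  exact Cfsg.Agent.Lib.Helper38.not_isMulCommutative_quotient_center hK ⟨⟨hcomm⟩⟩

/-- a perfect nontrivial normal subgroup is not centralised by a member of the class -/
theorem perfect_not_le_centralizer (hD : Cfsg.IsThreeTranspositionClass D) {L : Subgroup G}
    [hLn : L.Normal] (hL : ⁅L, L⁆ = L) (hne : L ≠ ⊥) {d : G} (hd : d ∈ D) :
    ¬ L ≤ Subgroup.centralizer {d} := by
  intro hle
  have hnc : ¬ L ≤ Subgroup.center G := by
    intro h
    apply hne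
    have h1 : ⁅L, L⁆ = ⊥ := by
      rw [Subgroup.commutator_eq_bot_iff_le_centralizer]
      intro x hx
      rw [Subgroup.mem_centralizer_iff]
      intro y _
      exact (Subgroup.mem_center_iff.mp (h hx) y)
    rw [← hL, h1]
  obtain ⟨x, hx, hnx⟩ := exists_not_commute_of_not_le_center hD hnc hd
  apply hnx
  have := hle hx
  rw [Subgroup.mem_centralizer_iff] at this
  exact this d rfl

/-- every member of the class normalises every component -/
theorem mem_normalizer_component (hD : Cfsg.IsThreeTranspositionClass D) {K : Subgroup G}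
    (hK : Cfsg.IsComponent K) {d : G} (hd : d ∈ D) :
    K.map (MulAut.conj d).toMonoidHom = K := by
  by_contra hne
  have hT := hD.1
  have hc := class_conj_mem hD
  have hdinv := tt_inv hT hd
  have hKd := isComponent_conj d hK
  have hcomm := component_commute hK hKd (Ne.symm hne)
  rw [Subgroup.commutator_eq_bot_iff_le_centralizer] at hcomm
  obtain ⟨z, hz2, hz3⟩ := quasisimple_exists_large hK.2
  -- the key: (d * (z d z⁻¹))^n = 1 → z^n central in K
  have key : ∀ n : ℕ, (d * ((z : G) * d * (z : G)⁻¹)) ^ n = 1 → z ^ n ∈ Subgroup.center ↥K := by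
    intro n hn
    have hu : d * (z : G) * d⁻¹ ∈ K.map (MulAut.conj d).toMonoidHom :=
      ⟨z, z.2, by simp [MulAut.conj_apply]⟩
    have hcz : Commute (d * (z : G) * d⁻¹) ((z : G)⁻¹) := by
      have := hcomm (Subgroup.inv_mem _ z.2)
      rw [Subgroup.mem_centralizer_iff] at this
      exact this _ hu
    have h3 : d * ((z : G) * d * (z : G)⁻¹) = (d * (z : G) * d⁻¹) * (z : G)⁻¹ := by
      rw [hdinv]; simp only [mul_assoc]
    rw [h3, hcz.mul_pow, conj_pow, inv_pow, mul_inv_eq_one] at hn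
    -- hn : d * z^n * d⁻¹ = z^n
    have hzn : ((z : G)) ^ n ∈ K.map (MulAut.conj d).toMonoidHom := by
      rw [← hn]
      exact ⟨(z : G) ^ n, Subgroup.pow_mem _ z.2 n, by simp [MulAut.conj_apply]⟩
    rw [Subgroup.mem_center_iff]
    intro y
    apply Subtype.ext
    have := hcomm y.2
    rw [Subgroup.mem_centralizer_iff] at this
    have h4 := (this _ hzn).symm
    simpa using h4
  have heD : (z : G) * d * (z : G)⁻¹ ∈ D := hc _ d hd
  rcases hT.2 d hd _ heD with h | h
  · exact hz2 (key 2 h)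
  · exact hz3 (key 3 h)

theorem component_normal (hD : Cfsg.IsThreeTranspositionClass D) {K : Subgroup G}
    (hK : Cfsg.IsComponent K) : K.Normal := by
  rw [← Subgroup.normalizer_eq_top_iff]
  rw [eq_top_iff, ← hD.2.2, Subgroup.closure_le]
  intro d hd
  rw [SetLike.mem_coe, Subgroup.mem_normalizer_iff_map_conj_eq]
  exact mem_normalizer_component hD hK hd

theorem component_unique (hD : Cfsg.IsThreeTranspositionClass D) {K₁ K₂ : Subgroup G}
    (hK₁ : Cfsg.IsComponent K₁) (hK₂ : Cfsg.IsComponent K₂) : K₁ = K₂ := by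
  by_contra hne
  have hT := hD.1
  have hc := class_conj_mem hD
  haveI hn₁ := component_normal hD hK₁
  haveI hn₂ := component_normal hD hK₂
  obtain ⟨d, hd, _⟩ := hD.2.1
  have hcomm := component_commute hK₁ hK₂ hne
  rw [Subgroup.commutator_eq_bot_iff_le_centralizer] at hcomm
  have hnc₁ := perfect_not_le_centralizer hD (component_perfect hK₁) (component_ne_bot hK₁) hd
  have hnc₂ := perfect_not_le_centralizer hD (component_perfect hK₂) (component_ne_bot hK₂) hd
  obtain ⟨z₁, hz₁, hnz⟩ := exists_conj_not_commute hT (component_le_layer hK₁)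
    (component_perfect hK₁) hd hnc₁
  obtain ⟨z₂, hz₂, hne₂, hcz⟩ := exists_conj_commute_ne hT hc (component_le_layer hK₂)
    (component_perfect hK₂) hd hnc₂
  have hfD : z₁ * d * z₁⁻¹ ∈ D := hc z₁ d hd
  have heD : z₂ * d * z₂⁻¹ ∈ D := hc z₂ d hd
  have hdf : d * (z₁ * d * z₁⁻¹) ∈ K₁ := tt_mul_conj_mem hT hd hz₁
  have hde : d * (z₂ * d * z₂⁻¹) ∈ K₂ := tt_mul_conj_mem hT hd hz₂
  have hinv : (z₂ * d * z₂⁻¹) * d = (d * (z₂ * d * z₂⁻¹))⁻¹ := by
    rw [mul_inv_rev, tt_inv hT heD, tt_inv hT hd]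
  have hed : (z₂ * d * z₂⁻¹) * d ∈ K₂ := by
    rw [hinv]; exact Subgroup.inv_mem _ hde
  have h3 : (d * (z₁ * d * z₁⁻¹)) ^ 3 = 1 := by
    rcases hT.2 d hd _ hfD with h | h
    · exact absurd (commute_of_sq (tt_mul_self hT hd) (tt_mul_self hT hfD) h) hnz
    · exact h
  have hnf : d ≠ z₁ * d * z₁⁻¹ := by
    intro h
    apply hnz
    rw [← h]
  have hsq : ((z₂ * d * z₂⁻¹) * d) ^ 2 = 1 := by
    rw [pow_two]
    calc (z₂ * d * z₂⁻¹) * d * ((z₂ * d * z₂⁻¹) * d)
        = (z₂ * d * z₂⁻¹) * (d * (z₂ * d * z₂⁻¹)) * d := by simp only [mul_assoc]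
      _ = (z₂ * d * z₂⁻¹) * ((z₂ * d * z₂⁻¹) * d) * d := by rw [hcz.eq]
      _ = ((z₂ * d * z₂⁻¹) * (z₂ * d * z₂⁻¹)) * (d * d) := by simp only [mul_assoc]
      _ = 1 := by rw [tt_mul_self hT heD, tt_mul_self hT hd, one_mul]
  have hcomm' : Commute ((z₂ * d * z₂⁻¹) * d) (d * (z₁ * d * z₁⁻¹)) := by
    have := hcomm hdf
    rw [Subgroup.mem_centralizer_iff] at this
    exact this _ hed
  exact no_order_six hT heD hd hfD hsq hne₂ h3 hnf hcomm'

end Comp

end Cfsg.Agent.Lib.Helper91
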