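import Mathlib
import Cfsg.Agent.Lib.Helper91.ThreeTranspComponent
import Cfsg.Agent.Lib.Helper38.Fitting

set_option autoImplicit false

/-!
# S5352: the component structure of a 3-transposition group with central `O_2`, `O_3`
-/

namespace Cfsg.Agent.Lib.Helper91

section CS
variable {G : Type*} [Group G] [Finite G] {D : Set G}

open Cfsg.Agent.Lib.Helper30

theorem commGenSub_le {L : Subgroup G} [hLn : L.Normal] (d : G) :
    Subgroup.closure {x : G | ∃ z ∈ L, x = z * d * z⁻¹ * d⁻¹} ≤ L := by
  rw [Subgroup.closure_le]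
  rintro x ⟨z, hz, rfl⟩
  have : z * d * z⁻¹ * d⁻¹ = z * (d * z⁻¹ * d⁻¹) := by group
  rw [SetLike.mem_coe, this]
  exact Subgroup.mul_mem _ hz (hLn.conj_mem _ (Subgroup.inv_mem _ hz) d)

theorem le_normalizer_commGenSub {L : Subgroup G} (d : G) :
    L ≤ Subgroup.normalizer
      (Subgroup.closure {x : G | ∃ z ∈ L, x = z * d * z⁻¹ * d⁻¹} : Set G) := by
  have hgen : ∀ z ∈ L, z * d * z⁻¹ * d⁻¹ ∈
      Subgroup.closure {x : G | ∃ z ∈ L, x = z * d * z⁻¹ * d⁻¹} :=
    fun z hz => Subgroup.subset_closure ⟨z, hz, rfl⟩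
  intro w hw
  apply mem_normalizer_of_conj_mem
  intro x hx
  induction hx using Subgroup.closure_induction with
  | mem x hx =>
    obtain ⟨z, hz, rfl⟩ := hx
    have h3 : w * (z * d * z⁻¹ * d⁻¹) * w⁻¹ =
        ((w * z) * d * (w * z)⁻¹ * d⁻¹) * (w * d * w⁻¹ * d⁻¹)⁻¹ := by group
    rw [h3]
    exact Subgroup.mul_mem _ (hgen _ (Subgroup.mul_mem _ hw hz)) (Subgroup.inv_mem _ (hgen _ hw))
  | one => simp
  | mul x y _ _ hx hy =>
    have : w * (x * y) * w⁻¹ = (w * x * w⁻¹) * (w * y * w⁻¹) := by group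
    rw [this]; exact Subgroup.mul_mem _ hx hy
  | inv x _ hx =>
    have : w * x⁻¹ * w⁻¹ = (w * x * w⁻¹)⁻¹ := by group
    rw [this]; exact Subgroup.inv_mem _ hx

theorem fitting_le_center_of_central (hD : Cfsg.IsThreeTranspositionClass D)
    (h2 : Cfsg.pCore 2 G ≤ Subgroup.center G) (h3 : Cfsg.pCore 3 G ≤ Subgroup.center G) :
    Cfsg.fittingSubgroup G ≤ Subgroup.center G := by
  rw [Cfsg.Agent.Lib.Helper76.fittingSubgroup_eq_pCoreJoin]
  unfold Cfsg.Agent.Lib.Helper76.pCoreJoin
  apply iSup_le
  rintro ⟨p, hp⟩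
  have hpp : p.Prime := (Nat.mem_primeFactors.mp hp).1
  show Cfsg.pCore p G ≤ Subgroup.center G
  by_cases hp2 : p = 2
  · rw [hp2]; exact h2
  by_cases hp3 : p = 3
  · rw [hp3]; exact h3
  have hgt : 3 < p := by
    have h2le := hpp.two_le
    rcases Nat.lt_or_ge 3 p with h | h
    · exact h
    · exfalso
      interval_cases p <;> simp_all
  exact pCore_le_center_of_gt_three hD hpp hgt

/-- modulo a normal quasisimple subgroup, commuting members of the class coincide -/
theorem mul_mem_of_commutator_mem (hD : Cfsg.IsThreeTranspositionClass D) {L : Subgroup G}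
    [hLn : L.Normal] (hqs : Cfsg.IsQuasisimple ↥L) {a b : G} (ha : a ∈ D) (hb : b ∈ D)
    (hab : a * b * a⁻¹ * b⁻¹ ∈ L) : a⁻¹ * b ∈ L := by
  have hT := hD.1
  have hc := class_conj_mem hD
  have hainv := tt_inv hT ha
  have hbinv := tt_inv hT hb
  have haa := tt_mul_self hT ha
  have hbb := tt_mul_self hT hb
  obtain ⟨hperf, hLne, hdich⟩ := qs_subgroup hqs
  rw [hainv]
  rw [hainv, hbinv] at hab
  rcases hT.2 a ha b hb with h | h
  · -- a and b commute
    have hcab : Commute a b := commute_of_sq haa hbb h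
    by_contra hnot
    -- b commutes with all L-conjugates of a
    have hbc : ∀ z ∈ L, Commute b (z * a * z⁻¹) := by
      intro z hz
      by_contra hnc
      set c := z * a * z⁻¹ with hcdef
      have hcD : c ∈ D := hc z a ha
      have hcinv := tt_inv hT hcD
      have hl : c * a⁻¹ ∈ L := by
        have : c * a⁻¹ = z * (a * z⁻¹ * a⁻¹) := by rw [hcdef]; group
        rw [this]
        exact Subgroup.mul_mem _ hz (hLn.conj_mem _ (Subgroup.inv_mem _ hz) a)
      set l := c * a⁻¹ with hldef
      have hcl : c = l * a := by rw [hldef]; group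
      have hbraid : c * b * c = b * c * b := tt_braid hT hcD hb (fun h => hnc h.symm)
      -- b * (c b c) ∈ L
      have h1 : b * (c * b * c) ∈ L := by
        have h5 : c * b * c = l * b * l⁻¹ := by
          have h6 : c * b * c = c * b * c⁻¹ := by rw [hcinv]
          rw [h6, hcl]
          have h7 : l * a * b * (l * a)⁻¹ = l * (a * b * a⁻¹) * l⁻¹ := by group
          rw [h7]
          have h8 : a * b * a⁻¹ = b := by rw [hcab.eq, mul_assoc, mul_inv_cancel, mul_one]
          rw [h8]
        rw [h5]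
        have h9 : b * (l * b * l⁻¹) = (b * l * b⁻¹) * l⁻¹ := by rw [hbinv]; simp only [mul_assoc]
        rw [h9]
        exact Subgroup.mul_mem _ (hLn.conj_mem l hl b) (Subgroup.inv_mem _ hl)
      -- a * (b c b) ∈ L
      have h2 : a * (b * c * b) ∈ L := by
        have h5 : a * (b * c * b) = a * (b * l * b⁻¹) * a⁻¹ := by
          rw [hcl, hbinv, hainv]
          have h6 : b * a = a * b := hcab.eq.symm
          calc a * (b * (l * a) * b) = a * (b * l) * (a * b) := by simp only [mul_assoc]
            _ = a * (b * l) * (b * a) := by rw [h6]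
            _ = a * (b * l * b) * a := by simp only [mul_assoc]
        rw [h5]
        exact hLn.conj_mem _ (hLn.conj_mem l hl b) a
      rw [← hbraid] at h2
      apply hnot
      have h3 : a * b = (a * (c * b * c)) * (b * (c * b * c))⁻¹ := by
        rw [mul_inv_rev, hbinv]; group
      rw [h3]
      exact Subgroup.mul_mem _ h2 (Subgroup.inv_mem _ h1)
    -- so b centralises the commutators [z, a]
    have hBb : Subgroup.closure {x : G | ∃ z ∈ L, x = z * a * z⁻¹ * a⁻¹} ≤
        Subgroup.centralizer {b} := by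
      rw [Subgroup.closure_le]
      rintro x ⟨z, hz, rfl⟩
      rw [SetLike.mem_coe, Subgroup.mem_centralizer_iff]
      intro y hy
      rw [Set.mem_singleton_iff] at hy
      rw [hy, hainv]
      exact ((hbc z hz).mul_right hcab.symm).eq
    rcases hdich _ (commGenSub_le a) (le_normalizer_commGenSub a) with hBL | hBc
    · rw [hBL] at hBb
      exact perfect_not_le_centralizer hD hperf hLne hb hBb
    · apply perfect_not_le_centralizer hD hperf hLne ha
      apply le_centralizer_of_commutator_mem hperf haa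
      intro z hz
      exact hBc (Subgroup.subset_closure ⟨z, hz, rfl⟩)
  · -- (ab)^3 = 1
    have h1 : a * b * a * b = (a * b) ^ 2 := by rw [pow_two]; simp only [mul_assoc]
    rw [h1] at hab
    have h2 : a * b = ((a * b) ^ 2)⁻¹ := by
      rw [eq_comm, inv_eq_iff_mul_eq_one, ← pow_succ]
      exact h
    rw [h2]
    exact Subgroup.inv_mem _ hab

theorem component_structure (hD : Cfsg.IsThreeTranspositionClass D)
    (hD2 : ∃ a ∈ D, ∃ b ∈ D, a ≠ b)
    (h2 : Cfsg.pCore 2 G ≤ Subgroup.center G) (h3 : Cfsg.pCore 3 G ≤ Subgroup.center G) :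
    ∃ L : Subgroup G, L.Normal ∧ Cfsg.IsQuasisimple L ∧
      Cfsg.generalizedFittingSubgroup G = L ⊔ Subgroup.center G ∧
      (L = ⊤ ∨ ∀ a ∈ D, ∀ b ∈ D, a * b * a⁻¹ * b⁻¹ ∈ L → a⁻¹ * b ∈ L) := by
  have hE := layer_ne_bot_of_central hD hD2 h2 h3
  have hex : ∃ K : Subgroup G, Cfsg.IsComponent K := by
    by_contra hcon
    push Not at hcon
    apply hE
    unfold Cfsg.layer
    rw [eq_bot_iff]
    apply sSup_le
    intro K hK
    exact absurd hK (hcon K)
  obtain ⟨K, hK⟩ := hex
  have hKn : K.Normal := component_normal hD hK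
  have hlayer : Cfsg.layer G = K := by
    apply le_antisymm
    · apply layer_le
      intro K' hK'
      rw [component_unique hD hK' hK]
    · exact component_le_layer hK
  have hF : Cfsg.fittingSubgroup G = Subgroup.center G := by
    apply le_antisymm (fitting_le_center_of_central hD h2 h3)
    intro z hz
    exact Cfsg.Agent.Lib.Helper38.mem_fittingSubgroup_of_mem_center z hz
  refine ⟨K, hKn, hK.2, ?_, Or.inr ?_⟩
  · unfold Cfsg.generalizedFittingSubgroup
    rw [hlayer, hF]
  · intro a ha b hb hab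
    exact mul_mem_of_commutator_mem hD hK.2 ha hb hab

end CS

end Cfsg.Agent.Lib.Helper91
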