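import Mathlib
import Cfsg.Agent.Lib.Helper91.ThreeTranspBlocks

set_option autoImplicit false

/-!
# Systems of imprimitivity of a conjugation-closed set of 3-transpositions

For a block `B ⊆ D` (each conjugate of `B` equals `B` or is disjoint from it), the products `b b'`
of two members of `B` fix every conjugate of `B`.
-/

namespace Cfsg.Agent.Lib.Helper91

section ConjSet
variable {G : Type*} [Group G]

/-- the conjugate `g B g⁻¹` of a set -/
def conjSet (g : G) (B : Set G) : Set G := (fun x => g * x * g⁻¹) '' B

theorem mem_conjSet {g x : G} {B : Set G} : x ∈ conjSet g B ↔ g⁻¹ * x * g ∈ B := by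
  unfold conjSet
  constructor
  · rintro ⟨y, hy, rfl⟩
    have : g⁻¹ * (g * y * g⁻¹) * g = y := by group
    rw [this]; exact hy
  · intro h
    exact ⟨g⁻¹ * x * g, h, by group⟩

theorem conj_mem_conjSet {g x : G} {B : Set G} (hx : x ∈ B) : g * x * g⁻¹ ∈ conjSet g B :=
  ⟨x, hx, rfl⟩

theorem conjSet_conjSet (g h : G) (B : Set G) : conjSet g (conjSet h B) = conjSet (g * h) B := by
  ext x
  rw [mem_conjSet, mem_conjSet, mem_conjSet]
  have : h⁻¹ * (g⁻¹ * x * g) * h = (g * h)⁻¹ * x * (g * h) := by group
  rw [this]

theorem conjSet_one (B : Set G) : conjSet 1 B = B := by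
  ext x
  rw [mem_conjSet]
  simp

/-- `B` is a block for the conjugation action -/
def IsConjBlock (B : Set G) : Prop :=
  ∀ g : G, conjSet g B = B ∨ Disjoint (conjSet g B) B

theorem IsConjBlock.eq_of_mem {B : Set G} (hB : IsConjBlock B) {g₁ g₂ x : G}
    (h₁ : x ∈ conjSet g₁ B) (h₂ : x ∈ conjSet g₂ B) : conjSet g₁ B = conjSet g₂ B := by
  rcases hB (g₂⁻¹ * g₁) with h | h
  · have := congrArg (conjSet g₂) h
    rw [conjSet_conjSet] at this
    have h3 : g₂ * (g₂⁻¹ * g₁) = g₁ := by group
    rw [h3] at this
    exact this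
  · exfalso
    rw [Set.disjoint_left] at h
    apply h (a := g₂⁻¹ * x * g₂)
    · rw [mem_conjSet]
      rw [mem_conjSet] at h₁
      have : (g₂⁻¹ * g₁)⁻¹ * (g₂⁻¹ * x * g₂) * (g₂⁻¹ * g₁) = g₁⁻¹ * x * g₁ := by group
      rw [this]; exact h₁
    · rw [mem_conjSet] at h₂
      exact h₂

theorem IsConjBlock.eq_self_of_mem {B : Set G} (hB : IsConjBlock B) {g x : G}
    (h₁ : x ∈ conjSet g B) (h₂ : x ∈ B) : conjSet g B = B := by
  have := hB.eq_of_mem h₁ (g₂ := 1) (by rw [conjSet_one]; exact h₂)
  rw [conjSet_one] at this
  exact this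

/-- the kernel of the action on the conjugates of `B` -/
def blockKernel (B : Set G) : Subgroup G where
  carrier := {g | ∀ h : G, conjSet (g * h) B = conjSet h B}
  one_mem' := by intro h; rw [one_mul]
  mul_mem' := by
    intro a b ha hb h
    have h1 := ha (b * h)
    rw [hb h] at h1
    rw [mul_assoc]; exact h1
  inv_mem' := by
    intro a ha h
    have h1 := ha (a⁻¹ * h)
    rw [← mul_assoc, mul_inv_cancel, one_mul] at h1
    exact h1.symm

theorem mem_blockKernel {B : Set G} {g : G} :
    g ∈ blockKernel B ↔ ∀ h : G, conjSet (g * h) B = conjSet h B := Iff.rfl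

instance blockKernel_normal (B : Set G) : (blockKernel B).Normal := by
  constructor
  intro n hn g
  rw [mem_blockKernel] at hn ⊢
  intro h
  have h1 := hn (g⁻¹ * h)
  have h2 := congrArg (conjSet g) h1
  rw [conjSet_conjSet, conjSet_conjSet] at h2
  have h3 : g * (n * (g⁻¹ * h)) = g * n * g⁻¹ * h := by group
  have h4 : g * (g⁻¹ * h) = h := by group
  rw [h3, h4] at h2
  exact h2

theorem blockKernel_conjSet_self {B : Set G} {g : G} (hg : g ∈ blockKernel B) :
    conjSet g B = B := by
  have := hg 1
  rw [mul_one, conjSet_one] at this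
  exact this

end ConjSet

section BlockLemma
variable {G : Type*} [Group G] {D : Set G}

theorem IsConjBlock.conj_self (hT : Cfsg.IsThreeTranspositionSet D) {B : Set G} (hBD : B ⊆ D)
    (hB : IsConjBlock B) {b : G} (hb : b ∈ B) : conjSet b B = B := by
  apply hB.eq_self_of_mem (x := b) _ hb
  rw [mem_conjSet]
  have : b⁻¹ * b * b = b := by group
  rw [this]; exact hb

/-- the product of two members of a block fixes every conjugate of the block -/
theorem mul_mem_blockKernel (hT : Cfsg.IsThreeTranspositionSet D)
    (hc : ∀ g : G, ∀ d ∈ D, g * d * g⁻¹ ∈ D) {B : Set G} (hBD : B ⊆ D)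
    (hB : IsConjBlock B) {b b' : G} (hb : b ∈ B) (hb' : b' ∈ B) : b * b' ∈ blockKernel B := by
  rw [mem_blockKernel]
  intro h
  have hbD := hBD hb
  have hb'D := hBD hb'
  have hbb := tt_mul_self hT hbD
  have hb'b' := tt_mul_self hT hb'D
  have hbinv := tt_inv hT hbD
  have hb'inv := tt_inv hT hb'D
  -- a point of C = conjSet h B
  set c := h * b * h⁻¹ with hcdef
  have hcC : c ∈ conjSet h B := conj_mem_conjSet hb
  have hcD : c ∈ D := hc h b hbD
  have hcinv := tt_inv hT hcD
  -- it suffices that (b b') c (b b')⁻¹ ∈ conjSet h B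
  have hsuff : (b * b') * c * (b * b')⁻¹ ∈ conjSet h B → conjSet (b * b' * h) B = conjSet h B := by
    intro hmem
    apply hB.eq_of_mem (x := (b * b') * c * (b * b')⁻¹) _ hmem
    rw [← conjSet_conjSet]
    exact conj_mem_conjSet hcC
  by_cases hCB : conjSet h B = B
  · apply hsuff
    rw [hCB]
    rw [hCB] at hcC
    have h1 : b' * c * b'⁻¹ ∈ B := by
      have := conj_mem_conjSet (g := b') hcC
      rw [hB.conj_self hT hBD hb'] at this
      exact this
    have h2 : b * (b' * c * b'⁻¹) * b⁻¹ ∈ B := by
      have := conj_mem_conjSet (g := b) h1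
      rw [hB.conj_self hT hBD hb] at this
      exact this
    have h3 : (b * b') * c * (b * b')⁻¹ = b * (b' * c * b'⁻¹) * b⁻¹ := by group
    rw [h3]; exact h2
  · by_cases hcb : Commute c b
    · by_cases hcb' : Commute c b'
      · apply hsuff
        have h3 : (b * b') * c * (b * b')⁻¹ = c := by
          have : (b * b') * c = c * (b * b') := ((hcb.mul_right hcb').eq).symm
          rw [this, mul_assoc, mul_inv_cancel, mul_one]
        rw [h3]; exact hcC
      · exfalso
        -- c b c⁻¹ = b ∈ conjSet c B ∩ B
        have h1 : conjSet c B = B := by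
          apply hB.eq_self_of_mem (x := b) _ hb
          have : b = c * b * c⁻¹ := by rw [hcb.eq, mul_assoc, mul_inv_cancel, mul_one]
          rw [this]; exact conj_mem_conjSet hb
        have h2 : c * b' * c⁻¹ ∈ B := by
          have := conj_mem_conjSet (g := c) hb'
          rw [h1] at this; exact this
        have hbraid : c * b' * c = b' * c * b' := tt_braid hT hcD hb'D hcb'
        have h3 : c * b' * c⁻¹ = b' * c * b'⁻¹ := by rw [hcinv, hb'inv]; exact hbraid
        have h4 : b' * c * b'⁻¹ ∈ conjSet (b' * h) B := by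
          rw [← conjSet_conjSet]; exact conj_mem_conjSet hcC
        rw [← h3] at h4
        have h5 : conjSet (b' * h) B = B := hB.eq_self_of_mem h4 h2
        apply hCB
        have h6 := congrArg (conjSet b') h5
        rw [conjSet_conjSet, ← mul_assoc, hb'b', one_mul, hB.conj_self hT hBD hb'] at h6
        exact h6
    · by_cases hcb' : Commute c b'
      · exfalso
        have h1 : conjSet c B = B := by
          apply hB.eq_self_of_mem (x := b') _ hb'
          have : b' = c * b' * c⁻¹ := by rw [hcb'.eq, mul_assoc, mul_inv_cancel, mul_one]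
          rw [this]; exact conj_mem_conjSet hb'
        have h2 : c * b * c⁻¹ ∈ B := by
          have := conj_mem_conjSet (g := c) hb
          rw [h1] at this; exact this
        have hbraid : c * b * c = b * c * b := tt_braid hT hcD hbD hcb
        have h3 : c * b * c⁻¹ = b * c * b⁻¹ := by rw [hcinv, hbinv]; exact hbraid
        have h4 : b * c * b⁻¹ ∈ conjSet (b * h) B := by
          rw [← conjSet_conjSet]; exact conj_mem_conjSet hcC
        rw [← h3] at h4
        have h5 : conjSet (b * h) B = B := hB.eq_self_of_mem h4 h2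
        apply hCB
        have h6 := congrArg (conjSet b) h5
        rw [conjSet_conjSet, ← mul_assoc, hbb, one_mul, hB.conj_self hT hBD hb] at h6
        exact h6
      · -- neither commutes
        have hbraid : c * b * c = b * c * b := tt_braid hT hcD hbD hcb
        have hbraid' : c * b' * c = b' * c * b' := tt_braid hT hcD hb'D hcb'
        have h3 : c * b * c⁻¹ = b * c * b⁻¹ := by rw [hcinv, hbinv]; exact hbraid
        have h3' : c * b' * c⁻¹ = b' * c * b'⁻¹ := by rw [hcinv, hb'inv]; exact hbraid'
        have h4 : b * c * b⁻¹ ∈ conjSet (b * h) B := by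
          rw [← conjSet_conjSet]; exact conj_mem_conjSet hcC
        have h4' : b' * c * b'⁻¹ ∈ conjSet (b' * h) B := by
          rw [← conjSet_conjSet]; exact conj_mem_conjSet hcC
        rw [← h3] at h4
        rw [← h3'] at h4'
        have h5 : conjSet (b * h) B = conjSet c B := hB.eq_of_mem h4 (conj_mem_conjSet hb)
        have h5' : conjSet (b' * h) B = conjSet c B := hB.eq_of_mem h4' (conj_mem_conjSet hb')
        have h6 : conjSet (b' * h) B = conjSet (b * h) B := by rw [h5, h5']
        have h7 := congrArg (conjSet b) h6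
        rw [conjSet_conjSet, conjSet_conjSet, ← mul_assoc, ← mul_assoc, hbb, one_mul] at h7
        exact h7

end BlockLemma

end Cfsg.Agent.Lib.Helper91
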