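import Mathlib
import Cfsg.Agent.Lib.Helper91.ThreeTranspBlocksys
import Cfsg.Agent.Lib.Helper91.ComponentStructure

set_option autoImplicit false

/-!
# S5353: index at most two gives primitivity; a connected commuting graph gives index at most two
-/

namespace Cfsg.Agent.Lib.Helper91

section Prim
variable {G : Type*} [Group G] [Finite G] {D : Set G}

open Cfsg.Agent.Lib.Helper30

/-- with `F*(G) = L Z(G)` and central `O_2`, `O_3`, the centralizer of `L` is the centre -/
theorem centralizer_le_center_of_genFitting (hD : Cfsg.IsThreeTranspositionClass D)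
    (h2 : Cfsg.pCore 2 G ≤ Subgroup.center G) (h3 : Cfsg.pCore 3 G ≤ Subgroup.center G)
    (L : Subgroup G) [hLn : L.Normal]
    (hF : Cfsg.generalizedFittingSubgroup G = L ⊔ Subgroup.center G) :
    Subgroup.centralizer (L : Set G) ≤ Subgroup.center G := by
  intro x hx
  have hxL : ∀ y ∈ L, y * x = x * y := fun y hy => (Subgroup.mem_centralizer_iff.mp hx) y hy
  -- x centralises F*
  have h1 : x ∈ Subgroup.centralizer (Cfsg.generalizedFittingSubgroup G : Set G) := by
    rw [Subgroup.mem_centralizer_iff]
    intro y hy
    rw [hF] at hy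
    obtain ⟨l, hl, z, hz, rfl⟩ := Subgroup.mem_sup_of_normal_right.mp hy
    have hzx : z * x = x * z := Subgroup.mem_center_iff.mp hz x |>.symm ▸ rfl
    calc l * z * x = l * (z * x) := by rw [mul_assoc]
      _ = l * (x * z) := by rw [(Subgroup.mem_center_iff.mp hz x)]
      _ = (l * x) * z := by rw [mul_assoc]
      _ = (x * l) * z := by rw [hxL l hl]
      _ = x * (l * z) := by rw [mul_assoc]
  have h4 := Cfsg.Agent.Lib.Helper28.centralizer_genFitting_le h1
  rw [hF] at h4
  obtain ⟨l, hl, z, hz, hlz⟩ := Subgroup.mem_sup_of_normal_right.mp h4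
  -- l ∈ L ∩ C(L)
  have hlc : l ∈ Subgroup.centralizer (L : Set G) := by
    have : l = x * z⁻¹ := by rw [← hlz]; group
    rw [this]
    exact Subgroup.mul_mem _ hx (Subgroup.center_le_centralizer _ (Subgroup.inv_mem _ hz))
  have hn : (L ⊓ Subgroup.centralizer (L : Set G)).Normal := inferInstance
  have hlF : l ∈ Cfsg.fittingSubgroup G := by
    have hle : L ⊓ Subgroup.centralizer (L : Set G) ≤ Cfsg.fittingSubgroup G := by
      refine le_fitting_of_normal_comm hn ?_
      rw [← Subgroup.le_centralizer_iff_isMulCommutative]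
      exact inf_le_right.trans (Subgroup.centralizer_le inf_le_left)
    exact hle ⟨hl, hlc⟩
  have hlZ := fitting_le_center_of_central hD h2 h3 hlF
  rw [← hlz]
  exact Subgroup.mul_mem _ hlZ hz

/-- two distinct members of a class of 3-transpositions never differ by a central element -/
theorem no_central_product (hD : Cfsg.IsThreeTranspositionClass D) {b b' : G} (hb : b ∈ D)
    (hb' : b' ∈ D) (hne : b ≠ b') (hu : b * b' ∈ Subgroup.center G) : False := by
  have hT := hD.1
  have hbb := tt_mul_self hT hb
  have hb'b' := tt_mul_self hT hb'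
  have hbinv := tt_inv hT hb
  -- some member does not commute with b
  have hex : ∃ c ∈ D, ¬ Commute b c := by
    by_contra hcon
    push Not at hcon
    have hle : Subgroup.closure D ≤ Subgroup.centralizer {b} := by
      rw [Subgroup.closure_le]
      intro y hy
      rw [SetLike.mem_coe, Subgroup.mem_centralizer_iff]
      intro z hz
      rw [Set.mem_singleton_iff] at hz
      rw [hz]
      exact (hcon y hy).eq
    obtain ⟨g, hg⟩ := class_exists_conj hD hb hb'
    have hg' : g ∈ Subgroup.closure D := by rw [hD.2.2]; trivial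
    have := hle hg'
    rw [Subgroup.mem_centralizer_iff] at this
    have h3 := this b rfl
    apply hne
    rw [← hg, ← h3, mul_assoc, mul_inv_cancel, mul_one]
  obtain ⟨c, hcD, hnc⟩ := hex
  have hcc := tt_mul_self hT hcD
  set u := b * b' with hudef
  have hb'u : b' = u * b := by
    -- u central: u * b = b * u = b * b * b' = b'
    rw [← Subgroup.mem_center_iff.mp hu b, hudef, ← mul_assoc, hbb, one_mul]
  have hu1 : u ≠ 1 := by
    intro h
    apply hne
    have : b * b' = b * b := by rw [← hudef, h, hbb]
    exact (mul_left_cancel this).symm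
  have hcomm : Commute b b' := by
    have h5 := Subgroup.mem_center_iff.mp hu b
    -- b * u = u * b
    rw [hudef] at h5
    have h6 : b * (b * b') = b' := by rw [← mul_assoc, hbb, one_mul]
    rw [h6] at h5
    -- h5 : b' = b * b' * b
    show b * b' = b' * b
    calc b * b' = b * b' * (b * b) := by rw [hbb, mul_one]
      _ = (b * b' * b) * b := by simp only [mul_assoc]
      _ = b' * b := by rw [← h5]
  have huu : u * u = 1 := by
    rw [hudef]
    calc b * b' * (b * b') = b * (b' * b) * b' := by simp only [mul_assoc]
      _ = b * (b * b') * b' := by rw [hcomm.eq]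
      _ = (b * b) * (b' * b') := by simp only [mul_assoc]
      _ = 1 := by rw [hbb, hb'b', one_mul]
  have hbc3 : (b * c) ^ 3 = 1 := by
    rcases hT.2 b hb c hcD with h | h
    · exact absurd (commute_of_sq hbb hcc h) hnc
    · exact h
  have hbc2 : (b * c) ^ 2 ≠ 1 := fun h => hnc (commute_of_sq hbb hcc h)
  have hucomm : Commute u (b * c) := by
    show u * (b * c) = (b * c) * u
    exact (Subgroup.mem_center_iff.mp hu (b * c)).symm
  have hb'c : b' * c = u * (b * c) := by rw [hb'u, mul_assoc]
  rcases hT.2 b' hb' c hcD with h | h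
  · rw [hb'c, hucomm.mul_pow, pow_two u, huu, one_mul] at h
    exact hbc2 h
  · rw [hb'c, hucomm.mul_pow, hbc3, mul_one, pow_succ, pow_two, huu, one_mul] at h
    exact hu1 h

theorem primitive_of_index_le_two (hD : Cfsg.IsThreeTranspositionClass D)
    (hD2 : ∃ a ∈ D, ∃ b ∈ D, a ≠ b)
    (h2 : Cfsg.pCore 2 G ≤ Subgroup.center G) (h3 : Cfsg.pCore 3 G ≤ Subgroup.center G)
    (L : Subgroup G) [hLn : L.Normal] (hL : Cfsg.IsQuasisimple L)
    (hF : Cfsg.generalizedFittingSubgroup G = L ⊔ Subgroup.center G) (hidx : L.index ≤ 2) :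
    Cfsg.IsPrimitiveUnderConj D := by
  have hT := hD.1
  have hc := class_conj_mem hD
  refine ⟨fun a ha b hb => class_exists_conj hD ha hb, hD2, ?_⟩
  intro B hBD hblk
  have hB : IsConjBlock B := hblk
  by_contra hcon
  push Not at hcon
  obtain ⟨hns, hBne⟩ := hcon
  obtain ⟨b, hb, b', hb', hne⟩ := hns
  have hu : b * b' ∈ blockKernel B := mul_mem_blockKernel hT hc hBD hB hb hb'
  rcases component_normal_dichotomy hLn.isSubnormal hL (blockKernel_normal B) with hLK | hLK
  · -- L ≤ K : B = D
    apply hBne
    have hall : ∀ g : G, conjSet g B = B := by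
      intro g
      by_cases hgL : g ∈ L
      · exact blockKernel_conjSet_self (hLK hgL)
      · have hidx2 : L.index = 2 := by
          have h0 : L.index ≠ 0 := Subgroup.index_ne_zero_of_finite
          have h1 : L.index ≠ 1 := by
            intro h
            rw [Subgroup.index_eq_one] at h
            apply hgL; rw [h]; trivial
          omega
        have hbL : b ∉ L := by
          intro hbL
          have hDL : ∀ y ∈ D, y ∈ L := by
            intro y hy
            obtain ⟨x, hx⟩ := class_exists_conj hD (hBD hb) hy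
            rw [← hx]; exact hLn.conj_mem b hbL x
          have : (⊤ : Subgroup G) ≤ L := by
            rw [← hD.2.2, Subgroup.closure_le]; exact hDL
          apply hgL; exact this trivial
        have hgb : g * b ∈ L := by
          rw [Subgroup.mul_mem_iff_of_index_two hidx2]
          exact ⟨fun h => absurd h hgL, fun h => absurd h hbL⟩
        have h5 := blockKernel_conjSet_self (hLK hgb)
        rw [← conjSet_conjSet, hB.conj_self hT hBD hb] at h5
        exact h5
    apply Set.Subset.antisymm hBD
    intro y hy
    obtain ⟨x, hx⟩ := class_exists_conj hD (hBD hb) hy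
    rw [← hx, ← hall x]
    exact conj_mem_conjSet hb
  · -- [L, K] = 1 : b b' central
    rw [Subgroup.commutator_eq_bot_iff_le_centralizer, Subgroup.le_centralizer_iff] at hLK
    have hcen := centralizer_le_center_of_genFitting hD h2 h3 L hF (hLK hu)
    exact no_central_product hD (hBD hb) (hBD hb') hne hcen

/-- along the commuting graph, products stay in the quasisimple normal subgroup `L` -/
theorem mul_mem_of_reachable (hD : Cfsg.IsThreeTranspositionClass D) {L : Subgroup G}
    [hLn : L.Normal] (hL : Cfsg.IsQuasisimple ↥L) {a b : D}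
    (h : (Cfsg.commutingGraph D).Reachable a b) : (a : G) * (b : G) ∈ L := by
  have hT := hD.1
  obtain ⟨w⟩ := h
  induction w with
  | @nil u =>
    rw [tt_mul_self hT u.2]; exact Subgroup.one_mem _
  | @cons u v w' hadj _ ih =>
    have hcomm : Commute (u : G) (v : G) := by
      unfold Cfsg.commutingGraph at hadj
      rw [SimpleGraph.fromRel_adj] at hadj
      rcases hadj.2 with h | h
      · exact h
      · exact h.symm
    have h1 : (u : G)⁻¹ * (v : G) ∈ L := by
      apply mul_mem_of_commutator_mem hD hL u.2 v.2
      have : (u : G) * (v : G) * (u : G)⁻¹ * (v : G)⁻¹ = 1 := by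
        rw [hcomm.eq]; group
      rw [this]; exact Subgroup.one_mem _
    rw [tt_inv hT u.2] at h1
    have h2 : (u : G) * (w' : G) = ((u : G) * (v : G)) * ((v : G) * (w' : G)) := by
      calc (u : G) * (w' : G) = (u : G) * ((v : G) * (v : G)) * (w' : G) := by
            rw [tt_mul_self hT v.2, mul_one]
        _ = ((u : G) * (v : G)) * ((v : G) * (w' : G)) := by simp only [mul_assoc]
    rw [h2]
    exact Subgroup.mul_mem _ h1 ih

theorem index_le_two_of_connected (hD : Cfsg.IsThreeTranspositionClass D) {L : Subgroup G}
    [hLn : L.Normal] (hL : Cfsg.IsQuasisimple ↥L)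
    (hconn : (Cfsg.commutingGraph D).Connected) : L.index ≤ 2 := by
  have hT := hD.1
  obtain ⟨d, hd, _⟩ := hD.2.1
  have hall : ∀ a ∈ D, d * a ∈ L := fun a ha =>
    mul_mem_of_reachable hD hL (hconn.preconnected ⟨d, hd⟩ ⟨a, ha⟩)
  set π := QuotientGroup.mk' L with hπ
  have hπa : ∀ a ∈ D, π a = π d := by
    intro a ha
    have h1 : π (d * a) = 1 := by
      rw [← MonoidHom.mem_ker, QuotientGroup.ker_mk']; exact hall a ha
    rw [map_mul] at h1
    have h2 : π d * π d = 1 := by rw [← map_mul, tt_mul_self hT hd, map_one]
    have : π d * π a = π d * π d := by rw [h1, h2]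
    exact mul_left_cancel this
  have htop : Subgroup.zpowers (π d) = ⊤ := by
    rw [eq_top_iff]
    have h1 : (Subgroup.closure D).map π = ⊤ := by
      rw [hD.2.2, ← MonoidHom.range_eq_map, MonoidHom.range_eq_top]
      exact QuotientGroup.mk'_surjective L
    rw [← h1, MonoidHom.map_closure, Subgroup.closure_le]
    rintro _ ⟨a, ha, rfl⟩
    rw [hπa a ha]
    exact Subgroup.mem_zpowers _
  have hcard : Nat.card (G ⧸ L) = orderOf (π d) := by
    rw [← Nat.card_zpowers, htop]
    exact (Nat.card_congr (Equiv.Set.univ _)).symm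
  have hord : orderOf (π d) ∣ 2 := by
    apply orderOf_dvd_of_pow_eq_one
    rw [← map_pow, pow_two, tt_mul_self hT hd, map_one]
  unfold Subgroup.index
  rw [hcard]
  exact Nat.le_of_dvd (by norm_num) hord

end Prim

end Cfsg.Agent.Lib.Helper91
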