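import Mathlib
import Cfsg.Agent.Lib.Helper91.ThreeTranspPrimitive
import Cfsg.Agent.Lib.Helper67.Subnormal

set_option autoImplicit false

/-!
# Primitive classes of 3-transpositions: consequences and criteria (towards S5361, S5354)
-/

namespace Cfsg.Agent.Lib.Helper91

section Basic
variable {G : Type*} [Group G] {D : Set G}

theorem class_eq_of_all_commute (hD : Cfsg.IsThreeTranspositionClass D)
    (h : ∀ a ∈ D, ∀ b ∈ D, Commute a b) : ∀ a ∈ D, ∀ b ∈ D, a = b := by
  intro a ha b hb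
  obtain ⟨g, hg⟩ := class_exists_conj hD ha hb
  have hg' : g ∈ Subgroup.closure D := by rw [hD.2.2]; trivial
  have hle : Subgroup.closure D ≤ Subgroup.centralizer {a} := by
    rw [Subgroup.closure_le]
    intro y hy
    rw [SetLike.mem_coe, Subgroup.mem_centralizer_iff]
    intro z hz
    rw [Set.mem_singleton_iff] at hz
    rw [hz]
    exact (h a ha y hy).eq
  have := hle hg'
  rw [Subgroup.mem_centralizer_iff] at this
  have h3 := this a rfl
  rw [← hg, ← h3, mul_assoc, mul_inv_cancel, mul_one]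

/-- conjugation as an endomorphism of the commuting graph -/
def conjGraphHom (hc : ∀ g : G, ∀ d ∈ D, g * d * g⁻¹ ∈ D) (g : G) :
    (Cfsg.commutingGraph D) →g (Cfsg.commutingGraph D) where
  toFun x := ⟨g * x.1 * g⁻¹, hc g x.1 x.2⟩
  map_rel' := by
    intro a b hab
    unfold Cfsg.commutingGraph at hab ⊢
    rw [SimpleGraph.fromRel_adj] at hab ⊢
    refine ⟨?_, ?_⟩
    · intro h
      apply hab.1
      have := congrArg Subtype.val h
      simp only at this
      exact Subtype.ext (mul_left_cancel (mul_right_cancel this))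
    · rcases hab.2 with h | h
      · exact Or.inl ((Commute.conj_iff g).mpr h)
      · exact Or.inr ((Commute.conj_iff g).mpr h)

theorem reachable_conj (hc : ∀ g : G, ∀ d ∈ D, g * d * g⁻¹ ∈ D) (g : G) {a b : D}
    (h : (Cfsg.commutingGraph D).Reachable a b) :
    (Cfsg.commutingGraph D).Reachable ⟨g * a.1 * g⁻¹, hc g a.1 a.2⟩ ⟨g * b.1 * g⁻¹, hc g b.1 b.2⟩ :=
  h.map (conjGraphHom hc g)

/-- the connected component of `a` in the commuting graph, as a subset of `G` -/
def commComponent (D : Set G) (a : G) : Set G :=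
  {e : G | ∃ (ha : a ∈ D) (he : e ∈ D), (Cfsg.commutingGraph D).Reachable ⟨a, ha⟩ ⟨e, he⟩}

theorem mem_conjSet_commComponent (hc : ∀ g : G, ∀ d ∈ D, g * d * g⁻¹ ∈ D) {a : G} (ha : a ∈ D)
    (g x : G) : x ∈ conjSet g (commComponent D a) ↔ x ∈ commComponent D (g * a * g⁻¹) := by
  rw [mem_conjSet]
  constructor
  · rintro ⟨_, he, hr⟩
    have h1 := reachable_conj hc g hr
    have hx : x ∈ D := by
      have := hc g _ he
      have h2 : g * (g⁻¹ * x * g) * g⁻¹ = x := by group
      rw [h2] at this; exact this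
    refine ⟨hc g a ha, hx, ?_⟩
    have h3 : (⟨g * (g⁻¹ * x * g) * g⁻¹, hc g _ he⟩ : D) = ⟨x, hx⟩ := by
      apply Subtype.ext; show g * (g⁻¹ * x * g) * g⁻¹ = x; group
    rw [h3] at h1
    exact h1
  · rintro ⟨hga, hx, hr⟩
    have h1 := reachable_conj hc g⁻¹ hr
    have he : g⁻¹ * x * g ∈ D := by
      have := hc g⁻¹ x hx
      rw [inv_inv] at this; exact this
    refine ⟨ha, he, ?_⟩
    have h3 : (⟨g⁻¹ * (g * a * g⁻¹) * g⁻¹⁻¹, hc g⁻¹ _ hga⟩ : D) = ⟨a, ha⟩ := by
      apply Subtype.ext; show g⁻¹ * (g * a * g⁻¹) * g⁻¹⁻¹ = a; group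
    have h4 : (⟨g⁻¹ * x * g⁻¹⁻¹, hc g⁻¹ x hx⟩ : D) = ⟨g⁻¹ * x * g, he⟩ := by
      apply Subtype.ext; show g⁻¹ * x * g⁻¹⁻¹ = g⁻¹ * x * g; group
    rw [h3, h4] at h1
    exact h1

theorem commComponent_isConjBlock (hc : ∀ g : G, ∀ d ∈ D, g * d * g⁻¹ ∈ D) {a : G} (ha : a ∈ D) :
    IsConjBlock (commComponent D a) := by
  intro g
  by_cases h : (Cfsg.commutingGraph D).Reachable ⟨a, ha⟩ ⟨g * a * g⁻¹, hc g a ha⟩
  · left
    ext x
    rw [mem_conjSet_commComponent hc ha]
    constructor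
    · rintro ⟨_, hx, hr⟩
      exact ⟨ha, hx, h.trans hr⟩
    · rintro ⟨_, hx, hr⟩
      exact ⟨hc g a ha, hx, h.symm.trans hr⟩
  · right
    rw [Set.disjoint_left]
    intro x hx1 hx2
    rw [mem_conjSet_commComponent hc ha] at hx1
    obtain ⟨_, hx, hr1⟩ := hx1
    obtain ⟨_, hx', hr2⟩ := hx2
    exact h (hr2.trans hr1.symm)

theorem connected_of_primitive (hc : ∀ g : G, ∀ d ∈ D, g * d * g⁻¹ ∈ D)
    (hprim : Cfsg.IsPrimitiveUnderConj D) (hw : ∃ a ∈ D, ∃ b ∈ D, a ≠ b ∧ Commute a b) :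
    (Cfsg.commutingGraph D).Connected := by
  obtain ⟨a, ha, b, hb, hab, hcomm⟩ := hw
  have hB := commComponent_isConjBlock hc ha
  have hBD : commComponent D a ⊆ D := fun e he => he.2.1
  have haB : a ∈ commComponent D a := ⟨ha, ha, SimpleGraph.Reachable.refl _⟩
  have hbB : b ∈ commComponent D a := by
    refine ⟨ha, hb, SimpleGraph.Adj.reachable ?_⟩
    unfold Cfsg.commutingGraph
    rw [SimpleGraph.fromRel_adj]
    exact ⟨fun h => hab (congrArg Subtype.val h), Or.inl hcomm⟩
  rcases hprim.2.2 _ hBD hB with h | h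
  · exact absurd (h haB hbB) hab
  · rw [SimpleGraph.connected_iff_exists_forall_reachable]
    refine ⟨⟨a, ha⟩, ?_⟩
    rintro ⟨e, he⟩
    have : e ∈ commComponent D a := by rw [h]; exact he
    obtain ⟨_, _, hr⟩ := this
    exact hr

/-- the members of `D` in the coset `d N` -/
def cosetBlock (D : Set G) (N : Subgroup G) (d : G) : Set G := {e : G | e ∈ D ∧ d * e ∈ N}

theorem cosetBlock_isConjBlock (hT : Cfsg.IsThreeTranspositionSet D)
    (hc : ∀ g : G, ∀ d ∈ D, g * d * g⁻¹ ∈ D) (N : Subgroup G) [hN : N.Normal] {d : G}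
    (hd : d ∈ D) : IsConjBlock (cosetBlock D N d) := by
  intro g
  have he₀ : g * d * g⁻¹ ∈ D := hc g d hd
  have hmem : ∀ x : G, x ∈ conjSet g (cosetBlock D N d) ↔ x ∈ D ∧ (g * d * g⁻¹) * x ∈ N := by
    intro x
    rw [mem_conjSet]
    constructor
    · rintro ⟨h1, h2⟩
      constructor
      · have := hc g _ h1
        have h3 : g * (g⁻¹ * x * g) * g⁻¹ = x := by group
        rw [h3] at this; exact this
      · have := hN.conj_mem _ h2 g
        have h3 : g * (d * (g⁻¹ * x * g)) * g⁻¹ = (g * d * g⁻¹) * x := by group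
        rw [h3] at this; exact this
    · rintro ⟨h1, h2⟩
      constructor
      · have := hc g⁻¹ x h1
        rw [inv_inv] at this; exact this
      · have := hN.conj_mem _ h2 g⁻¹
        have h3 : g⁻¹ * ((g * d * g⁻¹) * x) * g⁻¹⁻¹ = d * (g⁻¹ * x * g) := by group
        rw [h3] at this; exact this
  have hee := tt_mul_self hT he₀
  by_cases h : d * (g * d * g⁻¹) ∈ N
  · left
    ext x
    rw [hmem]
    constructor
    · rintro ⟨h1, h2⟩
      refine ⟨h1, ?_⟩
      have : d * x = (d * (g * d * g⁻¹)) * ((g * d * g⁻¹) * x) := by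
        calc d * x = d * ((g * d * g⁻¹) * (g * d * g⁻¹)) * x := by rw [hee, mul_one]
          _ = (d * (g * d * g⁻¹)) * ((g * d * g⁻¹) * x) := by simp only [mul_assoc]
      rw [this]; exact Subgroup.mul_mem _ h h2
    · rintro ⟨h1, h2⟩
      refine ⟨h1, ?_⟩
      have : (g * d * g⁻¹) * x = (d * (g * d * g⁻¹))⁻¹ * (d * x) := by
        rw [mul_inv_rev, tt_inv hT he₀, tt_inv hT hd]
        calc (g * d * g⁻¹) * x = (g * d * g⁻¹) * (d * d) * x := by rw [tt_mul_self hT hd, mul_one]
          _ = (g * d * g⁻¹) * d * (d * x) := by simp only [mul_assoc]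
      rw [this]; exact Subgroup.mul_mem _ (Subgroup.inv_mem _ h) h2
  · right
    rw [Set.disjoint_left]
    intro x hx1 hx2
    rw [hmem] at hx1
    apply h
    have hxx := tt_mul_self hT hx2.1
    have : d * (g * d * g⁻¹) = (d * x) * ((g * d * g⁻¹) * x)⁻¹ := by
      rw [mul_inv_rev, tt_inv hT hx2.1, tt_inv hT he₀]
      calc d * (g * d * g⁻¹) = d * (x * x) * (g * d * g⁻¹) := by rw [hxx, mul_one]
        _ = (d * x) * (x * (g * d * g⁻¹)) := by simp only [mul_assoc]
    rw [this]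
    exact Subgroup.mul_mem _ hx2.2 (Subgroup.inv_mem _ hx1.2)

/-- if the coset block of every member is trivial, the normal subgroup is central -/
theorem le_center_of_cosetBlock_subsingleton (hD : Cfsg.IsThreeTranspositionClass D)
    (N : Subgroup G) [hN : N.Normal]
    (h : ∀ d ∈ D, (cosetBlock D N d).Subsingleton) : N ≤ Subgroup.center G := by
  have hT := hD.1
  have hc := class_conj_mem hD
  apply le_center_of_commute_class hD
  intro d hd x hx
  have h1 : x * d * x⁻¹ ∈ cosetBlock D N d := ⟨hc x d hd, tt_mul_conj_mem hT hd hx⟩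
  have h2 : d ∈ cosetBlock D N d := ⟨hd, by rw [tt_mul_self hT hd]; exact Subgroup.one_mem _⟩
  exact conj_eq_self_iff_commute.mp (h d hd h1 h2)

end Basic

end Cfsg.Agent.Lib.Helper91
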