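import Mathlib
import Cfsg.Agent.Lib.Helper91.ThreeTranspSimple

set_option autoImplicit false

/-!
# S5361: the derived subgroup is simple iff the class is primitive iff `O_2 = O_3 = 1` and the
commuting graph is connected
-/

namespace Cfsg.Agent.Lib.Helper91

section SD
variable {G : Type*} [Group G] [Finite G] {D : Set G}

open Cfsg.Agent.Lib.Helper30
open scoped commutatorElement

theorem pCore_two_le_center_of_primitive (hD : Cfsg.IsThreeTranspositionClass D)
    (hprim : Cfsg.IsPrimitiveUnderConj D) : Cfsg.pCore 2 G ≤ Subgroup.center G := by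
  have hT := hD.1
  have hc := class_conj_mem hD
  haveI hN : (Cfsg.pCore 2 G).Normal := Cfsg.Agent.Lib.Helper76.pCore_normal 2
  have hN2 : IsPGroup 2 (Cfsg.pCore 2 G) := Cfsg.Agent.Lib.Helper76.pCore_isPGroup 2
  apply le_center_of_cosetBlock_subsingleton hD
  intro d hd
  rcases hprim.2.2 _ (fun e he => he.1) (cosetBlock_isConjBlock hT hc (Cfsg.pCore 2 G) hd) with h | h
  · exact h
  · exfalso
    -- every product lies in O_2, so all members commute
    have hall : ∀ a ∈ D, ∀ b ∈ D, Commute a b := by
      intro a ha b hb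
      have ha' : a ∈ cosetBlock D (Cfsg.pCore 2 G) d := by rw [h]; exact ha
      have hb' : b ∈ cosetBlock D (Cfsg.pCore 2 G) d := by rw [h]; exact hb
      have hab : a * b ∈ Cfsg.pCore 2 G := by
        have : a * b = (d * a)⁻¹ * (d * b) := by
          rw [mul_inv_rev, tt_inv hT ha, tt_inv hT hd]
          calc a * b = a * (d * d) * b := by rw [tt_mul_self hT hd, mul_one]
            _ = a * d * (d * b) := by simp only [mul_assoc]
        rw [this]
        exact Subgroup.mul_mem _ (Subgroup.inv_mem _ ha'.2) hb'.2
      rcases hT.2 a ha b hb with h2 | h3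
      · exact commute_of_sq (tt_mul_self hT ha) (tt_mul_self hT hb) h2
      · have h1 : a * b = 1 := eq_one_of_mem_two_of_three hN2 hab (k := 1) (by simpa using h3)
        have : b = a := by
          have h5 : a * b = a * a := by rw [h1, tt_mul_self hT ha]
          exact mul_left_cancel h5
        rw [this]
    obtain ⟨a, ha, b, hb, hab⟩ := hprim.2.1
    exact hab (class_eq_of_all_commute hD hall a ha b hb)

theorem pCore_three_le_center_of_primitive (hD : Cfsg.IsThreeTranspositionClass D)
    (hprim : Cfsg.IsPrimitiveUnderConj D) (hw : ∃ a ∈ D, ∃ b ∈ D, a ≠ b ∧ Commute a b) :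
    Cfsg.pCore 3 G ≤ Subgroup.center G := by
  have hT := hD.1
  have hc := class_conj_mem hD
  haveI hN : (Cfsg.pCore 3 G).Normal := Cfsg.Agent.Lib.Helper76.pCore_normal 3
  have hN3 : IsPGroup 3 (Cfsg.pCore 3 G) := Cfsg.Agent.Lib.Helper76.pCore_isPGroup 3
  apply le_center_of_cosetBlock_subsingleton hD
  intro d hd
  rcases hprim.2.2 _ (fun e he => he.1) (cosetBlock_isConjBlock hT hc (Cfsg.pCore 3 G) hd) with h | h
  · exact h
  · exfalso
    obtain ⟨a, ha, b, hb, hab, hcomm⟩ := hw
    have ha' : a ∈ cosetBlock D (Cfsg.pCore 3 G) d := by rw [h]; exact ha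
    have hb' : b ∈ cosetBlock D (Cfsg.pCore 3 G) d := by rw [h]; exact hb
    have habN : a * b ∈ Cfsg.pCore 3 G := by
      have : a * b = (d * a)⁻¹ * (d * b) := by
        rw [mul_inv_rev, tt_inv hT ha, tt_inv hT hd]
        calc a * b = a * (d * d) * b := by rw [tt_mul_self hT hd, mul_one]
          _ = a * d * (d * b) := by simp only [mul_assoc]
      rw [this]
      exact Subgroup.mul_mem _ (Subgroup.inv_mem _ ha'.2) hb'.2
    obtain ⟨k, hk⟩ := hN3 ⟨_, habN⟩
    have hk' : (a * b) ^ (3 ^ k) = 1 := by
      have := congrArg Subtype.val hk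
      simpa using this
    have h2 : (a * b) ^ (2 ^ 1) = 1 := by
      rw [pow_one, pow_two]
      calc a * b * (a * b) = a * (b * a) * b := by simp only [mul_assoc]
        _ = a * (a * b) * b := by rw [hcomm.eq]
        _ = (a * a) * (b * b) := by simp only [mul_assoc]
        _ = 1 := by rw [tt_mul_self hT ha, tt_mul_self hT hb, one_mul]
    have h1 : a * b = 1 := eq_one_of_two_three h2 hk'
    apply hab
    have h5 : a * b = a * a := by rw [h1, tt_mul_self hT ha]
    exact (mul_left_cancel h5).symm

theorem layer_eq_of_component (hD : Cfsg.IsThreeTranspositionClass D) {K : Subgroup G}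
    (hK : Cfsg.IsComponent K) : Cfsg.layer G = K := by
  apply le_antisymm
  · apply layer_le
    intro K' hK'
    rw [component_unique hD hK' hK]
  · exact component_le_layer hK

theorem genFitting_eq_of_component (hD : Cfsg.IsThreeTranspositionClass D)
    (h2 : Cfsg.pCore 2 G ≤ Subgroup.center G) (h3 : Cfsg.pCore 3 G ≤ Subgroup.center G)
    {K : Subgroup G} (hK : Cfsg.IsComponent K) :
    Cfsg.generalizedFittingSubgroup G = K ⊔ Subgroup.center G := by
  have hF : Cfsg.fittingSubgroup G = Subgroup.center G := by
    apply le_antisymm (fitting_le_center_of_central hD h2 h3)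
    intro z hz
    exact Cfsg.Agent.Lib.Helper38.mem_fittingSubgroup_of_mem_center z hz
  unfold Cfsg.generalizedFittingSubgroup
  rw [layer_eq_of_component hD hK, hF]

theorem index_le_two_of_mul_mem (hD : Cfsg.IsThreeTranspositionClass D) {L : Subgroup G}
    [hLn : L.Normal] {d : G} (hd : d ∈ D) (hall : ∀ a ∈ D, d * a ∈ L) : L.index ≤ 2 := by
  have hT := hD.1
  set π := QuotientGroup.mk' L with hπ
  have hπa : ∀ a ∈ D, π a = π d := by
    intro a ha
    have h1 : π (d * a) = 1 := by
      rw [← MonoidHom.mem_ker, QuotientGroup.ker_mk']; exact hall a ha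
    rw [map_mul] at h1
    have h2 : π d * π d = 1 := by rw [← map_mul, tt_mul_self hT hd, map_one]
    have : π d * π a = π d * π d := by rw [h1, h2]
    exact mul_left_cancel this
  have htop : Subgroup.zpowers (π d) = ⊤ := by
    rw [eq_top_iff]
    have h1 : (Subgroup.closure D).map π = ⊤ := by
      rw [hD.2.2, ← MonoidHom.range_eq_map, MonoidHom.range_eq_top]
      exact QuotientGroup.mk'_surjective L
    rw [← h1, MonoidHom.map_closure, Subgroup.closure_le]
    rintro _ ⟨a, ha, rfl⟩
    rw [hπa a ha]
    exact Subgroup.mem_zpowers _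
  have hcard : Nat.card (G ⧸ L) = orderOf (π d) := by
    rw [← Nat.card_zpowers, htop]
    exact (Nat.card_congr (Equiv.Set.univ _)).symm
  have hord : orderOf (π d) ∣ 2 := by
    apply orderOf_dvd_of_pow_eq_one
    rw [← map_pow, pow_two, tt_mul_self hT hd, map_one]
  unfold Subgroup.index
  rw [hcard]
  exact Nat.le_of_dvd (by norm_num) hord

theorem commutator_le_of_index_le_two {L : Subgroup G} [hLn : L.Normal] (h : L.index ≤ 2) :
    commutator G ≤ L := by
  rw [← Subgroup.Normal.quotient_commutative_iff_commutator_le]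
  have hcard : Nat.card (G ⧸ L) ∣ 2 := by
    have h0 : L.index ≠ 0 := Subgroup.index_ne_zero_of_finite
    unfold Subgroup.index at h h0
    have : Nat.card (G ⧸ L) = 1 ∨ Nat.card (G ⧸ L) = 2 := by omega
    rcases this with h1 | h1 <;> rw [h1] <;> norm_num
  haveI : Fact (Nat.Prime 2) := ⟨Nat.prime_two⟩
  exact (isCyclic_of_card_dvd_prime (p := 2) hcard).isMulCommutative

/-- the class is primitive as soon as `O_2`, `O_3` are central and the graph is connected -/
theorem primitive_of_connected (hD : Cfsg.IsThreeTranspositionClass D)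
    (hD2 : ∃ a ∈ D, ∃ b ∈ D, a ≠ b)
    (h2 : Cfsg.pCore 2 G ≤ Subgroup.center G) (h3 : Cfsg.pCore 3 G ≤ Subgroup.center G)
    (hconn : (Cfsg.commutingGraph D).Connected) : Cfsg.IsPrimitiveUnderConj D := by
  obtain ⟨L, hLn, hL, hF, _⟩ := component_structure hD hD2 h2 h3
  haveI := hLn
  exact primitive_of_index_le_two hD hD2 h2 h3 L hL hF (index_le_two_of_connected hD hL hconn)

theorem simple_commutator_of_primitive (hD : Cfsg.IsThreeTranspositionClass D)
    (hZ : Subgroup.center G = ⊥) (hw : ∃ a ∈ D, ∃ b ∈ D, a ≠ b ∧ Commute a b)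
    (hprim : Cfsg.IsPrimitiveUnderConj D) : IsSimpleGroup (commutator G) := by
  have hc := class_conj_mem hD
  have hD2 := hprim.2.1
  have h2 := pCore_two_le_center_of_primitive hD hprim
  have h3 := pCore_three_le_center_of_primitive hD hprim hw
  have hconn := connected_of_primitive hc hprim hw
  obtain ⟨L, hLn, hL, hF, _⟩ := component_structure hD hD2 h2 h3
  haveI := hLn
  have hidx := index_le_two_of_connected hD hL hconn
  obtain ⟨hperf, hLne, _⟩ := qs_subgroup hL
  have hcomm : commutator G = L := by
    apply le_antisymm (commutator_le_of_index_le_two hidx)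
    rw [commutator_def, ← hperf]
    exact Subgroup.commutator_mono le_top le_top
  -- the centre of L is trivial
  have hcenter : Subgroup.center ↥L = ⊥ := by
    rw [eq_bot_iff]
    intro z hz
    have h4 : (z : G) ∈ Subgroup.centralizer (L : Set G) := by
      rw [Subgroup.mem_centralizer_iff]
      intro y hy
      have := Subgroup.mem_center_iff.mp hz ⟨y, hy⟩
      exact congrArg Subtype.val this
    have h5 := centralizer_le_center_of_genFitting hD h2 h3 L hF h4
    rw [hZ, Subgroup.mem_bot] at h5
    rw [Subgroup.mem_bot]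
    exact Subtype.ext h5
  have hsimple : IsSimpleGroup ↥L := by
    haveI := hL.2
    haveI : Nontrivial ↥L := (Subgroup.nontrivial_iff_ne_bot L).mpr hLne
    have hbij : Function.Bijective (QuotientGroup.mk' (Subgroup.center ↥L)) := by
      refine ⟨?_, QuotientGroup.mk'_surjective _⟩
      rw [← MonoidHom.ker_eq_bot_iff, QuotientGroup.ker_mk', hcenter]
    let e : ↥L ≃* (↥L ⧸ Subgroup.center ↥L) := MulEquiv.ofBijective _ hbij
    exact IsSimpleGroup.isSimpleGroup_of_surjective e.symm.toMonoidHom e.symm.surjective
  rw [hcomm]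
  exact hsimple

theorem primitive_of_simple_commutator (hD : Cfsg.IsThreeTranspositionClass D)
    (hZ : Subgroup.center G = ⊥) (hw : ∃ a ∈ D, ∃ b ∈ D, a ≠ b ∧ Commute a b)
    (hs : IsSimpleGroup (commutator G)) : Cfsg.IsPrimitiveUnderConj D := by
  have hT := hD.1
  have hc := class_conj_mem hD
  obtain ⟨a, ha, b, hb, hab, hcomm⟩ := hw
  have hD2 : ∃ a ∈ D, ∃ b ∈ D, a ≠ b := ⟨a, ha, b, hb, hab⟩
  haveI hGn : (commutator G).Normal := inferInstance
  -- d * a ∈ G' for all members
  have hmul : ∀ x ∈ D, ∀ y ∈ D, x * y ∈ commutator G := by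
    intro x hx y hy
    obtain ⟨g, hg⟩ := class_exists_conj hD hx hy
    rw [← hg]
    have : x * (g * x * g⁻¹) = ⁅x, g⁆ := by
      rw [commutatorElement_def, tt_inv hT hx]; simp only [mul_assoc]
    rw [this, commutator_def]
    exact Subgroup.commutator_mem_commutator (Subgroup.mem_top _) (Subgroup.mem_top _)
  -- G' is not commutative
  have hnc : ¬ IsMulCommutative ↥(commutator G) := by
    intro hcm
    -- u = a b is an involution of G'
    have huG : a * b ∈ commutator G := hmul a ha b hb
    have hu1 : a * b ≠ 1 := by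
      intro h
      apply hab
      have : a * b = a * a := by rw [h, tt_mul_self hT ha]
      exact (mul_left_cancel this).symm
    have huu : (a * b) * (a * b) = 1 := by
      calc a * b * (a * b) = a * (b * a) * b := by simp only [mul_assoc]
        _ = a * (a * b) * b := by rw [hcomm.eq]
        _ = (a * a) * (b * b) := by simp only [mul_assoc]
        _ = 1 := by rw [tt_mul_self hT ha, tt_mul_self hT hb, one_mul]
    -- zpowers u is normal in the abelian group G', nontrivial, so everything
    set u : ↥(commutator G) := ⟨a * b, huG⟩ with hu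
    have hzn : (Subgroup.zpowers u).Normal := by
      constructor
      intro n hn g
      have : g * n * g⁻¹ = n := by
        have := hcm.is_comm.comm g n
        rw [this, mul_assoc, mul_inv_cancel, mul_one]
      rw [this]; exact hn
    rcases hs.eq_bot_or_eq_top_of_normal _ hzn with h | h
    · apply hu1
      have : u ∈ Subgroup.zpowers u := Subgroup.mem_zpowers u
      rw [h, Subgroup.mem_bot] at this
      exact congrArg Subtype.val this
    · -- every element of G' is 1 or u; so u is central in G
      have hcen : a * b ∈ Subgroup.center G := by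
        rw [Subgroup.mem_center_iff]
        intro g
        have hconj : g * (a * b) * g⁻¹ ∈ commutator G := hGn.conj_mem _ huG g
        have hmemz : (⟨g * (a * b) * g⁻¹, hconj⟩ : ↥(commutator G)) ∈ Subgroup.zpowers u := by
          rw [h]; trivial
        have huu' : u * u = 1 := Subtype.ext huu
        rcases zpowers_involution huu' hmemz with h1 | h1
        · exfalso
          have := congrArg Subtype.val h1
          simp only [Subgroup.coe_one] at this
          apply hu1
          have h6 : a * b = g⁻¹ * (g * (a * b) * g⁻¹) * g := by group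
          rw [h6, this]; group
        · have := congrArg Subtype.val h1
          simp only [hu] at this
          calc g * (a * b) = (g * (a * b) * g⁻¹) * g := by group
            _ = a * b * g := by rw [this]
      rw [hZ, Subgroup.mem_bot] at hcen
      exact hu1 hcen
  -- so G' is a component
  have hqs : Cfsg.IsQuasisimple ↥(commutator G) :=
    Cfsg.Agent.Lib.Helper67.isQuasisimple_of_simple hnc
  have hK : Cfsg.IsComponent (commutator G) := ⟨hGn.isSubnormal, hqs⟩
  have hE : Cfsg.layer G ≠ ⊥ := by
    rw [layer_eq_of_component hD hK]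
    exact component_ne_bot hK
  obtain ⟨_, htri⟩ := fitting_trichotomy hD hD2
  have h23 : Cfsg.pCore 2 G ≤ Subgroup.center G ∧ Cfsg.pCore 3 G ≤ Subgroup.center G := by
    rcases htri with h | h | h
    · exact absurd h.2.2 hE
    · exact absurd h.2.2 hE
    · exact ⟨h.1, h.2.1⟩
  have hF := genFitting_eq_of_component hD h23.1 h23.2 hK
  have hidx : (commutator G).index ≤ 2 :=
    index_le_two_of_mul_mem hD ha (fun y hy => hmul a ha y hy)
  exact primitive_of_index_le_two hD hD2 h23.1 h23.2 (commutator G) hqs hF hidx

theorem simple_derived_iff_primitive (hD : Cfsg.IsThreeTranspositionClass D)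
    (hZ : Subgroup.center G = ⊥) (hw : ∃ a ∈ D, ∃ b ∈ D, a ≠ b ∧ Commute a b) :
    (IsSimpleGroup (commutator G) ↔ Cfsg.IsPrimitiveUnderConj D) ∧
    (Cfsg.IsPrimitiveUnderConj D ↔
      (Cfsg.pCore 2 G = ⊥ ∧ Cfsg.pCore 3 G = ⊥ ∧ (Cfsg.commutingGraph D).Connected)) := by
  have hc := class_conj_mem hD
  obtain ⟨a, ha, b, hb, hab, hcomm⟩ := hw
  have hw' : ∃ a ∈ D, ∃ b ∈ D, a ≠ b ∧ Commute a b := ⟨a, ha, b, hb, hab, hcomm⟩
  have hD2 : ∃ a ∈ D, ∃ b ∈ D, a ≠ b := ⟨a, ha, b, hb, hab⟩
  refine ⟨⟨primitive_of_simple_commutator hD hZ hw', simple_commutator_of_primitive hD hZ hw'⟩,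
    ⟨fun hprim => ?_, fun h => ?_⟩⟩
  · refine ⟨?_, ?_, connected_of_primitive hc hprim hw'⟩
    · have := pCore_two_le_center_of_primitive hD hprim
      rw [hZ] at this
      exact eq_bot_iff.mpr this
    · have := pCore_three_le_center_of_primitive hD hprim hw'
      rw [hZ] at this
      exact eq_bot_iff.mpr this
  · obtain ⟨h2, h3, hconn⟩ := h
    exact primitive_of_connected hD hD2 (by rw [h2]; exact bot_le) (by rw [h3]; exact bot_le) hconn

end SD

end Cfsg.Agent.Lib.Helper91
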