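import Mathlib
import Cfsg.Agent.Lib.Helper91.ThreeTranspQuot
import Cfsg.Agent.Lib.Helper91.FrattiniLift

set_option autoImplicit false

/-!
# An invariant Sylow `3`-subgroup

`N` a normal `2`-subgroup of `G` such that the quotient is `⟨d⟩ Q` with `Q` a normal `3`-subgroup,
`D` a normal set of `3`-transpositions on whose blocks `N` acts transitively. Then some `3`-subgroup
normalised by `d` covers `Q`.
-/

namespace Cfsg.Agent.Lib.Helper91

section Odd
variable {H : Type*} [Group H]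

/-- in `⟨t⟩ Q` with `t² = 1` and `Q` normal, the squares lie in `Q` -/
theorem sq_mem_of_sup_eq_top {Q : Subgroup H} [Q.Normal] {t : H} (htt : t * t = 1)
    (htop : Subgroup.zpowers t ⊔ Q = ⊤) (z : H) : z ^ 2 ∈ Q := by
  set ρ := QuotientGroup.mk' Q with hρ
  have h3 : Subgroup.zpowers (ρ t) = ⊤ := by
    have h4 := congrArg (Subgroup.map ρ) htop
    rw [Subgroup.map_sup, MonoidHom.map_zpowers, QuotientGroup.map_mk'_self, sup_bot_eq,
      ← MonoidHom.range_eq_map, MonoidHom.range_eq_top.mpr (QuotientGroup.mk'_surjective Q)]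
      at h4
    exact h4
  have h5 : ρ z ∈ Subgroup.zpowers (ρ t) := by rw [h3]; trivial
  obtain ⟨i, hi⟩ := Subgroup.mem_zpowers_iff.mp h5
  have h6 : ρ (z ^ 2) = 1 := by
    rw [map_pow, ← hi, ← zpow_natCast, ← zpow_mul, mul_comm, zpow_mul, zpow_natCast,
      ← map_pow, pow_two, htt, map_one, one_zpow]
  rw [← QuotientGroup.ker_mk' Q, MonoidHom.mem_ker]
  exact h6

/-- in `⟨t⟩ Q` with `t² = 1` and `Q` normal, the `3`-elements lie in `Q` -/
theorem mem_of_three_pow {Q : Subgroup H} [Q.Normal] {t : H} (htt : t * t = 1)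
    (htop : Subgroup.zpowers t ⊔ Q = ⊤) {z : H} {k : ℕ} (hk : z ^ (3 ^ k) = 1) : z ∈ Q := by
  have ho : Odd (3 ^ k) := Odd.pow (by decide)
  obtain ⟨j, hj⟩ := ho
  have h3 : z = (z ^ 2) ^ (j + 1) := by
    rw [← pow_mul]
    have : 2 * (j + 1) = 3 ^ k + 1 := by omega
    rw [this, pow_succ, hk, one_mul]
  rw [h3]
  exact Subgroup.pow_mem _ (sq_mem_of_sup_eq_top htt htop z) _

end Odd

section Main
variable {G : Type*} [Group G] [Finite G] {D : Set G}

omit [Finite G] in
theorem isPGroup_three_zpowers {u : G} {k : ℕ} (hu : u ^ (3 ^ k) = 1) :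
    IsPGroup 3 (Subgroup.zpowers u) := by
  rintro ⟨x, hx⟩
  obtain ⟨i, rfl⟩ := Subgroup.mem_zpowers_iff.mp hx
  refine ⟨k, ?_⟩
  apply Subtype.ext
  show (u ^ i) ^ (3 ^ k) = 1
  rw [← zpow_natCast, ← zpow_mul, mul_comm, zpow_mul, zpow_natCast, hu, one_zpow]

theorem exists_invariant_three_subgroup {N : Subgroup G} [hNn : N.Normal] (hN : IsPGroup 2 N)
    (hT : Cfsg.IsThreeTranspositionSet D) (hc : ∀ g : G, ∀ d ∈ D, g * d * g⁻¹ ∈ D)
    (h1 : ∀ a ∈ D, ∀ b ∈ D, a * b ∈ N → Commute a b)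
    (h2 : ∀ a ∈ D, ∀ d ∈ D, ∀ e ∈ D, Commute d e → ¬ Commute a d →
      a * ((d * e) * a * (d * e)⁻¹) ∈ N ∧
      (a * ((d * e) * a * (d * e)⁻¹)) * d * (a * ((d * e) * a * (d * e)⁻¹))⁻¹ = e)
    {d : G} (hd : d ∈ D) (hex : ∃ a ∈ D, ¬ Commute a d)
    (Q : Subgroup (G ⧸ N)) [hQn : Q.Normal] (hQ : IsPGroup 3 Q)
    (htop : Subgroup.zpowers (QuotientGroup.mk' N d) ⊔ Q = ⊤) :
    ∃ P : Subgroup G, IsPGroup 3 P ∧ d ∈ Subgroup.normalizer (P : Set G) ∧
      P.map (QuotientGroup.mk' N) = Q := by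
  classical
  have hp3 : Fact (Nat.Prime 3) := ⟨Nat.prime_three⟩
  set π : G →* G ⧸ N := QuotientGroup.mk' N with hπ
  have hπsurj : Function.Surjective π := QuotientGroup.mk'_surjective N
  have hker : π.ker = N := QuotientGroup.ker_mk' N
  have hdd : d * d = 1 := tt_mul_self hT hd
  have hdinv : d⁻¹ = d := tt_inv hT hd
  set t : G ⧸ N := π d with ht
  have htt : t * t = 1 := by rw [ht, ← map_mul, hdd, map_one]
  have htinv : t⁻¹ = t := by rw [eq_comm, ← mul_eq_one_iff_eq_inv]; exact htt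
  -- the family
  let fam : Set (Subgroup G) := {P | IsPGroup 3 P ∧ d ∈ Subgroup.normalizer (P : Set G) ∧
    ¬ P ≤ Subgroup.centralizer {d}}
  have hfam_ne : fam.Nonempty := by
    obtain ⟨a, ha, hnad⟩ := hex
    have haa : a * a = 1 := tt_mul_self hT ha
    have hainv : a⁻¹ = a := tt_inv hT ha
    have hu3 : (d * a) ^ 3 = 1 := by
      rcases hT.2 d hd a ha with h | h
      · exact absurd (commute_of_sq hdd haa h).symm hnad
      · exact h
    refine ⟨Subgroup.zpowers (d * a), isPGroup_three_zpowers (k := 1) (by simpa using hu3), ?_, ?_⟩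
    · apply mem_normalizer_of_conj_mem
      intro x hx
      obtain ⟨i, rfl⟩ := Subgroup.mem_zpowers_iff.mp hx
      have h3 : d * (d * a) ^ i * d⁻¹ = ((d * a)⁻¹) ^ i := by
        rw [← conj_zpow]
        congr 1
        rw [mul_inv_rev, hainv, hdinv]
        calc d * (d * a) * d = (d * d) * a * d := by simp only [mul_assoc]
          _ = a * d := by rw [hdd, one_mul]
      rw [h3]
      exact Subgroup.zpow_mem _ (Subgroup.inv_mem _ (Subgroup.mem_zpowers _)) i
    · intro hle
      have h3 := hle (Subgroup.mem_zpowers (d * a))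
      rw [Subgroup.mem_centralizer_iff] at h3
      have h4 := h3 d rfl
      -- d * (d * a) = d * a * d
      apply hnad
      have h5 : a = d * a * d := by
        rw [← h4, ← mul_assoc, hdd, one_mul]
      show a * d = d * a
      calc a * d = (d * a * d) * d := by rw [← h5]
        _ = d * a * (d * d) := by simp only [mul_assoc]
        _ = d * a := by rw [hdd, mul_one]
  have hfin : fam.Finite := Set.toFinite fam
  obtain ⟨Pm, hPm_mem, hPm_max⟩ := Set.exists_max_image fam (fun P => Nat.card P) hfin hfam_ne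
  obtain ⟨hPm3, hdPm, hPmc⟩ := hPm_mem
  refine ⟨Pm, hPm3, hdPm, ?_⟩
  -- conjugation by d preserves Pm
  have hdconj : ∀ x ∈ Pm, d * x * d⁻¹ ∈ Pm := fun x hx =>
    (Subgroup.mem_normalizer_iff.mp hdPm x).mp hx
  -- extension lemma
  have hEXT : ∀ u : G, u ∈ Subgroup.normalizer (Pm : Set G) → (∃ k : ℕ, u ^ (3 ^ k) = 1) →
      d * u * d⁻¹ ∈ Subgroup.zpowers u → u ∈ Pm := by
    intro u hu ⟨k, hk⟩ hdu
    have hz3 : IsPGroup 3 (Subgroup.zpowers u) := isPGroup_three_zpowers hk
    have hzle : Subgroup.zpowers u ≤ Subgroup.normalizer (Pm : Set G) := by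
      rw [Subgroup.zpowers_le]; exact hu
    have hP'3 : IsPGroup 3 (Pm ⊔ Subgroup.zpowers u : Subgroup G) :=
      IsPGroup.to_sup_of_normal_left' hPm3 hz3 hzle
    have hdP' : d ∈ Subgroup.normalizer ((Pm ⊔ Subgroup.zpowers u : Subgroup G) : Set G) := by
      apply mem_normalizer_of_conj_mem
      have hle : Pm ⊔ Subgroup.zpowers u ≤
          (Pm ⊔ Subgroup.zpowers u).comap (MulAut.conj d).toMonoidHom := by
        apply sup_le
        · intro x hx
          rw [Subgroup.mem_comap]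
          exact (le_sup_left : Pm ≤ Pm ⊔ Subgroup.zpowers u) (by
            simpa [MulAut.conj_apply] using hdconj x hx)
        · rw [Subgroup.zpowers_le, Subgroup.mem_comap]
          exact (le_sup_right : Subgroup.zpowers u ≤ Pm ⊔ Subgroup.zpowers u) (by
            simpa [MulAut.conj_apply] using hdu)
      intro x hx
      have := hle hx
      rw [Subgroup.mem_comap] at this
      simpa [MulAut.conj_apply] using this
    have hP'c : ¬ (Pm ⊔ Subgroup.zpowers u) ≤ Subgroup.centralizer {d} :=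
      fun h => hPmc (le_trans le_sup_left h)
    have hcard := hPm_max (Pm ⊔ Subgroup.zpowers u) ⟨hP'3, hdP', hP'c⟩
    have heq : Pm = Pm ⊔ Subgroup.zpowers u :=
      Subgroup.eq_of_le_of_card_ge le_sup_left hcard
    rw [heq]
    exact (le_sup_right : Subgroup.zpowers u ≤ Pm ⊔ Subgroup.zpowers u) (Subgroup.mem_zpowers u)
  have hodd : ∀ z : G ⧸ N, (∃ k : ℕ, z ^ (3 ^ k) = 1) → z ∈ Q := by
    intro z ⟨k, hk⟩
    exact mem_of_three_pow htt htop hk
  have hPmQ : Pm.map π ≤ Q := by
    rintro _ ⟨x, hx, rfl⟩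
    apply hodd
    obtain ⟨k, hk⟩ := hPm3 ⟨x, hx⟩
    refine ⟨k, ?_⟩
    have : x ^ (3 ^ k) = 1 := by
      have := congrArg Subtype.val hk
      simpa using this
    rw [← map_pow, this, map_one]
  have hmap3 : IsPGroup 3 (Pm.map π) := hPm3.map π
  -- the key lemma
  have hL5 : ∀ y : G ⧸ N, y ∈ Q → y ∈ Subgroup.normalizer ((Pm.map π : Subgroup (G ⧸ N)) : Set (G ⧸ N)) →
      y ∉ Pm.map π → (t * y * t⁻¹ * y⁻¹ ∈ Pm.map π ∧ ¬ Commute t y) := by
    intro y hyQ hynorm hynot
    obtain ⟨g₀, rfl⟩ := hπsurj y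
    have hg₀ : ∀ x ∈ Pm, g₀ * x * g₀⁻¹ ∈ Pm ⊔ N := by
      intro x hx
      have h3 : π (g₀ * x * g₀⁻¹) ∈ Pm.map π := by
        rw [map_mul, map_mul, map_inv]
        exact (Subgroup.mem_normalizer_iff.mp hynorm (π x)).mp ⟨x, hx, rfl⟩
      have h4 : g₀ * x * g₀⁻¹ ∈ (Pm.map π).comap π := h3
      rw [Subgroup.comap_map_eq, hker] at h4
      exact h4
    obtain ⟨m, hmN, hmg⟩ := frattini_lift hN hPm3 hg₀
    set g := m * g₀ with hg
    have hπm : π m = 1 := by rw [← MonoidHom.mem_ker, hker]; exact hmN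
    have hπg : π g = π g₀ := by rw [hg, map_mul, hπm, one_mul]
    set e := g * d * g⁻¹ with he
    have heD : e ∈ D := hc g d hd
    have henorm : e ∈ Subgroup.normalizer (Pm : Set G) :=
      Subgroup.mul_mem _ (Subgroup.mul_mem _ hmg hdPm) (Subgroup.inv_mem _ hmg)
    have hee : e * e = 1 := tt_mul_self hT heD
    have heinv : e⁻¹ = e := tt_inv hT heD
    have hπe : π e = π g₀ * t * (π g₀)⁻¹ := by
      rw [he, map_mul, map_mul, map_inv, hπg]
    -- Case B is impossible
    have hnde : ¬ Commute d e := by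
      intro hde
      obtain ⟨x, hxP, hxc⟩ := SetLike.not_le_iff_exists.mp hPmc
      have hxd : ¬ Commute x d := by
        intro h
        apply hxc
        rw [Subgroup.mem_centralizer_iff]
        intro z hz
        rw [Set.mem_singleton_iff] at hz
        rw [hz]; exact h.eq.symm
      set a := x * d * x⁻¹ with ha
      have haD : a ∈ D := hc x d hd
      have hxnorm : x ∈ Subgroup.normalizer (Pm : Set G) := Subgroup.le_normalizer hxP
      have hanorm : a ∈ Subgroup.normalizer (Pm : Set G) :=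
        Subgroup.mul_mem _ (Subgroup.mul_mem _ hxnorm hdPm) (Subgroup.inv_mem _ hxnorm)
      have haa : a * a = 1 := tt_mul_self hT haD
      have hda : d * a ∈ Pm := by
        have h3 : d * a = (d * x * d⁻¹) * x⁻¹ := by
          rw [ha, hdinv]; simp only [mul_assoc]
        rw [h3]
        exact Subgroup.mul_mem _ (hdconj x hxP) (Subgroup.inv_mem _ hxP)
      have hnad : ¬ Commute a d := by
        intro had
        have h3 : (d * a) ^ (2 ^ 1) = 1 := by
          rw [pow_one, pow_two]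
          calc d * a * (d * a) = d * (a * d) * a := by simp only [mul_assoc]
            _ = d * (d * a) * a := by rw [had.eq]
            _ = (d * d) * (a * a) := by simp only [mul_assoc]
            _ = 1 := by rw [hdd, haa, one_mul]
        obtain ⟨k, hk⟩ := hPm3 ⟨d * a, hda⟩
        have hk' : (d * a) ^ (3 ^ k) = 1 := by
          have := congrArg Subtype.val hk
          simpa using this
        have h4 : d * a = 1 := eq_one_of_two_three h3 hk'
        have h5 : a = d := by
          have : d * a = d * d := by rw [h4, hdd]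
          exact mul_left_cancel this
        apply hxd
        show x * d = d * x
        have h6 : x * d * x⁻¹ = d := by rw [← ha]; exact h5
        calc x * d = (x * d * x⁻¹) * x := by group
          _ = d * x := by rw [h6]
      obtain ⟨hm'N, hm'conj⟩ := h2 a haD d hd e heD hde hnad
      set m' := a * ((d * e) * a * (d * e)⁻¹) with hm'
      have hm'norm : m' ∈ Subgroup.normalizer (Pm : Set G) := by
        have hde_norm : d * e ∈ Subgroup.normalizer (Pm : Set G) := Subgroup.mul_mem _ hdPm henorm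
        exact Subgroup.mul_mem _ hanorm (Subgroup.mul_mem _ (Subgroup.mul_mem _ hde_norm hanorm)
          (Subgroup.inv_mem _ hde_norm))
      set c₀ := m'⁻¹ * g with hc₀
      have hc₀d : c₀ * d * c₀⁻¹ = d := by
        have h3 : c₀ * d * c₀⁻¹ = m'⁻¹ * (g * d * g⁻¹) * m' := by rw [hc₀]; group
        rw [h3, ← he, ← hm'conj]; group
      have hc₀comm : Commute c₀ d := by
        show c₀ * d = d * c₀
        calc c₀ * d = (c₀ * d * c₀⁻¹) * c₀ := by group
          _ = d * c₀ := by rw [hc₀d]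
      have hc₀norm : c₀ ∈ Subgroup.normalizer (Pm : Set G) :=
        Subgroup.mul_mem _ (Subgroup.inv_mem _ hm'norm) hmg
      have hπm' : π m' = 1 := by rw [← MonoidHom.mem_ker, hker]; exact hm'N
      have hπc₀ : π c₀ = π g₀ := by rw [hc₀, map_mul, map_inv, hπm', inv_one, one_mul, hπg]
      have hn0 : orderOf c₀ ≠ 0 := (orderOf_pos c₀).ne'
      obtain ⟨i, n', hn'3, hn⟩ := Nat.exists_eq_pow_mul_and_not_dvd hn0 3 (by norm_num)
      set c := c₀ ^ n' with hc
      have hc3 : c ^ (3 ^ i) = 1 := by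
        rw [hc, ← pow_mul, mul_comm, ← hn, pow_orderOf_eq_one]
      have hcnorm : c ∈ Subgroup.normalizer (Pm : Set G) := Subgroup.pow_mem _ hc₀norm _
      have hccomm : Commute c d := hc₀comm.pow_left n'
      have hdc : d * c * d⁻¹ ∈ Subgroup.zpowers c := by
        have : d * c * d⁻¹ = c := by rw [← hccomm.eq, mul_assoc, mul_inv_cancel, mul_one]
        rw [this]; exact Subgroup.mem_zpowers c
      have hcP := hEXT c hcnorm ⟨i, hc3⟩ hdc
      have hπc : (π g₀) ^ n' ∈ Pm.map π := by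
        rw [← hπc₀, ← map_pow]; exact ⟨c, hcP, rfl⟩
      -- π g₀ has 3-power order
      obtain ⟨k, hk⟩ := hQ ⟨π g₀, hyQ⟩
      have hk' : (π g₀) ^ (3 ^ k) = 1 := by
        have := congrArg Subtype.val hk
        simpa using this
      have hord : orderOf (π g₀) ∣ 3 ^ k := orderOf_dvd_of_pow_eq_one hk'
      obtain ⟨j, _, hj⟩ := (Nat.dvd_prime_pow Nat.prime_three).mp hord
      have hcop : Nat.Coprime n' (orderOf (π g₀)) := by
        rw [hj]
        apply Nat.Coprime.pow_right
        rw [Nat.coprime_comm]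
        exact (Nat.Prime.coprime_iff_not_dvd Nat.prime_three).mpr hn'3
      obtain ⟨s, hs⟩ := exists_pow_eq_self_of_coprime hcop
      apply hynot
      rw [← hs]
      exact Subgroup.pow_mem _ hπc s
    -- so d e has order 3
    have hu3 : (d * e) ^ 3 = 1 := by
      rcases hT.2 d hd e heD with h | h
      · exact absurd (commute_of_sq hdd hee h) hnde
      · exact h
    have hunorm : d * e ∈ Subgroup.normalizer (Pm : Set G) := Subgroup.mul_mem _ hdPm henorm
    have hdu : d * (d * e) * d⁻¹ ∈ Subgroup.zpowers (d * e) := by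
      have : d * (d * e) * d⁻¹ = (d * e)⁻¹ := by
        rw [mul_inv_rev, heinv, hdinv]
        calc d * (d * e) * d = (d * d) * e * d := by simp only [mul_assoc]
          _ = e * d := by rw [hdd, one_mul]
      rw [this]
      exact Subgroup.inv_mem _ (Subgroup.mem_zpowers _)
    have huP := hEXT (d * e) hunorm ⟨1, by simpa using hu3⟩ hdu
    constructor
    · have : t * π g₀ * t⁻¹ * (π g₀)⁻¹ = π (d * e) := by
        rw [map_mul, hπe, htinv, ← ht]; simp only [mul_assoc]
      rw [this]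
      exact ⟨d * e, huP, rfl⟩
    · intro hcomm
      apply hnde
      apply h1 d hd e heD
      rw [← hker, MonoidHom.mem_ker, map_mul, hπe]
      have : π g₀ * t * (π g₀)⁻¹ = t := by
        rw [← hcomm.eq, mul_assoc, mul_inv_cancel, mul_one]
      rw [this]; exact htt
  -- final contradiction
  by_contra hne
  have hlt : Pm.map π < Q := lt_of_le_of_ne hPmQ hne
  -- normaliser condition in Q
  have hQnil : Group.IsNilpotent ↥Q := hQ.isNilpotent
  have hnc : NormalizerCondition ↥Q := Group.normalizerCondition_of_isNilpotent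
  have hHlt : (Pm.map π).subgroupOf Q < ⊤ := by
    rw [lt_top_iff_ne_top]
    intro h
    rw [Subgroup.subgroupOf_eq_top] at h
    exact absurd (le_antisymm hPmQ h) hne
  have h3 := hnc _ hHlt
  obtain ⟨y, hynorm, hynot⟩ := (SetLike.lt_iff_le_and_exists.mp h3).2
  have hy1 : (y : G ⧸ N) ∈ Q := y.2
  have hy2 : (y : G ⧸ N) ∈ Subgroup.normalizer ((Pm.map π : Subgroup (G ⧸ N)) : Set (G ⧸ N)) := by
    apply mem_normalizer_of_conj_mem
    intro z hz
    have hzQ : z ∈ Q := hPmQ hz
    have h4 : (⟨z, hzQ⟩ : ↥Q) ∈ (Pm.map π).subgroupOf Q := by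
      rw [Subgroup.mem_subgroupOf]; exact hz
    have h5 := (Subgroup.mem_normalizer_iff.mp hynorm ⟨z, hzQ⟩).mp h4
    rw [Subgroup.mem_subgroupOf] at h5
    simpa using h5
  have hy3 : (y : G ⧸ N) ∉ Pm.map π := by
    intro h; apply hynot; rw [Subgroup.mem_subgroupOf]; exact h
  obtain ⟨hw', _⟩ := hL5 y hy1 hy2 hy3
  set x : G ⧸ N := (y : G ⧸ N) with hx
  set w := x⁻¹ * (t * x * t⁻¹) with hw
  have hxinvnorm : x⁻¹ ∈ Subgroup.normalizer ((Pm.map π : Subgroup (G ⧸ N)) : Set (G ⧸ N)) :=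
    Subgroup.inv_mem _ hy2
  have hwP : w ∈ Pm.map π := by
    have h4 := (Subgroup.mem_normalizer_iff.mp hxinvnorm _).mp hw'
    have h5 : x⁻¹ * (t * x * t⁻¹ * x⁻¹) * x⁻¹⁻¹ = w := by rw [hw]; group
    rw [h5] at h4
    exact h4
  have htw : t * w * t⁻¹ = w⁻¹ := by
    rw [hw, htinv, mul_inv_rev, mul_inv_rev, mul_inv_rev, htinv, inv_inv]
    calc t * (x⁻¹ * (t * x * t)) * t = t * x⁻¹ * t * x * (t * t) := by simp only [mul_assoc]
      _ = t * x⁻¹ * t * x := by rw [htt, mul_one]
      _ = t * (x⁻¹ * t) * x := by simp only [mul_assoc]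
  -- order of w is odd
  obtain ⟨k, hk⟩ := hmap3 ⟨w, hwP⟩
  have hk' : w ^ (3 ^ k) = 1 := by
    have := congrArg Subtype.val hk
    simpa using this
  have hord : orderOf w ∣ 3 ^ k := orderOf_dvd_of_pow_eq_one hk'
  obtain ⟨j, _, hj⟩ := (Nat.dvd_prime_pow Nat.prime_three).mp hord
  have hoddn : Odd (orderOf w) := by rw [hj]; exact Odd.pow (by decide)
  obtain ⟨r, hr⟩ := hoddn
  set v := w ^ (r + 1) with hv
  have hvv : v * v = w := by
    rw [hv, ← pow_add]
    have : r + 1 + (r + 1) = orderOf w + 1 := by omega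
    rw [this, pow_succ, pow_orderOf_eq_one, one_mul]
  have hvP : v ∈ Pm.map π := Subgroup.pow_mem _ hwP _
  have htv : t * v * t⁻¹ = v⁻¹ := by
    rw [hv, ← conj_pow, htw, inv_pow]
  set y₀ := x * v with hy₀
  have hty₀ : t * y₀ * t⁻¹ = y₀ := by
    have h4 : t * x * t⁻¹ = x * w := by rw [hw]; group
    have h5 : t * y₀ * t⁻¹ = (t * x * t⁻¹) * (t * v * t⁻¹) := by rw [hy₀]; group
    rw [h5, h4, htv, ← hvv, hy₀]; group
  have hcomm : Commute t y₀ := by
    show t * y₀ = y₀ * t
    calc t * y₀ = (t * y₀ * t⁻¹) * t := by group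
      _ = y₀ * t := by rw [hty₀]
  have hy₀Q : y₀ ∈ Q := Subgroup.mul_mem _ hy1 (hPmQ hvP)
  have hy₀norm : y₀ ∈ Subgroup.normalizer ((Pm.map π : Subgroup (G ⧸ N)) : Set (G ⧸ N)) :=
    Subgroup.mul_mem _ hy2 (Subgroup.le_normalizer hvP)
  have hy₀not : y₀ ∉ Pm.map π := by
    intro h
    apply hy3
    have : x = y₀ * v⁻¹ := by rw [hy₀]; group
    rw [this]
    exact Subgroup.mul_mem _ h (Subgroup.inv_mem _ hvP)
  exact (hL5 y₀ hy₀Q hy₀norm hy₀not).2 hcomm

end Main

end Cfsg.Agent.Lib.Helper91
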