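import Mathlib
import Cfsg.Agent.Lib.Helper91.ThreeTranspSylow
import Cfsg.Agent.Lib.Helper54.Basic

set_option autoImplicit false

/-!
# S5356 modulo the width-one theorem
-/

namespace Cfsg.Agent.Lib.Helper91

universe u

/-- the width-one theorem, as a hypothesis -/
def WidthOneHyp : Prop :=
  ∀ (H : Type u) [Group H] [Finite H] (E : Set H), Cfsg.IsThreeTranspositionClass E →
    (∀ a ∈ E, ∀ b ∈ E, Commute a b → a = b) →
    ∀ e ∈ E, Subgroup.zpowers e ⊔ Cfsg.pCore 3 H = ⊤

theorem perp_class_sylow_of_widthOne (hW : WidthOneHyp.{u}) {G : Type u} [Group G] [Finite G]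
    {D : Set G} (hD : Cfsg.IsThreeTranspositionClass D) (hD2 : ∃ a ∈ D, ∃ b ∈ D, a ≠ b) {d : G}
    (hd : d ∈ D)
    (hV : {y : G | y ∈ D ∧ Commute d y} = {v : G | v ∈ D ∧ ∀ e ∈ D, Commute v e ↔ Commute d e}) :
    ∃ P : Sylow 3 G, d ∈ Subgroup.normalizer (P : Set G) ∧
      Subgroup.zpowers d ⊔ (P : Subgroup G) ⊔ Cfsg.pCore 2 G = ⊤ := by
  have hp3 : Fact (Nat.Prime 3) := ⟨Nat.prime_three⟩
  have hT := hD.1
  have hc := class_conj_mem hD
  have htr := class_commute_trans hD hd hV
  haveI hNn : (commKernel D).Normal := commKernel_normal hc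
  have hN2 : IsPGroup 2 (commKernel D) := commKernel_isPGroup hT htr hc
  have hcl := quot_isClass hD hD2 htr
  have hw1 := quot_width_one (D := D) hT
  have htop := hW (G ⧸ commKernel D) _ hcl hw1 (QuotientGroup.mk' (commKernel D) d) ⟨d, hd, rfl⟩
  haveI hQn : (Cfsg.pCore 3 (G ⧸ commKernel D)).Normal := Helper54.pCore_normal 3 _
  have hQ3 : IsPGroup 3 (Cfsg.pCore 3 (G ⧸ commKernel D)) := Helper54.pCore_isPGroup 3 _
  have hdd : d * d = 1 := tt_mul_self hT hd
  -- some member does not commute with d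
  have hex : ∃ a ∈ D, ¬ Commute a d := by
    by_contra hcon
    push Not at hcon
    have hle : Subgroup.closure D ≤ Subgroup.centralizer {d} := by
      rw [Subgroup.closure_le]
      intro y hy
      rw [SetLike.mem_coe, Subgroup.mem_centralizer_iff]
      intro z hz
      rw [Set.mem_singleton_iff] at hz
      rw [hz]
      exact (hcon y hy).eq.symm
    have hall : ∀ y ∈ D, y = d := by
      intro y hy
      obtain ⟨g, hg⟩ := class_exists_conj hD hd hy
      have hg' : g ∈ Subgroup.closure D := by rw [hD.2.2]; trivial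
      have := hle hg'
      rw [Subgroup.mem_centralizer_iff] at this
      have h3 := this d rfl
      rw [← hg, ← h3, mul_assoc, mul_inv_cancel, mul_one]
    obtain ⟨a, ha, b, hb, hab⟩ := hD2
    exact hab ((hall a ha).trans (hall b hb).symm)
  have h1 : ∀ a ∈ D, ∀ b ∈ D, a * b ∈ commKernel D → Commute a b :=
    fun a ha b hb hab => commute_of_div_mem hT hN2 ha hb hab
  have h2 : ∀ a ∈ D, ∀ d ∈ D, ∀ e ∈ D, Commute d e → ¬ Commute a d →
      a * ((d * e) * a * (d * e)⁻¹) ∈ commKernel D ∧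
      (a * ((d * e) * a * (d * e)⁻¹)) * d * (a * ((d * e) * a * (d * e)⁻¹))⁻¹ = e :=
    fun a ha d hd e he hde had => exists_conj_of_commute hT htr ha hd he hde had hc
  obtain ⟨P0, hP03, hdP0, hmap⟩ := exists_invariant_three_subgroup hN2 hT hc h1 h2 hd hex
    (Cfsg.pCore 3 (G ⧸ commKernel D)) hQ3 htop
  obtain ⟨P, hP⟩ := hP03.exists_le_sylow
  set π := QuotientGroup.mk' (commKernel D) with hπ
  have hker : π.ker = commKernel D := QuotientGroup.ker_mk' _
  have htt : π d * π d = 1 := by rw [← map_mul, hdd, map_one]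
  have hPeq : (P : Subgroup G) = P0 := by
    refine le_antisymm ?_ hP
    intro x hx
    obtain ⟨k, hk⟩ := P.isPGroup' ⟨x, hx⟩
    have hk' : x ^ (3 ^ k) = 1 := by
      have := congrArg Subtype.val hk
      simpa using this
    have hπx : π x ∈ Cfsg.pCore 3 (G ⧸ commKernel D) := by
      apply mem_of_three_pow htt htop (k := k)
      rw [← map_pow, hk', map_one]
    rw [← hmap] at hπx
    obtain ⟨p, hp, hpx⟩ := hπx
    have h3 : p⁻¹ * x ∈ commKernel D := by
      rw [← hker, MonoidHom.mem_ker, map_mul, map_inv, hpx, inv_mul_cancel]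
    have h4 : p⁻¹ * x ∈ (P : Subgroup G) := Subgroup.mul_mem _ (Subgroup.inv_mem _ (hP hp)) hx
    have h5 : p⁻¹ * x = 1 := eq_one_of_mem_two_of_mem_three hN2 P.isPGroup' h3 h4
    have h6 : x = p := by
      have := congrArg (fun z => p * z) h5
      simpa using this
    rw [h6]; exact hp
  refine ⟨P, ?_, ?_⟩
  · show d ∈ Subgroup.normalizer ((P : Subgroup G) : Set G)
    rw [hPeq]; exact hdP0
  · rw [hPeq]
    have h3 : (Subgroup.zpowers d ⊔ P0) ⊔ commKernel D = ⊤ := by
      have h4 : (Subgroup.zpowers d ⊔ P0).map π = ⊤ := by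
        rw [Subgroup.map_sup, MonoidHom.map_zpowers, hmap]
        exact htop
      have h5 := Subgroup.comap_map_eq π (Subgroup.zpowers d ⊔ P0)
      rw [h4, Subgroup.comap_top, hker] at h5
      exact h5.symm
    have h6 : commKernel D ≤ Cfsg.pCore 2 G := Helper54.le_pCore hNn hN2
    rw [eq_top_iff, ← h3]
    exact sup_le_sup_left h6 _

end Cfsg.Agent.Lib.Helper91
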