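import Mathlib
import Cfsg.Agent.S0215
import Cfsg.Agent.Lib.Helper74.WidthOne
import Cfsg.Agent.Lib.Helper91.PerpClassSylow

set_option autoImplicit false

/-!
# The width-one theorem (helper74, from Z*) in the shape `WidthOneHyp`
-/

namespace Cfsg.Agent.Lib.Helper91

universe u

theorem widthOneHyp : WidthOneHyp.{u} := by
  intro H _ _ E hE hw e he
  have hT := hE.1
  have hZ : Cfsg.Agent.Lib.Helper74.WOZStar H :=
    fun P u hu huP hiso => Cfsg.Agent.S0215.result P u hu huP hiso
  have hWO : Cfsg.Agent.Lib.Helper74.WOSet E :=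
    { ord := hT.1
      conj := class_conj_mem hE
      cube := by
        intro a ha b hb hab
        rcases hT.2 a ha b hb with h | h
        · exact absurd (hw a ha b hb (commute_of_sq (tt_mul_self hT ha) (tt_mul_self hT hb) h)) hab
        · exact h }
  exact Cfsg.Agent.Lib.Helper74.width_one_sup hZ hWO hE.2.2 he

end Cfsg.Agent.Lib.Helper91
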