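import Cfsg.Agent.Lib.Helper09.SuzukiLie
import Cfsg.Agent.Lib.Helper09.SuzukiBorel
import Cfsg.Agent.Lib.Helper38.SQ.Defs

/-!
# K-SQ-Sz (keystone 462514, architect helper38): squares in a Sylow 2-subgroup of `Sz(q)` are products
of commutators

Everything is on main in helper09's Suzuki files: the Sylow 2-subgroup `Uz = range tauHom` of the ovoid
realisation, the abstract group `SuzU` with `centre = commutator subgroup`, and the isomorphism `lieEquiv`
with the matrix realisation `Cfsg.Lie.Sz`.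
-/

set_option autoImplicit false

namespace Cfsg.Agent.Lib.Helper91.SQ

open Cfsg Cfsg.Agent.Lib.Helper38.SQ Cfsg.Agent.Lib.Helper09

theorem sylSq_sz_ovoid (F : Type) [Field F] [Fintype F] (m : ℕ) (hm : 1 ≤ m)
    (hF : Fintype.card F = 2 ^ (2 * m + 1)) : SylSq ↥(Cfsg.Sz F m) := by
  have : Fact (Nat.Prime 2) := ⟨Nat.prime_two⟩
  refine ⟨Uz hF, ?_, ?_, ?_⟩
  · rw [← coe_Usyl hm hF]
    exact (Usyl hm hF).isPGroup'
  · rw [← coe_Usyl hm hF]
    exact (Usyl hm hF).not_dvd_index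
  · rintro _ ⟨y, rfl⟩
    have hy : y ^ 2 ∈ commutator (SuzU hF) := by
      rw [← SuzU.center_eq_commutator hF hm, SuzU.mem_center_iff hF hm, pow_two, SuzU.sq_eq]
      rfl
    have hmap : (commutator (SuzU hF)).map (tauHom hF) = ⁅Uz hF, Uz hF⁆ := by
      rw [commutator_def, Subgroup.map_commutator, ← MonoidHom.range_eq_map]
      rfl
    rw [← map_pow, ← hmap]
    exact Subgroup.mem_map_of_mem _ hy

/-- **K-SQ-Sz** -/
theorem sylSq_sz (F : Type) [Field F] [Fintype F] (m : ℕ) (hm : 1 ≤ m)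
    (hF : Fintype.card F = 2 ^ (2 * m + 1)) :
    SylSq (Cfsg.Lie.Sz F (2 ^ (m + 1))) :=
  SylSq.of_mulEquiv (lieEquiv hm hF) (sylSq_sz_ovoid F m hm hF)

end Cfsg.Agent.Lib.Helper91.SQ
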