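/-
K-SpF-A0 (keystone 597505) of the S5975 pack (architect helper38):
from a `K`-symplectic frame, `|Sp_{2d}(q) : N(K) ∩ Sp| · |Sp_{2m}(q^k)|` divides `|Sp_{2d}(q)|`,
by embedding `Sp_{2m}(K)` into `C_Sp(K)`.
-/
import Mathlib
import Cfsg.Prelude.Def_GeometricClasses
import Cfsg.Prelude.Def_ClassicalGeometry
import Cfsg.Agent.Lib.Helper38.SpF.Defs
import Cfsg.Agent.Lib.Helper49.SpInvDefs
import Cfsg.Agent.Lib.Helper81.SpO2
import Cfsg.Agent.Lib.Helper18.Symp

set_option autoImplicit false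

namespace Cfsg.Agent.Lib.Helper91.SpF

open Cfsg Cfsg.Geo Cfsg.Agent.Lib.Helper38.SpF
open Cfsg.Agent.Lib.Helper49.SpInv (spOrd)
open scoped Matrix MatrixGroups

section General

variable {F : Type*} [Field F] {L : Type*} [Field L] [Algebra F L] {d m : ℕ}

/-- the coordinate map `L^{2m} → F^{2d}` attached to `u, w` -/
def PhiFun (ρ : L →ₐ[F] Matrix (Fin d ⊕ Fin d) (Fin d ⊕ Fin d) F)
    (u w : Fin m → (Fin d ⊕ Fin d → F)) (x : Fin m ⊕ Fin m → L) : Fin d ⊕ Fin d → F :=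
  ∑ j, ρ (x (Sum.inl j)) *ᵥ u j + ∑ j, ρ (x (Sum.inr j)) *ᵥ w j

/-- the coordinate map is `F`-linear -/
def PhiLin (ρ : L →ₐ[F] Matrix (Fin d ⊕ Fin d) (Fin d ⊕ Fin d) F)
    (u w : Fin m → (Fin d ⊕ Fin d → F)) : (Fin m ⊕ Fin m → L) →ₗ[F] (Fin d ⊕ Fin d → F) where
  toFun := PhiFun ρ u w
  map_add' x y := by
    unfold PhiFun
    simp only [Pi.add_apply, map_add, Matrix.add_mulVec, Finset.sum_add_distrib]
    abel
  map_smul' c x := by
    unfold PhiFun
    simp only [Pi.smul_apply, map_smul, Matrix.smul_mulVec, RingHom.id_apply, smul_add,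
      Finset.smul_sum]

theorem PhiLin_apply (ρ : L →ₐ[F] Matrix (Fin d ⊕ Fin d) (Fin d ⊕ Fin d) F)
    (u w : Fin m → (Fin d ⊕ Fin d → F)) (x : Fin m ⊕ Fin m → L) :
    PhiLin ρ u w x = PhiFun ρ u w x := rfl

/-- the coordinate map is `L`-semilinear -/
theorem PhiFun_smul (ρ : L →ₐ[F] Matrix (Fin d ⊕ Fin d) (Fin d ⊕ Fin d) F)
    (u w : Fin m → (Fin d ⊕ Fin d → F)) (c : L) (x : Fin m ⊕ Fin m → L) :
    PhiFun ρ u w (c • x) = ρ c *ᵥ PhiFun ρ u w x := by
  unfold PhiFun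
  rw [Matrix.mulVec_add, Matrix.mulVec_sum, Matrix.mulVec_sum]
  simp only [Pi.smul_apply, smul_eq_mul, map_mul, Matrix.mulVec_mulVec]

variable (ρ : L →ₐ[F] Matrix (Fin d ⊕ Fin d) (Fin d ⊕ Fin d) F)
  (u w : Fin m → (Fin d ⊕ Fin d → F)) (hbij : Function.Bijective (PhiFun ρ u w))

/-- the coordinate isomorphism -/
noncomputable def PhiEquiv : (Fin m ⊕ Fin m → L) ≃ₗ[F] (Fin d ⊕ Fin d → F) :=
  LinearEquiv.ofBijective (PhiLin ρ u w) hbij

theorem PhiEquiv_apply (x : Fin m ⊕ Fin m → L) : PhiEquiv ρ u w hbij x = PhiFun ρ u w x := rfl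

/-- the `F`-linear map on `F^{2d}` induced by a matrix over `L` -/
noncomputable def TT (M : Matrix (Fin m ⊕ Fin m) (Fin m ⊕ Fin m) L) :
    (Fin d ⊕ Fin d → F) →ₗ[F] (Fin d ⊕ Fin d → F) :=
  (PhiEquiv ρ u w hbij).toLinearMap ∘ₗ ((Matrix.toLin' M).restrictScalars F) ∘ₗ
    (PhiEquiv ρ u w hbij).symm.toLinearMap

theorem TT_apply (M : Matrix (Fin m ⊕ Fin m) (Fin m ⊕ Fin m) L) (x : Fin m ⊕ Fin m → L) :
    TT ρ u w hbij M (PhiFun ρ u w x) = PhiFun ρ u w (M *ᵥ x) := by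
  unfold TT
  rw [← PhiEquiv_apply ρ u w hbij x, LinearMap.comp_apply, LinearMap.comp_apply,
    LinearEquiv.coe_coe, LinearEquiv.coe_coe, LinearEquiv.symm_apply_apply,
    LinearMap.restrictScalars_apply, Matrix.toLin'_apply, PhiEquiv_apply]

theorem TT_one : TT ρ u w hbij 1 = LinearMap.id := by
  apply LinearMap.ext
  intro v
  obtain ⟨x, rfl⟩ := hbij.2 v
  rw [TT_apply, Matrix.one_mulVec, LinearMap.id_apply]

theorem TT_mul (M N : Matrix (Fin m ⊕ Fin m) (Fin m ⊕ Fin m) L) :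
    TT ρ u w hbij (M * N) = TT ρ u w hbij M ∘ₗ TT ρ u w hbij N := by
  apply LinearMap.ext
  intro v
  obtain ⟨x, rfl⟩ := hbij.2 v
  rw [LinearMap.comp_apply, TT_apply, TT_apply, TT_apply, Matrix.mulVec_mulVec]

/-- the ring embedding `M_{2m}(L) → M_{2d}(F)` as a monoid homomorphism -/
noncomputable def psi :
    Matrix (Fin m ⊕ Fin m) (Fin m ⊕ Fin m) L →* Matrix (Fin d ⊕ Fin d) (Fin d ⊕ Fin d) F where
  toFun M := LinearMap.toMatrix' (TT ρ u w hbij M)
  map_one' := by rw [TT_one, LinearMap.toMatrix'_id]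
  map_mul' M N := by rw [TT_mul, LinearMap.toMatrix'_comp]

theorem psi_mulVec (M : Matrix (Fin m ⊕ Fin m) (Fin m ⊕ Fin m) L) (x : Fin m ⊕ Fin m → L) :
    psi ρ u w hbij M *ᵥ PhiFun ρ u w x = PhiFun ρ u w (M *ᵥ x) := by
  change LinearMap.toMatrix' (TT ρ u w hbij M) *ᵥ PhiFun ρ u w x = _
  rw [LinearMap.toMatrix'_mulVec, TT_apply]

theorem psi_injective : Function.Injective (psi ρ u w hbij) := by
  intro M N h
  apply Matrix.toLin'.injective
  apply LinearMap.ext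
  intro x
  rw [Matrix.toLin'_apply, Matrix.toLin'_apply]
  apply hbij.1
  rw [← psi_mulVec ρ u w hbij, ← psi_mulVec ρ u w hbij, h]

/-- the image commutes with `ρ L` -/
theorem psi_comm (M : Matrix (Fin m ⊕ Fin m) (Fin m ⊕ Fin m) L) (c : L) :
    psi ρ u w hbij M * ρ c = ρ c * psi ρ u w hbij M := by
  apply Matrix.toLin'.injective
  apply LinearMap.ext
  intro v
  obtain ⟨x, rfl⟩ := hbij.2 v
  rw [Matrix.toLin'_apply, Matrix.toLin'_apply, ← Matrix.mulVec_mulVec, ← Matrix.mulVec_mulVec,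
    ← PhiFun_smul, psi_mulVec, psi_mulVec, ← PhiFun_smul]
  congr 1
  exact Matrix.mulVec_smul M c x

/-- the embedding `GL_{2m}(L) → GL_{2d}(F)` -/
noncomputable def Psi : GL (Fin m ⊕ Fin m) L →* GL (Fin d ⊕ Fin d) F :=
  Units.map (psi ρ u w hbij)

theorem Psi_val (g : GL (Fin m ⊕ Fin m) L) :
    ((Psi ρ u w hbij g : GL (Fin d ⊕ Fin d) F) : Matrix (Fin d ⊕ Fin d) (Fin d ⊕ Fin d) F) =
      psi ρ u w hbij (g : Matrix (Fin m ⊕ Fin m) (Fin m ⊕ Fin m) L) := rfl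

theorem Psi_injective : Function.Injective (Psi ρ u w hbij) :=
  Units.map_injective (psi_injective ρ u w hbij)

end General

section Norm

variable {F : Type*} [Field F] {ι : Type} [Fintype ι] [DecidableEq ι]

/-- an invertible matrix commuting with `K` normalises `K` -/
theorem mem_normalizer_of_commute (K : Subalgebra F (Matrix ι ι F)) (g : GL ι F)
    (hg : ∀ k ∈ K, (g : Matrix ι ι F) * k = k * (g : Matrix ι ι F)) :
    g ∈ subalgebraNormalizer K := by
  have e1 : ((g⁻¹ : GL ι F) : Matrix ι ι F) * (g : Matrix ι ι F) = 1 := by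
    rw [← Units.val_mul, inv_mul_cancel, Units.val_one]
  have e0 : (g : Matrix ι ι F) * ((g⁻¹ : GL ι F) : Matrix ι ι F) = 1 := by
    rw [← Units.val_mul, mul_inv_cancel, Units.val_one]
  have hcomm : ∀ k ∈ K, (g : Matrix ι ι F) * k * ((g⁻¹ : GL ι F) : Matrix ι ι F) = k := by
    intro k hk
    rw [hg k hk, mul_assoc, e0, mul_one]
  intro k
  constructor
  · intro hk
    rw [hcomm k hk]
    exact hk
  · intro hk
    have h1 := hcomm _ hk
    have h2 : k = (g : Matrix ι ι F) * k * ((g⁻¹ : GL ι F) : Matrix ι ι F) := by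
      have h3 : ((g⁻¹ : GL ι F) : Matrix ι ι F) * ((g : Matrix ι ι F) *
          ((g : Matrix ι ι F) * k * ((g⁻¹ : GL ι F) : Matrix ι ι F)) *
          ((g⁻¹ : GL ι F) : Matrix ι ι F)) * (g : Matrix ι ι F) =
          ((g⁻¹ : GL ι F) : Matrix ι ι F) *
          ((g : Matrix ι ι F) * k * ((g⁻¹ : GL ι F) : Matrix ι ι F)) * (g : Matrix ι ι F) := by
        rw [h1]
      have e2 : ∀ X : Matrix ι ι F, ((g⁻¹ : GL ι F) : Matrix ι ι F) *
          ((g : Matrix ι ι F) * X * ((g⁻¹ : GL ι F) : Matrix ι ι F)) * (g : Matrix ι ι F) = X := by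
        intro X
        rw [mul_assoc, mul_assoc, e1, mul_one, ← mul_assoc, e1, one_mul]
      rw [e2, e2] at h3
      exact h3.symm
    rw [h2]
    exact hk

end Norm

section Main

variable {F : Type*} [Field F] {L : Type*} [Field L] [Algebra F L] {d m : ℕ}
  (ρ : L →ₐ[F] Matrix (Fin d ⊕ Fin d) (Fin d ⊕ Fin d) F)
  (u w : Fin m → (Fin d ⊕ Fin d → F)) (hbij : Function.Bijective (PhiFun ρ u w))

theorem PhiFun_form (lam : L → F)
    (hform : ∀ a b a' b' : Fin m → L,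
      sympForm d F (PhiFun ρ u w (Sum.elim a b)) (PhiFun ρ u w (Sum.elim a' b')) =
        lam (∑ j, (a j * b' j - b j * a' j)))
    (x y : Fin m ⊕ Fin m → L) :
    sympForm d F (PhiFun ρ u w x) (PhiFun ρ u w y) = lam (- sympForm m L x y) := by
  have hx : x = Sum.elim (x ∘ Sum.inl) (x ∘ Sum.inr) := (Sum.elim_comp_inl_inr x).symm
  have hy : y = Sum.elim (y ∘ Sum.inl) (y ∘ Sum.inr) := (Sum.elim_comp_inl_inr y).symm
  rw [hx, hy, hform, ← hx, ← hy, Cfsg.Agent.Lib.Helper18.sympForm_eq, ← Finset.sum_neg_distrib]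
  congr 1
  apply Finset.sum_congr rfl
  intro j _
  simp only [Function.comp_apply]
  ring

include hbij in
theorem Psi_mem (K : Subalgebra F (Matrix (Fin d ⊕ Fin d) (Fin d ⊕ Fin d) F))
    (hKρ : ∀ k ∈ K, ∃ c : L, ρ c = k) (lam : L → F)
    (hform : ∀ a b a' b' : Fin m → L,
      sympForm d F (PhiFun ρ u w (Sum.elim a b)) (PhiFun ρ u w (Sum.elim a' b')) =
        lam (∑ j, (a j * b' j - b j * a' j)))
    (g : GL (Fin m ⊕ Fin m) L) (hg : g ∈ spGL m L) :
    Psi ρ u w hbij g ∈ subalgebraNormalizer K ⊓ spGL d F := by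
  refine ⟨mem_normalizer_of_commute K _ ?_, ?_⟩
  · intro k hk
    obtain ⟨c, rfl⟩ := hKρ k hk
    rw [Psi_val]
    exact psi_comm ρ u w hbij _ c
  · intro v v'
    obtain ⟨x, rfl⟩ := hbij.2 v
    obtain ⟨y, rfl⟩ := hbij.2 v'
    change sympForm d F (((Psi ρ u w hbij g : GL (Fin d ⊕ Fin d) F) :
        Matrix (Fin d ⊕ Fin d) (Fin d ⊕ Fin d) F) *ᵥ PhiFun ρ u w x)
      (((Psi ρ u w hbij g : GL (Fin d ⊕ Fin d) F) :
        Matrix (Fin d ⊕ Fin d) (Fin d ⊕ Fin d) F) *ᵥ PhiFun ρ u w y) = _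
    rw [Psi_val, psi_mulVec, psi_mulVec, PhiFun_form ρ u w lam hform, PhiFun_form ρ u w lam hform]
    congr 2
    exact hg x y

include hbij in
/-- Lagrange: `|Sp_{2m}(L)|` divides `|N(K) ∩ Sp_{2d}(F)|` -/
theorem card_dvd_general (K : Subalgebra F (Matrix (Fin d ⊕ Fin d) (Fin d ⊕ Fin d) F))
    (hKρ : ∀ k ∈ K, ∃ c : L, ρ c = k) (lam : L → F)
    (hform : ∀ a b a' b' : Fin m → L,
      sympForm d F (PhiFun ρ u w (Sum.elim a b)) (PhiFun ρ u w (Sum.elim a' b')) =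
        lam (∑ j, (a j * b' j - b j * a' j))) :
    Nat.card (spGL m L) ∣ Nat.card ↥(subalgebraNormalizer K ⊓ spGL d F) := by
  let φ : spGL m L →* ↥(subalgebraNormalizer K ⊓ spGL d F) :=
    ((Psi ρ u w hbij).comp (spGL m L).subtype).codRestrict _
      (fun g => Psi_mem ρ u w hbij K hKρ lam hform g.1 g.2)
  have hφ : Function.Injective φ := by
    intro a b hab
    apply Subtype.ext
    apply Psi_injective ρ u w hbij
    exact congrArg Subtype.val hab
  exact Subgroup.card_dvd_of_injective φ hφ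

end Main

section Final

variable {F : Type*} [Field F]

/-- **K-SpF-A0 (597505)**: `|Sp : N(K) ∩ Sp| · |Sp_{2m}(q^k)|` divides `|Sp_{2d}(q)|`. -/
theorem relIndex_mul_dvd [Fintype F] {q : ℕ} (hq : Fintype.card F = q) (d k m : ℕ)
    (K : Subalgebra F (Matrix (Fin d ⊕ Fin d) (Fin d ⊕ Fin d) F)) (hK : IsFieldSubalgebra k K)
    (lam : ↥K →ₗ[F] F) (u w : Fin m → (Fin d ⊕ Fin d → F)) (hdm : d = k * m)
    (hfr : IsFrame d m K lam u w) :
    (subalgebraNormalizer K).relIndex (spGL d F) * spOrd (q ^ k) m ∣ spOrd q d := by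
  classical
  have _ := hdm
  -- `K` is nontrivial as `lam ≠ 0`
  have hne : (0 : ↥K) ≠ 1 := by
    intro h01
    apply hfr.lam_ne
    apply LinearMap.ext
    intro x
    have hx : x = 0 := by
      calc x = x * 1 := (mul_one x).symm
        _ = x * 0 := by rw [h01]
        _ = 0 := mul_zero x
    rw [hx, map_zero, LinearMap.zero_apply]
  have hfield : IsField ↥K :=
    { exists_pair_ne := ⟨0, 1, hne⟩
      mul_comm := fun a b => Subtype.ext (hK.comm a.1 a.2 b.1 b.2)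
      mul_inv_cancel := by
        intro a ha
        obtain ⟨y, hy, hxy⟩ := hK.inv a.1 a.2 (fun h => ha (Subtype.ext h))
        exact ⟨⟨y, hy⟩, Subtype.ext hxy⟩ }
  letI : Field ↥K := hfield.toField
  haveI : Fintype ↥K := Fintype.ofFinite _
  have hcardK : Fintype.card ↥K = q ^ k := by
    rw [Module.card_eq_pow_finrank (K := F) (V := ↥K), hK.finrank_eq, hq]
  have hcard : Nat.card (spGL m ↥K) = spOrd (q ^ k) m :=
    Cfsg.Agent.Lib.Helper81.SpO.card_spGL hcardK m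
  have hPhi : ∀ x : Fin m ⊕ Fin m → ↥K,
      PhiFun K.val u w x = comb K u w (x ∘ Sum.inl) (x ∘ Sum.inr) := fun _ => rfl
  have hbij : Function.Bijective (PhiFun K.val u w) := by
    have h1 : PhiFun K.val u w = (fun ab : (Fin m → ↥K) × (Fin m → ↥K) => comb K u w ab.1 ab.2) ∘
        (Equiv.sumArrowEquivProdArrow (Fin m) (Fin m) ↥K) := by
      funext x
      rw [hPhi]
      rfl
    rw [h1]
    exact hfr.bij.comp (Equiv.bijective _)
  have hform : ∀ a b a' b' : Fin m → ↥K,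
      sympForm d F (PhiFun K.val u w (Sum.elim a b)) (PhiFun K.val u w (Sum.elim a' b')) =
        (fun x : ↥K => lam x) (∑ j, (a j * b' j - b j * a' j)) := by
    intro a b a' b'
    rw [hPhi, hPhi]
    exact hfr.form a b a' b'
  have hdvd : spOrd (q ^ k) m ∣ Nat.card ↥(subalgebraNormalizer K ⊓ spGL d F) := by
    rw [← hcard]
    exact card_dvd_general K.val u w hbij K (fun k hk => ⟨⟨k, hk⟩, rfl⟩) (fun x : ↥K => lam x) hform
  have hSp : Nat.card (spGL d F) = spOrd q d := Cfsg.Agent.Lib.Helper81.SpO.card_spGL hq d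
  have hmul := Subgroup.relIndex_inf_mul_relIndex (⊥ : Subgroup (GL (Fin d ⊕ Fin d) F))
    (subalgebraNormalizer K) (spGL d F)
  rw [bot_inf_eq, Subgroup.relIndex_bot_left, Subgroup.relIndex_bot_left] at hmul
  rw [← hSp, ← hmul, mul_comm]
  exact Nat.mul_dvd_mul_right hdvd _

end Final

end Cfsg.Agent.Lib.Helper91.SpF
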