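import Mathlib
import Cfsg.Agent.Lib.Helper49.RSU3Defs

set_option autoImplicit false
set_option linter.unusedSectionVars false
set_option linter.unusedVariables false

/-!
# K-RSU3-L14 (keystone 228314, S2283): `kappa_eq` (pure algebra)
-/

namespace Cfsg.Agent.Lib.Helper91.RSU3

open Matrix Cfsg.Agent.Lib.Helper49.StSU Cfsg.Agent.Lib.Helper49.RSU3

variable {F : Type*} [Field F] [Fintype F] {q : ℕ}

/-- L14 -/
theorem kappa_eq (s β : F) (hs : s + s ^ q = 0) (hβ : Val q 1 β) :
    (1 : F) * (s * β) ^ q - (1 : F) ^ q * (s * β) = s := by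
  unfold Val at hβ
  rw [one_pow, mul_one] at hβ
  have h1 : β ^ q = -1 - β := by linear_combination hβ
  have h2 : s ^ q = -s := by linear_combination hs
  rw [one_mul, one_pow, one_mul, mul_pow, h1, h2]
  ring

end Cfsg.Agent.Lib.Helper91.RSU3
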