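import Cfsg.Agent.Lib.Helper49.StSpDefs

/-!
# K-StSp leaf F2L (keystone 254505, architect helper49): dichotomy for a monomial matrix, long simple root
-/

set_option autoImplicit false
set_option linter.unusedSectionVars false
set_option linter.unusedVariables false

namespace Cfsg.Agent.Lib.Helper91.StSp

open Cfsg Cfsg.Agent.Lib.Helper49.StSp Matrix

variable {m : ℕ} {F : Type*} [Field F]

/-- the inverse of a monomial matrix is monomial for the inverse permutation -/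
theorem inv_entry_eq_zero (n : SpG m F) (σ : Equiv.Perm (Fin m ⊕ Fin m)) (hn : MonWith m F n σ)
    (a c : Fin m ⊕ Fin m) (h : c ≠ σ a) :
    ((n⁻¹ : SpG m F).1 : Matrix (Fin m ⊕ Fin m) (Fin m ⊕ Fin m) F) a c = 0 := by
  obtain ⟨b, rfl⟩ := σ.surjective c
  have hab : a ≠ b := fun e => h (by rw [e])
  have h1 : ((n⁻¹ * n : SpG m F).1 : Matrix (Fin m ⊕ Fin m) (Fin m ⊕ Fin m) F) a b
      = (1 : Matrix (Fin m ⊕ Fin m) (Fin m ⊕ Fin m) F) a b := by
    rw [inv_mul_cancel]; rfl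
  rw [Matrix.one_apply_ne hab] at h1
  have h2 : ((n⁻¹ * n : SpG m F).1 : Matrix (Fin m ⊕ Fin m) (Fin m ⊕ Fin m) F) a b
      = ∑ d, ((n⁻¹ : SpG m F).1 : Matrix (Fin m ⊕ Fin m) (Fin m ⊕ Fin m) F) a d *
          (n.1 : Matrix (Fin m ⊕ Fin m) (Fin m ⊕ Fin m) F) d b := rfl
  rw [h2, Finset.sum_eq_single (σ b)] at h1
  · have hne : (n.1 : Matrix (Fin m ⊕ Fin m) (Fin m ⊕ Fin m) F) (σ b) b ≠ 0 := (hn.1 _ _).2 rfl
    exact (mul_eq_zero.mp h1).resolve_right hne
  · intro d _ hd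
    have : (n.1 : Matrix (Fin m ⊕ Fin m) (Fin m ⊕ Fin m) F) d b = 0 := by
      by_contra h0
      exact hd ((hn.1 _ _).1 h0)
    rw [this, mul_zero]
  · intro h; exact absurd (Finset.mem_univ _) h

/-- entries of a conjugate by a monomial matrix -/
theorem conj_entry (n : SpG m F) (σ : Equiv.Perm (Fin m ⊕ Fin m)) (hn : MonWith m F n σ)
    (X : Matrix (Fin m ⊕ Fin m) (Fin m ⊕ Fin m) F) (a b : Fin m ⊕ Fin m) :
    (((n⁻¹ : SpG m F).1 : Matrix (Fin m ⊕ Fin m) (Fin m ⊕ Fin m) F) * X *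
        (n.1 : Matrix (Fin m ⊕ Fin m) (Fin m ⊕ Fin m) F)) a b =
      ((n⁻¹ : SpG m F).1 : Matrix (Fin m ⊕ Fin m) (Fin m ⊕ Fin m) F) a (σ a) * X (σ a) (σ b) *
        (n.1 : Matrix (Fin m ⊕ Fin m) (Fin m ⊕ Fin m) F) (σ b) b := by
  rw [Matrix.mul_apply, Finset.sum_eq_single (σ b)]
  · rw [Matrix.mul_apply, Finset.sum_eq_single (σ a)]
    · intro c _ hc
      rw [inv_entry_eq_zero n σ hn a c hc, zero_mul]
    · intro h; exact absurd (Finset.mem_univ _) h
  · intro d _ hd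
    have : (n.1 : Matrix (Fin m ⊕ Fin m) (Fin m ⊕ Fin m) F) d b = 0 := by
      by_contra h0
      exact hd ((hn.1 _ _).1 h0)
    rw [this, mul_zero]
  · intro h; exact absurd (Finset.mem_univ _) h

theorem xLongMat_apply_ne (k : Fin m) (t : F) {c d : Fin m ⊕ Fin m} (hcd : c ≠ d)
    (h : xLongMat m F k t c d ≠ 0) : c = Sum.inl k ∧ d = Sum.inr k := by
  unfold xLongMat at h
  rcases c with c | c <;> rcases d with d | d
  · exfalso; apply h
    rw [Matrix.fromBlocks_apply₁₁, Matrix.one_apply_ne (fun e => hcd (by rw [e]))]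
  · rw [Matrix.fromBlocks_apply₁₂] at h
    by_cases hcd' : c = d
    · subst hcd'
      rw [Matrix.diagonal_apply_eq] at h
      by_cases hck : c = k
      · subst hck; exact ⟨rfl, rfl⟩
      · exfalso; apply h; rw [Pi.single_apply, if_neg hck]
    · exfalso; apply h; rw [Matrix.diagonal_apply_ne _ hcd']
  · exfalso; apply h
    rw [Matrix.fromBlocks_apply₂₁]; rfl
  · exfalso; apply h
    rw [Matrix.fromBlocks_apply₂₂, Matrix.one_apply_ne (fun e => hcd (by rw [e]))]

theorem yLongMat_apply_ne (k : Fin m) (t : F) {c d : Fin m ⊕ Fin m} (hcd : c ≠ d)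
    (h : yLongMat m F k t c d ≠ 0) : c = Sum.inr k ∧ d = Sum.inl k := by
  unfold yLongMat at h
  rcases c with c | c <;> rcases d with d | d
  · exfalso; apply h
    rw [Matrix.fromBlocks_apply₁₁, Matrix.one_apply_ne (fun e => hcd (by rw [e]))]
  · exfalso; apply h
    rw [Matrix.fromBlocks_apply₁₂]; rfl
  · rw [Matrix.fromBlocks_apply₂₁] at h
    by_cases hcd' : c = d
    · subst hcd'
      rw [Matrix.diagonal_apply_eq] at h
      by_cases hck : c = k
      · subst hck; exact ⟨rfl, rfl⟩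
      · exfalso; apply h; rw [Pi.single_apply, if_neg hck]
    · exfalso; apply h; rw [Matrix.diagonal_apply_ne _ hcd']
  · exfalso; apply h
    rw [Matrix.fromBlocks_apply₂₂, Matrix.one_apply_ne (fun e => hcd (by rw [e]))]

theorem pos_inr_not_lt_inl (i : Fin m) : ¬ pos m (Sum.inr i) < pos m (Sum.inl i) := by
  simp only [pos]
  have := i.2
  omega

/-- **LEAF F2L** -/
theorem dich_long (hm : 0 < m) (n : SpG m F)
    (σ : Equiv.Perm (Fin m ⊕ Fin m)) (hn : MonWith m F n σ) :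
    (∀ t : F, n⁻¹ * xL m F (lastF hm) t * n ∈ Bsub m F) ∨
      (∀ t : F, n⁻¹ * yL m F (lastF hm) t * n ∈ Bsub m F) := by
  rcases h : σ.symm (Sum.inl (lastF hm)) with i | i
  · left
    intro t
    rw [mem_Bsub_iff]
    intro a b hab
    have hne : a ≠ b := by rintro rfl; exact lt_irrefl _ hab
    show (((n⁻¹ : SpG m F).1 : Matrix (Fin m ⊕ Fin m) (Fin m ⊕ Fin m) F) *
      xLongMat m F (lastF hm) t * (n.1 : Matrix (Fin m ⊕ Fin m) (Fin m ⊕ Fin m) F)) a b = 0
    rw [conj_entry n σ hn]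
    by_contra h0
    have hX : xLongMat m F (lastF hm) t (σ a) (σ b) ≠ 0 := by
      intro h1; apply h0; rw [h1, mul_zero, zero_mul]
    obtain ⟨h1, h2⟩ := xLongMat_apply_ne (lastF hm) t (σ.injective.ne hne) hX
    have ha : a = Sum.inl i := by rw [← h, ← h1, Equiv.symm_apply_apply]
    have hb : b = Sum.inr i := by
      have : σ b = σ (a.swap) := by rw [hn.2, h1, h2]; rfl
      rw [σ.injective this, ha]; rfl
    rw [ha, hb] at hab
    exact pos_inr_not_lt_inl i hab
  · right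
    intro t
    rw [mem_Bsub_iff]
    intro a b hab
    have hne : a ≠ b := by rintro rfl; exact lt_irrefl _ hab
    show (((n⁻¹ : SpG m F).1 : Matrix (Fin m ⊕ Fin m) (Fin m ⊕ Fin m) F) *
      yLongMat m F (lastF hm) t * (n.1 : Matrix (Fin m ⊕ Fin m) (Fin m ⊕ Fin m) F)) a b = 0
    rw [conj_entry n σ hn]
    by_contra h0
    have hX : yLongMat m F (lastF hm) t (σ a) (σ b) ≠ 0 := by
      intro h1; apply h0; rw [h1, mul_zero, zero_mul]
    obtain ⟨h1, h2⟩ := yLongMat_apply_ne (lastF hm) t (σ.injective.ne hne) hX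
    have hb : b = Sum.inr i := by rw [← h, ← h2, Equiv.symm_apply_apply]
    have ha : a = Sum.inl i := by
      have : σ a = σ (b.swap) := by rw [hn.2, h1, h2]; rfl
      rw [σ.injective this, hb]; rfl
    rw [ha, hb] at hab
    exact pos_inr_not_lt_inl i hab

end Cfsg.Agent.Lib.Helper91.StSp
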