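import Mathlib
import Cfsg.Agent.Lib.Helper53.StOmDefs

/-!
# K-StOm-R1 (254904, S2549): positive root elements are block upper triangular; value at `0`
(port of Lib/Helper97/StOR1.lean)
-/

set_option autoImplicit false
set_option linter.unusedSectionVars false
set_option linter.unusedVariables false

namespace Cfsg.Agent.Lib.Helper91.StOm

open Cfsg Cfsg.Agent.Lib.Helper53.StOm Matrix

variable {m : ℕ} {F : Type*} [Field F] {a b : F}

theorem ofMat_one : ofMat a b (1 : Matrix (MI m) (MI m) F) = 1 := by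
  apply mat_injective
  rw [mat_ofMat _ ⟨1, mat_one⟩, mat_one]

theorem ofMat_mem_B (M : Matrix (MI m) (MI m) F)
    (hM : ∀ x y, pos m y < pos m x → M x y = 0) : ofMat a b M ∈ Bsub m F a b := by
  by_cases h : ∃ g : OG m F a b, mat g = M
  · rw [mem_Bsub_iff, mat_ofMat M h]
    exact hM
  · unfold ofMat
    rw [dif_neg h]
    exact one_mem _

theorem xPerm_mem_B (i j : Fin m) (hij : i < j) (t : F) : xPerm m F a b i j t ∈ Bsub m F a b := by
  apply ofMat_mem_B
  intro x y hxy
  have hne : x ≠ y := fun h => by rw [h] at hxy; exact lt_irrefl _ hxy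
  have hij' := Fin.lt_def.1 hij
  have hi := i.2
  have hj := j.2
  have h1 : ¬ (eI i = x ∧ eI j = y) := by
    rintro ⟨rfl, rfl⟩
    simp only [pos] at hxy
    omega
  have h2 : ¬ (fI j = x ∧ fI i = y) := by
    rintro ⟨rfl, rfl⟩
    simp only [pos] at hxy
    omega
  unfold xPermMat
  rw [Matrix.sub_apply, Matrix.add_apply, Matrix.one_apply_ne hne, Matrix.single_apply,
    Matrix.single_apply, if_neg h1, if_neg h2, add_zero, sub_zero]

theorem xZ_mem_B (k : Fin m) (s t : F) : xZ m F a b k s t ∈ Bsub m F a b := by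
  apply ofMat_mem_B
  intro x y hxy
  have hne : x ≠ y := fun h => by rw [h] at hxy; exact lt_irrefl _ hxy
  have hk := k.2
  have h1 : ¬ (zI 0 = x ∧ fI k = y) := by
    rintro ⟨rfl, rfl⟩
    simp only [pos] at hxy
    omega
  have h1' : ¬ (zI 1 = x ∧ fI k = y) := by
    rintro ⟨rfl, rfl⟩
    simp only [pos] at hxy
    omega
  have h2 : ¬ (eI k = x ∧ zI 0 = y) := by
    rintro ⟨rfl, rfl⟩
    simp only [pos] at hxy
    omega
  have h2' : ¬ (eI k = x ∧ zI 1 = y) := by
    rintro ⟨rfl, rfl⟩
    simp only [pos] at hxy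
    omega
  have h3 : ¬ (eI k = x ∧ fI k = y) := by
    rintro ⟨rfl, rfl⟩
    simp only [pos] at hxy
    omega
  unfold xZMat
  rw [Matrix.sub_apply, Matrix.sub_apply, Matrix.sub_apply, Matrix.add_apply, Matrix.add_apply,
    Matrix.one_apply_ne hne,
    Matrix.single_apply, Matrix.single_apply, Matrix.single_apply, Matrix.single_apply,
    Matrix.single_apply, if_neg h1, if_neg h1', if_neg h2, if_neg h2',
    if_neg h3, add_zero, add_zero, sub_zero, sub_zero, sub_zero]

theorem xPerm_zero (i j : Fin m) (hij : i ≠ j) : xPerm m F a b i j 0 = 1 := by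
  unfold xPerm xPermMat
  rw [Matrix.single_zero, Matrix.single_zero, add_zero, sub_zero]
  exact ofMat_one

theorem xZ_zero (k : Fin m) : xZ m F a b k 0 0 = 1 := by
  have h0 : phi a b (0 : F) 0 = 0 := by unfold phi; ring
  have h1 : (2 * (0 : F) + a * 0) = 0 := by ring
  have h2 : (a * (0 : F) + 2 * b * 0) = 0 := by ring
  unfold xZ xZMat
  rw [h0, h1, h2, Matrix.single_zero, Matrix.single_zero,
    Matrix.single_zero, Matrix.single_zero, Matrix.single_zero, add_zero, add_zero, sub_zero,
    sub_zero, sub_zero]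
  exact ofMat_one

end Cfsg.Agent.Lib.Helper91.StOm
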