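import Mathlib
import Cfsg.Agent.Lib.Helper91.FriendshipCopy

set_option autoImplicit false

/-!
# K-S4016-F: the commuting graph on the involutions of a non-abelian simple group is not a
friendship graph
-/

namespace Cfsg.Agent.Lib.Helper91.CycSyl

universe u

open Cfsg.Agent.Lib.Helper91.Friendship100

/-- the commuting graph on involutions -/
def invGraph (G : Type u) [Group G] : SimpleGraph {t : G // orderOf t = 2} where
  Adj s t := s ≠ t ∧ Commute s.1 t.1
  symm := ⟨fun _ _ h => ⟨h.1.symm, h.2.symm⟩⟩
  loopless := ⟨fun _ h => h.1 rfl⟩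

theorem invGraph_adj {G : Type u} [Group G] (s t : {t : G // orderOf t = 2}) :
    (invGraph G).Adj s t ↔ s ≠ t ∧ Commute s.1 t.1 := Iff.rfl

theorem friendship_false {G : Type u} [Group G] [Finite G] [IsSimpleGroup G]
    (hnc : ¬ IsMulCommutative G) (hinv : ∃ t : G, orderOf t = 2)
    (hfr : ∀ s t : G, orderOf s = 2 → orderOf t = 2 → s ≠ t →
      ∃! z : G, orderOf z = 2 ∧ z ≠ s ∧ z ≠ t ∧ Commute z s ∧ Commute z t) : False := by
  classical
  haveI : Fintype {t : G // orderOf t = 2} := Fintype.ofFinite _
  obtain ⟨t0, ht0⟩ := hinv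
  have : Nonempty {t : G // orderOf t = 2} := ⟨⟨t0, ht0⟩⟩
  have hF : Friendship (invGraph G) := by
    intro v w hvw
    rw [Fintype.card_eq_one_iff]
    have hvw' : v.1 ≠ w.1 := fun h => hvw (Subtype.ext h)
    obtain ⟨z, ⟨hz2, hzv, hzw, hcv, hcw⟩, huniq⟩ := hfr v.1 w.1 v.2 w.2 hvw'
    have hzmem : (⟨z, hz2⟩ : {t : G // orderOf t = 2}) ∈ (invGraph G).commonNeighbors v w := by
      rw [SimpleGraph.mem_commonNeighbors, invGraph_adj, invGraph_adj]
      refine ⟨⟨?_, hcv.symm⟩, ⟨?_, hcw.symm⟩⟩
      · intro h; exact hzv (congrArg Subtype.val h).symm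
      · intro h; exact hzw (congrArg Subtype.val h).symm
    refine ⟨⟨⟨z, hz2⟩, hzmem⟩, ?_⟩
    rintro ⟨y, hy⟩
    rw [SimpleGraph.mem_commonNeighbors, invGraph_adj, invGraph_adj] at hy
    apply Subtype.ext
    apply Subtype.ext
    show y.1 = z
    apply huniq
    refine ⟨y.2, ?_, ?_, hy.1.2.symm, hy.2.2.symm⟩
    · intro h; exact hy.1.1 (Subtype.ext h.symm)
    · intro h; exact hy.2.1 (Subtype.ext h.symm)
  obtain ⟨⟨z, hz2⟩, hz⟩ := friendship_theorem hF
  -- z commutes with every involution
  have hzc : ∀ t : G, orderOf t = 2 → Commute z t := by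
    intro t ht
    by_cases h : z = t
    · rw [h]
    · have := hz ⟨t, ht⟩ (fun hh => h (congrArg Subtype.val hh))
      rw [invGraph_adj] at this
      exact this.2
  -- the involutions generate G
  set N : Subgroup G := Subgroup.closure {t : G | orderOf t = 2} with hN
  have hNn : N.Normal := by
    constructor
    intro n hn g
    induction hn using Subgroup.closure_induction with
    | mem t ht =>
      apply Subgroup.subset_closure
      show orderOf (g * t * g⁻¹) = 2
      have : g * t * g⁻¹ = MulAut.conj g t := by rw [MulAut.conj_apply]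
      rw [this, MulEquiv.orderOf_eq]
      exact ht
    | one => simp
    | mul a b _ _ ha hb =>
      have : g * (a * b) * g⁻¹ = (g * a * g⁻¹) * (g * b * g⁻¹) := by group
      rw [this]; exact Subgroup.mul_mem _ ha hb
    | inv a _ ha =>
      have : g * a⁻¹ * g⁻¹ = (g * a * g⁻¹)⁻¹ := by group
      rw [this]; exact Subgroup.inv_mem _ ha
  have ht0N : t0 ∈ N := Subgroup.subset_closure ht0
  have ht01 : t0 ≠ 1 := by
    intro h
    rw [h, orderOf_one] at ht0
    omega
  have hNtop : N = ⊤ := by
    rcases hNn.eq_bot_or_eq_top with h | h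
    · exfalso
      rw [h, Subgroup.mem_bot] at ht0N
      exact ht01 ht0N
    · exact h
  have hzcen : z ∈ Subgroup.center G := by
    rw [Subgroup.mem_center_iff]
    intro g
    have hg : g ∈ N := by rw [hNtop]; exact Subgroup.mem_top g
    have hle : N ≤ Subgroup.centralizer ({z} : Set G) := by
      rw [hN, Subgroup.closure_le]
      intro t ht
      rw [SetLike.mem_coe, Subgroup.mem_centralizer_iff]
      intro y hy
      rw [Set.mem_singleton_iff] at hy
      rw [hy]
      exact (hzc t ht).eq
    have := hle hg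
    rw [Subgroup.mem_centralizer_iff] at this
    exact (this z rfl).symm
  have hz1 : z ≠ 1 := by
    intro h
    rw [h, orderOf_one] at hz2
    omega
  have hcen : Subgroup.center G = ⊤ := by
    rcases (inferInstance : (Subgroup.center G).Normal).eq_bot_or_eq_top with h | h
    · exfalso
      rw [h, Subgroup.mem_bot] at hzcen
      exact hz1 hzcen
    · exact h
  apply hnc
  refine ⟨⟨fun a b => ?_⟩⟩
  have ha : a ∈ Subgroup.center G := by rw [hcen]; exact Subgroup.mem_top a
  rw [Subgroup.mem_center_iff] at ha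
  exact (ha b).symm

end Cfsg.Agent.Lib.Helper91.CycSyl
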