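import Mathlib
import Cfsg.Agent.Lib.Helper56.NSE3Defs

/-!
# K-NSE3 leaf 399602 (L02) `mixed_kill` (helper91)
-/

set_option autoImplicit false

namespace Cfsg.Agent.Lib.Helper91.NSE3

open Cfsg.Agent.S3995 (s)
open Cfsg.Agent.Lib.Helper56.NSE3 (Hyp)

variable {G : Type*} [Group G] [Finite G]

theorem mixed_aux
    (hpair : ∀ {p k : ℕ}, p.Prime → ¬ p ∣ k → p * k ∣ Nat.card G → p ∣ s G k + s G (p * k))
    {m n : ℕ} (hval : ∀ k, s G k = 0 ∨ s G k = 1 ∨ s G k = m ∨ s G k = n)
    {p t u : ℕ} (hp : p.Prime) (ht : t.Prime)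
    (hp2 : p ≠ 2) (ht2 : t ≠ 2) (hpt : p ≠ t) (hu : 2 ≤ u) (hup : ¬ p ∣ u) (hut : ¬ t ∣ u)
    (huG : u ∣ Nat.card G) (hpG : p ∣ Nat.card G) (htG : t ∣ Nat.card G)
    (hsp : s G p = m) (hst : s G t = n) (hsu : s G u = m) : False := by
  have hne1 : ∀ k, 2 < k → s G k ≠ 1 := by
    intro k hk h1
    have h0 : s G k ≠ 0 := by rw [h1]; norm_num
    obtain ⟨g, hg⟩ := (Cfsg.Agent.S3995.s_ne_zero_iff k).1 h0
    have := Cfsg.Agent.S3995.two_le_s hk g hg
    omega
  have hval' : ∀ k, 2 < k → s G k = 0 ∨ s G k = m ∨ s G k = n := by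
    intro k hk
    rcases hval k with h | h | h | h
    · exact Or.inl h
    · exact absurd h (hne1 k hk)
    · exact Or.inr (Or.inl h)
    · exact Or.inr (Or.inr h)
  have hp3 : 3 ≤ p := by
    have := hp.two_le
    omega
  have ht3 : 3 ≤ t := by
    have := ht.two_le
    omega
  have one_false : ∀ {r : ℕ}, r.Prime → r ∣ 1 → False := fun hr h => hr.not_dvd_one h
  have two_false : ∀ {r : ℕ}, r.Prime → r ≠ 2 → r ∣ 2 → False := fun hr hr2 h =>
    hr2 ((Nat.prime_dvd_prime_iff_eq hr Nat.prime_two).1 h)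
  have hcpu : Nat.Coprime p u := (Nat.Prime.coprime_iff_not_dvd hp).2 hup
  have hctu : Nat.Coprime t u := (Nat.Prime.coprime_iff_not_dvd ht).2 hut
  have hcpt : Nat.Coprime p t := (Nat.coprime_primes hp ht).2 hpt
  have hnpt : ¬ p ∣ t := fun h => hpt ((Nat.prime_dvd_prime_iff_eq hp ht).1 h)
  have hntp : ¬ t ∣ p := fun h => hpt ((Nat.prime_dvd_prime_iff_eq ht hp).1 h).symm
  have hpuG : p * u ∣ Nat.card G := Nat.Coprime.mul_dvd_of_dvd_of_dvd hcpu hpG huG
  have hptG : p * t ∣ Nat.card G := Nat.Coprime.mul_dvd_of_dvd_of_dvd hcpt hpG htG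
  have htpG : t * p ∣ Nat.card G := by rw [mul_comm]; exact hptG
  have hctpu : Nat.Coprime t (p * u) := Nat.Coprime.mul_right hcpt.symm hctu
  have htpuG : t * (p * u) ∣ Nat.card G := Nat.Coprime.mul_dvd_of_dvd_of_dvd hctpu htG hpuG
  have hntpu : ¬ t ∣ p * u := fun h => by
    rcases (Nat.Prime.dvd_mul ht).1 h with h | h
    · exact hntp h
    · exact hut h
  -- a, b
  have ha : p ∣ 1 + m := by
    have := hpair hp (k := 1) hp.not_dvd_one (by simpa using hpG)
    rwa [mul_one, Cfsg.Agent.S3995.s_one, hsp] at this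
  have hb : t ∣ 1 + n := by
    have := hpair ht (k := 1) ht.not_dvd_one (by simpa using htG)
    rwa [mul_one, Cfsg.Agent.S3995.s_one, hst] at this
  -- c
  have hc0 : p ∣ m + s G (p * u) := by
    have := hpair hp hup hpuG
    rwa [hsu] at this
  have hpu2 : 2 < p * u := by nlinarith
  have hspu : s G (p * u) = n := by
    rcases hval' (p * u) hpu2 with h | h | h
    · exfalso
      rw [h, add_zero] at hc0
      have h1 : p ∣ (1 + m) - m := Nat.dvd_sub ha hc0
      have e : (1 + m) - m = 1 := by omega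
      rw [e] at h1
      exact one_false hp h1
    · exfalso
      rw [h] at hc0
      have h1 : p ∣ 2 * (1 + m) - (m + m) := Nat.dvd_sub (dvd_mul_of_dvd_right ha 2) hc0
      have e : 2 * (1 + m) - (m + m) = 2 := by omega
      rw [e] at h1
      exact two_false hp hp2 h1
    · exact h
  have hmn : p ∣ m + n := by rwa [hspu] at hc0
  -- d
  have hd0 : p ∣ n + s G (p * t) := by
    have := hpair hp (k := t) hnpt hptG
    rwa [hst] at this
  have hpt2 : 2 < p * t := by nlinarith
  have hspt : s G (p * t) = m := by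
    rcases hval' (p * t) hpt2 with h | h | h
    · exfalso
      rw [h, add_zero] at hd0
      have h1 : p ∣ (m + n) - n := Nat.dvd_sub hmn hd0
      have e : (m + n) - n = m := by omega
      rw [e] at h1
      have h2 : p ∣ (1 + m) - m := Nat.dvd_sub ha h1
      have e2 : (1 + m) - m = 1 := by omega
      rw [e2] at h2
      exact one_false hp h2
    · exact h
    · exfalso
      rw [h] at hd0
      have h1 : p ∣ 2 * (m + n) - (n + n) := Nat.dvd_sub (dvd_mul_of_dvd_right hmn 2) hd0
      have e : 2 * (m + n) - (n + n) = m + m := by omega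
      rw [e] at h1
      have h2 : p ∣ 2 * (1 + m) - (m + m) := Nat.dvd_sub (dvd_mul_of_dvd_right ha 2) h1
      have e2 : 2 * (1 + m) - (m + m) = 2 := by omega
      rw [e2] at h2
      exact two_false hp hp2 h2
  -- e
  have htm : t ∣ m := by
    have h0 := hpair ht (k := p) hntp htpG
    rw [hsp, mul_comm t p, hspt] at h0
    have h1 : t ∣ 2 * m := by
      have e : 2 * m = m + m := by ring
      rw [e]; exact h0
    rcases (Nat.Prime.dvd_mul ht).1 h1 with h | h
    · exact absurd h (fun h => two_false ht ht2 h)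
    · exact h
  -- f
  have hf0 : t ∣ n + s G (t * (p * u)) := by
    have := hpair ht hntpu htpuG
    rwa [hspu] at this
  have htpu2 : 2 < t * (p * u) := by nlinarith
  rcases hval' (t * (p * u)) htpu2 with h | h | h
  · rw [h, add_zero] at hf0
    have h1 : t ∣ (1 + n) - n := Nat.dvd_sub hb hf0
    have e : (1 + n) - n = 1 := by omega
    rw [e] at h1
    exact one_false ht h1
  · rw [h] at hf0
    have h1 : t ∣ (n + m) - m := Nat.dvd_sub hf0 htm
    have e : (n + m) - m = n := by omega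
    rw [e] at h1
    have h2 : t ∣ (1 + n) - n := Nat.dvd_sub hb h1
    have e2 : (1 + n) - n = 1 := by omega
    rw [e2] at h2
    exact one_false ht h2
  · rw [h] at hf0
    have h1 : t ∣ 2 * (1 + n) - (n + n) := Nat.dvd_sub (dvd_mul_of_dvd_right hb 2) hf0
    have e : 2 * (1 + n) - (n + n) = 2 := by omega
    rw [e] at h1
    exact two_false ht ht2 h1

/-- L02 MIXED KILL (exact spec signature). -/
theorem mixed_kill
    (hpair : ∀ {p k : ℕ}, p.Prime → ¬ p ∣ k → p * k ∣ Nat.card G → p ∣ s G k + s G (p * k))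
    {μ ν : ℕ} (H : Hyp G μ ν) {p t u : ℕ} (hp : p.Prime) (ht : t.Prime)
    (hp2 : p ≠ 2) (ht2 : t ≠ 2) (hpt : p ≠ t) (hu : 2 ≤ u) (hup : ¬ p ∣ u) (hut : ¬ t ∣ u)
    (hsu0 : s G u ≠ 0) (hsu1 : s G u ≠ 1)
    (hpG : p ∣ Nat.card G) (htG : t ∣ Nat.card G) (hdiff : s G p ≠ s G t) : False := by
  obtain ⟨g, hg⟩ := (Cfsg.Agent.S3995.s_ne_zero_iff u).1 hsu0
  have huG : u ∣ Nat.card G := hg ▸ orderOf_dvd_natCard g
  have hge : ∀ {r : ℕ}, r.Prime → r ≠ 2 → r ∣ Nat.card G → 2 ≤ s G r := by
    intro r hr hr2 hrG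
    have : Fact r.Prime := ⟨hr⟩
    obtain ⟨x, hx⟩ := exists_prime_orderOf_dvd_card' (G := G) r hrG
    have : 2 < r := by
      have := hr.two_le
      omega
    exact Cfsg.Agent.S3995.two_le_s this x hx
  have hsp2 := hge hp hp2 hpG
  have hst2 := hge ht ht2 htG
  have hμν : (μ = s G p ∨ μ = s G t) ∧ (ν = s G p ∨ ν = s G t) := by
    rcases H p with h | h | h | h
    · omega
    · omega
    · rcases H t with h' | h' | h' | h'
      · omega
      · omega
      · exact absurd (h.trans h'.symm) hdiff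
      · exact ⟨Or.inl h.symm, Or.inr h'.symm⟩
    · rcases H t with h' | h' | h' | h'
      · omega
      · omega
      · exact ⟨Or.inr h'.symm, Or.inl h.symm⟩
      · exact absurd (h.trans h'.symm) hdiff
  have hval : ∀ k, s G k = 0 ∨ s G k = 1 ∨ s G k = s G p ∨ s G k = s G t := by
    intro k
    rcases H k with h | h | h | h
    · exact Or.inl h
    · exact Or.inr (Or.inl h)
    · rcases hμν.1 with e | e
      · exact Or.inr (Or.inr (Or.inl (h.trans e)))
      · exact Or.inr (Or.inr (Or.inr (h.trans e)))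
    · rcases hμν.2 with e | e
      · exact Or.inr (Or.inr (Or.inl (h.trans e)))
      · exact Or.inr (Or.inr (Or.inr (h.trans e)))
  rcases hval u with h | h | h | h
  · exact hsu0 h
  · exact hsu1 h
  · exact mixed_aux hpair hval hp ht hp2 ht2 hpt hu hup hut huG hpG htG rfl rfl h
  · have hval' : ∀ k, s G k = 0 ∨ s G k = 1 ∨ s G k = s G t ∨ s G k = s G p := by
      intro k
      rcases hval k with h | h | h | h
      · exact Or.inl h
      · exact Or.inr (Or.inl h)
      · exact Or.inr (Or.inr (Or.inr h))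
      · exact Or.inr (Or.inr (Or.inl h))
    exact mixed_aux hpair hval' ht hp ht2 hp2 hpt.symm hu hut hup huG htG hpG rfl rfl h

end Cfsg.Agent.Lib.Helper91.NSE3
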