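import Mathlib
import Cfsg.Prelude.Def_GeometricClasses
import Cfsg.Prelude.Def_ClassicalGeometry
import Cfsg.Agent.Lib.Helper72.OQFDefs

/-!
# K-OQF-T3 (keystone 597701, architect helper72)

`F[θ]` (`θ² = δ` a non-square, `θ` self-adjoint) is an O-type quadratic field subalgebra;
`g θ = ± θ g` implies `g ∈ N(K)`.
-/

set_option autoImplicit false
set_option linter.unusedVariables false

namespace Cfsg.Agent.Lib.Helper91.OQF

open Cfsg Cfsg.Geo Cfsg.Agent.Lib.Helper72.OQF
open scoped Matrix MatrixGroups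

variable {F : Type*} [Field F] {ι : Type} [Fintype ι] [DecidableEq ι]

/-- product formula in `F[θ]` -/
theorem theta_mul_formula (δ : F) (θ : Matrix ι ι F) (hθ : θ * θ = δ • (1 : Matrix ι ι F))
    (s t s' t' : F) :
    (s • (1 : Matrix ι ι F) + t • θ) * (s' • (1 : Matrix ι ι F) + t' • θ) =
      (s * s' + t * t' * δ) • (1 : Matrix ι ι F) + (s * t' + t * s') • θ := by
  simp only [add_mul, mul_add, smul_mul_assoc, mul_smul_comm, one_mul, mul_one, hθ, smul_smul]
  module

/-- the subalgebra `F[θ] = {s + tθ}` for `θ² = δ` -/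
def thetaAlg (δ : F) (θ : Matrix ι ι F) (hθ : θ * θ = δ • (1 : Matrix ι ι F)) :
    Subalgebra F (Matrix ι ι F) where
  carrier := {a | ∃ s t : F, a = s • (1 : Matrix ι ι F) + t • θ}
  mul_mem' := by
    rintro _ _ ⟨s, t, rfl⟩ ⟨s', t', rfl⟩
    exact ⟨_, _, theta_mul_formula δ θ hθ s t s' t'⟩
  add_mem' := by
    rintro _ _ ⟨s, t, rfl⟩ ⟨s', t', rfl⟩
    exact ⟨s + s', t + t', by module⟩
  algebraMap_mem' := by
    intro c
    exact ⟨c, 0, by rw [zero_smul, add_zero, Algebra.algebraMap_eq_smul_one]⟩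

theorem mem_thetaAlg (δ : F) (θ : Matrix ι ι F) (hθ : θ * θ = δ • (1 : Matrix ι ι F))
    (a : Matrix ι ι F) :
    a ∈ thetaAlg δ θ hθ ↔ ∃ s t : F, a = s • (1 : Matrix ι ι F) + t • θ := Iff.rfl

/-- `1, θ` are linearly independent when `δ` is not a square -/
theorem theta_indep [Nonempty ι] (δ : F) (hδ : ¬ IsSquare δ) (θ : Matrix ι ι F)
    (hθ : θ * θ = δ • (1 : Matrix ι ι F)) (s t : F)
    (h : s • (1 : Matrix ι ι F) + t • θ = 0) : s = 0 ∧ t = 0 := by
  obtain ⟨i⟩ := ‹Nonempty ι›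
  have hone : ∀ c : F, c • (1 : Matrix ι ι F) = 0 → c = 0 := by
    intro c hc
    have := congrFun (congrFun hc i) i
    simpa using this
  by_cases ht : t = 0
  · subst ht
    rw [zero_smul, add_zero] at h
    exact ⟨hone s h, rfl⟩
  · exfalso
    apply hδ
    have h1 : θ = (-(s / t)) • (1 : Matrix ι ι F) := by
      have h2 : t • θ = (-s) • (1 : Matrix ι ι F) := by
        rw [neg_smul]
        exact eq_neg_of_add_eq_zero_right h
      have h3 : θ = t⁻¹ • (t • θ) := by rw [smul_smul, inv_mul_cancel₀ ht, one_smul]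
      rw [h3, h2, smul_smul]
      congr 1
      field_simp
    have h4 : ((s / t) * (s / t) - δ) • (1 : Matrix ι ι F) = 0 := by
      have h5 := hθ
      rw [h1] at h5
      simp only [smul_mul_assoc, mul_smul_comm, one_mul, smul_smul] at h5
      rw [sub_smul, sub_eq_zero, ← h5]
      congr 1
      ring
    have h6 := hone _ h4
    exact ⟨s / t, (sub_eq_zero.mp h6).symm⟩

/-- the norm `s² - δ t²` does not vanish for `(s, t) ≠ 0` -/
theorem norm_ne_zero (δ : F) (hδ : ¬ IsSquare δ) (s t : F) (hst : ¬ (s = 0 ∧ t = 0)) :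
    s * s - t * t * δ ≠ 0 := by
  intro h
  by_cases ht : t = 0
  · subst ht
    simp only [mul_zero, zero_mul, sub_zero, mul_self_eq_zero] at h
    exact hst ⟨h, rfl⟩
  · apply hδ
    refine ⟨s / t, ?_⟩
    have : s * s = t * t * δ := sub_eq_zero.mp h
    field_simp
    linear_combination -this

/-- K-OQF-T3 (597701), part 1. -/
theorem isOType_of_theta [Nonempty ι] (Q : QuadraticForm F (ι → F)) (δ : F) (hδ : ¬ IsSquare δ)
    (θ : Matrix ι ι F) (hθ : θ * θ = δ • (1 : Matrix ι ι F)) (hsa : IsSAMat (⇑Q) θ) :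
    ∃ K : Subalgebra F (Matrix ι ι F), IsOType (⇑Q) K ∧ GenBy K θ := by
  refine ⟨thetaAlg δ θ hθ, ⟨⟨?_, ?_, ?_⟩, ?_⟩, fun a => Iff.rfl⟩
  · -- commutative
    rintro _ ⟨s, t, rfl⟩ _ ⟨s', t', rfl⟩
    rw [theta_mul_formula δ θ hθ, theta_mul_formula δ θ hθ]
    congr 1
    · congr 1; ring
    · congr 1; ring
  · -- inverses
    rintro _ ⟨s, t, rfl⟩ hx
    have hst : ¬ (s = 0 ∧ t = 0) := by
      rintro ⟨rfl, rfl⟩
      apply hx
      simp
    have hN := norm_ne_zero δ hδ s t hst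
    refine ⟨(s / (s * s - t * t * δ)) • (1 : Matrix ι ι F) + (-t / (s * s - t * t * δ)) • θ,
      ⟨_, _, rfl⟩, ?_⟩
    rw [theta_mul_formula δ θ hθ]
    have h1 : s * (s / (s * s - t * t * δ)) + t * (-t / (s * s - t * t * δ)) * δ = 1 := by
      have : s * (s / (s * s - t * t * δ)) + t * (-t / (s * s - t * t * δ)) * δ =
          (s * s - t * t * δ) / (s * s - t * t * δ) := by ring
      rw [this, div_self hN]
    have h2 : s * (-t / (s * s - t * t * δ)) + t * (s / (s * s - t * t * δ)) = 0 := by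
      field_simp
      ring
    rw [h1, h2, one_smul, zero_smul, add_zero]
  · -- dimension two
    let f : (F × F) →ₗ[F] Matrix ι ι F :=
      { toFun := fun p => p.1 • (1 : Matrix ι ι F) + p.2 • θ
        map_add' := by
          intro p q
          simp only [Prod.fst_add, Prod.snd_add]
          module
        map_smul' := by
          intro c p
          simp only [Prod.smul_fst, Prod.smul_snd, smul_eq_mul, RingHom.id_apply]
          module }
    have hinj : Function.Injective f := by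
      rw [← LinearMap.ker_eq_bot, LinearMap.ker_eq_bot']
      intro p hp
      obtain ⟨h1, h2⟩ := theta_indep δ hδ θ hθ p.1 p.2 hp
      exact Prod.ext h1 h2
    have hrange : Subalgebra.toSubmodule (thetaAlg δ θ hθ) = LinearMap.range f := by
      ext a
      constructor
      · rintro ⟨s, t, rfl⟩
        exact ⟨(s, t), rfl⟩
      · rintro ⟨p, rfl⟩
        exact ⟨p.1, p.2, rfl⟩
    have h1 : Module.finrank F ↥(thetaAlg δ θ hθ) =
        Module.finrank F ↥(Subalgebra.toSubmodule (thetaAlg δ θ hθ)) := rfl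
    rw [h1, hrange, LinearMap.finrank_range_of_inj hinj, Module.finrank_prod, Module.finrank_self]
  · -- self-adjoint
    rintro _ ⟨s, t, rfl⟩ u v
    have hu : (s • (1 : Matrix ι ι F) + t • θ) *ᵥ u = s • u + t • (θ *ᵥ u) := by
      rw [Matrix.add_mulVec, Matrix.smul_mulVec, Matrix.smul_mulVec, Matrix.one_mulVec]
    have hv : (s • (1 : Matrix ι ι F) + t • θ) *ᵥ v = s • v + t • (θ *ᵥ v) := by
      rw [Matrix.add_mulVec, Matrix.smul_mulVec, Matrix.smul_mulVec, Matrix.one_mulVec]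
    rw [hu, hv, QuadraticMap.polar_add_left, QuadraticMap.polar_add_right,
      QuadraticMap.polar_smul_left, QuadraticMap.polar_smul_left, QuadraticMap.polar_smul_right,
      QuadraticMap.polar_smul_right, hsa u v]

/-- K-OQF-T3 (597701), part 2. -/
theorem mem_normalizer_of_normTh (K : Subalgebra F (Matrix ι ι F)) (θ : Matrix ι ι F)
    (hK : GenBy K θ) (g : GL ι F) (h : NormTh (g : Matrix ι ι F) θ) :
    g ∈ subalgebraNormalizer K := by
  have hgi : (g : Matrix ι ι F) * ((g⁻¹ : GL ι F) : Matrix ι ι F) = 1 := by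
    rw [← Units.val_mul, mul_inv_cancel, Units.val_one]
  have hig : ((g⁻¹ : GL ι F) : Matrix ι ι F) * (g : Matrix ι ι F) = 1 := by
    rw [← Units.val_mul, inv_mul_cancel, Units.val_one]
  -- `g θ g⁻¹ = ε θ` and `g⁻¹ θ g = ε θ` with `ε = ± 1`
  obtain ⟨ε, hε1, hε2⟩ : ∃ ε : F,
      (g : Matrix ι ι F) * θ * ((g⁻¹ : GL ι F) : Matrix ι ι F) = ε • θ ∧
      ((g⁻¹ : GL ι F) : Matrix ι ι F) * θ * (g : Matrix ι ι F) = ε • θ := by
    rcases h with h | h
    · refine ⟨1, ?_, ?_⟩
      · rw [h, mul_assoc, hgi, mul_one, one_smul]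
      · rw [mul_assoc, ← h, ← mul_assoc, hig, one_mul, one_smul]
    · refine ⟨-1, ?_, ?_⟩
      · rw [h, neg_mul, mul_assoc, hgi, mul_one, neg_smul, one_smul]
      · have h' : θ * (g : Matrix ι ι F) = -((g : Matrix ι ι F) * θ) := by rw [h, neg_neg]
        rw [mul_assoc, h', mul_neg, ← mul_assoc, hig, one_mul, neg_smul, one_smul]
  intro k
  change k ∈ K ↔ (g : Matrix ι ι F) * k * ((g⁻¹ : GL ι F) : Matrix ι ι F) ∈ K
  rw [hK, hK]
  constructor
  · rintro ⟨s, t, rfl⟩
    refine ⟨s, t * ε, ?_⟩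
    rw [mul_add, add_mul, mul_smul_comm, smul_mul_assoc, mul_one, hgi, mul_smul_comm,
      smul_mul_assoc, hε1, smul_smul]
  · rintro ⟨s, t, hk⟩
    refine ⟨s, t * ε, ?_⟩
    have h1 : k = ((g⁻¹ : GL ι F) : Matrix ι ι F) *
        ((g : Matrix ι ι F) * k * ((g⁻¹ : GL ι F) : Matrix ι ι F)) * (g : Matrix ι ι F) := by
      rw [mul_assoc, mul_assoc, hig, mul_one, ← mul_assoc, hig, one_mul]
    rw [h1, hk, mul_add, add_mul, mul_smul_comm, smul_mul_assoc, mul_one, hig, mul_smul_comm,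
      smul_mul_assoc, hε2, smul_smul]

end Cfsg.Agent.Lib.Helper91.OQF
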