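import Cfsg.Agent.Lib.Helper60.FHDefs

/-!
# Keystone K-S1142-H2 (`rep_char`) for the Feit–Higman row S1142 (architect helper60).
-/

set_option autoImplicit false

open Cfsg Cfsg.Agent.Lib.Helper60.FH Matrix

namespace Cfsg.Agent.Lib.Helper91.FH

theorem altL_two_mul {M : Type*} [Monoid M] (x y : M) (m : ℕ) :
    altL x y (2 * m) = (x * y) ^ m ∧ altL x y (2 * m + 1) = x * (y * x) ^ m := by
  induction m generalizing x y with
  | zero => simp
  | succ m ih =>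
    have e1 : 2 * (m + 1) = (2 * m + 1) + 1 := by ring
    have h1 : altL x y (2 * (m + 1)) = (x * y) ^ (m + 1) := by
      rw [e1, altL_succ, altL_succ, (ih x y).1, ← mul_assoc, pow_succ']
    refine ⟨h1, ?_⟩
    have e2 : 2 * (m + 1) + 1 = (2 * (m + 1)) + 1 := rfl
    rw [altL_succ]
    have h2 : altL y x (2 * (m + 1)) = (y * x) ^ (m + 1) := by
      rw [e1, altL_succ, altL_succ, (ih y x).1, ← mul_assoc, pow_succ']
    rw [h2]

/-- Cayley–Hamilton for real 2×2 matrices. -/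
theorem cayley_two (A : Matrix (Fin 2) (Fin 2) ℝ) :
    A * A = A.trace • A - A.det • (1 : Matrix (Fin 2) (Fin 2) ℝ) := by
  ext i j
  fin_cases i <;> fin_cases j <;>
    simp [Matrix.mul_apply, Fin.sum_univ_two, Matrix.det_fin_two, Matrix.trace_fin_two] <;> ring

/-- the trace sequence `tr (M * R^m)` satisfies the Cayley–Hamilton recurrence. -/
theorem trace_rec (M R : Matrix (Fin 2) (Fin 2) ℝ) (m : ℕ) :
    (M * R ^ (m + 2)).trace = R.trace * (M * R ^ (m + 1)).trace - R.det * (M * R ^ m).trace := by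
  have h : R ^ (m + 2) = R.trace • R ^ (m + 1) - R.det • R ^ m := by
    rw [pow_add, pow_two, cayley_two, mul_sub, mul_smul_comm, mul_smul_comm, mul_one, ← pow_succ]
  rw [h, mul_sub, mul_smul_comm, mul_smul_comm, Matrix.trace_sub, Matrix.trace_smul,
    Matrix.trace_smul, smul_eq_mul, smul_eq_mul]

theorem rec_unique (t d : ℝ) (a b : ℕ → ℝ) (ha : ∀ m, a (m + 2) = t * a (m + 1) - d * a m)
    (hb : ∀ m, b (m + 2) = t * b (m + 1) - d * b m) (h0 : a 0 = b 0) (h1 : a 1 = b 1) :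
    ∀ m, a m = b m := by
  have : ∀ m, a m = b m ∧ a (m + 1) = b (m + 1) := by
    intro m
    induction m with
    | zero => exact ⟨h0, h1⟩
    | succ m ih => exact ⟨ih.2, by rw [ha, hb, ih.1, ih.2]⟩
  exact fun m => (this m).1

theorem cos_rec (θ : ℝ) (m : ℕ) :
    Real.cos (((m + 2 : ℕ) : ℝ) * θ) =
      2 * Real.cos θ * Real.cos (((m + 1 : ℕ) : ℝ) * θ) - Real.cos ((m : ℝ) * θ) := by
  have e1 : ((m + 2 : ℕ) : ℝ) * θ = ((m + 1 : ℕ) : ℝ) * θ + θ := by push_cast; ring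
  have e2 : (m : ℝ) * θ = ((m + 1 : ℕ) : ℝ) * θ - θ := by push_cast; ring
  rw [e1, e2, Real.cos_add, Real.cos_sub]; ring

theorem sin_rec (θ : ℝ) (m : ℕ) :
    Real.sin (((m + 2 : ℕ) : ℝ) * θ) =
      2 * Real.cos θ * Real.sin (((m + 1 : ℕ) : ℝ) * θ) - Real.sin ((m : ℝ) * θ) := by
  have e1 : ((m + 2 : ℕ) : ℝ) * θ = ((m + 1 : ℕ) : ℝ) * θ + θ := by push_cast; ring
  have e2 : (m : ℝ) * θ = ((m + 1 : ℕ) : ℝ) * θ - θ := by push_cast; ring
  rw [e1, e2, Real.sin_add, Real.sin_sub]; ring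

section
variable (q1 q2 : ℝ) (hq1 : 0 < q1) (hq2 : 0 < q2) (θ : ℝ)

theorem Qr_sq (hq1 : 0 < q1) (hq2 : 0 < q2) : Qr q1 q2 ^ 2 = q1 * q2 := by
  unfold Qr
  exact Real.sq_sqrt (mul_pos hq1 hq2).le

theorem Qr_pos (hq1 : 0 < q1) (hq2 : 0 < q2) : 0 < Qr q1 q2 := by
  unfold Qr
  exact Real.sqrt_pos.mpr (mul_pos hq1 hq2)

theorem pseq_rec (m : ℕ) :
    pseq q1 q2 θ (m + 2) =
      2 * Qr q1 q2 * Real.cos θ * pseq q1 q2 θ (m + 1) - Qr q1 q2 ^ 2 * pseq q1 q2 θ m := by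
  unfold pseq
  rw [sin_rec]
  rw [pow_succ (Qr q1 q2) (m + 1), pow_succ (Qr q1 q2) m]
  ring

theorem pseq_zero : pseq q1 q2 θ 0 = 0 := by
  unfold pseq; simp

theorem pseq_one (hq1 : 0 < q1) (hq2 : 0 < q2) (hs : Real.sin θ ≠ 0) : pseq q1 q2 θ 1 = 1 := by
  unfold pseq
  have hQ : Qr q1 q2 ≠ 0 := (Qr_pos q1 q2 hq1 hq2).ne'
  simp only [pow_one, Nat.cast_one, one_mul]
  exact div_self (mul_ne_zero hQ hs)

theorem pseq_two (hq1 : 0 < q1) (hq2 : 0 < q2) (hs : Real.sin θ ≠ 0) :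
    pseq q1 q2 θ 2 = 2 * Qr q1 q2 * Real.cos θ := by
  have := pseq_rec q1 q2 θ 0
  rw [this, pseq_zero, pseq_one q1 q2 θ hq1 hq2 hs]; ring

theorem kap_bounds (hq1 : 0 < q1) (hq2 : 0 < q2) :
    0 ≤ kap q1 q2 θ ∧ kap q1 q2 θ ≤ 1 := by
  have hQ := Qr_pos q1 q2 hq1 hq2
  have hQ2 := Qr_sq q1 q2 hq1 hq2
  have hc1 := Real.neg_one_le_cos θ
  have hc2 := Real.cos_le_one θ
  have hden : 0 < (q1 + 1) * (q2 + 1) := by positivity
  -- q1 + q2 ≥ 2 Q
  have hamgm : 2 * Qr q1 q2 ≤ q1 + q2 := by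
    nlinarith [sq_nonneg (q1 - q2), sq_nonneg (q1 + q2 - 2 * Qr q1 q2), sq_nonneg (q1 + q2)]
  unfold kap
  constructor
  · apply div_nonneg _ hden.le
    nlinarith
  · rw [div_le_one hden]
    nlinarith [sq_nonneg (Qr q1 q2 - 1)]

theorem sig_sq (hq1 : 0 < q1) (hq2 : 0 < q2) :
    sig q1 q2 θ ^ 2 = kap q1 q2 θ * (1 - kap q1 q2 θ) := by
  obtain ⟨h0, h1⟩ := kap_bounds q1 q2 θ hq1 hq2
  unfold sig
  exact Real.sq_sqrt (mul_nonneg h0 (by linarith))

theorem kap_eq (hq1 : 0 < q1) (hq2 : 0 < q2) :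
    (q1 + 1) * (q2 + 1) * kap q1 q2 θ = 2 * Qr q1 q2 * Real.cos θ + q1 + q2 := by
  have hden : (q1 + 1) * (q2 + 1) ≠ 0 := by positivity
  unfold kap
  field_simp

theorem trace_T1 : (T1 q1).trace = q1 - 1 := by
  simp [T1, Matrix.trace_fin_two]; ring

theorem det_T1 : (T1 q1).det = -q1 := by
  simp [T1, Matrix.det_fin_two]

theorem trace_T2 : (T2 q1 q2 θ).trace = q2 - 1 := by
  simp [T2, Matrix.trace_fin_two]; ring

theorem det_T2 (hq1 : 0 < q1) (hq2 : 0 < q2) : (T2 q1 q2 θ).det = -q2 := by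
  have hs := sig_sq q1 q2 θ hq1 hq2
  simp [T2, Matrix.det_fin_two]
  linear_combination (-(q2 + 1) ^ 2) * hs

theorem trace_T1T2 (hq1 : 0 < q1) (hq2 : 0 < q2) :
    (T1 q1 * T2 q1 q2 θ).trace = 2 * Qr q1 q2 * Real.cos θ := by
  have hk := kap_eq q1 q2 θ hq1 hq2
  simp [T1, T2, Matrix.trace_fin_two]
  linarith

theorem sq_T1 : T1 q1 * T1 q1 = q1 • (1 : Matrix (Fin 2) (Fin 2) ℝ) + (q1 - 1) • T1 q1 := by
  rw [cayley_two, trace_T1, det_T1]
  rw [sub_eq_add_neg, ← neg_smul, neg_neg, add_comm]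

theorem sq_T2 (hq1 : 0 < q1) (hq2 : 0 < q2) :
    T2 q1 q2 θ * T2 q1 q2 θ =
      q2 • (1 : Matrix (Fin 2) (Fin 2) ℝ) + (q2 - 1) • T2 q1 q2 θ := by
  rw [cayley_two, trace_T2, det_T2 q1 q2 θ hq1 hq2]
  rw [sub_eq_add_neg, ← neg_smul, neg_neg, add_comm]

end

theorem rep_char (q1 q2 : ℝ) (hq1 : 0 < q1) (hq2 : 0 < q2) (θ : ℝ) (hθ0 : 0 < θ) (hθ1 : θ < Real.pi) :
    (∀ m : ℕ, Matrix.trace (altL (T1 q1) (T2 q1 q2 θ) (2 * m)) =
        2 * (Qr q1 q2) ^ m * Real.cos (m * θ)) ∧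
    (∀ m : ℕ, Matrix.trace (altL (T2 q1 q2 θ) (T1 q1) (2 * m)) =
        2 * (Qr q1 q2) ^ m * Real.cos (m * θ)) ∧
    (∀ m : ℕ, Matrix.trace (altL (T1 q1) (T2 q1 q2 θ) (2 * m + 1)) =
        q1 * (q2 - 1) * pseq q1 q2 θ m + (q1 - 1) * pseq q1 q2 θ (m + 1)) ∧
    (∀ m : ℕ, Matrix.trace (altL (T2 q1 q2 θ) (T1 q1) (2 * m + 1)) =
        q2 * (q1 - 1) * pseq q1 q2 θ m + (q2 - 1) * pseq q1 q2 θ (m + 1)) := by
  have hs : Real.sin θ ≠ 0 := (Real.sin_pos_of_pos_of_lt_pi hθ0 hθ1).ne'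
  have hQ2 := Qr_sq q1 q2 hq1 hq2
  set Q := Qr q1 q2 with hQdef
  set A := T1 q1 with hA
  set B := T2 q1 q2 θ with hB
  have htrAB : (A * B).trace = 2 * Q * Real.cos θ := trace_T1T2 q1 q2 θ hq1 hq2
  have htrBA : (B * A).trace = 2 * Q * Real.cos θ := by rw [Matrix.trace_mul_comm]; exact htrAB
  have hdetAB : (A * B).det = Q ^ 2 := by
    rw [Matrix.det_mul, hA, hB, det_T1, det_T2 q1 q2 θ hq1 hq2, hQ2]; ring
  have hdetBA : (B * A).det = Q ^ 2 := by
    rw [Matrix.det_mul, hA, hB, det_T1, det_T2 q1 q2 θ hq1 hq2, hQ2]; ring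
  -- the cosine sequence
  have hcrec : ∀ m : ℕ, 2 * Q ^ (m + 2) * Real.cos (((m + 2 : ℕ) : ℝ) * θ) =
      (2 * Q * Real.cos θ) * (2 * Q ^ (m + 1) * Real.cos (((m + 1 : ℕ) : ℝ) * θ)) -
        Q ^ 2 * (2 * Q ^ m * Real.cos ((m : ℝ) * θ)) := by
    intro m
    rw [cos_rec]; ring
  -- the odd sequences
  have hprec : ∀ (c1 c2 : ℝ) (m : ℕ),
      c1 * pseq q1 q2 θ (m + 2) + c2 * pseq q1 q2 θ (m + 2 + 1) =
      (2 * Q * Real.cos θ) * (c1 * pseq q1 q2 θ (m + 1) + c2 * pseq q1 q2 θ (m + 1 + 1)) -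
        Q ^ 2 * (c1 * pseq q1 q2 θ m + c2 * pseq q1 q2 θ (m + 1)) := by
    intro c1 c2 m
    have e1 := pseq_rec q1 q2 θ m
    have e2 := pseq_rec q1 q2 θ (m + 1)
    rw [show m + 2 + 1 = m + 1 + 2 by ring, e2, e1]
    ring
  refine ⟨?_, ?_, ?_, ?_⟩
  · intro m
    rw [(altL_two_mul A B m).1]
    have := rec_unique (2 * Q * Real.cos θ) (Q ^ 2)
      (fun m => ((1 : Matrix (Fin 2) (Fin 2) ℝ) * (A * B) ^ m).trace)
      (fun m => 2 * Q ^ m * Real.cos ((m : ℝ) * θ))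
      (fun m => by
        have := trace_rec 1 (A * B) m
        rw [htrAB, hdetAB] at this
        exact this)
      (fun m => by
        have := hcrec m
        simpa using this)
      (by simp)
      (by simp [htrAB]) m
    simpa using this
  · intro m
    rw [(altL_two_mul B A m).1]
    have := rec_unique (2 * Q * Real.cos θ) (Q ^ 2)
      (fun m => ((1 : Matrix (Fin 2) (Fin 2) ℝ) * (B * A) ^ m).trace)
      (fun m => 2 * Q ^ m * Real.cos ((m : ℝ) * θ))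
      (fun m => by
        have := trace_rec 1 (B * A) m
        rw [htrBA, hdetBA] at this
        exact this)
      (fun m => by
        have := hcrec m
        simpa using this)
      (by simp)
      (by simp [htrBA]) m
    simpa using this
  · intro m
    rw [(altL_two_mul A B m).2]
    have := rec_unique (2 * Q * Real.cos θ) (Q ^ 2)
      (fun m => (A * (B * A) ^ m).trace)
      (fun m => q1 * (q2 - 1) * pseq q1 q2 θ m + (q1 - 1) * pseq q1 q2 θ (m + 1))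
      (fun m => by
        have := trace_rec A (B * A) m
        rw [htrBA, hdetBA] at this
        exact this)
      (fun m => hprec _ _ m)
      (by
        simp only [pow_zero, mul_one]
        rw [hA, trace_T1, pseq_zero, pseq_one q1 q2 θ hq1 hq2 hs]; ring)
      (by
        simp only [pow_one]
        rw [Matrix.trace_mul_comm, mul_assoc, hA, sq_T1, ← hA, mul_add, mul_smul_comm,
          mul_smul_comm, mul_one, Matrix.trace_add, Matrix.trace_smul, Matrix.trace_smul, htrBA,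
          hB, trace_T2, pseq_one q1 q2 θ hq1 hq2 hs, pseq_two q1 q2 θ hq1 hq2 hs]
        simp only [smul_eq_mul]
        ring) m
    exact this
  · intro m
    rw [(altL_two_mul B A m).2]
    have := rec_unique (2 * Q * Real.cos θ) (Q ^ 2)
      (fun m => (B * (A * B) ^ m).trace)
      (fun m => q2 * (q1 - 1) * pseq q1 q2 θ m + (q2 - 1) * pseq q1 q2 θ (m + 1))
      (fun m => by
        have := trace_rec B (A * B) m
        rw [htrAB, hdetAB] at this
        exact this)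
      (fun m => hprec _ _ m)
      (by
        simp only [pow_zero, mul_one]
        rw [hB, trace_T2, pseq_zero, pseq_one q1 q2 θ hq1 hq2 hs]; ring)
      (by
        simp only [pow_one]
        rw [Matrix.trace_mul_comm, mul_assoc, hB, sq_T2 q1 q2 θ hq1 hq2, ← hB, mul_add,
          mul_smul_comm, mul_smul_comm, mul_one, Matrix.trace_add, Matrix.trace_smul,
          Matrix.trace_smul, htrAB, hA, trace_T1, pseq_one q1 q2 θ hq1 hq2 hs,
          pseq_two q1 q2 θ hq1 hq2 hs]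
        simp only [smul_eq_mul]
        ring) m
    exact this

end Cfsg.Agent.Lib.Helper91.FH
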