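import Cfsg.Agent.Lib.Helper60.FHDefs

/-!
# Keystone K-S1142-K (`q_eq_of_odd`) for the Feit–Higman row S1142 (architect helper60).
-/

set_option autoImplicit false

open Cfsg Cfsg.Agent.Lib.Helper60.FH Matrix

namespace Cfsg.Agent.Lib.Helper91.FH

/-- `altL x y (k+1) = altL x y k * (last letter)`. -/
theorem altL_succ_right {M : Type*} [Monoid M] (x y : M) (k : ℕ) :
    altL x y (k + 1) = altL x y k * (if Even k then x else y) := by
  induction k generalizing x y with
  | zero => simp
  | succ k ih =>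
    rw [altL_succ x y (k + 1), ih y x, ← mul_assoc, ← altL_succ x y k]
    congr 1
    by_cases hk : Even k
    · have : ¬ Even (k + 1) := by
        rw [Nat.even_add_one]; exact not_not.mpr hk
      simp [hk, this]
    · have : Even (k + 1) := by
        rw [Nat.even_add_one]; exact hk
      simp [hk, this]

theorem isUnit_altL {M : Type*} [Monoid M] {x y : M} (hx : IsUnit x) (hy : IsUnit y) (k : ℕ) :
    IsUnit (altL x y k) := by
  induction k generalizing x y with
  | zero => simp
  | succ k ih =>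
    rw [altL_succ]
    exact hx.mul (ih hy hx)

theorem isUnit_of_quad {ι : Type*} [Fintype ι] [DecidableEq ι] (q : ℝ) (hq : q ≠ 0)
    (x : Matrix ι ι ℝ) (hx : x * x = q • (1 : Matrix ι ι ℝ) + (q - 1) • x) : IsUnit x := by
  rw [isUnit_iff_exists]
  refine ⟨q⁻¹ • (x - (q - 1) • (1 : Matrix ι ι ℝ)), ?_, ?_⟩
  · rw [mul_smul_comm, mul_sub, hx, mul_smul_comm, mul_one]
    rw [add_sub_cancel_right, smul_smul, inv_mul_cancel₀ hq, one_smul]
  · rw [smul_mul_assoc, sub_mul, hx, smul_mul_assoc, one_mul]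
    rw [add_sub_cancel_right, smul_smul, inv_mul_cancel₀ hq, one_smul]

theorem q_eq_of_odd {ι : Type*} [Fintype ι] [DecidableEq ι] [Nonempty ι] (q1 q2 : ℝ) (hq1 : q1 ≠ 0)
    (hq2 : q2 ≠ 0) (n : ℕ) (hodd : Odd n)
    (x y : Matrix ι ι ℝ) (hx : Rel q1 q2 n x y) (htr : Matrix.trace y = 0) : q1 = q2 := by
  obtain ⟨m, rfl⟩ := hodd
  by_contra hne
  have hux : IsUnit x := isUnit_of_quad q1 hq1 x hx.sq_x
  have huy : IsUnit y := isUnit_of_quad q2 hq2 y hx.sq_y
  set V := altL y x (2 * m) with hV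
  have hVu : IsUnit V := isUnit_altL huy hux _
  have hbr : x * V = V * y := by
    have h1 : altL x y (2 * m + 1) = x * V := altL_succ x y (2 * m)
    have h2 : altL y x (2 * m + 1) = V * y := by
      rw [altL_succ_right, if_pos (even_two_mul m)]
    rw [← h1, ← h2]
    exact hx.braid
  have h3 : x * x * V = V * (y * y) := by
    rw [mul_assoc, hbr, ← mul_assoc, hbr, mul_assoc]
  rw [hx.sq_x, hx.sq_y, add_mul, mul_add, smul_mul_assoc, smul_mul_assoc, one_mul,
    mul_smul_comm, mul_smul_comm, mul_one, hbr] at h3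
  have h4 : (q1 - q2) • (V * (1 + y)) = 0 := by
    rw [mul_add, mul_one, smul_add, sub_smul, sub_smul]
    have : q1 • V + (q1 - 1) • (V * y) - (q2 • V + (q2 - 1) • (V * y)) = 0 := by
      rw [h3]; exact sub_self _
    rw [← this]
    simp only [sub_smul, one_smul]
    abel
  have h5 : V * (1 + y) = 0 := by
    rcases smul_eq_zero.mp h4 with h | h
    · exact absurd (sub_eq_zero.mp h) hne
    · exact h
  have h6 : (1 : Matrix ι ι ℝ) + y = 0 := (hVu.mul_right_eq_zero).mp h5
  have h7 : Matrix.trace ((1 : Matrix ι ι ℝ) + y) = 0 := by rw [h6]; simp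
  rw [Matrix.trace_add, htr, add_zero, Matrix.trace_one] at h7
  have : (Fintype.card ι : ℝ) ≠ 0 := by
    exact_mod_cast Fintype.card_ne_zero
  exact this h7

end Cfsg.Agent.Lib.Helper91.FH
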