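import Mathlib
import Cfsg.Prelude.Def_GeometricClasses
import Cfsg.Prelude.Def_ClassicalGeometry
import Cfsg.Agent.Lib.Helper49.SemisimpleConj
import Cfsg.Agent.Lib.Helper49.SemisimpleKer

/-!
# K-SpU pack (S5976, architect helper79): tools T1 / T2 on an arbitrary index type

* `exists_gen`: a quadratic field subalgebra is `F[θ]`, `θ² = sθ - t`, `X² - sX + t` without roots.
* `commute_of_normalizer_odd` (T1): an element of odd order of the normaliser centralises `K`.
* `even_finrank_of_invariant` (T2, finite `F`): a `K`-invariant subspace has even dimension.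
-/

set_option autoImplicit false

namespace Cfsg.Agent.Lib.Helper91.SpU

open Cfsg Cfsg.Geo Polynomial
open scoped Matrix MatrixGroups

variable {F : Type*} [Field F] {ι : Type} [Fintype ι] [DecidableEq ι]

/-- a generator of a quadratic field subalgebra -/
theorem exists_gen [Nonempty ι] (K : Subalgebra F (Matrix ι ι F)) (hK : IsFieldSubalgebra 2 K) :
    ∃ (θ : Matrix ι ι F) (s t : F), θ ∈ K ∧
      (∀ k, k ∈ K ↔ ∃ a b : F, k = a • (1 : Matrix ι ι F) + b • θ) ∧
      θ * θ = s • θ - t • (1 : Matrix ι ι F) ∧ (∀ l : F, l * l - s * l + t ≠ 0) ∧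
      (∀ a : F, θ ≠ a • (1 : Matrix ι ι F)) := by
  classical
  have hinv : ∀ x ∈ K, x ≠ 0 → ∃ y, x * y = 1 ∧ y * x = 1 := by
    intro x hx hx0
    obtain ⟨y, hy, hxy⟩ := hK.inv x hx hx0
    exact ⟨y, hxy, by rw [← hK.comm x hx y hy]; exact hxy⟩
  obtain ⟨θ, hθ, hθns⟩ : ∃ θ ∈ K, ∀ a : F, θ ≠ a • (1 : Matrix ι ι F) := by
    by_contra hcon
    push Not at hcon
    have hbot : K = ⊥ := by
      rw [eq_bot_iff]
      intro x hx
      obtain ⟨a, ha⟩ := hcon x hx
      rw [Algebra.mem_bot]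
      exact ⟨a, by rw [Algebra.algebraMap_eq_smul_one, ha]⟩
    have h1 := hK.finrank_eq
    rw [hbot, Subalgebra.finrank_bot] at h1
    omega
  let θ' : K := ⟨θ, hθ⟩
  have hli : LinearIndependent F ![(1 : K), θ'] := by
    rw [LinearIndependent.pair_iff]
    intro a b hab
    have hab' : a • (1 : Matrix ι ι F) + b • θ = 0 := by
      have := congrArg (fun k : K => (k : Matrix ι ι F)) hab
      simpa [θ'] using this
    have hb : b = 0 := by
      by_contra hb
      apply hθns (-(a / b))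
      have h1 : b • θ = -(a • (1 : Matrix ι ι F)) := by
        rw [eq_neg_iff_add_eq_zero, add_comm]; exact hab'
      have h2 : θ = b⁻¹ • (b • θ) := by rw [smul_smul, inv_mul_cancel₀ hb, one_smul]
      rw [h2, h1, smul_neg, smul_smul, neg_smul]
      congr 2
      field_simp
    refine ⟨?_, hb⟩
    rw [hb, zero_smul, add_zero] at hab'
    by_contra ha
    have h1 : (1 : Matrix ι ι F) = a⁻¹ • (a • (1 : Matrix ι ι F)) := by
      rw [smul_smul, inv_mul_cancel₀ ha, one_smul]
    rw [hab', smul_zero] at h1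
    exact one_ne_zero h1
  have hspan : Submodule.span F (Set.range ![(1 : K), θ']) = ⊤ := by
    apply hli.span_eq_top_of_card_eq_finrank'
    rw [Fintype.card_fin, hK.finrank_eq]
  have hmem : ∀ k, k ∈ K ↔ ∃ a b : F, k = a • (1 : Matrix ι ι F) + b • θ := by
    intro k
    constructor
    · intro hk
      have h1 : (⟨k, hk⟩ : K) ∈ Submodule.span F (Set.range ![(1 : K), θ']) := by
        rw [hspan]; exact Submodule.mem_top
      rw [Submodule.mem_span_range_iff_exists_fun] at h1
      obtain ⟨c, hc⟩ := h1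
      rw [Fin.sum_univ_two] at hc
      refine ⟨c 0, c 1, ?_⟩
      have := congrArg (fun k : K => (k : Matrix ι ι F)) hc
      simpa [θ'] using this.symm
    · rintro ⟨a, b, rfl⟩
      exact K.add_mem (K.smul_mem K.one_mem a) (K.smul_mem hθ b)
  obtain ⟨a, b, hab⟩ := (hmem (θ * θ)).mp (K.mul_mem hθ hθ)
  have hsq : θ * θ = b • θ - (-a) • (1 : Matrix ι ι F) := by
    rw [hab, neg_smul, sub_neg_eq_add, add_comm]
  refine ⟨θ, b, -a, hθ, hmem, hsq, ?_, hθns⟩
  intro l hl
  have h1 : (θ - l • (1 : Matrix ι ι F)) * (θ - (b - l) • (1 : Matrix ι ι F)) = 0 := by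
    have e1 : (θ - l • (1 : Matrix ι ι F)) * (θ - (b - l) • (1 : Matrix ι ι F)) =
        θ * θ - b • θ + (l * (b - l)) • (1 : Matrix ι ι F) := by
      rw [Matrix.sub_mul, Matrix.mul_sub, Matrix.mul_sub, Matrix.smul_mul, Matrix.mul_smul,
        Matrix.smul_mul, Matrix.mul_smul, Matrix.one_mul, Matrix.mul_one, Matrix.mul_one, smul_smul]
      module
    rw [e1, hsq]
    have : l * (b - l) = -a := by linear_combination -hl
    rw [this]
    module
  have hne : θ - l • (1 : Matrix ι ι F) ≠ 0 := by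
    intro h; exact hθns l (sub_eq_zero.mp h)
  have hmem1 : θ - l • (1 : Matrix ι ι F) ∈ K :=
    K.sub_mem hθ (K.smul_mem K.one_mem l)
  obtain ⟨y, _, hyx⟩ := hinv _ hmem1 hne
  have h2 : θ - (b - l) • (1 : Matrix ι ι F) = 0 := by
    calc θ - (b - l) • (1 : Matrix ι ι F)
        = y * ((θ - l • (1 : Matrix ι ι F)) * (θ - (b - l) • (1 : Matrix ι ι F))) := by
          rw [← mul_assoc, hyx, one_mul]
      _ = 0 := by rw [h1, mul_zero]
  exact hθns (b - l) (sub_eq_zero.mp h2)

/-- T1: an element of odd order of the normaliser of a quadratic field subalgebra centralises it -/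
theorem commute_of_normalizer_odd (h2 : (2 : F) ≠ 0) [Nonempty ι] (K : Subalgebra F (Matrix ι ι F))
    (hK : IsFieldSubalgebra 2 K) (y : GL ι F) (hy : y ∈ subalgebraNormalizer K) (r : ℕ)
    (hr : Odd r) (hyr : y ^ r = 1) :
    ∀ a ∈ K, (y : Matrix ι ι F) * a = a * (y : Matrix ι ι F) := by
  obtain ⟨θ, s, t, hθ, hspan, hsq, -, hns⟩ := exists_gen K hK
  set Y : Matrix ι ι F := (y : Matrix ι ι F) with hY
  set Y' : Matrix ι ι F := ((y⁻¹ : GL ι F) : Matrix ι ι F) with hY'
  have hYY' : Y * Y' = 1 := by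
    rw [hY, hY', ← Units.val_mul, mul_inv_cancel, Units.val_one]
  have hY'Y : Y' * Y = 1 := by
    rw [hY, hY', ← Units.val_mul, inv_mul_cancel, Units.val_one]
  -- it suffices to commute with θ
  suffices hθc : Y * θ = θ * Y by
    intro a ha
    obtain ⟨α, β, rfl⟩ := (hspan a).mp ha
    rw [Matrix.mul_add, Matrix.add_mul, Matrix.mul_smul, Matrix.smul_mul, Matrix.mul_smul,
      Matrix.smul_mul, Matrix.mul_one, Matrix.one_mul, hθc]
  set θ₂ : Matrix ι ι F := Y * θ * Y' with hθ₂
  have hθ₂K : θ₂ ∈ K := (hy θ).mp hθ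
  have hθ₂sq : θ₂ * θ₂ = s • θ₂ - t • (1 : Matrix ι ι F) := by
    calc θ₂ * θ₂ = Y * θ * (Y' * Y) * θ * Y' := by rw [hθ₂]; simp only [mul_assoc]
      _ = Y * (θ * θ) * Y' := by rw [hY'Y, mul_one]; simp only [mul_assoc]
      _ = s • θ₂ - t • (1 : Matrix ι ι F) := by
        rw [hsq, Matrix.mul_sub, Matrix.sub_mul, Matrix.mul_smul, Matrix.smul_mul, Matrix.mul_smul,
          Matrix.smul_mul, Matrix.mul_one, hYY']
  have hcomm : θ₂ * θ = θ * θ₂ := hK.comm θ₂ hθ₂K θ hθ
  have hprod : (θ₂ - θ) * (θ₂ + θ - s • (1 : Matrix ι ι F)) = 0 := by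
    have e : (θ₂ - θ) * (θ₂ + θ - s • (1 : Matrix ι ι F)) =
        θ₂ * θ₂ - θ * θ + (θ₂ * θ - θ * θ₂) - s • θ₂ + s • θ := by
      rw [Matrix.sub_mul, Matrix.mul_sub, Matrix.mul_sub, Matrix.mul_add, Matrix.mul_add,
        Matrix.mul_smul, Matrix.mul_smul, Matrix.mul_one, Matrix.mul_one]
      abel
    rw [e, hθ₂sq, hsq, hcomm]
    module
  by_cases hcase : θ₂ - θ = 0
  · -- θ₂ = θ
    have h1 : Y * θ * Y' = θ := sub_eq_zero.mp hcase
    calc Y * θ = Y * θ * (Y' * Y) := by rw [hY'Y, mul_one]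
      _ = (Y * θ * Y') * Y := by simp only [mul_assoc]
      _ = θ * Y := by rw [h1]
  · exfalso
    obtain ⟨z, _, hz⟩ := hK.inv _ (K.sub_mem hθ₂K hθ) hcase
    have hz' : z * (θ₂ - θ) = 1 := by
      obtain ⟨z', hz'K, hz'⟩ := hK.inv _ (K.sub_mem hθ₂K hθ) hcase
      have : z' * (θ₂ - θ) = 1 := by rw [← hK.comm _ (K.sub_mem hθ₂K hθ) z' hz'K]; exact hz'
      have hzz : z = z' := by
        calc z = (z' * (θ₂ - θ)) * z := by rw [this, one_mul]
          _ = z' * ((θ₂ - θ) * z) := by rw [mul_assoc]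
          _ = z' := by rw [hz, mul_one]
      rw [hzz]; exact this
    have h3 : θ₂ + θ - s • (1 : Matrix ι ι F) = 0 := by
      calc θ₂ + θ - s • (1 : Matrix ι ι F)
          = z * ((θ₂ - θ) * (θ₂ + θ - s • (1 : Matrix ι ι F))) := by
            rw [← mul_assoc, hz', one_mul]
        _ = 0 := by rw [hprod, mul_zero]
    have h4 : Y * θ * Y' = s • (1 : Matrix ι ι F) - θ := by
      have : θ₂ = s • (1 : Matrix ι ι F) - θ := by
        rw [eq_sub_iff_add_eq, ← sub_eq_zero]; exact h3
      exact this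
    have h5 : Y * θ = (s • (1 : Matrix ι ι F) - θ) * Y := by
      calc Y * θ = Y * θ * (Y' * Y) := by rw [hY'Y, mul_one]
        _ = (Y * θ * Y') * Y := by simp only [mul_assoc]
        _ = (s • (1 : Matrix ι ι F) - θ) * Y := by rw [h4]
    have h6 : Y * (s • (1 : Matrix ι ι F) - θ) = θ * Y := by
      rw [Matrix.mul_sub, Matrix.mul_smul, Matrix.mul_one, h5, Matrix.sub_mul, Matrix.smul_mul,
        Matrix.one_mul]
      abel
    have h7 : (Y * Y) * θ = θ * (Y * Y) := by
      rw [mul_assoc, h5, ← mul_assoc, h6, mul_assoc]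
    obtain ⟨k, hk⟩ := hr
    have h8 : ∀ j : ℕ, (Y * Y) ^ j * θ = θ * (Y * Y) ^ j := by
      intro j
      exact ((show Commute (Y * Y) θ from h7).pow_left j)
    have hYr : Y ^ r = 1 := by
      have := congrArg (fun u : GL ι F => (u : Matrix ι ι F)) hyr
      simpa [hY] using this
    have h9 : Y ^ r = (Y * Y) ^ k * Y := by
      rw [hk, pow_succ, pow_mul, pow_two]
    have h10 : θ = s • (1 : Matrix ι ι F) - θ := by
      have e1 : Y ^ r * θ = (s • (1 : Matrix ι ι F) - θ) * Y ^ r := by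
        rw [h9, mul_assoc, h5, ← mul_assoc, ← mul_assoc]
        congr 1
        have h8' := h8 k
        rw [Matrix.mul_sub, Matrix.sub_mul, Matrix.mul_smul, Matrix.smul_mul, Matrix.mul_one,
          Matrix.one_mul, h8']
      rw [hYr, one_mul, mul_one] at e1
      exact e1
    apply hns (s / 2)
    have h11 : (2 : F) • θ = s • (1 : Matrix ι ι F) := by
      rw [two_smul]
      nth_rewrite 1 [h10]
      abel
    calc θ = (2 : F)⁻¹ • ((2 : F) • θ) := by rw [smul_smul, inv_mul_cancel₀ h2, one_smul]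
      _ = (s / 2) • (1 : Matrix ι ι F) := by rw [h11, smul_smul]; congr 1; field_simp

/-- T2 (finite field): a subspace invariant under a quadratic field subalgebra has even dimension -/
theorem even_finrank_of_invariant [Finite F] [Nonempty ι] (K : Subalgebra F (Matrix ι ι F))
    (hK : IsFieldSubalgebra 2 K) (W : Submodule F (ι → F))
    (hW : ∀ a ∈ K, ∀ w ∈ W, a *ᵥ w ∈ W) : Even (Module.finrank F W) := by
  obtain ⟨θ, s, t, hθ, -, hsq, hnoroot, -⟩ := exists_gen K hK
  set P : F[X] := X ^ 2 - C s * X + C t with hP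
  have hdeg : P.natDegree = 2 := by
    rw [hP]
    compute_degree!
  have hirr : Irreducible P := by
    apply Polynomial.irreducible_of_degree_le_three_of_not_isRoot
    · rw [hdeg]; decide
    · intro l hl
      apply hnoroot l
      have : P.eval l = l * l - s * l + t := by
        rw [hP]; simp [pow_two]
      rw [← this]; exact hl
  set φ : (ι → F) →ₗ[F] (ι → F) := Matrix.toLin' θ with hφ
  have hinvW : ∀ w ∈ W, φ w ∈ W := by
    intro w hw
    rw [hφ, Matrix.toLin'_apply]
    exact hW θ hθ w hw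
  have hφP : aeval φ P = 0 := by
    have h1 : aeval φ P = φ * φ - s • φ + t • (1 : Module.End F (ι → F)) := by
      rw [hP]
      simp only [map_add, map_sub, map_mul, aeval_X, aeval_C, pow_two,
        Algebra.algebraMap_eq_smul_one, smul_mul_assoc, one_mul]
    rw [h1, hφ]
    apply LinearMap.ext
    intro v
    have e : θ *ᵥ (θ *ᵥ v) = s • (θ *ᵥ v) - t • v := by
      rw [Matrix.mulVec_mulVec, hsq, Matrix.sub_mulVec, Matrix.smul_mulVec, Matrix.smul_mulVec,
        Matrix.one_mulVec]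
    simp only [LinearMap.add_apply, LinearMap.sub_apply, LinearMap.smul_apply, Matrix.toLin'_apply,
      Module.End.mul_apply, Module.End.one_apply, LinearMap.zero_apply, e]
    abel
  have hres : aeval (φ.restrict hinvW) P = 0 := by
    apply LinearMap.ext
    intro w
    apply Subtype.ext
    rw [Cfsg.Agent.Lib.Helper49.aeval_restrict_apply φ W hinvW P w, hφP]
    rfl
  have h := Cfsg.Agent.Lib.Helper49.natDegree_dvd_finrank_of_irreducible (φ.restrict hinvW) P hirr hres
  rw [hdeg] at h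
  exact even_iff_two_dvd.mpr h

end Cfsg.Agent.Lib.Helper91.SpU
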