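import Mathlib
import Cfsg.Agent.Lib.Helper03.PGroupFrattini

set_option autoImplicit false

/-!
# The Frattini subgroup lies in any subgroup with elementary abelian 2-quotient
-/

namespace Cfsg.Agent.Lib.Helper91

theorem frattini_le_of_sq_comm {P : Type*} [Group P] [Finite P] (N : Subgroup P)
    (hsq : ∀ x : P, x * x ∈ N) (hcomm : ∀ x y : P, x * y * x⁻¹ * y⁻¹ ∈ N) : frattini P ≤ N := by
  intro x hx
  by_contra hxN
  let S : Set (Subgroup P) := {M | N ≤ M ∧ x ∉ M}
  have hS0 : N ∈ S := ⟨le_rfl, hxN⟩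
  obtain ⟨M, -, hMS, hMmax⟩ := (Set.toFinite S).exists_le_maximal hS0
  have hNM : N ≤ M := hMS.1
  have hxM : x ∉ M := hMS.2
  have hMn : M.Normal := by
    constructor
    intro m hm g
    have : g * m * g⁻¹ = (g * m * g⁻¹ * m⁻¹) * m := by group
    rw [this]
    exact M.mul_mem (hNM (hcomm g m)) hm
  have hcoatom : IsCoatom M := by
    refine ⟨?_, ?_⟩
    · intro h
      apply hxM
      rw [h]; trivial
    · intro K hMK
      have hxK : x ∈ K := by
        by_contra hxK
        have hKS : K ∈ S := ⟨hNM.trans hMK.le, hxK⟩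
        exact hMK.not_ge (hMmax hKS hMK.le)
      rw [eq_top_iff]
      intro g _
      by_cases hgM : g ∈ M
      · exact hMK.le hgM
      · -- x ∈ M ⊔ zpowers g
        have hx' : x ∈ M ⊔ Subgroup.zpowers g := by
          by_contra hx'
          have hKS : M ⊔ Subgroup.zpowers g ∈ S := ⟨hNM.trans le_sup_left, hx'⟩
          have := hMmax hKS le_sup_left
          exact hgM (this (le_sup_right (a := M) (Subgroup.mem_zpowers g)))
        rw [Subgroup.mem_sup_of_normal_left] at hx'
        obtain ⟨y, hy, w, hw, hyw⟩ := hx'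
        obtain ⟨k, hk⟩ := Subgroup.mem_zpowers_iff.mp hw
        have hgg : ∀ j : ℤ, (g * g) ^ j ∈ M := fun j => M.zpow_mem (hNM (hsq g)) j
        rcases Int.even_or_odd' k with ⟨j, hj | hj⟩
        · exfalso
          apply hxM
          rw [← hyw, ← hk, hj]
          have : g ^ (2 * j) = (g * g) ^ j := by
            rw [zpow_mul, zpow_ofNat, pow_two]
          rw [this]
          exact M.mul_mem hy (hgg j)
        · have h1 : g ^ (2 * j + 1) = (g * g) ^ j * g := by
            rw [zpow_add, zpow_mul, zpow_ofNat, pow_two, zpow_one]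
          have h2 : g = ((g * g) ^ j)⁻¹ * (y⁻¹ * x) := by
            rw [← hyw, ← hk, hj, h1]; group
          rw [h2]
          exact K.mul_mem (K.inv_mem (hMK.le (hgg j)))
            (K.mul_mem (K.inv_mem (hMK.le hy)) hxK)
  exact hxM ((Cfsg.Agent.Lib.Helper03.mem_frattini_iff x).mp hx M hcoatom)

end Cfsg.Agent.Lib.Helper91
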