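import Mathlib
import Cfsg.Prelude.Def_JordanBlocks
import Cfsg.Agent.Lib.Helper73.UCDefs
import Cfsg.Agent.Lib.Helper73.SPCDefs

/-!
# K-SPC leaf B0 (keystone 267603): conjugation + reindexing invariance of `orbCount A (AltInv A)`
-/

set_option autoImplicit false

namespace Cfsg.Agent.Lib.Helper91.SPC

open Matrix Cfsg.Agent.Lib.Helper73.UC Cfsg.Agent.Lib.Helper73.SPC

variable {F : Type*} [Field F]

/-- transport of the orbit count along a bijection of matrices compatible with the sets and the relations -/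
theorem orbCount_congr {ι ι' : Type*} [Fintype ι] [DecidableEq ι] [Fintype ι'] [DecidableEq ι']
    (A : Matrix ι ι F) (A' : Matrix ι' ι' F) (S : Set (Matrix ι ι F)) (S' : Set (Matrix ι' ι' F))
    (Φ : Matrix ι' ι' F ≃ Matrix ι ι F) (hS : ∀ B, B ∈ S' ↔ Φ B ∈ S)
    (hR : ∀ B B', CongRel A' B B' ↔ CongRel A (Φ B) (Φ B')) :
    orbCount A' S' = orbCount A S := by
  unfold orbCount
  apply Nat.card_congr
  refine Quotient.congr (Φ.subtypeEquiv hS) ?_
  rintro ⟨B, hB⟩ ⟨B', hB'⟩
  exact hR B B'

section conj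

variable {ι : Type*} [Fintype ι] [DecidableEq ι]

theorem altInv_conj (c d : Matrix ι ι F) (hcd : c * d = 1) (A₁ A' : Matrix ι ι F)
    (h : c * A₁ = A' * c) {B : Matrix ι ι F} (hB : B ∈ AltInv A') : cᵀ * B * c ∈ AltInv A₁ := by
  obtain ⟨h1, h2, h3⟩ := hB
  refine ⟨?_, ?_, ?_⟩
  · rw [Matrix.transpose_mul, Matrix.transpose_mul, Matrix.transpose_transpose, h1]
    simp only [Matrix.mul_neg, Matrix.neg_mul, mul_assoc]
  · have hc : IsUnit c.det := by
      have : c.det * d.det = 1 := by rw [← Matrix.det_mul, hcd, Matrix.det_one]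
      exact IsUnit.of_mul_eq_one _ this
    rw [Matrix.det_mul, Matrix.det_mul, Matrix.det_transpose]
    exact (hc.mul h2).mul hc
  · calc A₁ᵀ * (cᵀ * B * c) * A₁ = (c * A₁)ᵀ * B * (c * A₁) := by
          rw [Matrix.transpose_mul]; simp only [mul_assoc]
      _ = (A' * c)ᵀ * B * (A' * c) := by rw [h]
      _ = cᵀ * (A'ᵀ * B * A') * c := by rw [Matrix.transpose_mul]; simp only [mul_assoc]
      _ = cᵀ * B * c := by rw [h3]

theorem congRel_conj (c d : Matrix ι ι F) (hcd : c * d = 1) (hdc : d * c = 1) (A₁ A' : Matrix ι ι F)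
    (h : c * A₁ = A' * c) {B B' : Matrix ι ι F} (hR : CongRel A' B B') :
    CongRel A₁ (cᵀ * B * c) (cᵀ * B' * c) := by
  obtain ⟨x, hx, hxA, hxB⟩ := hR
  have h' : d * A' = A₁ * d := by
    calc d * A' = d * (A' * c) * d := by rw [mul_assoc, mul_assoc, hcd, mul_one]
      _ = d * (c * A₁) * d := by rw [h]
      _ = (d * c) * A₁ * d := by simp only [mul_assoc]
      _ = A₁ * d := by rw [hdc, one_mul]
  have hc : IsUnit c.det := by
    have : c.det * d.det = 1 := by rw [← Matrix.det_mul, hcd, Matrix.det_one]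
    exact IsUnit.of_mul_eq_one _ this
  have hd : IsUnit d.det := by
    have : d.det * c.det = 1 := by rw [← Matrix.det_mul, hdc, Matrix.det_one]
    exact IsUnit.of_mul_eq_one _ this
  refine ⟨d * x * c, ?_, ?_, ?_⟩
  · rw [Matrix.det_mul, Matrix.det_mul]
    exact (hd.mul hx).mul hc
  · calc d * x * c * A₁ = d * x * (c * A₁) := by simp only [mul_assoc]
      _ = d * (x * A') * c := by rw [h]; simp only [mul_assoc]
      _ = (d * A') * x * c := by rw [hxA]; simp only [mul_assoc]
      _ = A₁ * (d * x * c) := by rw [h']; simp only [mul_assoc]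
  · have hdT : dᵀ * cᵀ = 1 := by rw [← Matrix.transpose_mul, hcd, Matrix.transpose_one]
    calc (d * x * c)ᵀ * (cᵀ * B * c) * (d * x * c)
        = cᵀ * xᵀ * (dᵀ * cᵀ) * B * (c * d) * x * c := by
          rw [Matrix.transpose_mul, Matrix.transpose_mul]; simp only [mul_assoc]
      _ = cᵀ * (xᵀ * B * x) * c := by rw [hdT, hcd]; simp only [mul_assoc, mul_one, one_mul]
      _ = cᵀ * B' * c := by rw [hxB]

/-- the bijection `B ↦ cᵀ B c` -/
def conjEquiv (c d : Matrix ι ι F) (hcd : c * d = 1) (hdc : d * c = 1) :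
    Matrix ι ι F ≃ Matrix ι ι F where
  toFun B := cᵀ * B * c
  invFun B := dᵀ * B * d
  left_inv B := by
    have hdT : dᵀ * cᵀ = 1 := by rw [← Matrix.transpose_mul, hcd, Matrix.transpose_one]
    calc dᵀ * (cᵀ * B * c) * d = (dᵀ * cᵀ) * B * (c * d) := by simp only [mul_assoc]
      _ = B := by rw [hdT, hcd, one_mul, mul_one]
  right_inv B := by
    have hcT : cᵀ * dᵀ = 1 := by rw [← Matrix.transpose_mul, hdc, Matrix.transpose_one]
    calc cᵀ * (dᵀ * B * d) * c = (cᵀ * dᵀ) * B * (d * c) := by simp only [mul_assoc]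
      _ = B := by rw [hcT, hdc, one_mul, mul_one]

theorem orbCount_altInv_conj (c d : Matrix ι ι F) (hcd : c * d = 1) (hdc : d * c = 1)
    (A₁ A' : Matrix ι ι F) (h : c * A₁ = A' * c) :
    orbCount A' (AltInv A') = orbCount A₁ (AltInv A₁) := by
  have h' : d * A' = A₁ * d := by
    calc d * A' = d * (A' * c) * d := by rw [mul_assoc, mul_assoc, hcd, mul_one]
      _ = d * (c * A₁) * d := by rw [h]
      _ = (d * c) * A₁ * d := by simp only [mul_assoc]
      _ = A₁ * d := by rw [hdc, one_mul]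
  have hinv : ∀ B : Matrix ι ι F, dᵀ * (cᵀ * B * c) * d = B := (conjEquiv c d hcd hdc).left_inv
  refine orbCount_congr A₁ A' _ _ (conjEquiv c d hcd hdc) ?_ ?_
  · intro B
    constructor
    · exact altInv_conj c d hcd A₁ A' h
    · intro hB
      have := altInv_conj d c hdc A' A₁ h' hB
      rwa [show (conjEquiv c d hcd hdc) B = cᵀ * B * c from rfl, hinv] at this
  · intro B B'
    constructor
    · exact congRel_conj c d hcd hdc A₁ A' h
    · intro hR
      have := congRel_conj d c hdc hcd A' A₁ h' hR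
      rwa [show (conjEquiv c d hcd hdc) B = cᵀ * B * c from rfl,
        show (conjEquiv c d hcd hdc) B' = cᵀ * B' * c from rfl, hinv, hinv] at this

end conj

section reindex

variable {ι ι' : Type*} [Fintype ι] [DecidableEq ι] [Fintype ι'] [DecidableEq ι']

theorem altInv_submatrix (e : ι ≃ ι') (A' : Matrix ι' ι' F) {B : Matrix ι' ι' F}
    (hB : B ∈ AltInv A') : B.submatrix e e ∈ AltInv (A'.submatrix e e) := by
  obtain ⟨h1, h2, h3⟩ := hB
  refine ⟨?_, ?_, ?_⟩
  · rw [Matrix.transpose_submatrix, h1]; rfl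
  · rw [Matrix.det_submatrix_equiv_self]; exact h2
  · rw [Matrix.transpose_submatrix, Matrix.submatrix_mul_equiv, Matrix.submatrix_mul_equiv, h3]

theorem congRel_submatrix (e : ι ≃ ι') (A' : Matrix ι' ι' F) {B B' : Matrix ι' ι' F}
    (hR : CongRel A' B B') :
    CongRel (A'.submatrix e e) (B.submatrix e e) (B'.submatrix e e) := by
  obtain ⟨x, hx, hxA, hxB⟩ := hR
  refine ⟨x.submatrix e e, ?_, ?_, ?_⟩
  · rw [Matrix.det_submatrix_equiv_self]; exact hx
  · rw [Matrix.submatrix_mul_equiv, Matrix.submatrix_mul_equiv, hxA]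
  · rw [Matrix.transpose_submatrix, Matrix.submatrix_mul_equiv, Matrix.submatrix_mul_equiv, hxB]

theorem submatrix_symm_submatrix (e : ι ≃ ι') (B : Matrix ι' ι' F) :
    (B.submatrix e e).submatrix e.symm e.symm = B := by
  ext i j; simp

theorem orbCount_altInv_reindex (e : ι ≃ ι') (A : Matrix ι ι F) :
    orbCount (Matrix.reindex e e A) (AltInv (Matrix.reindex e e A)) = orbCount A (AltInv A) := by
  have hA : (Matrix.reindex e e A).submatrix e e = A := by
    ext i j; simp
  refine orbCount_congr A (Matrix.reindex e e A) _ _ (Matrix.reindex e e).symm ?_ ?_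
  · intro B
    show B ∈ AltInv (Matrix.reindex e e A) ↔ B.submatrix e e ∈ AltInv A
    constructor
    · intro hB
      have := altInv_submatrix e _ hB
      rwa [hA] at this
    · intro hB
      have := altInv_submatrix e.symm A hB
      rwa [submatrix_symm_submatrix] at this
  · intro B B'
    show CongRel (Matrix.reindex e e A) B B' ↔ CongRel A (B.submatrix e e) (B'.submatrix e e)
    constructor
    · intro hR
      have := congRel_submatrix e _ hR
      rwa [hA] at this
    · intro hR
      have := congRel_submatrix e.symm A hR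
      rwa [submatrix_symm_submatrix, submatrix_symm_submatrix] at this

end reindex

/-- **LEAF B0** -/
theorem orbCount_altInv_of_isConj {ι ι' : Type*} [Fintype ι] [DecidableEq ι] [Fintype ι']
    [DecidableEq ι'] (e : ι ≃ ι') (A : Matrix ι ι F) (A' : Matrix ι' ι' F)
    (h : IsConj (Matrix.reindex e e A) A') :
    orbCount A' (AltInv A') = orbCount A (AltInv A) := by
  obtain ⟨c, hc⟩ := h
  rw [orbCount_altInv_conj (c : Matrix ι' ι' F) ((c⁻¹ : (Matrix ι' ι' F)ˣ) : Matrix ι' ι' F)
    c.mul_inv c.inv_mul (Matrix.reindex e e A) A' hc, orbCount_altInv_reindex]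

end Cfsg.Agent.Lib.Helper91.SPC
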