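import Mathlib

/-!
# K-Ree2-E (keystone 115202, architect helper76): `PSL₂(F)` has no element of order `4` when `2` is
not a square in `F` (and `2 ≠ 0`)
-/

set_option autoImplicit false
set_option linter.unusedVariables false

namespace Cfsg.Agent.Lib.Helper91.Ree2

open Matrix

/-- Cayley–Hamilton for `2 × 2` matrices of determinant one: `A² = τ A - 1`. -/
theorem sq_eq_of_det_one {F : Type*} [Field F] (A : Matrix (Fin 2) (Fin 2) F) (hA : A.det = 1) :
    A * A = A.trace • A - 1 := by
  rw [Matrix.det_fin_two] at hA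
  ext i j
  fin_cases i <;> fin_cases j <;>
    simp [Matrix.mul_apply, Fin.sum_univ_two, Matrix.trace_fin_two] <;>
    first | ring1 | linear_combination hA | linear_combination -hA

/-- a `2 × 2` matrix `A` of determinant one with `A² · A² = r • 1`, `r = ± 1`, has `A²` scalar `± 1`,
provided `2` is a nonzero non-square -/
theorem sq_scalar_of_pow_four {F : Type*} [Field F] (h2 : ¬ IsSquare (2 : F)) (hchar : (2 : F) ≠ 0)
    (A : Matrix (Fin 2) (Fin 2) F) (hA : A.det = 1) (r : F) (hr : r = 1 ∨ r = -1)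
    (h4 : (A * A) * (A * A) = r • (1 : Matrix (Fin 2) (Fin 2) F)) :
    ∃ c : F, c ^ 2 = 1 ∧ A * A = c • (1 : Matrix (Fin 2) (Fin 2) F) := by
  set H := A * A with hH
  have hHdet : H.det = 1 := by rw [hH, Matrix.det_mul, hA, mul_one]
  have hCH := sq_eq_of_det_one H hHdet
  set τ := H.trace with hτ
  -- `τ • H = (r + 1) • 1`
  have h1 : τ • H = (r + 1) • (1 : Matrix (Fin 2) (Fin 2) F) := by
    rw [h4] at hCH
    rw [add_smul, one_smul, hCH]
    abel
  rcases hr with rfl | rfl
  · -- `r = 1`: `τ • H = 2 • 1`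
    have hτ0 : τ ≠ 0 := by
      intro h0
      rw [h0, zero_smul] at h1
      have := congrFun (congrFun h1 0) 0
      simp at this
      apply hchar
      linear_combination -this
    refine ⟨(1 + 1) / τ, ?_, ?_⟩
    · -- `c² = det H = 1`
      have hHc : H = ((1 + 1) / τ) • (1 : Matrix (Fin 2) (Fin 2) F) := by
        have : H = τ⁻¹ • (τ • H) := by rw [smul_smul, inv_mul_cancel₀ hτ0, one_smul]
        rw [this, h1, smul_smul]
        congr 1
        field_simp
      have hd := hHdet
      rw [hHc, Matrix.det_smul, Matrix.det_one, mul_one, Fintype.card_fin] at hd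
      exact hd
    · have : H = τ⁻¹ • (τ • H) := by rw [smul_smul, inv_mul_cancel₀ hτ0, one_smul]
      rw [this, h1, smul_smul]
      congr 1
      field_simp
  · -- `r = -1`: `τ • H = 0`, so `τ = 0`, i.e. `trace A ^ 2 = 2`
    exfalso
    rw [neg_add_cancel, zero_smul] at h1
    have hτ0 : τ = 0 := by
      by_contra hne
      have hH0 : H = 0 := by
        have : H = τ⁻¹ • (τ • H) := by rw [smul_smul, inv_mul_cancel₀ hne, one_smul]
        rw [this, h1, smul_zero]
      rw [hH0] at hHdet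
      simp at hHdet
    -- `trace (A * A) = (trace A)^2 - 2`
    have htr : τ = A.trace ^ 2 - 2 := by
      rw [hτ, hH, sq_eq_of_det_one A hA, Matrix.trace_sub, Matrix.trace_smul, Matrix.trace_one,
        Fintype.card_fin, smul_eq_mul]
      push_cast
      ring
    apply h2
    refine ⟨A.trace, ?_⟩
    rw [hτ0] at htr
    linear_combination htr

/-- **K-Ree2-E** (115202) -/
theorem psl2_sq_eq_one {F : Type*} [Field F] (h2 : ¬ IsSquare (2 : F)) (hchar : (2 : F) ≠ 0)
    (y : Matrix.ProjectiveSpecialLinearGroup (Fin 2) F) (hy : y ^ 4 = 1) : y ^ 2 = 1 := by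
  obtain ⟨g, rfl⟩ := QuotientGroup.mk_surjective y
  rw [← QuotientGroup.mk_pow, QuotientGroup.eq_one_iff] at hy ⊢
  rw [Matrix.SpecialLinearGroup.mem_center_iff] at hy ⊢
  obtain ⟨r, hr2, hr⟩ := hy
  rw [Fintype.card_fin] at hr2
  have hr' : r = 1 ∨ r = -1 := by
    have h0 : (r - 1) * (r + 1) = 0 := by linear_combination hr2
    rcases mul_eq_zero.mp h0 with h | h
    · exact Or.inl (sub_eq_zero.mp h)
    · exact Or.inr (eq_neg_of_add_eq_zero_left h)
  have hdet : (g : Matrix (Fin 2) (Fin 2) F).det = 1 := g.2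
  have h4 : ((g : Matrix (Fin 2) (Fin 2) F) * (g : Matrix (Fin 2) (Fin 2) F)) *
      ((g : Matrix (Fin 2) (Fin 2) F) * (g : Matrix (Fin 2) (Fin 2) F)) =
      r • (1 : Matrix (Fin 2) (Fin 2) F) := by
    have h5 : ((g ^ 4 : Matrix.SpecialLinearGroup (Fin 2) F) : Matrix (Fin 2) (Fin 2) F) =
        r • (1 : Matrix (Fin 2) (Fin 2) F) := by
      rw [← hr, Matrix.scalar_apply, ← Matrix.smul_one_eq_diagonal]
    rw [← h5, Matrix.SpecialLinearGroup.coe_pow]
    noncomm_ring
  obtain ⟨c, hc2, hc⟩ := sq_scalar_of_pow_four h2 hchar _ hdet r hr' h4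
  refine ⟨c, by rw [Fintype.card_fin]; exact hc2, ?_⟩
  rw [Matrix.SpecialLinearGroup.coe_pow, pow_two, hc, Matrix.scalar_apply,
    ← Matrix.smul_one_eq_diagonal]

end Cfsg.Agent.Lib.Helper91.Ree2
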