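import Cfsg.Agent.S5076
import Cfsg.Agent.Lib.Helper87.FusionRealized
import Cfsg.Agent.Lib.Helper88.SylowLocal
import Cfsg.Agent.Lib.Helper90.SylowNormal

set_option autoImplicit false

namespace Cfsg.Agent.Lib.Helper91

open Cfsg Cfsg.FusionSystem Cfsg.Agent.Lib.Helper87

variable {G : Type*} [Group G]

/-- `F_T(H)` is realized by the inclusion of `T` into `H`. -/
theorem fusionSystemOfSubgroup_isRealizedBy (H T : Subgroup G) (hTH : T ≤ H) :
    (fusionSystemOfSubgroup H T hTH).IsRealizedBy (Subgroup.inclusion hTH) := by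
  refine ⟨Subgroup.inclusion_injective hTH, fun P hP φ hφ => ?_⟩
  constructor
  · rintro ⟨-, -, g, hg, h⟩
    refine ⟨⟨g, hg⟩, fun x => ?_⟩
    apply Subtype.ext
    exact h x
  · rintro ⟨g, hg⟩
    exact ⟨hP, hφ, g.1, g.2, fun x => congrArg Subtype.val (hg x)⟩

/-- `F_{S ∩ H}(H)` is saturated when `H` is normal and `S` is a Sylow subgroup. -/
theorem fusionSystemOfSubgroup_isSaturated [Finite G] (p : ℕ) [Fact p.Prime] (S : Sylow p G)
    (H : Subgroup G) [H.Normal] :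
    (fusionSystemOfSubgroup H ((S : Subgroup G) ⊓ H) inf_le_right).IsSaturated p := by
  obtain ⟨P, hP⟩ := Cfsg.Agent.Lib.Helper90.exists_sylow_eq_subgroupOf S H
  refine isSaturated_of_realized _ (fusionSystemOfSubgroup_isRealizedBy H _ inf_le_right) P ?_
  rw [hP]
  ext x
  constructor
  · intro hx
    rw [Subgroup.mem_subgroupOf] at hx
    exact ⟨⟨x, ⟨hx, x.2⟩⟩, rfl⟩
  · rintro ⟨y, rfl⟩
    rw [Subgroup.mem_subgroupOf]
    exact y.2.1

/-- `F_{S ∩ H}(H)` is a subsystem of `F_S(G)`. -/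
theorem fusionSystemOfSubgroup_isSubsystemOf (S H : Subgroup G) :
    (fusionSystemOfSubgroup H (S ⊓ H) inf_le_right).IsSubsystemOf (groupFusionSystem S) := by
  rintro P φ ⟨hP, hφ, g, -, h⟩
  exact ⟨hP.trans inf_le_left, fun x => (hφ x).1, g, h⟩

/-- `S ∩ H` is strongly closed in `F_S(G)` for `H` normal. -/
theorem stronglyClosed_inf_normal (S H : Subgroup G) [hH : H.Normal] :
    (groupFusionSystem S).StronglyClosed (S ⊓ H) := by
  refine ⟨inf_le_left, ?_⟩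
  rintro R hR φ ⟨-, hφS, g, hg⟩ x
  refine ⟨hφS x, ?_⟩
  rw [hg]
  exact hH.conj_mem _ (hR x.2).2 g

/-- Elements of `Aut_{F_S(G)}(T)` are conjugations. -/
theorem exists_conj_of_mem_autGroup_groupFusion {S T : Subgroup G} (hTS : T ≤ S) {α : MulAut T}
    (hα : α ∈ (groupFusionSystem S).autGroup T) : ∃ a : G, ∀ t : T, ((α t : T) : G) = a * t * a⁻¹ := by
  rw [mem_autGroup_iff _ hTS] at hα
  obtain ⟨-, -, a, ha⟩ := hα
  exact ⟨a, ha⟩

/-- The invariance condition. -/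
theorem fusionSystemOfSubgroup_invariance (S H : Subgroup G) [hH : H.Normal]
    (P : Subgroup G) (hPT : P ≤ S ⊓ H) (φ : P →* G)
    (hφ : φ ∈ (fusionSystemOfSubgroup H (S ⊓ H) inf_le_right).Hom P)
    (α : MulAut ↥(S ⊓ H)) (hα : α ∈ (groupFusionSystem S).autGroup (S ⊓ H)) :
    ∃ χ ∈ (fusionSystemOfSubgroup H (S ⊓ H) inf_le_right).Hom
        ((P.subgroupOf (S ⊓ H)).map ((S ⊓ H).subtype.comp α.toMonoidHom)),
      ∀ (x : P) (hφx : φ x ∈ S ⊓ H)
        (hαx : ((α ⟨x, hPT x.2⟩ : ↥(S ⊓ H)) : G) ∈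
          (P.subgroupOf (S ⊓ H)).map ((S ⊓ H).subtype.comp α.toMonoidHom)),
        χ ⟨(α ⟨x, hPT x.2⟩ : ↥(S ⊓ H)), hαx⟩ = ((α ⟨φ x, hφx⟩ : ↥(S ⊓ H)) : G) := by
  obtain ⟨a, ha⟩ := exists_conj_of_mem_autGroup_groupFusion inf_le_left hα
  obtain ⟨-, hφT, h, hhH, hh⟩ := hφ
  have hmem : ∀ y ∈ (P.subgroupOf (S ⊓ H)).map ((S ⊓ H).subtype.comp α.toMonoidHom),
      ∃ x : P, y = a * (x : G) * a⁻¹ := by
    rintro _ ⟨t, ht, rfl⟩
    have ht' : t ∈ P.subgroupOf (S ⊓ H) := ht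
    rw [Subgroup.mem_subgroupOf] at ht'
    exact ⟨⟨t, ht'⟩, ha t⟩
  refine ⟨conjHom _ (a * h * a⁻¹), ⟨?_, ?_, a * h * a⁻¹, hH.conj_mem _ hhH a, fun y => rfl⟩, ?_⟩
  · rintro _ ⟨t, -, rfl⟩
    exact (α t).2
  · intro y
    obtain ⟨x, hx⟩ := hmem y y.2
    show a * h * a⁻¹ * (y : G) * (a * h * a⁻¹)⁻¹ ∈ S ⊓ H
    have h1 : a * h * a⁻¹ * (y : G) * (a * h * a⁻¹)⁻¹ = a * (h * (x : G) * h⁻¹) * a⁻¹ := by
      rw [hx]; group
    rw [h1, ← hh x, ← ha ⟨φ x, hφT x⟩]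
    exact (α _).2
  · intro x hφx hαx
    show a * h * a⁻¹ * ((α ⟨x, hPT x.2⟩ : ↥(S ⊓ H)) : G) * (a * h * a⁻¹)⁻¹ = _
    rw [ha, ha]
    show _ = a * φ x * a⁻¹
    rw [hh x]
    show a * h * a⁻¹ * (a * (x : G) * a⁻¹) * (a * h * a⁻¹)⁻¹ = a * (h * (x : G) * h⁻¹) * a⁻¹
    group

/-- The Frattini condition. -/
theorem fusionSystemOfSubgroup_frattini [Finite G] (p : ℕ) [Fact p.Prime] (S : Sylow p G)
    (H : Subgroup G) [hH : H.Normal] (P : Subgroup G) (hPT : P ≤ (S : Subgroup G) ⊓ H) (φ : P →* G)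
    (hφ : φ ∈ (groupFusionSystem (S : Subgroup G)).Hom P) :
    ∃ α ∈ (groupFusionSystem (S : Subgroup G)).autGroup ((S : Subgroup G) ⊓ H),
      ∃ φ₀ ∈ (fusionSystemOfSubgroup H ((S : Subgroup G) ⊓ H) inf_le_right).Hom P,
        ∀ (x : P) (hx : φ₀ x ∈ (S : Subgroup G) ⊓ H), φ x = ((α ⟨φ₀ x, hx⟩ : ↥((S : Subgroup G) ⊓ H)) : G) := by
  obtain ⟨-, hφS, g, hg⟩ := hφ
  obtain ⟨ν, hν, n, hn, rfl⟩ := Cfsg.Agent.Lib.Helper90.exists_mul_of_normal S H g
  have hνinv : ν⁻¹ ∈ Subgroup.normalizer ((((S : Subgroup G) ⊓ H : Subgroup G)) : Set G) :=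
    Subgroup.inv_mem _ hν
  have hval : ∀ x : P, n * (x : G) * n⁻¹ ∈ (S : Subgroup G) ⊓ H := by
    intro x
    have h1 : φ x ∈ (S : Subgroup G) ⊓ H := by
      refine ⟨hφS x, ?_⟩
      rw [hg]
      exact hH.conj_mem _ (hPT x.2).2 _
    have h2 := (Subgroup.mem_normalizer_iff.mp hνinv (φ x)).mp h1
    have h3 : ν⁻¹ * φ x * ν⁻¹⁻¹ = n * (x : G) * n⁻¹ := by
      rw [hg]; group
    rwa [h3] at h2
  refine ⟨conjAut _ ν hν, ?_, conjHom P n, ⟨hPT, hval, n, hn, fun x => rfl⟩, fun x hx => ?_⟩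
  · rw [mem_autGroup_iff _ inf_le_left]
    refine ⟨inf_le_left, fun t => ?_, ν, fun t => rfl⟩
    exact (conjAut _ ν hν t).2.1
  · rw [conjAut_apply, hg]
    show ν * n * (x : G) * (ν * n)⁻¹ = ν * (n * (x : G) * n⁻¹) * ν⁻¹
    group

/-- The group-theoretic heart of the extension condition: an element `n ∈ H` normalizing `T = S ∩ H` can be
corrected by an element of `C_H(T)` so as to normalize `T C_S(T)`. -/
theorem exists_centralizer_correction [Finite G] (p : ℕ) [Fact p.Prime] (S : Sylow p G)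
    (H : Subgroup G) [hH : H.Normal] {n : G} (hnH : n ∈ H)
    (hnT : n ∈ Subgroup.normalizer ((((S : Subgroup G) ⊓ H : Subgroup G)) : Set G)) :
    ∃ c₀ ∈ H, c₀ ∈ Subgroup.centralizer ((((S : Subgroup G) ⊓ H : Subgroup G)) : Set G) ∧
      c₀ * n ∈ Subgroup.normalizer
        (((((S : Subgroup G) ⊓ H) ⊔ centralizerIn (S : Subgroup G) ((S : Subgroup G) ⊓ H) : Subgroup G)) : Set G) := by
  set T : Subgroup G := (S : Subgroup G) ⊓ H with hT
  set M : Subgroup G := Subgroup.normalizer (T : Set G) with hM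
  set C : Subgroup G := Subgroup.centralizer (T : Set G) ⊓ H with hC
  set TC : Subgroup G := T ⊔ centralizerIn (S : Subgroup G) T with hTC
  have hTnormS : ∀ s ∈ (S : Subgroup G), ∀ t ∈ T, s * t * s⁻¹ ∈ T := by
    intro s hs t ht
    exact ⟨(S : Subgroup G).mul_mem ((S : Subgroup G).mul_mem hs ht.1) ((S : Subgroup G).inv_mem hs),
      hH.conj_mem _ ht.2 s⟩
  have : Finite T := inferInstance
  have hSM : (S : Subgroup G) ≤ M := by
    intro s hs
    exact mem_normalizer_of_conj_mem (fun t ht => hTnormS s hs t ht)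
  have hSyl : Cfsg.Agent.Lib.Helper88.IsSylowIn p (S : Subgroup G) M :=
    ⟨S.subtype hSM, Sylow.coe_subtype S hSM⟩
  have hCM : C ≤ M := inf_le_left.trans (Subgroup.centralizer_le_normalizer _)
  have hCn : ∀ m ∈ M, ∀ c ∈ C, m * c * m⁻¹ ∈ C := by
    intro m hm c hc
    exact ⟨Cfsg.Agent.Lib.Helper88.conj_mem_centralizer_of_mem_normalizer hm hc.1, hH.conj_mem _ hc.2 m⟩
  have hTCS : TC ≤ (S : Subgroup G) := sup_le inf_le_left (centralizerIn_le _ _)
  have hTCp : IsPGroup p TC := S.isPGroup'.to_le hTCS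
  -- the conjugate of `TC` by `n`
  set U : Subgroup G := TC.map (MulAut.conj n).toMonoidHom with hU
  have hUp : IsPGroup p U := hTCp.map _
  have hUle : U ≤ (S : Subgroup G) ⊔ C := by
    rw [hU, Subgroup.map_le_iff_le_comap, hTC]
    refine sup_le ?_ ?_
    · intro t ht
      show n * t * n⁻¹ ∈ (S : Subgroup G) ⊔ C
      exact (le_sup_left : (S : Subgroup G) ≤ (S : Subgroup G) ⊔ C)
        ((Subgroup.mem_normalizer_iff.mp hnT t).mp ht).1
    · intro c hc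
      show n * c * n⁻¹ ∈ (S : Subgroup G) ⊔ C
      have hcS : c ∈ (S : Subgroup G) := hc.1
      have hcC : c ∈ Subgroup.centralizer (T : Set G) := hc.2
      have h1 : n * c * n⁻¹ = c * (c⁻¹ * n * c * n⁻¹) := by group
      rw [h1]
      refine Subgroup.mul_mem _ ((le_sup_left : (S : Subgroup G) ≤ (S : Subgroup G) ⊔ C) hcS)
        ((le_sup_right : C ≤ (S : Subgroup G) ⊔ C) ⟨?_, ?_⟩)
      · have h2 : c⁻¹ * n * c * n⁻¹ = c⁻¹ * (n * c * n⁻¹) := by group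
        rw [h2]
        exact Subgroup.mul_mem _ (Subgroup.inv_mem _ hcC)
          (Cfsg.Agent.Lib.Helper88.conj_mem_centralizer_of_mem_normalizer hnT hcC)
      · have h2 : c⁻¹ * n * c * n⁻¹ = (c⁻¹ * n * c⁻¹⁻¹) * n⁻¹ := by group
        rw [h2]
        exact H.mul_mem (hH.conj_mem _ hnH _) (H.inv_mem hnH)
  obtain ⟨c₀, hc₀, hconj⟩ := hSyl.exists_conj_le_of_le_sup hSM hCM hCn hUle hUp
  refine ⟨c₀, hc₀.2, hc₀.1, ?_⟩
  have hc₀M : c₀ ∈ M := hCM hc₀
  have hgM : c₀ * n ∈ M := M.mul_mem hc₀M hnT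
  have : Finite TC := inferInstance
  apply mem_normalizer_of_conj_mem
  intro y hy
  -- it suffices to treat generators
  have hkey : TC ≤ TC.comap (MulAut.conj (c₀ * n)).toMonoidHom := by
    rw [hTC]
    refine sup_le ?_ ?_
    · intro t ht
      show c₀ * n * t * (c₀ * n)⁻¹ ∈ T ⊔ centralizerIn (S : Subgroup G) T
      exact (le_sup_left : T ≤ T ⊔ centralizerIn (S : Subgroup G) T)
        ((Subgroup.mem_normalizer_iff.mp hgM t).mp ht)
    · intro c hc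
      show c₀ * n * c * (c₀ * n)⁻¹ ∈ T ⊔ centralizerIn (S : Subgroup G) T
      refine (le_sup_right : centralizerIn (S : Subgroup G) T ≤ T ⊔ centralizerIn (S : Subgroup G) T) ⟨?_, ?_⟩
      · have h1 : c₀ * n * c * (c₀ * n)⁻¹ = c₀ * (n * c * n⁻¹) * c₀⁻¹ := by group
        rw [h1]
        apply hconj
        exact ⟨c, (le_sup_right : centralizerIn (S : Subgroup G) T ≤ TC) hc, rfl⟩
      · exact Cfsg.Agent.Lib.Helper88.conj_mem_centralizer_of_mem_normalizer hgM hc.2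
  exact hkey hy

/-- The extension condition. -/
theorem fusionSystemOfSubgroup_extension [Finite G] (p : ℕ) [Fact p.Prime] (S : Sylow p G)
    (H : Subgroup G) [hH : H.Normal] (α : MulAut ↥((S : Subgroup G) ⊓ H))
    (hα : α ∈ (fusionSystemOfSubgroup H ((S : Subgroup G) ⊓ H) inf_le_right).autGroup ((S : Subgroup G) ⊓ H)) :
    ∃ β ∈ (groupFusionSystem (S : Subgroup G)).autGroup
        (((S : Subgroup G) ⊓ H) ⊔ centralizerIn (S : Subgroup G) ((S : Subgroup G) ⊓ H)),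
      (∀ x : ↥((S : Subgroup G) ⊓ H), ((β (Subgroup.inclusion le_sup_left x) :
          ↥(((S : Subgroup G) ⊓ H) ⊔ centralizerIn (S : Subgroup G) ((S : Subgroup G) ⊓ H))) : G) =
          ((α x : ↥((S : Subgroup G) ⊓ H)) : G)) ∧
      ∀ c : ↥(((S : Subgroup G) ⊓ H) ⊔ centralizerIn (S : Subgroup G) ((S : Subgroup G) ⊓ H)),
        (c : G) ∈ centralizerIn (S : Subgroup G) ((S : Subgroup G) ⊓ H) →
        (c : G)⁻¹ * ((β c : ↥(((S : Subgroup G) ⊓ H) ⊔ centralizerIn (S : Subgroup G) ((S : Subgroup G) ⊓ H))) : G) ∈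
          ((S : Subgroup G) ⊓ H) ⊓ Subgroup.centralizer ((((S : Subgroup G) ⊓ H : Subgroup G)) : Set G) := by
  rw [mem_autGroup_iff _ le_rfl] at hα
  obtain ⟨-, -, n, hnH, hn⟩ := hα
  have hnT : n ∈ Subgroup.normalizer ((((S : Subgroup G) ⊓ H : Subgroup G)) : Set G) :=
    mem_normalizer_of_conj_eq (α := α) hn
  obtain ⟨c₀, hc₀H, hc₀C, hg⟩ := exists_centralizer_correction p S H hnH hnT
  have hTCS : ((S : Subgroup G) ⊓ H) ⊔ centralizerIn (S : Subgroup G) ((S : Subgroup G) ⊓ H) ≤ (S : Subgroup G) :=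
    sup_le inf_le_left (centralizerIn_le _ _)
  refine ⟨conjAut _ (c₀ * n) hg, ?_, fun x => ?_, fun c hc => ?_⟩
  · rw [mem_autGroup_iff _ hTCS]
    exact ⟨hTCS, fun t => hTCS (conjAut _ (c₀ * n) hg t).2, c₀ * n, fun t => rfl⟩
  · rw [conjAut_apply]
    show c₀ * n * (x : G) * (c₀ * n)⁻¹ = _
    have h1 : c₀ * n * (x : G) * (c₀ * n)⁻¹ = c₀ * (n * (x : G) * n⁻¹) * c₀⁻¹ := by group
    have h2 : n * (x : G) * n⁻¹ = ((α x : ↥((S : Subgroup G) ⊓ H)) : G) := (hn x).symm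
    rw [h1, h2]
    have h3 := Subgroup.mem_centralizer_iff.mp hc₀C _ (α x).2
    rw [← h3]; group
  · rw [conjAut_apply]
    have hgH : c₀ * n ∈ H := H.mul_mem hc₀H hnH
    have hgT : c₀ * n ∈ Subgroup.normalizer ((((S : Subgroup G) ⊓ H : Subgroup G)) : Set G) :=
      Subgroup.mul_mem _ (Subgroup.centralizer_le_normalizer _ hc₀C) hnT
    refine ⟨⟨?_, ?_⟩, ?_⟩
    · refine (S : Subgroup G).mul_mem ((S : Subgroup G).inv_mem hc.1) ?_
      exact hTCS (conjAut _ (c₀ * n) hg c).2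
    · have h1 : (c : G)⁻¹ * (c₀ * n * (c : G) * (c₀ * n)⁻¹) =
          ((c : G)⁻¹ * (c₀ * n) * (c : G)⁻¹⁻¹) * (c₀ * n)⁻¹ := by group
      rw [h1]
      exact H.mul_mem (hH.conj_mem _ hgH _) (H.inv_mem hgH)
    · exact Subgroup.mul_mem _ (Subgroup.inv_mem _ hc.2)
        (Cfsg.Agent.Lib.Helper88.conj_mem_centralizer_of_mem_normalizer hgT hc.2)

/-- For a normal subgroup `H` of the finite group `G` and a Sylow `p`-subgroup `S`, the fusion system of `H` on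
`S ∩ H` is normal in the fusion system of `G` on `S`. -/
theorem fusionSystemOfSubgroup_isNormalIn [Finite G] (p : ℕ) [Fact p.Prime] (S : Sylow p G)
    (H : Subgroup G) [H.Normal] :
    (fusionSystemOfSubgroup H ((S : Subgroup G) ⊓ H) inf_le_right).IsNormalIn
      (groupFusionSystem (S : Subgroup G)) p := by
  refine ⟨⟨fusionSystemOfSubgroup_isSaturated p S H, Cfsg.Agent.S5076.result p S,
    fusionSystemOfSubgroup_isSubsystemOf _ H, stronglyClosed_inf_normal _ H, ?_, ?_⟩, ?_⟩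
  · intro P hPT φ hφ α hα
    exact fusionSystemOfSubgroup_invariance _ H P hPT φ hφ α hα
  · intro P hPT φ hφ
    exact fusionSystemOfSubgroup_frattini p S H P hPT φ hφ
  · intro α hα
    exact fusionSystemOfSubgroup_extension p S H α hα

end Cfsg.Agent.Lib.Helper91
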