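import Cfsg.Prelude.Def_FusionSystem

set_option autoImplicit false

namespace Cfsg.Agent.Lib.Helper91

open Cfsg Cfsg.FusionSystem

variable {Ω : Type*} [Group Ω] {S : Subgroup Ω}

/-! ### Basic closure properties of the maps of a fusion system -/

theorem hom_congr (F : FusionSystem S) {P : Subgroup Ω} {φ φ' : P →* Ω} (hφ : φ ∈ F.Hom P)
    (h : ∀ x : P, φ' x = φ x) : φ' ∈ F.Hom P := by
  have : φ' = φ := MonoidHom.ext h
  rw [this]; exact hφ

theorem hom_le (F : FusionSystem S) {P : Subgroup Ω} {φ : P →* Ω} (hφ : φ ∈ F.Hom P) : P ≤ S :=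
  (F.le_of_mem hφ).1

theorem hom_mem (F : FusionSystem S) {P : Subgroup Ω} {φ : P →* Ω} (hφ : φ ∈ F.Hom P) (x : P) :
    φ x ∈ S :=
  (F.le_of_mem hφ).2 x

theorem subtype_mem (F : FusionSystem S) {P : Subgroup Ω} (hP : P ≤ S) : P.subtype ∈ F.Hom P := by
  refine hom_congr F (F.conj_mem hP S.one_mem) (fun x => ?_)
  simp [conjHom]

theorem restrict_mem (F : FusionSystem S) {P R : Subgroup Ω} (hRP : R ≤ P) {φ : P →* Ω}
    (hφ : φ ∈ F.Hom P) : φ.comp (Subgroup.inclusion hRP) ∈ F.Hom R := by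
  have hR : R ≤ S := hRP.trans (hom_le F hφ)
  have h1 := subtype_mem F hR
  have h2 := F.comp_mem h1 hφ (fun x => hRP x.2)
  refine hom_congr F h2 (fun x => ?_)
  rfl

/-- Composition in a convenient form. -/
theorem comp_mem' (F : FusionSystem S) {P Q : Subgroup Ω} {φ : P →* Ω} {ψ : Q →* Ω}
    (hφ : φ ∈ F.Hom P) (hψ : ψ ∈ F.Hom Q) (h : ∀ x : P, φ x ∈ Q) {χ : P →* Ω}
    (hχ : ∀ x : P, χ x = ψ ⟨φ x, h x⟩) : χ ∈ F.Hom P :=
  hom_congr F (F.comp_mem hφ hψ h) (fun x => by rw [hχ]; rfl)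

/-- Inverse in a convenient form: a map defined on a subgroup `Q` which is the image of `φ`. -/
theorem inv_mem' (F : FusionSystem S) {P Q : Subgroup Ω} {φ : P →* Ω} (hφ : φ ∈ F.Hom P)
    (hQ : φ.range = Q) :
    ∃ ψ ∈ F.Hom Q, (∀ (x : P) (y : Q), φ x = (y : Ω) → ψ y = (x : Ω)) ∧ ψ.range = P := by
  subst hQ
  obtain ⟨ψ, hψ, hψx⟩ := F.inv_mem hφ
  refine ⟨ψ, hψ, fun x y h => ?_, ?_⟩
  · have : y = ⟨φ x, ⟨x, rfl⟩⟩ := Subtype.ext h.symm
    rw [this]; exact hψx x
  · ext y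
    constructor
    · rintro ⟨⟨_, x, rfl⟩, rfl⟩
      rw [hψx]; exact x.2
    · intro hy
      exact ⟨⟨φ ⟨y, hy⟩, ⟨y, hy⟩, rfl⟩, hψx ⟨y, hy⟩⟩

theorem isConj_refl (F : FusionSystem S) {P : Subgroup Ω} (hP : P ≤ S) : F.IsConj P P :=
  ⟨P.subtype, subtype_mem F hP, Subgroup.range_subtype P⟩

theorem isConj_symm (F : FusionSystem S) {P Q : Subgroup Ω} (h : F.IsConj P Q) : F.IsConj Q P := by
  obtain ⟨φ, hφ, hr⟩ := h
  obtain ⟨ψ, hψ, -, hψr⟩ := inv_mem' F hφ hr
  exact ⟨ψ, hψ, hψr⟩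

theorem isConj_trans (F : FusionSystem S) {P Q R : Subgroup Ω} (h₁ : F.IsConj P Q)
    (h₂ : F.IsConj Q R) : F.IsConj P R := by
  obtain ⟨φ, hφ, hr⟩ := h₁
  obtain ⟨ψ, hψ, hψr⟩ := h₂
  have h : ∀ x : P, φ x ∈ Q := fun x => hr ▸ ⟨x, rfl⟩
  refine ⟨ψ.comp (φ.codRestrict Q h), F.comp_mem hφ hψ h, ?_⟩
  ext y
  constructor
  · rintro ⟨x, rfl⟩
    rw [← hψr]; exact ⟨_, rfl⟩
  · intro hy
    rw [← hψr] at hy
    obtain ⟨q, rfl⟩ := hy
    have hq : (q : Ω) ∈ φ.range := hr ▸ q.2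
    obtain ⟨x, hx⟩ := hq
    refine ⟨x, ?_⟩
    show ψ (φ.codRestrict Q h x) = ψ q
    congr 1
    exact Subtype.ext hx

theorem isConj_le_left (F : FusionSystem S) {P Q : Subgroup Ω} (h : F.IsConj P Q) : P ≤ S := by
  obtain ⟨φ, hφ, -⟩ := h
  exact hom_le F hφ

theorem isConj_le_right (F : FusionSystem S) {P Q : Subgroup Ω} (h : F.IsConj P Q) : Q ≤ S :=
  isConj_le_left F (isConj_symm F h)

theorem finite_of_le {P S : Subgroup Ω} [Finite S] (h : P ≤ S) : Finite P :=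
  Finite.of_injective (Subgroup.inclusion h) (Subgroup.inclusion_injective h)

/-- A map of the system with values in a subgroup `Q ≤ S` (finite) does not decrease cardinality. -/
theorem card_le_of_hom [Finite S] (F : FusionSystem S) {P Q : Subgroup Ω} {φ : P →* Ω}
    (hφ : φ ∈ F.Hom P) (hQ : Q ≤ S) (h : ∀ x : P, φ x ∈ Q) : Nat.card P ≤ Nat.card Q := by
  have : Finite Q := finite_of_le hQ
  apply Nat.card_le_card_of_injective (φ.codRestrict Q h)
  intro a b hab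
  apply F.injective_of_mem hφ
  exact congrArg Subtype.val hab

theorem card_eq_of_isConj [Finite S] (F : FusionSystem S) {P Q : Subgroup Ω} (h : F.IsConj P Q) :
    Nat.card P = Nat.card Q := by
  have h' := isConj_symm F h
  obtain ⟨φ, hφ, hr⟩ := h
  obtain ⟨ψ, hψ, hψr⟩ := h'
  apply le_antisymm
  · exact card_le_of_hom F hφ (isConj_le_left F ⟨ψ, hψ, hψr⟩) (fun x => hr ▸ ⟨x, rfl⟩)
  · exact card_le_of_hom F hψ (hom_le F hφ) (fun x => hψr ▸ ⟨x, rfl⟩)

/-! ### The automorphism group of a subgroup in the system -/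

theorem autGroup_mono {F E : FusionSystem S} {P : Subgroup Ω} (h : F.Hom P ⊆ E.Hom P) :
    F.autGroup P ≤ E.autGroup P :=
  Subgroup.closure_mono (fun _ hα => h hα)

/-- For `P ≤ S`, membership in `Aut_F(P)` is membership of the underlying map in the system. -/
theorem mem_autGroup_iff (F : FusionSystem S) {P : Subgroup Ω} (hP : P ≤ S) (α : MulAut P) :
    α ∈ F.autGroup P ↔ P.subtype.comp α.toMonoidHom ∈ F.Hom P := by
  constructor
  · intro hα
    unfold FusionSystem.autGroup at hα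
    induction hα using Subgroup.closure_induction with
    | mem α hα => exact hα
    | one => exact hom_congr F (subtype_mem F hP) (fun x => rfl)
    | mul α β _ _ ihα ihβ =>
      exact comp_mem' F ihβ ihα (fun x => (β x).2) (fun x => rfl)
    | inv α _ ih =>
      have hr : (P.subtype.comp α.toMonoidHom).range = P := by
        ext y
        constructor
        · rintro ⟨x, rfl⟩
          exact (α x).2
        · intro hy
          refine ⟨α.symm ⟨y, hy⟩, ?_⟩
          show ((α (α.symm ⟨y, hy⟩) : P) : Ω) = y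
          rw [MulEquiv.apply_symm_apply]
      obtain ⟨ψ, hψ, hψx, -⟩ := inv_mem' F ih hr
      refine hom_congr F hψ (fun y => ?_)
      have := hψx (α⁻¹ y) y (by
        show ((α (α⁻¹ y) : P) : Ω) = y
        have : α (α⁻¹ y) = y := by
          show α (α.symm y) = y
          exact MulEquiv.apply_symm_apply α y
        rw [this])
      rw [this]
      rfl
  · intro h
    exact Subgroup.subset_closure h

/-! ### Filtering a system by another on a family of subgroups closed upwards along the maps -/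

/-- Given fusion systems `F`, `E` over `S` and a property `Pr` of subgroups which passes from the source of a map of
`F` to any subgroup of `S` containing its image, the maps `φ` of `F` which belong to `E` whenever their source
satisfies `Pr` form a fusion system. -/
def filterSystem (F E : FusionSystem S) (Pr : Subgroup Ω → Prop)
    (hPr : ∀ (P Q : Subgroup Ω) (φ : P →* Ω), φ ∈ F.Hom P → (∀ x : P, φ x ∈ Q) → Q ≤ S → Pr P → Pr Q) :
    FusionSystem S where
  Hom P := {φ | φ ∈ F.Hom P ∧ (Pr P → φ ∈ E.Hom P)}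
  le_of_mem h := F.le_of_mem h.1
  injective_of_mem h := F.injective_of_mem h.1
  conj_mem hP hg := ⟨F.conj_mem hP hg, fun _ => E.conj_mem hP hg⟩
  comp_mem := by
    rintro P Q φ ψ ⟨hφ, hφE⟩ ⟨hψ, hψE⟩ h
    refine ⟨F.comp_mem hφ hψ h, fun hP => ?_⟩
    exact E.comp_mem (hφE hP) (hψE (hPr P Q φ hφ h (hom_le F hψ) hP)) h
  inv_mem := by
    rintro P φ ⟨hφ, hφE⟩
    obtain ⟨ψ, hψ, hψx⟩ := F.inv_mem hφ
    refine ⟨ψ, ⟨hψ, fun hR => ?_⟩, hψx⟩
    have hP : Pr P := by
      refine hPr φ.range P ψ hψ ?_ (hom_le F hφ) hR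
      rintro ⟨_, x, rfl⟩
      rw [hψx]; exact x.2
    obtain ⟨ψ', hψ', hψ'x⟩ := E.inv_mem (hφE hP)
    refine hom_congr E hψ' ?_
    rintro ⟨_, x, rfl⟩
    rw [hψx, hψ'x]

theorem mem_filterSystem_iff (F E : FusionSystem S) (Pr : Subgroup Ω → Prop)
    (hPr : ∀ (P Q : Subgroup Ω) (φ : P →* Ω), φ ∈ F.Hom P → (∀ x : P, φ x ∈ Q) → Q ≤ S → Pr P → Pr Q)
    {P : Subgroup Ω} (φ : P →* Ω) :
    φ ∈ (filterSystem F E Pr hPr).Hom P ↔ φ ∈ F.Hom P ∧ (Pr P → φ ∈ E.Hom P) := Iff.rfl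

end Cfsg.Agent.Lib.Helper91
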