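import Cfsg.Agent.Lib.Helper87.FusionSaturated
import Cfsg.Agent.Lib.Helper88.FusionRS2
import Cfsg.Agent.Lib.Helper89.FusionAut
import Cfsg.Agent.Lib.Helper89.FusionConj
import Cfsg.Agent.Lib.Helper91.Fusion
import Cfsg.Agent.S5082

set_option autoImplicit false

namespace Cfsg.Agent.Lib.Helper91

open Cfsg Cfsg.FusionSystem

variable {Ω : Type*} [Group Ω] {S : Subgroup Ω}

/-- The conjugation-invariance hypothesis of a subsystem `F'` in `F` (both over `S`). -/
def ConjInvariant (F F' : FusionSystem S) : Prop :=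
  ∀ (Q : Subgroup Ω) (φ : ↥Q →* Ω), φ ∈ F.Hom Q → ∀ (R : Subgroup Ω) (hRQ : R ≤ Q) (ψ : ↥R →* Ω),
    ψ ∈ F'.Hom R → ∀ (hψQ : ∀ x : R, ψ x ∈ Q), ∃ χ ∈ F'.Hom ((R.subgroupOf Q).map φ),
      ∀ (x : R) (hx : φ ⟨(x : Ω), hRQ x.2⟩ ∈ (R.subgroupOf Q).map φ),
        χ ⟨φ ⟨(x : Ω), hRQ x.2⟩, hx⟩ = φ ⟨ψ x, hψQ x⟩

/-- Under conjugation invariance `Aut_{F'}(P)` is normalized by `Aut_F(P)`. -/
theorem conj_mem_autGroup_of_conjInvariant (F F' : FusionSystem S) (hinv : ConjInvariant F F')
    {P : Subgroup Ω} (hP : P ≤ S) {a n : MulAut P} (ha : a ∈ F.autGroup P) (hn : n ∈ F'.autGroup P) :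
    a * n * a⁻¹ ∈ F'.autGroup P := by
  rw [Helper87.mem_autGroup_iff F hP] at ha
  rw [Helper87.mem_autGroup_iff F' hP] at hn
  rw [Helper87.mem_autGroup_iff F' hP]
  obtain ⟨χ, hχ, hχx⟩ := hinv P _ ha P le_rfl _ hn (fun x => (n x).2)
  have hmap : P = (P.subgroupOf P).map (P.subtype.comp a.toMonoidHom) := by
    ext y
    constructor
    · intro hy
      refine ⟨a⁻¹ ⟨y, hy⟩, ?_, ?_⟩
      · show _ ∈ P.subgroupOf P
        rw [Subgroup.mem_subgroupOf]
        exact (a⁻¹ ⟨y, hy⟩).2
      · show ((a (a⁻¹ ⟨y, hy⟩) : P) : Ω) = y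
        rw [MulAut.apply_inv_self]
    · rintro ⟨x, -, rfl⟩
      exact (a x).2
  have h1 := Helper87.cast_mem F' hmap hχ
  refine Helper87.hom_congr F' h1 (fun y => ?_)
  have hy := hχx (a⁻¹ y) (by
    refine ⟨a⁻¹ y, ?_, rfl⟩
    show _ ∈ P.subgroupOf P
    rw [Subgroup.mem_subgroupOf]
    exact (a⁻¹ y).2)
  show ((a (n (a⁻¹ y)) : P) : Ω) = χ (Subgroup.inclusion hmap.le y)
  have h2 : (Subgroup.inclusion hmap.le y) =
      ⟨(P.subtype.comp a.toMonoidHom) ⟨((a⁻¹ y : P) : Ω), (a⁻¹ y).2⟩, ⟨a⁻¹ y, by
        show _ ∈ P.subgroupOf P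
        rw [Subgroup.mem_subgroupOf]
        exact (a⁻¹ y).2, rfl⟩⟩ := by
    apply Subtype.ext
    show (y : Ω) = ((a (a⁻¹ y) : P) : Ω)
    rw [MulAut.apply_inv_self]
  rw [h2, hy]
  rfl

/-- If `F' ≤ F` are saturated over `S`, `F'` is conjugation invariant in `F` and `Aut_{F'}(S) = Aut_F(S)`, then every
map of `F` lies in `F'` (the Frattini argument together with Alperin's fusion theorem). -/
theorem le_of_conjInvariant_aux [Finite S] (p : ℕ) [Fact p.Prime] (hS : IsPGroup p S)
    (F F' : FusionSystem S) (hF : F.IsSaturated p) (hle : F' ≤ F)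
    (hinv : ConjInvariant F F') (htop : F'.autGroup S = F.autGroup S) :
    ∀ (k : ℕ) (P : Subgroup Ω) (φ : P →* Ω), φ ∈ F.Hom P → Nat.card S < Nat.card P + k → φ ∈ F'.Hom P := by
  intro k
  induction k with
  | zero =>
    intro P φ hφ hlt
    have := Helper87.card_le_of_le (Helper87.hom_le F hφ)
    omega
  | succ k ih =>
    -- the filter system
    have hPr : ∀ (P Q : Subgroup Ω) (φ : P →* Ω), φ ∈ F.Hom P → (∀ x : P, φ x ∈ Q) → Q ≤ S →
        Nat.card S < Nat.card P + (k + 1) → Nat.card S < Nat.card Q + (k + 1) := by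
      intro P Q φ hφ hφQ hQS hlt
      have : Finite Q := Helper87.finite_of_le hQS
      have : Nat.card P ≤ Nat.card Q :=
        Nat.card_le_card_of_injective (φ.codRestrict Q hφQ) (by
          intro x y hxy
          apply F.injective_of_mem hφ
          exact congrArg Subtype.val hxy)
      omega
    set E := filterSystem F F' (fun P => Nat.card S < Nat.card P + (k + 1)) hPr with hE
    have hFE : F ≤ E := by
      apply Cfsg.Agent.S5082.result p hS F hF E
      intro P hP α hα
      have hPS : P ≤ S := by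
        rcases hP with rfl | hP
        · exact le_rfl
        · exact hP.1.1
      have hα' := (Helper87.mem_autGroup_iff F hPS).mp hα
      rw [Helper87.mem_autGroup_iff E hPS]
      refine ⟨hα', fun hcard => ?_⟩
      rw [← Helper87.mem_autGroup_iff F' hPS]
      by_cases hPeq : P = S
      · subst hPeq
        rw [htop]; exact hα
      · have hess : F.IsEssential p P := by
          rcases hP with h | h
          · exact absurd h hPeq
          · exact h
        have hfn : F.IsFullyNormalized P := hess.2.1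
        obtain ⟨hfc, hfa⟩ := Helper87.fullyNormalized_props p hS F hF P hfn
        have hrec : F.IsReceptive P := Helper87.isReceptive_of_isFullyCentralized p hS F hF P hfc
        obtain ⟨-, R, hR⟩ := hfa
        -- the normal subgroup `Aut_{F'}(P)` of `Aut_F(P)`
        have : Finite (F.autGroup P) := Helper87.finite_autGroup F hPS
        have hle' : F'.autGroup P ≤ F.autGroup P := autGroup_mono (hle P)
        have hnormal : ((F'.autGroup P).subgroupOf (F.autGroup P)).Normal := by
          constructor
          intro n hn a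
          rw [Subgroup.mem_subgroupOf] at hn ⊢
          exact conj_mem_autGroup_of_conjInvariant F F' hinv hPS a.2 hn
        have hRN : (R : Subgroup (F.autGroup P)) ≤ (F'.autGroup P).subgroupOf (F.autGroup P) := by
          rw [hR]
          intro x hx
          rw [Subgroup.mem_subgroupOf] at hx ⊢
          exact Helper87.autInducedBy_le_autGroup F' hPS hx
        have hfrat := Sylow.normalizer_sup_eq_top' R hRN
        -- the normalizer of the Sylow subgroup lies in `Aut_{F'}(P)`
        have hnorm : Subgroup.normalizer ((R : Subgroup (F.autGroup P)) : Set (F.autGroup P)) ≤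
            (F'.autGroup P).subgroupOf (F.autGroup P) := by
          intro β hβ
          rw [Subgroup.mem_subgroupOf]
          have hβn : ∀ γ ∈ autInducedBy S P, (β : MulAut P) * γ * (β : MulAut P)⁻¹ ∈ autInducedBy S P := by
            intro γ hγ
            have hγF : γ ∈ F.autGroup P := Helper87.autInducedBy_le_autGroup F hPS hγ
            have h1 : (⟨γ, hγF⟩ : F.autGroup P) ∈ (R : Subgroup (F.autGroup P)) := by
              rw [hR, Subgroup.mem_subgroupOf]; exact hγ
            have h2 := (Subgroup.mem_normalizer_iff.mp hβ ⟨γ, hγF⟩).mp h1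
            rw [hR, Subgroup.mem_subgroupOf] at h2
            exact h2
          obtain ⟨γ₀, hγ₀, hγ₀x⟩ := Helper88.exists_autGroup_normalizer_extension F hPS hrec β.2 hβn
          have hNS : normalizerIn S P ≤ S := Helper87.normalizerIn_le S P
          have hγ₀' := (Helper87.mem_autGroup_iff F hNS).mp hγ₀
          -- the extension lies in `F'` by the induction hypothesis
          have hbig : Nat.card S < Nat.card (normalizerIn S P) + k := by
            obtain ⟨g, hgN, hgP⟩ := Helper89.exists_mem_normalizerIn_not_mem hS hPS hPeq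
            have : Finite (normalizerIn S P) := Helper87.finite_of_le hNS
            have := Helper89.card_lt_of_mem_not_mem (Helper87.le_normalizerIn hPS) hgN hgP
            omega
          have hγF' := ih _ _ hγ₀' hbig
          rw [Helper87.mem_autGroup_iff F' hPS]
          have hres := Helper87.restrict_mem F' (Helper87.le_normalizerIn hPS) hγF'
          refine Helper87.hom_congr F' hres (fun x => ?_)
          exact (hγ₀x x).symm
        have htop' : (F'.autGroup P).subgroupOf (F.autGroup P) = ⊤ := by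
          rw [eq_top_iff, ← hfrat]
          exact sup_le hnorm le_rfl
        have : (⟨α, hα⟩ : F.autGroup P) ∈ (F'.autGroup P).subgroupOf (F.autGroup P) := by
          rw [htop']; exact Subgroup.mem_top _
        exact Subgroup.mem_subgroupOf.mp this
    intro P φ hφ hlt
    exact (hFE P hφ).2 hlt

/-- If `F' ≤ F` are saturated over `S`, `F'` is conjugation invariant in `F` and `Aut_{F'}(S) = Aut_F(S)`, then
`F ≤ F'`. -/
theorem le_of_conjInvariant [Finite S] (p : ℕ) [Fact p.Prime] (hS : IsPGroup p S)
    (F F' : FusionSystem S) (hF : F.IsSaturated p) (hle : F' ≤ F)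
    (hinv : ConjInvariant F F') (htop : F'.autGroup S = F.autGroup S) : F ≤ F' := by
  intro P φ hφ
  refine le_of_conjInvariant_aux p hS F F' hF hle hinv htop (Nat.card S + 1) P φ hφ ?_
  omega

end Cfsg.Agent.Lib.Helper91
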