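import Cfsg.Agent.Lib.Helper87.FusionSaturated
import Cfsg.Agent.Lib.Helper87.FusionNormalizer
import Cfsg.Agent.Lib.Helper89.FusionConj

set_option autoImplicit false

namespace Cfsg.Agent.Lib.Helper91

open Cfsg Cfsg.FusionSystem Cfsg.Agent.Lib.Helper87

variable {Ω : Type*} [Group Ω] {S : Subgroup Ω}

/-- If `ψ` and `ψ ∘ φ` are maps of the system then so is `φ`. -/
theorem hom_mem_of_comp_mem (F : FusionSystem S) {Q R : Subgroup Ω} {φ : Q →* Ω} (hφR : ∀ x : Q, φ x ∈ R)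
    {ψ : R →* Ω} (hψ : ψ ∈ F.Hom R) (hc : ψ.comp (φ.codRestrict R hφR) ∈ F.Hom Q) : φ ∈ F.Hom Q := by
  obtain ⟨ψi, hψi, hψix⟩ := F.inv_mem hψ
  have hr : ∀ x : Q, (ψ.comp (φ.codRestrict R hφR)) x ∈ ψ.range := fun x => ⟨_, rfl⟩
  refine comp_mem' F hc hψi hr (fun x => ?_)
  exact (hψix (φ.codRestrict R hφR x)).symm

/-- Two maps of `F` on `P` agreeing on a central subgroup `Z` of `P`, one of them in `F'` and carrying `Z` onto
`Z'`: if the centralizer systems of `Z'` in `F` and `F'` coincide then the other map lies in `F'` too. -/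
theorem hom_mem_of_agree_on_central (F F' : FusionSystem S) (hle : F' ≤ F) {Z' : Subgroup Ω}
    (hC : ∀ P₁ : Subgroup Ω, F.centralizerHom Z' P₁ ⊆ F'.centralizerHom Z' P₁)
    {P Z : Subgroup Ω} (hZP : Z ≤ P) (hZc : ∀ x ∈ P, ∀ w ∈ Z, w * x = x * w)
    {γ φP : P →* Ω} (hγ : γ ∈ F.Hom P) (hφP : φP ∈ F'.Hom P)
    (hagree : ∀ w : Z, γ (Subgroup.inclusion hZP w) = φP (Subgroup.inclusion hZP w))
    (hZ' : ∀ y, y ∈ Z' ↔ ∃ w : Z, φP (Subgroup.inclusion hZP w) = y) : γ ∈ F'.Hom P := by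
  obtain ⟨χ, hχ, hχx⟩ := F'.inv_mem hφP
  have hχF : χ ∈ F.Hom φP.range := hle _ hχ
  have hχP : ∀ y : φP.range, χ y ∈ P := by
    rintro ⟨_, x, rfl⟩
    rw [hχx]; exact x.2
  set c : φP.range →* Ω := γ.comp (χ.codRestrict P hχP) with hc
  have hcF : c ∈ F.Hom φP.range := F.comp_mem hχF hγ hχP
  have hcx : ∀ x : P, c ⟨φP x, ⟨x, rfl⟩⟩ = γ x := by
    intro x
    show γ ⟨χ ⟨φP x, ⟨x, rfl⟩⟩, _⟩ = γ x
    congr 1
    exact Subtype.ext (hχx x)
  have hZ'P : Z' ≤ φP.range := by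
    intro y hy
    obtain ⟨w, rfl⟩ := (hZ' y).mp hy
    exact ⟨_, rfl⟩
  have hmem : c ∈ F.centralizerHom Z' φP.range := by
    refine ⟨hcF, ?_, ?_, ?_⟩
    · rintro _ ⟨x, rfl⟩
      rw [mem_centralizerIn]
      refine ⟨hom_mem F' hφP x, fun y hy => ?_⟩
      obtain ⟨w, rfl⟩ := (hZ' y).mp hy
      rw [← map_mul, ← map_mul]
      congr 1
      exact Subtype.ext (hZc x x.2 w w.2)
    · rintro ⟨_, x, rfl⟩
      rw [hcx, mem_centralizerIn]
      refine ⟨hom_mem F hγ x, fun y hy => ?_⟩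
      obtain ⟨w, rfl⟩ := (hZ' y).mp hy
      rw [← hagree, ← map_mul, ← map_mul]
      congr 1
      exact Subtype.ext (hZc x x.2 w w.2)
    · have hsup : φP.range ⊔ Z' ≤ φP.range := sup_le le_rfl hZ'P
      refine ⟨c.comp (Subgroup.inclusion hsup), restrict_mem F hsup hcF, fun x => ?_, fun y => ?_⟩
      · show c _ = c x
        congr 1
      · obtain ⟨w, hw⟩ := (hZ' y).mp y.2
        show c (Subgroup.inclusion hsup (Subgroup.inclusion le_sup_right y)) = y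
        have : Subgroup.inclusion hsup (Subgroup.inclusion le_sup_right y) =
            ⟨φP (Subgroup.inclusion hZP w), ⟨_, rfl⟩⟩ := Subtype.ext hw.symm
        rw [this, hcx, hagree, hw]
  have hcF' : c ∈ F'.Hom φP.range := (hC _ hmem).1
  refine comp_mem' F' hφP hcF' (fun x => ⟨x, rfl⟩) (fun x => ?_)
  exact (hcx x).symm

/-- A nontrivial subgroup `P` of the finite `p`-group `S` contains a central subgroup of order `p`. -/
theorem exists_central_order_p [Finite S] (p : ℕ) [Fact p.Prime] (hS : IsPGroup p S) {P : Subgroup Ω}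
    (hP : P ≤ S) (hne : P ≠ ⊥) :
    ∃ Z : Subgroup Ω, Z ≤ P ∧ Nat.card Z = p ∧ ∀ x ∈ P, ∀ w ∈ Z, w * x = x * w := by
  have : Finite P := finite_of_le hP
  have hPp : IsPGroup p P := hS.to_le hP
  have : Nontrivial P := (Subgroup.nontrivial_iff_ne_bot P).mpr hne
  have hcn : Nontrivial (Subgroup.center P) := hPp.center_nontrivial
  have hcp : IsPGroup p (Subgroup.center P) := hPp.to_subgroup _
  obtain ⟨n, hn⟩ := hcp.exists_card_eq
  have hn0 : n ≠ 0 := by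
    rintro rfl
    have h1 : Nat.card (Subgroup.center P) = 1 := by simpa using hn
    have := Finite.one_lt_card (α := Subgroup.center P)
    omega
  have hdvd : p ∣ Nat.card (Subgroup.center P) := by
    rw [hn]; exact dvd_pow_self p hn0
  obtain ⟨z, hz⟩ := exists_prime_orderOf_dvd_card' p hdvd
  refine ⟨Subgroup.zpowers (((z : P) : Ω)), ?_, ?_, ?_⟩
  · rw [Subgroup.zpowers_le]; exact (z : P).2
  · rw [Nat.card_zpowers, Subgroup.orderOf_coe, Subgroup.orderOf_coe, hz]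
  · intro x hx w hw
    obtain ⟨k, rfl⟩ := Subgroup.mem_zpowers_iff.mp hw
    have hcomm : Commute (((z : P) : Ω)) x := by
      have h1 := Subgroup.mem_center_iff.mp z.2 ⟨x, hx⟩
      have h2 := congrArg Subtype.val h1
      exact h2.symm
    exact (hcomm.zpow_left k).eq

/-- The criterion: if the saturated subsystem `F' ≤ F` has the same maps on, and the same centralizer systems of,
the subgroups of order `p` fully centralized in `F'`, then `F ≤ F'`. -/
theorem le_of_centralizer_crit [Finite S] (p : ℕ) [Fact p.Prime] (hS : IsPGroup p S)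
    (F F' : FusionSystem S) (hF' : F'.IsSaturated p) (hle : F' ≤ F)
    (hZ : ∀ Z : Subgroup Ω, Z ≤ S → Nat.card Z = p → F'.IsFullyCentralized Z →
      F.Hom Z ⊆ F'.Hom Z ∧ ∀ P₁ : Subgroup Ω, F.centralizerHom Z P₁ ⊆ F'.centralizerHom Z P₁) :
    F ≤ F' := by
  intro P α hα
  have hPS : P ≤ S := hom_le F hα
  by_cases hne : P = ⊥
  · subst hne
    refine hom_congr F' (subtype_mem F' hPS) (fun x => ?_)
    have hx : x = 1 := Subtype.ext (Subgroup.mem_bot.mp x.2)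
    rw [hx, map_one, map_one]
  obtain ⟨Z, hZP, hZcard, hZc⟩ := exists_central_order_p p hS hPS hne
  have hZS : Z ≤ S := hZP.trans hPS
  obtain ⟨Z', ⟨φ, hφ, rfl⟩, hfc⟩ := Cfsg.Agent.Lib.Helper89.exists_isConj_fullyCentralized F' hZS
  have hZ'S : φ.range ≤ S := hfc.1
  have hZ'card : Nat.card φ.range = p := by
    rw [Cfsg.Agent.Lib.Helper89.card_range_eq F' hφ, hZcard]
  obtain ⟨hA, hB⟩ := hZ φ.range hZ'S hZ'card hfc
  have hrec : F'.IsReceptive φ.range := isReceptive_of_isFullyCentralized p hS F' hF' _ hfc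
  -- the restriction of α to Z lies in F'
  set αZ : Z →* Ω := α.comp (Subgroup.inclusion hZP) with hαZ
  have hαZF : αZ ∈ F.Hom Z := restrict_mem F hZP hα
  have hαZF' : αZ ∈ F'.Hom Z := by
    obtain ⟨φi, hφi, hφix⟩ := F'.inv_mem hφ
    have hφiZ : ∀ y : φ.range, φi y ∈ Z := by
      rintro ⟨_, x, rfl⟩
      rw [hφix]; exact x.2
    have hδ : αZ.comp (φi.codRestrict Z hφiZ) ∈ F.Hom φ.range := F.comp_mem (hle _ hφi) hαZF hφiZ
    have hδ' := hA hδ
    refine comp_mem' F' hφ hδ' (fun x => ⟨x, rfl⟩) (fun x => ?_)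
    show αZ x = αZ ⟨φi ⟨φ x, ⟨x, rfl⟩⟩, _⟩
    congr 1
    exact Subtype.ext (hφix x).symm
  -- β = φ ∘ αZ⁻¹
  obtain ⟨ι, hι, hιx⟩ := F'.inv_mem hαZF'
  have hιZ : ∀ y : αZ.range, ι y ∈ Z := by
    rintro ⟨_, x, rfl⟩
    rw [hιx]; exact x.2
  set β : αZ.range →* Ω := φ.comp (ι.codRestrict Z hιZ) with hβ
  have hβF' : β ∈ F'.Hom αZ.range := F'.comp_mem hι hφ hιZ
  have hβx : ∀ x : Z, β ⟨αZ x, ⟨x, rfl⟩⟩ = φ x := by
    intro x
    show φ ⟨ι ⟨αZ x, ⟨x, rfl⟩⟩, _⟩ = φ x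
    congr 1
    exact Subtype.ext (hιx x)
  have hβr : β.range = φ.range := by
    ext y
    constructor
    · rintro ⟨w, rfl⟩
      exact ⟨_, rfl⟩
    · rintro ⟨x, rfl⟩
      exact ⟨⟨αZ x, ⟨x, rfl⟩⟩, hβx x⟩
  -- extensions
  obtain ⟨φb, hφb, hφbx⟩ := hrec.2 Z φ hφ rfl
  obtain ⟨βb, hβb, hβbx⟩ := hrec.2 αZ.range β hβF' hβr
  have hPext : P ≤ extender S Z φ := by
    refine le_trans ?_ (centralizerIn_le_extender S Z φ)
    intro x hx
    rw [mem_centralizerIn]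
    exact ⟨hPS hx, fun w hw => hZc x hx w hw⟩
  have hP₂ext : α.range ≤ extender S αZ.range β := by
    refine le_trans ?_ (centralizerIn_le_extender S αZ.range β)
    rintro _ ⟨x, rfl⟩
    rw [mem_centralizerIn]
    refine ⟨hom_mem F hα x, ?_⟩
    rintro _ ⟨w, rfl⟩
    show α (Subgroup.inclusion hZP w) * α x = α x * α (Subgroup.inclusion hZP w)
    rw [← map_mul, ← map_mul]
    congr 1
    exact Subtype.ext (hZc x x.2 w w.2)
  have hφP : φb.comp (Subgroup.inclusion hPext) ∈ F'.Hom P := restrict_mem F' hPext hφb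
  have hβP₂ : βb.comp (Subgroup.inclusion hP₂ext) ∈ F'.Hom α.range := restrict_mem F' hP₂ext hβb
  have hαr : ∀ x : P, α x ∈ α.range := fun x => ⟨x, rfl⟩
  have hγ : (βb.comp (Subgroup.inclusion hP₂ext)).comp (α.codRestrict α.range hαr) ∈ F.Hom P :=
    F.comp_mem hα (hle _ hβP₂) hαr
  have hγF' : (βb.comp (Subgroup.inclusion hP₂ext)).comp (α.codRestrict α.range hαr) ∈ F'.Hom P := by
    refine hom_mem_of_agree_on_central F F' hle hB hZP hZc hγ hφP (fun w => ?_) (fun y => ?_)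
    · show βb ⟨α (Subgroup.inclusion hZP w), _⟩ = φb ⟨(w : Ω), _⟩
      rw [hφbx (w : Ω) w.2 (hPext (hZP w.2))]
      have h1 : α (Subgroup.inclusion hZP w) ∈ αZ.range := ⟨w, rfl⟩
      rw [hβbx _ h1 (hP₂ext (hαr _))]
      exact hβx w
    · constructor
      · rintro ⟨w, rfl⟩
        refine ⟨w, ?_⟩
        show φb ⟨(w : Ω), _⟩ = φ w
        rw [hφbx (w : Ω) w.2 (hPext (hZP w.2))]
      · rintro ⟨w, rfl⟩
        refine ⟨w, ?_⟩
        show φ w = φb ⟨(w : Ω), _⟩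
        rw [hφbx (w : Ω) w.2 (hPext (hZP w.2))]
  exact hom_mem_of_comp_mem F' hαr hβP₂ hγF'

end Cfsg.Agent.Lib.Helper91
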