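import Cfsg.Agent.Lib.Helper91.FusionConstrained
import Cfsg.Agent.Lib.Helper91.FusionCentricExt
import Cfsg.Agent.Lib.Helper15.Cores

set_option autoImplicit false

namespace Cfsg.Agent.Lib.Helper91

open Cfsg Cfsg.FusionSystem Cfsg.Agent.Lib.Helper87
open scoped Pointwise

variable {Ω : Type*} [Group Ω] {S : Subgroup Ω}

/-- A `p`-subgroup of `Aut(P)` normalized by `Aut_F(P)` meets `Aut_F(P)` inside `O_p(Aut_F(P))`. -/
theorem inf_autGroup_le_pCore (F : FusionSystem S) {p : ℕ} {P : Subgroup Ω}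
    (D : Subgroup (MulAut P)) (hDp : IsPGroup p D)
    (hDn : ∀ α ∈ F.autGroup P, ∀ β ∈ D, α * β * α⁻¹ ∈ D) :
    D ⊓ F.autGroup P ≤ (pCore p (F.autGroup P)).map (F.autGroup P).subtype := by
  intro β hβ
  have hnormal : ((D ⊓ F.autGroup P).subgroupOf (F.autGroup P)).Normal := by
    constructor
    intro n hn g
    rw [Subgroup.mem_subgroupOf] at hn ⊢
    refine ⟨hDn g g.2 n hn.1, ?_⟩
    exact (F.autGroup P).mul_mem ((F.autGroup P).mul_mem g.2 hn.2) ((F.autGroup P).inv_mem g.2)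
  have hpg : IsPGroup p ((D ⊓ F.autGroup P).subgroupOf (F.autGroup P)) :=
    (hDp.to_le inf_le_left).comap_subtype
  have hle : (D ⊓ F.autGroup P).subgroupOf (F.autGroup P) ≤ pCore p (F.autGroup P) :=
    le_sSup ⟨hnormal, hpg⟩
  have h1 : (⟨β, hβ.2⟩ : F.autGroup P) ∈ pCore p (F.autGroup P) :=
    hle (Subgroup.mem_subgroupOf.mpr hβ)
  exact ⟨⟨β, hβ.2⟩, h1, rfl⟩

/-- Being radical is invariant under isomorphisms of the system. -/
theorem isRadical_of_isFIso (F : FusionSystem S) {p : ℕ} {P Q : Subgroup Ω} {e : P ≃* Q} (he : IsFIso F e)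
    (hP : F.IsRadical p P) : F.IsRadical p Q := by
  have hQS : Q ≤ S := hom_le F (IsFIso.symm F he)
  refine ⟨hQS, ?_⟩
  have hmap := map_congr_autGroup F he
  -- the induced isomorphism of automorphism groups
  let Ψ : F.autGroup P ≃* F.autGroup Q :=
    ((MulAut.congr e).subgroupMap (F.autGroup P)).trans (MulEquiv.subgroupCongr hmap)
  have hΨ : ∀ a : F.autGroup P, ((Ψ a : F.autGroup Q) : MulAut Q) = MulAut.congr e a := fun a => rfl
  have hcore := Cfsg.Agent.Lib.Helper15.pCore_map_equiv p Ψ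
  ext β
  constructor
  · rintro ⟨b, hb, rfl⟩
    rw [← hcore] at hb
    obtain ⟨a, ha, rfl⟩ := hb
    have h1 : ((a : F.autGroup P) : MulAut P) ∈ (pCore p (F.autGroup P)).map (F.autGroup P).subtype :=
      ⟨a, ha, rfl⟩
    rw [hP.2] at h1
    obtain ⟨u, hu⟩ := h1
    refine ⟨e u, ?_⟩
    show MulAut.conj (e u) = MulAut.congr e (a : MulAut P)
    rw [← hu]
    ext y
    simp [MulAut.congr]
  · rintro ⟨v, rfl⟩
    have h1 : MulAut.conj (e.symm v) ∈ (pCore p (F.autGroup P)).map (F.autGroup P).subtype := by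
      rw [hP.2]; exact ⟨_, rfl⟩
    obtain ⟨a, ha, hav⟩ := h1
    refine ⟨Ψ a, ?_, ?_⟩
    · rw [← hcore]; exact ⟨a, ha, rfl⟩
    · show MulAut.congr e (a : MulAut P) = MulAut.conj v
      have hav' : (a : MulAut P) = MulAut.conj (e.symm v) := hav
      rw [hav']
      ext y
      simp [MulAut.congr]


/-- The key construction: if `P ∩ T` is not `E`-centric, then some `F`-conjugate of `P` has an element of its
normalizer in `S`, outside it, inducing an automorphism in `O_p(Aut_F)`. -/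
theorem exists_outer_pCore_of_not_centric [Finite S] (p : ℕ) [Fact p.Prime] (hS : IsPGroup p S)
    (F : FusionSystem S) (hF : F.IsSaturated p) {T : Subgroup Ω} (E : FusionSystem T)
    (hE : E.IsNormalIn F p) (P : Subgroup Ω) (hPS : P ≤ S) (hPT : ¬ E.IsCentric (P ⊓ T)) :
    ∃ φ ∈ F.Hom P, ∃ x ∈ S ⊓ Subgroup.normalizer (φ.range : Set Ω), x ∉ φ.range ∧
      ∃ α ∈ ((pCore p ↥(F.autGroup φ.range)).map (F.autGroup φ.range).subtype :
          Subgroup (MulAut ↥φ.range)),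
        ∀ y : ↥φ.range, ((α y : ↥φ.range) : Ω) = x * (y : Ω) * x⁻¹ := by
  obtain ⟨⟨hEsat, hFsat, hEF, hTsc, -, -⟩, -⟩ := hE
  have hTS : T ≤ S := hTsc.1
  have hTn := stronglyClosed_conj_mem' F hTsc
  -- Step 1: a conjugate `Q` of `P ⊓ T` in `E` with `C_T(Q)` not inside `Q`
  have h1 : ∃ Q, E.IsConj (P ⊓ T) Q ∧ ¬ centralizerIn T Q ≤ Q := by
    by_contra hcon
    exact hPT ⟨inf_le_right, fun Q hQ => by
      by_contra h
      exact hcon ⟨Q, hQ, h⟩⟩
  obtain ⟨Q, hQconjE, hQnc⟩ := h1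
  obtain ⟨c₀, hc₀C, hc₀Q⟩ := SetLike.not_le_iff_exists.mp hQnc
  have hQconj : F.IsConj (P ⊓ T) Q := by
    obtain ⟨f, hf, hfr⟩ := hQconjE
    exact ⟨f, hEF _ hf, hfr⟩
  have hQT : Q ≤ T := isConj_le_right E hQconjE
  -- Step 2: move to a fully automized, receptive conjugate `Q'`
  obtain ⟨Q', hQQ', hfa, hrec⟩ := hF Q (hQT.trans hTS)
  obtain ⟨θ, hθ, hθN, hθmap, hθQ⟩ := exists_normalizer_hom p hS F Q' Q hfa hrec hQQ'
  have hc₀N : c₀ ∈ normalizerIn S Q :=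
    centralizerIn_le_normalizerIn S Q ⟨hTS hc₀C.1, hc₀C.2⟩
  have hθT : ∀ z : normalizerIn S Q, (z : Ω) ∈ T → θ z ∈ T := by
    intro z hz
    exact hTsc.2 (T ⊓ normalizerIn S Q) inf_le_left (θ.comp (Subgroup.inclusion inf_le_right))
      (restrict_mem F inf_le_right hθ) ⟨z, hz, z.2⟩
  set c₁ : Ω := θ ⟨c₀, hc₀N⟩ with hc₁
  have hc₁T : c₁ ∈ T := hθT ⟨c₀, hc₀N⟩ hc₀C.1
  have hQ'T : Q' ≤ T := by
    intro y hy
    rw [← hθmap] at hy
    obtain ⟨q, hq, rfl⟩ := hy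
    exact hθT q (hQT (Subgroup.mem_subgroupOf.mp hq))
  have hc₁cent : ∀ y ∈ Q', y * c₁ = c₁ * y := by
    intro y hy
    rw [← hθmap] at hy
    obtain ⟨q, hq, rfl⟩ := hy
    have hqQ : (q : Ω) ∈ Q := Subgroup.mem_subgroupOf.mp hq
    have hcomm : q * ⟨c₀, hc₀N⟩ = ⟨c₀, hc₀N⟩ * q := by
      apply Subtype.ext
      exact (Subgroup.mem_centralizer_iff.mp hc₀C.2) q hqQ
    rw [hc₁, ← map_mul, ← map_mul, hcomm]
  have hc₁Q' : c₁ ∉ Q' := by
    intro h
    rw [← hθmap] at h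
    obtain ⟨q, hq, hqc⟩ := h
    have := F.injective_of_mem hθ hqc
    apply hc₀Q
    have hqQ : (q : Ω) ∈ Q := Subgroup.mem_subgroupOf.mp hq
    rw [this] at hqQ
    exact hqQ
  -- Step 3: move `P` along a map carrying `P ⊓ T` onto `Q'`
  have hRQ' : F.IsConj (P ⊓ T) Q' := isConj_trans F hQconj hQQ'
  obtain ⟨θ₂, hθ₂, hθ₂N, hθ₂map, hθ₂R⟩ := exists_normalizer_hom p hS F Q' (P ⊓ T) hfa hrec hRQ'
  have : Finite ↥(P ⊓ T) := finite_of_le (inf_le_left.trans hPS)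
  have hPN : P ≤ normalizerIn S (P ⊓ T) := by
    intro g hg
    refine ⟨hPS hg, mem_normalizer_of_conj_mem (fun y hy => ?_)⟩
    exact ⟨P.mul_mem (P.mul_mem hg hy.1) (P.inv_mem hg), hTn g (hPS hg) y hy.2⟩
  set φ : P →* Ω := θ₂.comp (Subgroup.inclusion hPN) with hφdef
  have hφ : φ ∈ F.Hom P := restrict_mem F hPN hθ₂
  have hrS : φ.range ≤ S := by
    rintro z ⟨g, rfl⟩
    exact hom_mem F hφ g
  have hrT : ∀ z ∈ φ.range, z ∈ T → z ∈ Q' := by
    rintro z ⟨g, rfl⟩ hzT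
    obtain ⟨ψ, hψ, hψx⟩ := F.inv_mem hφ
    have h := hTsc.2 (T ⊓ φ.range) inf_le_left (ψ.comp (Subgroup.inclusion inf_le_right))
      (restrict_mem F inf_le_right hψ) ⟨φ g, hzT, ⟨g, rfl⟩⟩
    have h2 : (g : Ω) ∈ T := by
      have := hψx g
      rw [← this]; exact h
    exact hθ₂R (Subgroup.inclusion hPN g) ⟨g.2, h2⟩
  have hc₁r : c₁ ∉ φ.range := fun h => hc₁Q' (hrT c₁ h hc₁T)
  -- Step 4: an element of `C_T(φ.range ⊓ T)` normalizing `φ.range`, outside it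
  have hc₁Cs : c₁ ∈ centralizerIn T (φ.range ⊓ T) :=
    mem_centralizerIn.mpr ⟨hc₁T, fun y hy => hc₁cent y (hrT y hy.1 hy.2)⟩
  have : Finite ↥(centralizerIn T (φ.range ⊓ T)) :=
    finite_of_le ((centralizerIn_le T _).trans hTS)
  have hnormC : φ.range ≤ Subgroup.normalizer (centralizerIn T (φ.range ⊓ T) : Set Ω) := by
    intro u hu
    have huS : u ∈ S := hrS hu
    refine mem_normalizer_of_conj_mem (fun y hy => ?_)
    rw [mem_centralizerIn] at hy ⊢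
    refine ⟨hTn u huS y hy.1, fun r hr => ?_⟩
    have hr' : u⁻¹ * r * u ∈ φ.range ⊓ T := by
      refine ⟨φ.range.mul_mem (φ.range.mul_mem (φ.range.inv_mem hu) hr.1) hu, ?_⟩
      have := hTn u⁻¹ (S.inv_mem huS) r hr.2
      rwa [inv_inv] at this
    have h := hy.2 _ hr'
    calc r * (u * y * u⁻¹) = u * ((u⁻¹ * r * u) * y) * u⁻¹ := by group
      _ = u * (y * (u⁻¹ * r * u)) * u⁻¹ := by rw [h]
      _ = u * y * u⁻¹ * r := by group
  set W : Subgroup Ω := φ.range ⊔ centralizerIn T (φ.range ⊓ T) with hW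
  have hWS : W ≤ S := sup_le hrS ((centralizerIn_le T _).trans hTS)
  have : Finite W := finite_of_le hWS
  have hWp : IsPGroup p W := hS.to_le hWS
  have hne : φ.range ≠ W := by
    intro h
    apply hc₁r
    rw [h]
    exact (le_sup_right : centralizerIn T (φ.range ⊓ T) ≤ W) hc₁Cs
  obtain ⟨w, hwN, hwr⟩ := Cfsg.Agent.Lib.Helper89.exists_mem_normalizerIn_not_mem hWp
    (le_sup_left : φ.range ≤ W) hne
  have hwmul : w ∈ (φ.range : Set Ω) * (centralizerIn T (φ.range ⊓ T) : Set Ω) := by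
    rw [← Subgroup.coe_mul_of_left_le_normalizer_right _ _ hnormC]
    exact hwN.1
  obtain ⟨u, hu, c, hc, huc⟩ := Set.mem_mul.mp hwmul
  have hcN : c ∈ Subgroup.normalizer (φ.range : Set Ω) := by
    have : c = u⁻¹ * w := by rw [← huc]; group
    rw [this]
    exact (Subgroup.normalizer (φ.range : Set Ω)).mul_mem
      ((Subgroup.normalizer (φ.range : Set Ω)).inv_mem (Subgroup.le_normalizer hu)) hwN.2
  have hcr : c ∉ φ.range := by
    intro h
    apply hwr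
    rw [← huc]
    exact φ.range.mul_mem hu h
  have hc' := mem_centralizerIn.mp hc
  have hcT : c ∈ T := hc'.1
  have hcS : c ∈ S := hTS hcT
  have hccent : ∀ y ∈ φ.range ⊓ T, y * c = c * y := hc'.2
  -- Step 5: the conjugation by `c` lies in `O_p(Aut_F(φ.range))`
  refine ⟨φ, hφ, c, ⟨hcS, hcN⟩, hcr, conjAut φ.range c hcN, ?_, fun y => rfl⟩
  set ch := twoStepChain (T.subgroupOf φ.range) with hch
  have hmono := twoStepChain_monotone (T.subgroupOf φ.range)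
  have : Finite ↥φ.range := finite_of_le hrS
  have hQp : IsPGroup p ↥φ.range := hS.to_le hrS
  have hBp : IsPGroup p (Cfsg.Agent.Lib.Helper90.stabChain ch hmono) :=
    Cfsg.Agent.Lib.Helper90.stabChain_isPGroup hQp ch rfl hmono 2 rfl
  have hBn : ∀ α ∈ F.autGroup φ.range, ∀ β ∈ Cfsg.Agent.Lib.Helper90.stabChain ch hmono,
      α * β * α⁻¹ ∈ Cfsg.Agent.Lib.Helper90.stabChain ch hmono := by
    intro α hα β hβ
    have hpres : ∀ γ ∈ F.autGroup φ.range, ∀ j, ∀ y ∈ ch j, γ y ∈ ch j := by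
      intro γ hγ j y hy
      match j with
      | 0 =>
        have : y = 1 := Subgroup.mem_bot.mp hy
        rw [this, map_one]; exact Subgroup.one_mem _
      | 1 =>
        have h1 := Cfsg.Agent.Lib.Helper89.stronglyClosed_map_aut_eq hTsc hrS γ hγ
        have h2 : γ y ∈ (T.subgroupOf φ.range).map γ.toMonoidHom := ⟨y, hy, rfl⟩
        rw [h1] at h2
        exact h2
      | (j + 2) => exact Subgroup.mem_top _
    exact Cfsg.Agent.Lib.Helper90.stabChain_conj_mem ch hmono α (hpres α hα)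
      (hpres α⁻¹ ((F.autGroup φ.range).inv_mem hα)) hβ
  apply inf_autGroup_le_pCore F _ hBp hBn
  refine ⟨?_, Cfsg.Agent.Lib.Helper89.autInducedBy_le_autGroup F hrS
    (conjAut_mem_autInducedBy hcS hcN)⟩
  have hfwd : ∀ s ∈ T, (∀ y ∈ φ.range ⊓ T, y * s = s * y) →
      ∀ (hs : s ∈ Subgroup.normalizer (φ.range : Set Ω)),
      ∀ i, ∀ y ∈ ch (i + 1), y⁻¹ * (conjAut φ.range s hs) y ∈ ch i := by
    intro s hsT hsc hs i y hy
    match i with
    | 0 =>
      have hyT : (y : Ω) ∈ T := Subgroup.mem_subgroupOf.mp hy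
      show _ ∈ (⊥ : Subgroup ↥φ.range)
      rw [Subgroup.mem_bot]
      apply Subtype.ext
      show (y : Ω)⁻¹ * (s * (y : Ω) * s⁻¹) = 1
      rw [← hsc y ⟨y.2, hyT⟩]; group
    | 1 =>
      show _ ∈ T.subgroupOf φ.range
      rw [Subgroup.mem_subgroupOf]
      show (y : Ω)⁻¹ * (s * (y : Ω) * s⁻¹) ∈ T
      have h1 : (y : Ω)⁻¹ * (s * (y : Ω) * s⁻¹) = ((y : Ω)⁻¹ * s * ((y : Ω)⁻¹)⁻¹) * s⁻¹ := by group
      rw [h1]
      exact T.mul_mem (hTn _ (S.inv_mem (hrS y.2)) s hsT) (T.inv_mem hsT)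
    | (i + 2) => exact Subgroup.mem_top _
  have hcinv : ∀ y ∈ φ.range ⊓ T, y * c⁻¹ = c⁻¹ * y := by
    intro y hy
    have := hccent y hy
    calc y * c⁻¹ = c⁻¹ * (c * y) * c⁻¹ := by group
      _ = c⁻¹ * (y * c) * c⁻¹ := by rw [this]
      _ = c⁻¹ * y := by group
  have hcN' : c⁻¹ ∈ Subgroup.normalizer (φ.range : Set Ω) :=
    (Subgroup.normalizer (φ.range : Set Ω)).inv_mem hcN
  intro i y hy
  refine ⟨hfwd c hcT hccent _ i y hy, ?_⟩
  have hinv : (conjAut φ.range c hcN)⁻¹ = conjAut φ.range c⁻¹ hcN' := by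
    rw [inv_eq_iff_mul_eq_one]
    ext z
    rw [MulAut.mul_apply, conjAut_apply, conjAut_apply]
    show c * (c⁻¹ * (z : Ω) * c⁻¹⁻¹) * c⁻¹ = z
    group
  rw [hinv]
  exact hfwd c⁻¹ (T.inv_mem hcT) hcinv _ i y hy

/-- If `P` is `F`-centric and `P ⊓ T` is not `E`-centric for a normal subsystem `E` over `T`, then `P` is not
`F`-radical. -/
theorem not_isRadical_of_not_centric_inf [Finite S] (p : ℕ) [Fact p.Prime] (hS : IsPGroup p S)
    (F : FusionSystem S) (hF : F.IsSaturated p) {T : Subgroup Ω} (E : FusionSystem T)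
    (hE : E.IsNormalIn F p) (P : Subgroup Ω) (hP : F.IsCentric P) (hPT : ¬ E.IsCentric (P ⊓ T)) :
    ¬ F.IsRadical p P := by
  intro hrad
  obtain ⟨φ, hφ, x, hx, hxr, α, hα, hαx⟩ :=
    exists_outer_pCore_of_not_centric p hS F hF E hE P hP.1 hPT
  have hrad' : F.IsRadical p φ.range := isRadical_of_isFIso F (isFIso_homEquiv F hφ rfl) hrad
  rw [hrad'.2] at hα
  obtain ⟨u, hu⟩ := hα
  apply hxr
  have hcen : centralizerIn S φ.range ≤ φ.range := hP.2 φ.range ⟨φ, hφ, rfl⟩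
  have h1 : (u : Ω)⁻¹ * x ∈ centralizerIn S φ.range := by
    rw [mem_centralizerIn]
    have huS : (u : Ω) ∈ S := by
      obtain ⟨g, hg⟩ := u.2
      rw [← hg]; exact hom_mem F hφ g
    refine ⟨S.mul_mem (S.inv_mem huS) hx.1, fun y hy => ?_⟩
    have h2 := hαx ⟨y, hy⟩
    rw [← hu] at h2
    have h3 : (u : Ω) * y * (u : Ω)⁻¹ = x * y * x⁻¹ := h2
    calc y * ((u : Ω)⁻¹ * x) = (u : Ω)⁻¹ * ((u : Ω) * y * (u : Ω)⁻¹) * x := by group
      _ = (u : Ω)⁻¹ * (x * y * x⁻¹) * x := by rw [h3]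
      _ = (u : Ω)⁻¹ * x * y := by group
  have h2 := hcen h1
  have : x = (u : Ω) * ((u : Ω)⁻¹ * x) := by group
  rw [this]
  exact φ.range.mul_mem u.2 h2

end Cfsg.Agent.Lib.Helper91
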