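import Mathlib

set_option autoImplicit false

/-!
Binomial computations for an automorphism `a = 1 + n` of `p`-power order of an abelian group, in the ring of
endomorphisms of the group written additively.
-/

namespace Cfsg.Agent.Lib.Helper91

section Additive

variable {A : Type*} [AddCommGroup A]

/-- `DivBy p j f`: the endomorphism `f` takes its values in `p ^ j • A`. -/
def DivBy (p j : ℕ) (f : AddMonoid.End A) : Prop := ∀ x, ∃ y, f x = (p ^ j) • y

theorem DivBy.add {p j : ℕ} {f g : AddMonoid.End A} (hf : DivBy p j f) (hg : DivBy p j g) :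
    DivBy p j (f + g) := by
  intro x
  obtain ⟨y, hy⟩ := hf x
  obtain ⟨z, hz⟩ := hg x
  exact ⟨y + z, by rw [smul_add, ← hy, ← hz]; rfl⟩

theorem DivBy.neg {p j : ℕ} {f : AddMonoid.End A} (hf : DivBy p j f) : DivBy p j (-f) := by
  intro x
  obtain ⟨y, hy⟩ := hf x
  exact ⟨-y, by rw [smul_neg, ← hy]; rfl⟩

theorem DivBy.zero (p j : ℕ) : DivBy p j (0 : AddMonoid.End A) := fun _ => ⟨0, by rw [smul_zero]; rfl⟩

theorem DivBy.mul_left {p j : ℕ} {f : AddMonoid.End A} (g : AddMonoid.End A) (hf : DivBy p j f) :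
    DivBy p j (g * f) := by
  intro x
  obtain ⟨y, hy⟩ := hf x
  refine ⟨g y, ?_⟩
  show g (f x) = _
  rw [hy, map_nsmul]

theorem DivBy.mul_right {p j : ℕ} {f : AddMonoid.End A} (g : AddMonoid.End A) (hf : DivBy p j f) :
    DivBy p j (f * g) := fun x => hf (g x)

theorem DivBy.mul {p i j : ℕ} {f g : AddMonoid.End A} (hf : DivBy p i f) (hg : DivBy p j g) :
    DivBy p (i + j) (f * g) := by
  intro x
  obtain ⟨y, hy⟩ := hg x
  obtain ⟨z, hz⟩ := hf y
  refine ⟨z, ?_⟩
  show f (g x) = _
  rw [hy, map_nsmul, hz, ← mul_smul, pow_add, mul_comm]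

theorem DivBy.mul_natCast {p j : ℕ} {f : AddMonoid.End A} (hf : DivBy p j f) (c : ℕ) :
    DivBy p (j + 1) (f * ((p * c : ℕ) : AddMonoid.End A)) := by
  intro x
  obtain ⟨y, hy⟩ := hf (c • x)
  refine ⟨y, ?_⟩
  show f (((p * c : ℕ) : AddMonoid.End A) x) = _
  rw [AddMonoid.End.natCast_apply, mul_smul, map_nsmul, hy, ← mul_smul, pow_succ, mul_comm]

theorem DivBy.sum {p j : ℕ} {ι : Type*} (s : Finset ι) (f : ι → AddMonoid.End A)
    (h : ∀ i ∈ s, DivBy p j (f i)) : DivBy p j (∑ i ∈ s, f i) := by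
  classical
  induction s using Finset.induction_on with
  | empty => simpa using DivBy.zero p j
  | insert a s ha ih =>
    rw [Finset.sum_insert ha]
    exact (h a (Finset.mem_insert_self a s)).add (ih (fun i hi => h i (Finset.mem_insert_of_mem hi)))

theorem end_sum_apply {ι : Type*} (s : Finset ι) (f : ι → AddMonoid.End A) (w : A) :
    (∑ i ∈ s, f i) w = ∑ i ∈ s, f i w := by
  classical
  induction s using Finset.induction_on with
  | empty => simp
  | insert a s ha ih =>
    rw [Finset.sum_insert ha, Finset.sum_insert ha, ← ih]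
    rfl

/-- The binomial expansion of `(1 + n) ^ (q + 2)`, with the terms of degree `0`, `1` and `q + 2` split off. -/
theorem one_add_pow_split (n : AddMonoid.End A) (q : ℕ) :
    (1 + n) ^ (q + 2) = 1 + n * ((q + 2 : ℕ) : AddMonoid.End A) +
      (∑ m ∈ Finset.range q, n ^ (q + 1 - m) * (((q + 2).choose (m + 1) : ℕ) : AddMonoid.End A)) +
      n ^ (q + 2) := by
  rw [(Commute.one_left n).add_pow, Finset.sum_range_succ, Finset.sum_range_succ, Finset.sum_range_succ']
  simp only [one_pow, one_mul, Nat.sub_self, pow_zero, Nat.choose_self, Nat.cast_one, mul_one,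
    Nat.sub_zero, Nat.choose_zero_right]
  have h1 : q + 2 - (q + 1) = 1 := by omega
  have h2 : (q + 2).choose (q + 1) = q + 2 := by
    rw [show q + 2 = (q + 1) + 1 from rfl, Nat.choose_succ_self_right]
  rw [h1, h2, pow_one]
  have h3 : ∀ m ∈ Finset.range q, n ^ (q + 2 - (m + 1)) * (((q + 2).choose (m + 1) : ℕ) : AddMonoid.End A) =
      n ^ (q + 1 - m) * (((q + 2).choose (m + 1) : ℕ) : AddMonoid.End A) := by
    intro m _
    congr 2
    omega
  rw [Finset.sum_congr rfl h3]
  abel

/-- If `a ^ p = 1`, then `(a - 1) ^ p` kills every element killed by `p`. -/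
theorem sub_one_pow_apply_eq_zero {p : ℕ} (hp : p.Prime) (a : AddMonoid.End A) (ha : a ^ p = 1)
    (w : A) (hw : p • w = 0) : ((a - 1) ^ p) w = 0 := by
  set n := a - 1 with hn
  have han : a = 1 + n := by rw [hn]; abel
  obtain ⟨q, rfl⟩ : ∃ q, p = q + 2 := ⟨p - 2, by have := hp.two_le; omega⟩
  have hsplit := one_add_pow_split n q
  rw [← han, ha] at hsplit
  have hpw : ∀ f : AddMonoid.End A, (q + 2) • f w = 0 := by
    intro f
    rw [← map_nsmul, hw, map_zero]
  have h1 : (n * ((q + 2 : ℕ) : AddMonoid.End A)) w = 0 := by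
    show n (((q + 2 : ℕ) : AddMonoid.End A) w) = 0
    rw [AddMonoid.End.natCast_apply, hw, map_zero]
  have h2 : (∑ m ∈ Finset.range q, n ^ (q + 1 - m) * (((q + 2).choose (m + 1) : ℕ) : AddMonoid.End A)) w = 0 := by
    rw [end_sum_apply]
    apply Finset.sum_eq_zero
    intro m hm
    have hm' : m < q := Finset.mem_range.mp hm
    obtain ⟨c, hc⟩ := hp.dvd_choose_self (k := m + 1) (by omega) (by omega)
    show (n ^ (q + 1 - m)) ((((q + 2).choose (m + 1) : ℕ) : AddMonoid.End A) w) = 0
    rw [AddMonoid.End.natCast_apply, hc, mul_comm, mul_smul, hw, smul_zero, map_zero]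
  have h3 : (1 : AddMonoid.End A) w = (1 + n * ((q + 2 : ℕ) : AddMonoid.End A) +
      (∑ m ∈ Finset.range q, n ^ (q + 1 - m) * (((q + 2).choose (m + 1) : ℕ) : AddMonoid.End A)) +
      n ^ (q + 2)) w := by rw [← hsplit]
  have h4 : (1 + n * ((q + 2 : ℕ) : AddMonoid.End A) +
      (∑ m ∈ Finset.range q, n ^ (q + 1 - m) * (((q + 2).choose (m + 1) : ℕ) : AddMonoid.End A)) +
      n ^ (q + 2)) w = w + (n * ((q + 2 : ℕ) : AddMonoid.End A)) w +
      (∑ m ∈ Finset.range q, n ^ (q + 1 - m) * (((q + 2).choose (m + 1) : ℕ) : AddMonoid.End A)) w +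
      (n ^ (q + 2)) w := rfl
  rw [h4, h1, h2, add_zero, add_zero] at h3
  have h5 : (1 : AddMonoid.End A) w = w := rfl
  rw [h5] at h3
  have : w + (n ^ (q + 2)) w = w + 0 := by rw [add_zero]; exact h3.symm
  exact add_left_cancel this

/-- If `a ^ p = 1` with `p ≥ 5` and `(a - 1) ^ 2` takes values in `p • A`, then `p • (a - 1)` takes values in
`p ^ 2 • A`. -/
theorem smul_sub_one_divBy {p : ℕ} (hp : p.Prime) (hp5 : 5 ≤ p) (a : AddMonoid.End A) (ha : a ^ p = 1)
    (h2 : DivBy p 1 ((a - 1) * (a - 1))) : DivBy p 2 ((a - 1) * ((p : ℕ) : AddMonoid.End A)) := by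
  set n := a - 1 with hn
  have han : a = 1 + n := by rw [hn]; abel
  obtain ⟨q, rfl⟩ : ∃ q, p = q + 2 := ⟨p - 2, by omega⟩
  have hsplit := one_add_pow_split n q
  rw [← han, ha] at hsplit
  have hmid : DivBy (q + 2) 2
      (∑ m ∈ Finset.range q, n ^ (q + 1 - m) * (((q + 2).choose (m + 1) : ℕ) : AddMonoid.End A)) := by
    apply DivBy.sum
    intro m hm
    have hm' : m < q := Finset.mem_range.mp hm
    obtain ⟨c, hc⟩ := hp.dvd_choose_self (k := m + 1) (by omega) (by omega)
    rw [hc]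
    have hpow : n ^ (q + 1 - m) = n ^ (q - 1 - m) * (n * n) := by
      rw [← pow_two, ← pow_add]
      congr 1
      omega
    rw [hpow]
    exact DivBy.mul_natCast (DivBy.mul_left _ h2) c
  have htop : DivBy (q + 2) 2 (n ^ (q + 2)) := by
    have h4 : (n * n) * (n * n) = n ^ 4 := by
      simp only [pow_succ, pow_zero, one_mul, mul_assoc]
    have hpow : n ^ (q + 2) = n ^ (q - 2) * ((n * n) * (n * n)) := by
      rw [h4, ← pow_add]
      congr 1
      omega
    rw [hpow]
    exact DivBy.mul_left _ (DivBy.mul h2 h2)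
  have hsum : n * ((q + 2 : ℕ) : AddMonoid.End A) =
      -((∑ m ∈ Finset.range q, n ^ (q + 1 - m) * (((q + 2).choose (m + 1) : ℕ) : AddMonoid.End A)) +
        n ^ (q + 2)) := by
    have h : (0 : AddMonoid.End A) = n * ((q + 2 : ℕ) : AddMonoid.End A) +
      ((∑ m ∈ Finset.range q, n ^ (q + 1 - m) * (((q + 2).choose (m + 1) : ℕ) : AddMonoid.End A)) +
        n ^ (q + 2)) := by
      have h' : (1 : AddMonoid.End A) + 0 = 1 + (n * ((q + 2 : ℕ) : AddMonoid.End A) +
          ((∑ m ∈ Finset.range q, n ^ (q + 1 - m) * (((q + 2).choose (m + 1) : ℕ) : AddMonoid.End A)) +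
          n ^ (q + 2))) := by
        rw [add_zero]
        conv_lhs => rw [hsplit]
        abel
      exact add_left_cancel h'
    exact eq_neg_of_add_eq_zero_left h.symm
  rw [hsum]
  exact (hmid.add htop).neg

end Additive


section Multiplicative

variable {H : Type*} [CommGroup H]

/-- The endomorphism `x ↦ x⁻¹ * α x` of a commutative group. -/
def nuHom (α : MulAut H) : H →* H where
  toFun x := x⁻¹ * α x
  map_one' := by simp
  map_mul' x y := by rw [map_mul, mul_inv]; exact mul_mul_mul_comm _ _ _ _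

@[simp] theorem nuHom_apply (α : MulAut H) (x : H) : nuHom α x = x⁻¹ * α x := rfl

/-- The additive endomorphism attached to an automorphism. -/
def addEnd (α : MulAut H) : AddMonoid.End (Additive H) := MonoidHom.toAdditive α.toMonoidHom

theorem addEnd_apply (α : MulAut H) (x : Additive H) :
    addEnd α x = Additive.ofMul (α (Additive.toMul x)) := rfl

theorem addEnd_pow_apply (α : MulAut H) (j : ℕ) (x : Additive H) :
    (addEnd α ^ j) x = Additive.ofMul ((α ^ j) (Additive.toMul x)) := by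
  induction j generalizing x with
  | zero => simp
  | succ j ih =>
    rw [pow_succ, pow_succ]
    show (addEnd α ^ j) (addEnd α x) = _
    rw [ih, addEnd_apply]
    rfl

theorem addEnd_pow_eq_one (α : MulAut H) (j : ℕ) (h : α ^ j = 1) : addEnd α ^ j = 1 := by
  ext x
  rw [addEnd_pow_apply, h]
  rfl

theorem addEnd_sub_one_apply (α : MulAut H) (x : Additive H) :
    (addEnd α - 1) x = Additive.ofMul (nuHom α (Additive.toMul x)) := by
  show addEnd α x - x = _
  rw [addEnd_apply, nuHom_apply, sub_eq_neg_add]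
  rfl

theorem addEnd_sub_one_pow_apply (α : MulAut H) (j : ℕ) (x : Additive H) :
    ((addEnd α - 1) ^ j) x = Additive.ofMul ((nuHom α)^[j] (Additive.toMul x)) := by
  induction j generalizing x with
  | zero => simp
  | succ j ih =>
    rw [pow_succ, Function.iterate_succ_apply]
    show ((addEnd α - 1) ^ j) ((addEnd α - 1) x) = _
    rw [ih, addEnd_sub_one_apply]
    rfl

/-- If `α ^ p = 1`, then the `p`-th iterate of `x ↦ x⁻¹ α(x)` kills the elements of order dividing `p`. -/
theorem nuHom_iterate_eq_one {p : ℕ} (hp : p.Prime) (α : MulAut H) (hα : α ^ p = 1) (w : H)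
    (hw : w ^ p = 1) : (nuHom α)^[p] w = 1 := by
  have h := sub_one_pow_apply_eq_zero hp (addEnd α) (addEnd_pow_eq_one α p hα) (Additive.ofMul w)
    (by rw [← ofMul_pow, hw]; rfl)
  rw [addEnd_sub_one_pow_apply] at h
  exact h

/-- If `α ^ p = 1` with `p ≥ 5` and `ν ∘ ν` takes its values in the `p`-th powers, where `ν x = x⁻¹ α(x)`, then
`(ν x) ^ p` is a `p ^ 2`-th power for every `x`. -/
theorem nuHom_pow_eq_pow_sq {p : ℕ} (hp : p.Prime) (hp5 : 5 ≤ p) (α : MulAut H) (hα : α ^ p = 1)
    (h2 : ∀ x : H, ∃ y : H, nuHom α (nuHom α x) = y ^ p) (x : H) :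
    ∃ y : H, (nuHom α x) ^ p = y ^ (p ^ 2) := by
  have hdiv : DivBy p 1 ((addEnd α - 1) * (addEnd α - 1)) := by
    intro z
    obtain ⟨y, hy⟩ := h2 (Additive.toMul z)
    refine ⟨Additive.ofMul y, ?_⟩
    show (addEnd α - 1) ((addEnd α - 1) z) = _
    rw [addEnd_sub_one_apply, addEnd_sub_one_apply, pow_one, ← ofMul_pow]
    exact congrArg Additive.ofMul hy
  obtain ⟨y, hy⟩ := smul_sub_one_divBy hp hp5 (addEnd α) (addEnd_pow_eq_one α p hα) hdiv
    (Additive.ofMul x)
  refine ⟨Additive.toMul y, ?_⟩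
  have h3 : ((addEnd α - 1) * ((p : ℕ) : AddMonoid.End (Additive H))) (Additive.ofMul x) =
      Additive.ofMul ((nuHom α x) ^ p) := by
    show (addEnd α - 1) (((p : ℕ) : AddMonoid.End (Additive H)) (Additive.ofMul x)) = _
    rw [AddMonoid.End.natCast_apply, map_nsmul, addEnd_sub_one_apply, ← ofMul_pow]
    rfl
  rw [h3] at hy
  have h4 : (p ^ 2) • y = Additive.ofMul ((Additive.toMul y) ^ (p ^ 2)) := by
    rw [ofMul_pow]; rfl
  rw [h4] at hy
  exact Additive.ofMul.injective hy

end Multiplicative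

end Cfsg.Agent.Lib.Helper91
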