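import Mathlib
import Cfsg.Agent.Lib.Helper91.AbelianBinomial
import Cfsg.Agent.Lib.Helper90.SmallNormal
import Cfsg.Agent.Lib.Helper89.Coprime
import Cfsg.Agent.Lib.Helper54.FrattiniLib

set_option autoImplicit false

/-!
Abelian `p`-groups with at most `p ^ 2` elements of order dividing `p`, admitting a group of automorphisms of
order divisible by `p` without nontrivial normal `p`-subgroups: they are homocyclic of rank two, and of
exponent `p` when `p ≥ 5`.
-/

namespace Cfsg.Agent.Lib.Helper91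

section

variable {H : Type*} [CommGroup H] [Finite H] {p : ℕ} [Fact p.Prime]

/-- An automorphism of order prime to `p` of an abelian `p`-group fixing the elements of order dividing `p` is
trivial. -/
theorem aut_eq_one_of_fix_omega_comm (hH : IsPGroup p H) (g : MulAut H)
    (hg : Nat.Coprime (orderOf g) p) (hfix : ∀ x : H, x ^ p = 1 → g x = x) : g = 1 := by
  have key : ∀ j : ℕ, ∀ x : H, x ^ (p ^ j) = 1 → g x = x := by
    intro j
    induction j with
    | zero =>
      intro x hx
      rw [pow_zero, pow_one] at hx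
      rw [hx, map_one]
    | succ j ih =>
      intro x hx
      have h1 : g (x ^ p) = x ^ p := ih _ (by rw [← pow_mul, ← pow_succ']; exact hx)
      set z := x⁻¹ * g x with hz
      have hzp : z ^ p = 1 := by
        rw [hz, mul_pow, inv_pow, ← map_pow, h1, inv_mul_cancel]
      have hgz : g z = z := hfix z hzp
      have hgx : g x = x * z := by rw [hz, mul_inv_cancel_left]
      have hiter : ∀ m : ℕ, (g ^ m) x = x * z ^ m := by
        intro m
        induction m with
        | zero => simp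
        | succ m ihm =>
          rw [pow_succ', MulAut.mul_apply, ihm, map_mul, map_pow, hgx, hgz, pow_succ', mul_assoc]
      have h2 := hiter (orderOf g)
      rw [pow_orderOf_eq_one, MulAut.one_apply] at h2
      have h3 : z ^ orderOf g = 1 := by
        have : x * 1 = x * z ^ orderOf g := by rw [mul_one]; exact h2
        exact (mul_left_cancel this).symm
      have h4 : orderOf z ∣ Nat.gcd (orderOf g) p :=
        Nat.dvd_gcd (orderOf_dvd_of_pow_eq_one h3) (orderOf_dvd_of_pow_eq_one hzp)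
      rw [Nat.Coprime.gcd_eq_one hg] at h4
      have h5 : z = 1 := orderOf_eq_one_iff.mp (Nat.dvd_one.mp h4)
      rw [hgx, h5, mul_one]
  ext x
  obtain ⟨k, hk⟩ := hH x
  exact key k x hk

/-- A group of automorphisms without nontrivial normal `p`-subgroups acts faithfully on the elements of order
dividing `p`. -/
theorem eq_one_of_fix_omega_of_core (hH : IsPGroup p H) (G : Subgroup (MulAut H))
    (hcore : ∀ N : Subgroup G, N.Normal → IsPGroup p N → N = ⊥)
    (g : MulAut H) (hg : g ∈ G) (hfix : ∀ x : H, x ^ p = 1 → g x = x) : g = 1 := by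
  let K : Subgroup G :=
    { carrier := {g | ∀ x : H, x ^ p = 1 → (g : MulAut H) x = x}
      one_mem' := fun x _ => rfl
      mul_mem' := by
        intro a b ha hb x hx
        show (a : MulAut H) ((b : MulAut H) x) = x
        rw [hb x hx, ha x hx]
      inv_mem' := by
        intro a ha x hx
        show (a : MulAut H)⁻¹ x = x
        conv_lhs => rw [← ha x hx]
        exact MulAut.inv_apply_self _ _ _ }
  have hKn : K.Normal := by
    refine ⟨fun n hn a x hx => ?_⟩
    show (a : MulAut H) ((n : MulAut H) ((a : MulAut H)⁻¹ x)) = x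
    have hx' : ((a : MulAut H)⁻¹ x) ^ p = 1 := by rw [← map_pow, hx, map_one]
    rw [hn _ hx', MulAut.apply_inv_self]
  have hKp : IsPGroup p K := by
    apply Cfsg.Agent.Lib.Helper89.isPGroup_of_coprime_trivial
    intro k hk
    have h1 : Nat.Coprime (orderOf ((k : G) : MulAut H)) p := by
      rw [Subgroup.orderOf_coe, Subgroup.orderOf_coe]; exact hk
    have h2 := aut_eq_one_of_fix_omega_comm hH ((k : G) : MulAut H) h1 k.2
    apply Subtype.ext; apply Subtype.ext; exact h2
  have hK := hcore K hKn hKp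
  have : (⟨g, hg⟩ : G) ∈ K := hfix
  rw [hK, Subgroup.mem_bot] at this
  exact congrArg (fun z : G => (z : MulAut H)) this

/-- The elements of order dividing `p`. -/
def omegaOne (p : ℕ) (H : Type*) [CommGroup H] : Subgroup H := (powMonoidHom p : H →* H).ker

theorem mem_omegaOne {x : H} : x ∈ omegaOne p H ↔ x ^ p = 1 := by
  unfold omegaOne
  rw [MonoidHom.mem_ker, powMonoidHom_apply]

theorem map_mem_omegaOne (f : H →* H) {x : H} (hx : x ∈ omegaOne p H) : f x ∈ omegaOne p H := by
  rw [mem_omegaOne] at hx ⊢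
  rw [← map_pow, hx, map_one]

/-- An automorphism of `p`-power order mapping an element `x` with `x ^ p = 1` into the subgroup it generates
fixes it. -/
theorem aut_fix_of_mem_zpowers (t : MulAut H) (e : ℕ) (ht : t ^ (p ^ e) = 1) (x : H) (hx : x ^ p = 1)
    (h : t x ∈ Subgroup.zpowers x) : t x = x := by
  have hfin : IsOfFinOrder x := isOfFinOrder_of_finite x
  have hpow : t x ∈ Submonoid.powers x := by
    rw [hfin.mem_powers_iff_mem_zpowers]; exact h
  obtain ⟨k, hk⟩ := hpow
  exact Cfsg.Agent.Lib.Helper90.aut_fix_of_pow_of_pgroup t e ht x hx k hk.symm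

/-- A subgroup of order `p` is generated by each of its nontrivial elements. -/
theorem zpowers_eq_of_card_eq_prime (L : Subgroup H) (hL : Nat.card L = p) {x : H} (hx : x ∈ L)
    (hx1 : x ≠ 1) : Subgroup.zpowers x = L := by
  have hp : p.Prime := Fact.out
  apply Subgroup.eq_of_le_of_card_ge (by rw [Subgroup.zpowers_le]; exact hx)
  rw [hL, Nat.card_zpowers]
  have h1 : orderOf x ∣ p := by
    have := Subgroup.orderOf_dvd_natCard L hx
    rwa [hL] at this
  rcases (Nat.dvd_prime hp).mp h1 with h | h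
  · exact absurd (orderOf_eq_one_iff.mp h) hx1
  · exact h.ge


theorem card_subgroup_omegaOne (hW : Nat.card (omegaOne p H) = p ^ 2) (K : Subgroup H)
    (hK : K ≤ omegaOne p H) : Nat.card K = 1 ∨ Nat.card K = p ∨ Nat.card K = p ^ 2 := by
  have hp : p.Prime := Fact.out
  have h1 : Nat.card K ∣ p ^ 2 := hW ▸ Subgroup.card_dvd_of_le hK
  obtain ⟨i, hi, hKi⟩ := (Nat.dvd_prime_pow hp).mp h1
  interval_cases i
  · left; rw [hKi, pow_zero]
  · right; left; rw [hKi, pow_one]
  · right; right; exact hKi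

/-- For an automorphism `α` with `α ^ p = 1` and `ν x = x⁻¹ α(x)`: `ν ∘ ν` is trivial on the elements of order
dividing `p`, when there are `p ^ 2` of them. -/
theorem nuHom_nuHom_eq_one (α : MulAut H) (hα : α ^ p = 1) (hW : Nat.card (omegaOne p H) = p ^ 2)
    (w : H) (hw : w ∈ omegaOne p H) : nuHom α (nuHom α w) = 1 := by
  have hp : p.Prime := Fact.out
  set ν := nuHom α with hν
  have hνW : ∀ u ∈ omegaOne p H, ν u ∈ omegaOne p H := fun u hu => map_mem_omegaOne ν hu
  have hit : ∀ u ∈ omegaOne p H, ν^[p] u = 1 := fun u hu =>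
    nuHom_iterate_eq_one hp α hα u (mem_omegaOne.mp hu)
  have hitW : ∀ j, ∀ u ∈ omegaOne p H, ν^[j] u ∈ omegaOne p H := by
    intro j
    induction j with
    | zero => intro u hu; exact hu
    | succ j ih => intro u hu; rw [Function.iterate_succ_apply']; exact hνW _ (ih u hu)
  set K₁ : Subgroup H := omegaOne p H ⊓ ν.ker with hK₁
  set K₂ : Subgroup H := omegaOne p H ⊓ (ν.comp ν).ker with hK₂
  have memK₁ : ∀ u, u ∈ K₁ ↔ u ∈ omegaOne p H ∧ ν u = 1 := by
    intro u; rw [hK₁, Subgroup.mem_inf, MonoidHom.mem_ker]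
  have memK₂ : ∀ u, u ∈ K₂ ↔ u ∈ omegaOne p H ∧ ν (ν u) = 1 := by
    intro u; rw [hK₂, Subgroup.mem_inf, MonoidHom.mem_ker, MonoidHom.comp_apply]
  have hK12 : K₁ ≤ K₂ := by
    intro u hu
    rw [memK₁] at hu
    rw [memK₂]
    exact ⟨hu.1, by rw [hu.2, map_one]⟩
  by_cases h21 : K₂ ≤ K₁
  · have hdesc : ∀ j, ∀ u ∈ omegaOne p H, ν^[j + 1] u = 1 → ν u = 1 := by
      intro j
      induction j with
      | zero => intro u _ h; exact h
      | succ j ih =>
        intro u hu h
        rw [Function.iterate_succ_apply', Function.iterate_succ_apply'] at h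
        have h1 : ν^[j] u ∈ K₂ := (memK₂ _).mpr ⟨hitW j u hu, h⟩
        have h2 := ((memK₁ _).mp (h21 h1)).2
        rw [← Function.iterate_succ_apply' ν j u] at h2
        exact ih u hu h2
    have hp1 : p = (p - 1) + 1 := by have := hp.one_lt; omega
    have h1 : ν w = 1 := hdesc (p - 1) w hw (by rw [← hp1]; exact hit w hw)
    rw [h1, map_one]
  · -- `K₁ < K₂`
    have hK₁ne : K₁ ≠ ⊥ := by
      intro hbot
      have hinj : ∀ u ∈ omegaOne p H, ν u = 1 → u = 1 := by
        intro u hu h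
        have : u ∈ K₁ := (memK₁ u).mpr ⟨hu, h⟩
        rw [hbot, Subgroup.mem_bot] at this
        exact this
      have hinj' : ∀ j, ∀ u ∈ omegaOne p H, ν^[j] u = 1 → u = 1 := by
        intro j
        induction j with
        | zero => intro u _ h; exact h
        | succ j ih =>
          intro u hu h
          rw [Function.iterate_succ_apply] at h
          exact hinj u hu (ih _ (hνW u hu) h)
      have hall : ∀ u ∈ omegaOne p H, u = 1 := fun u hu => hinj' p u hu (hit u hu)
      have hbot' : omegaOne p H = ⊥ := by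
        rw [eq_bot_iff]
        intro u hu
        exact Subgroup.mem_bot.mpr (hall u hu)
      rw [hbot', Subgroup.card_bot] at hW
      have : 1 < p ^ 2 := Nat.one_lt_pow (by norm_num) hp.one_lt
      omega
    have hc1 : Nat.card K₁ ≠ 1 := fun h => hK₁ne (Subgroup.card_eq_one.mp h)
    have hlt : Nat.card K₁ < Nat.card K₂ := by
      by_contra hge
      push Not at hge
      have := Subgroup.eq_of_le_of_card_ge hK12 hge
      exact h21 this.ge
    have hK₂W : K₂ = omegaOne p H := by
      apply Subgroup.eq_of_le_of_card_ge inf_le_left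
      rcases card_subgroup_omegaOne hW K₁ inf_le_left with h | h | h
      · exact absurd h hc1
      · rcases card_subgroup_omegaOne hW K₂ inf_le_left with h' | h' | h'
        · rw [h, h'] at hlt; have := hp.one_lt; omega
        · rw [h, h'] at hlt; omega
        · rw [hW, h']
      · rcases card_subgroup_omegaOne hW K₂ inf_le_left with h' | h' | h'
        · rw [h, h'] at hlt
          have : 1 < p ^ 2 := Nat.one_lt_pow (by norm_num) hp.one_lt
          omega
        · rw [h, h'] at hlt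
          have : p < p ^ 2 := by
            calc p = p ^ 1 := (pow_one p).symm
              _ < p ^ 2 := Nat.pow_lt_pow_right hp.one_lt (by norm_num)
          omega
        · rw [hW, h']
    have : w ∈ K₂ := by rw [hK₂W]; exact hw
    exact ((memK₂ w).mp this).2


/-- A group of automorphisms of order divisible by `p` without nontrivial normal `p`-subgroups does not
stabilize a subgroup of order `p` of `Ω₁`, when `Ω₁` has order `p ^ 2`. -/
theorem no_invariant_line (hH : IsPGroup p H) (G : Subgroup (MulAut H))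
    (hcore : ∀ N : Subgroup G, N.Normal → IsPGroup p N → N = ⊥)
    (hW : Nat.card (omegaOne p H) = p ^ 2) (α : MulAut H) (hαG : α ∈ G) (hα : orderOf α = p)
    (L : Subgroup H) (hLW : L ≤ omegaOne p H) (hL : Nat.card L = p)
    (hinv : ∀ g ∈ G, ∀ l ∈ L, g l ∈ L) : False := by
  have hp : p.Prime := Fact.out
  have hfaith := eq_one_of_fix_omega_of_core hH G hcore
  have hαp : α ^ p = 1 := by rw [← hα]; exact pow_orderOf_eq_one α
  have hα1 : α ≠ 1 := by
    intro h
    rw [h, orderOf_one] at hα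
    exact hp.one_lt.ne hα
  let D : Subgroup G :=
    { carrier := {g | (∀ l ∈ L, (g : MulAut H) l = l) ∧
        ∀ w ∈ omegaOne p H, w⁻¹ * (g : MulAut H) w ∈ L}
      one_mem' := ⟨fun _ _ => rfl, fun w _ => by
        show w⁻¹ * w ∈ L
        rw [inv_mul_cancel]; exact L.one_mem⟩
      mul_mem' := by
        rintro a b ⟨ha1, ha2⟩ ⟨hb1, hb2⟩
        refine ⟨fun l hl => ?_, fun w hw => ?_⟩
        · show (a : MulAut H) ((b : MulAut H) l) = l
          rw [hb1 l hl, ha1 l hl]
        · show w⁻¹ * (a : MulAut H) ((b : MulAut H) w) ∈ L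
          have hl₁ := hb2 w hw
          have e : (b : MulAut H) w = w * (w⁻¹ * (b : MulAut H) w) := by rw [mul_inv_cancel_left]
          rw [e, map_mul, ha1 _ hl₁, ← mul_assoc]
          exact L.mul_mem (ha2 w hw) hl₁
      inv_mem' := by
        rintro a ⟨ha1, ha2⟩
        refine ⟨fun l hl => ?_, fun w hw => ?_⟩
        · show (a : MulAut H)⁻¹ l = l
          conv_lhs => rw [← ha1 l hl]
          exact MulAut.inv_apply_self _ _ _
        · show w⁻¹ * (a : MulAut H)⁻¹ w ∈ L
          have hu : (a : MulAut H)⁻¹ w ∈ omegaOne p H :=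
            map_mem_omegaOne ((a : MulAut H)⁻¹ : MulAut H).toMonoidHom hw
          have h1 := ha2 _ hu
          rw [MulAut.apply_inv_self] at h1
          have h2 := L.inv_mem h1
          rwa [mul_inv_rev, inv_inv] at h2 }
  have hDn : D.Normal := by
    refine ⟨fun n hn a => ?_⟩
    obtain ⟨hn1, hn2⟩ := hn
    refine ⟨fun l hl => ?_, fun w hw => ?_⟩
    · show (a : MulAut H) ((n : MulAut H) ((a : MulAut H)⁻¹ l)) = l
      have h1 : (a : MulAut H)⁻¹ l ∈ L := hinv _ (G.inv_mem a.2) l hl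
      rw [hn1 _ h1, MulAut.apply_inv_self]
    · show w⁻¹ * (a : MulAut H) ((n : MulAut H) ((a : MulAut H)⁻¹ w)) ∈ L
      have hu : (a : MulAut H)⁻¹ w ∈ omegaOne p H :=
        map_mem_omegaOne ((a : MulAut H)⁻¹ : MulAut H).toMonoidHom hw
      have hl₁ := hn2 _ hu
      have e : (n : MulAut H) ((a : MulAut H)⁻¹ w) =
          (a : MulAut H)⁻¹ w * (((a : MulAut H)⁻¹ w)⁻¹ * (n : MulAut H) ((a : MulAut H)⁻¹ w)) := by
        rw [mul_inv_cancel_left]
      rw [e, map_mul, MulAut.apply_inv_self, inv_mul_cancel_left]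
      exact hinv _ a.2 _ hl₁
  have hDp : IsPGroup p D := by
    intro g
    refine ⟨1, ?_⟩
    rw [pow_one]
    obtain ⟨hg1, hg2⟩ := g.2
    have hfix : ∀ x : H, x ^ p = 1 → (((g : G) : MulAut H) ^ p) x = x := by
      intro x hx
      have hxW : x ∈ omegaOne p H := mem_omegaOne.mpr hx
      have hl := hg2 x hxW
      set z := x⁻¹ * ((g : G) : MulAut H) x with hz
      have hgx : ((g : G) : MulAut H) x = x * z := by rw [hz, mul_inv_cancel_left]
      have hgz : ((g : G) : MulAut H) z = z := hg1 z hl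
      have hiter : ∀ m : ℕ, (((g : G) : MulAut H) ^ m) x = x * z ^ m := by
        intro m
        induction m with
        | zero => simp
        | succ m ihm =>
          rw [pow_succ', MulAut.mul_apply, ihm, map_mul, map_pow, hgx, hgz, pow_succ', mul_assoc]
      rw [hiter p, mem_omegaOne.mp (hLW hl), mul_one]
    have h1 := hfaith ((((g : G) : MulAut H)) ^ p) (G.pow_mem (g : G).2 p) hfix
    apply Subtype.ext
    apply Subtype.ext
    exact h1
  have hD := hcore D hDn hDp
  have hαD : (⟨α, hαG⟩ : G) ∈ D := by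
    have hfixL : ∀ l ∈ L, α l = l := by
      intro l hl
      by_cases hl1 : l = 1
      · rw [hl1, map_one]
      · have hz := zpowers_eq_of_card_eq_prime L hL hl hl1
        apply aut_fix_of_mem_zpowers α 1 (by rw [pow_one]; exact hαp) l (mem_omegaOne.mp (hLW hl))
        rw [hz]
        exact hinv α hαG l hl
    refine ⟨hfixL, fun w hw => ?_⟩
    show w⁻¹ * α w ∈ L
    -- the fixed points of `α` on `Ω₁` form `L`
    set K₁ : Subgroup H := omegaOne p H ⊓ (nuHom α).ker with hK₁
    have memK₁ : ∀ u, u ∈ K₁ ↔ u ∈ omegaOne p H ∧ nuHom α u = 1 := by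
      intro u; rw [hK₁, Subgroup.mem_inf, MonoidHom.mem_ker]
    have hLK : L ≤ K₁ := by
      intro l hl
      rw [memK₁]
      refine ⟨hLW hl, ?_⟩
      rw [nuHom_apply, hfixL l hl, inv_mul_cancel]
    have hK₁W : K₁ ≠ omegaOne p H := by
      intro h
      apply hα1
      apply hfaith α hαG
      intro x hx
      have : x ∈ K₁ := by rw [h]; exact mem_omegaOne.mpr hx
      have h2 := ((memK₁ x).mp this).2
      rw [nuHom_apply, inv_mul_eq_one] at h2
      exact h2.symm
    have hK₁L : L = K₁ := by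
      apply Subgroup.eq_of_le_of_card_ge hLK
      rcases card_subgroup_omegaOne hW K₁ inf_le_left with h | h | h
      · rw [h, hL]
        exact hp.one_lt.le
      · rw [h, hL]
      · exfalso
        apply hK₁W
        exact Subgroup.eq_of_le_of_card_ge inf_le_left (by rw [h, hW])
    have h3 := nuHom_nuHom_eq_one α hαp hW w hw
    have h4 : nuHom α w ∈ K₁ := (memK₁ _).mpr ⟨map_mem_omegaOne (nuHom α) hw, h3⟩
    rw [← hK₁L] at h4
    exact h4
  rw [hD, Subgroup.mem_bot] at hαD
  exact hα1 (congrArg (fun z : G => (z : MulAut H)) hαD)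


/-- Two independent generators of `Ω₁`, when it has order `p ^ 2`. -/
theorem exists_basis_omegaOne (hW : Nat.card (omegaOne p H) = p ^ 2) :
    ∃ w₁ w₂ : H, w₁ ∈ omegaOne p H ∧ w₂ ∈ omegaOne p H ∧
      (∀ a b : ℕ, w₁ ^ a * w₂ ^ b = 1 → p ∣ a ∧ p ∣ b) ∧
      ∀ w ∈ omegaOne p H, ∃ a b : ℕ, w = w₁ ^ a * w₂ ^ b := by
  have hp : p.Prime := Fact.out
  have hp2 : p < p ^ 2 := by
    calc p = p ^ 1 := (pow_one p).symm
      _ < p ^ 2 := Nat.pow_lt_pow_right hp.one_lt (by norm_num)
  have hne : omegaOne p H ≠ ⊥ := by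
    intro h
    rw [h, Subgroup.card_bot] at hW
    have := hp.one_lt
    omega
  obtain ⟨⟨w₁, hw₁⟩, hw₁ne⟩ := Subgroup.ne_bot_iff_exists_ne_one.mp hne
  have hw₁1 : w₁ ≠ 1 := fun h => hw₁ne (Subtype.ext h)
  have ho₁ : orderOf w₁ = p := orderOf_eq_prime (mem_omegaOne.mp hw₁) hw₁1
  have hz₁W : Subgroup.zpowers w₁ ≤ omegaOne p H := by rw [Subgroup.zpowers_le]; exact hw₁
  have hz₁c : Nat.card (Subgroup.zpowers w₁) = p := by rw [Nat.card_zpowers, ho₁]
  obtain ⟨w₂, hw₂, hw₂z⟩ : ∃ w₂ ∈ omegaOne p H, w₂ ∉ Subgroup.zpowers w₁ := by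
    by_contra hcon
    push Not at hcon
    have hle : omegaOne p H ≤ Subgroup.zpowers w₁ := fun w hw => hcon w hw
    have := Subgroup.card_le_of_le hle
    rw [hW, hz₁c] at this
    omega
  have hw₂1 : w₂ ≠ 1 := fun h => hw₂z (h ▸ Subgroup.one_mem _)
  have ho₂ : orderOf w₂ = p := orderOf_eq_prime (mem_omegaOne.mp hw₂) hw₂1
  have hindep : ∀ a b : ℕ, w₁ ^ a * w₂ ^ b = 1 → p ∣ a ∧ p ∣ b := by
    intro a b h
    by_cases hb : p ∣ b
    · refine ⟨?_, hb⟩
      obtain ⟨c, rfl⟩ := hb
      rw [pow_mul, mem_omegaOne.mp hw₂, one_pow, mul_one] at h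
      rw [← ho₁]
      exact orderOf_dvd_of_pow_eq_one h
    · exfalso
      have hcop : Nat.Coprime b p := (Nat.Prime.coprime_iff_not_dvd hp).mpr hb |>.symm
      obtain ⟨c, -, hc⟩ := Nat.exists_mul_mod_eq_one_of_coprime hcop hp.one_lt
      have h1 : w₂ ^ (b * c) = w₂ ^ 1 := by
        rw [pow_eq_pow_iff_modEq, ho₂]
        show b * c % p = 1 % p
        rw [hc, Nat.mod_eq_of_lt hp.one_lt]
      have h2 : w₂ ^ b = (w₁ ^ a)⁻¹ := eq_inv_of_mul_eq_one_right h
      rw [pow_one, pow_mul, h2] at h1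
      apply hw₂z
      rw [← h1]
      exact Subgroup.pow_mem _ (Subgroup.inv_mem _ (Subgroup.pow_mem _ (Subgroup.mem_zpowers w₁) a)) c
  refine ⟨w₁, w₂, hw₁, hw₂, hindep, ?_⟩
  -- spanning
  set C : Subgroup H := Subgroup.closure {w₁, w₂} with hC
  have hCW : C ≤ omegaOne p H := by
    rw [hC, Subgroup.closure_le]
    rintro x (rfl | rfl)
    · exact hw₁
    · exact hw₂
  have hz₁C : Subgroup.zpowers w₁ ≤ C := by
    rw [Subgroup.zpowers_le]
    exact Subgroup.subset_closure (Set.mem_insert _ _)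
  have hw₂C : w₂ ∈ C := Subgroup.subset_closure (Set.mem_insert_of_mem _ rfl)
  have hCeq : C = omegaOne p H := by
    apply Subgroup.eq_of_le_of_card_ge hCW
    rcases card_subgroup_omegaOne hW C hCW with h | h | h
    · exfalso
      have := Subgroup.card_le_of_le hz₁C
      rw [h, hz₁c] at this
      have := hp.one_lt
      omega
    · exfalso
      apply hw₂z
      have : Subgroup.zpowers w₁ = C := Subgroup.eq_of_le_of_card_ge hz₁C (by rw [h, hz₁c])
      rw [this]; exact hw₂C
    · rw [h, hW]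
  intro w hw
  rw [← hCeq, hC, Subgroup.mem_closure_pair] at hw
  obtain ⟨m, n, rfl⟩ := hw
  have hnat : ∀ (x : H) (m : ℤ), ∃ a : ℕ, x ^ m = x ^ a := by
    intro x m
    have hfin : IsOfFinOrder x := isOfFinOrder_of_finite x
    have h1 : x ^ m ∈ Submonoid.powers x := by
      rw [hfin.mem_powers_iff_mem_zpowers]
      exact Subgroup.zpow_mem_zpowers x m
    obtain ⟨a, ha⟩ := h1
    exact ⟨a, ha.symm⟩
  obtain ⟨a, ha⟩ := hnat w₁ m
  obtain ⟨b, hb⟩ := hnat w₂ n
  exact ⟨a, b, by rw [ha, hb]⟩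


/-- **Core.** A finite abelian `p`-group with at most `p ^ 2` elements of order dividing `p`, having a group of
automorphisms of order divisible by `p` without nontrivial normal `p`-subgroups, is elementary abelian of order
`p ^ 2`, or homocyclic of rank two with `p ≤ 3`. -/
theorem rank_two_core (hH : IsPGroup p H) (G : Subgroup (MulAut H))
    (hcore : ∀ N : Subgroup G, N.Normal → IsPGroup p N → N = ⊥) (hdiv : p ∣ Nat.card G)
    (hW : Nat.card (omegaOne p H) ≤ p ^ 2) :
    ((∀ x : H, x ^ p = 1) ∧ Nat.card H = p ^ 2) ∨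
      (p ≤ 3 ∧ ∃ k : ℕ, Nonempty (H ≃* Multiplicative (ZMod (p ^ k) × ZMod (p ^ k)))) := by
  have hp : p.Prime := Fact.out
  have hfaith := eq_one_of_fix_omega_of_core hH G hcore
  -- an element of order `p`
  obtain ⟨g, hg⟩ := exists_prime_orderOf_dvd_card' p hdiv
  set α : MulAut H := (g : MulAut H) with hαdef
  have hαG : α ∈ G := g.2
  have hα : orderOf α = p := by rw [hαdef, Subgroup.orderOf_coe]; exact hg
  have hαp : α ^ p = 1 := by rw [← hα]; exact pow_orderOf_eq_one α
  have hα1 : α ≠ 1 := by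
    intro h
    rw [h, orderOf_one] at hα
    exact hp.one_lt.ne hα
  -- `Ω₁` has order `p ^ 2`
  have hWc : Nat.card (omegaOne p H) = p ^ 2 := by
    obtain ⟨i, hi⟩ := (hH.to_subgroup (omegaOne p H)).exists_card_eq
    have hi2 : i ≤ 2 := by
      rw [hi] at hW
      exact (Nat.pow_le_pow_iff_right hp.one_lt).mp hW
    by_contra hne
    have hi1 : i ≤ 1 := by
      rcases Nat.lt_or_ge i 2 with h | h
      · omega
      · exfalso
        apply hne
        have : i = 2 := by omega
        rw [hi, this]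
    have hle : Nat.card (omegaOne p H) ≤ p := by
      rw [hi]
      calc p ^ i ≤ p ^ 1 := Nat.pow_le_pow_right hp.pos hi1
        _ = p := pow_one p
    apply hα1
    apply hfaith α hαG
    intro x hx
    by_cases hx1 : x = 1
    · rw [hx1, map_one]
    · have hxW : x ∈ omegaOne p H := mem_omegaOne.mpr hx
      have hz : Subgroup.zpowers x = omegaOne p H := by
        apply Subgroup.eq_of_le_of_card_ge (by rw [Subgroup.zpowers_le]; exact hxW)
        rw [Nat.card_zpowers, orderOf_eq_prime hx hx1]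
        exact hle
      apply aut_fix_of_mem_zpowers α 1 (by rw [pow_one]; exact hαp) x hx
      rw [hz]
      exact map_mem_omegaOne α.toMonoidHom hxW
  obtain ⟨w₁, w₂, hw₁, hw₂, hindep, hspan⟩ := exists_basis_omegaOne hWc
  -- the chain `Ω₁ ∩ H^{p^m}`
  set Pm : ℕ → Subgroup H := fun m => (powMonoidHom (p ^ m) : H →* H).range with hPm
  have memPm : ∀ m x, x ∈ Pm m ↔ ∃ y, y ^ (p ^ m) = x := by
    intro m x
    show x ∈ (powMonoidHom (p ^ m) : H →* H).range ↔ _
    simp only [MonoidHom.mem_range, powMonoidHom_apply]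
  have hdich : ∀ m, omegaOne p H ⊓ Pm m = ⊥ ∨ omegaOne p H ⊓ Pm m = omegaOne p H := by
    intro m
    rcases card_subgroup_omegaOne hWc (omegaOne p H ⊓ Pm m) inf_le_left with h | h | h
    · left; exact Subgroup.card_eq_one.mp h
    · exfalso
      apply no_invariant_line hH G hcore hWc α hαG hα (omegaOne p H ⊓ Pm m) inf_le_left h
      intro g _ l hl
      rw [Subgroup.mem_inf] at hl ⊢
      refine ⟨map_mem_omegaOne g.toMonoidHom hl.1, ?_⟩
      obtain ⟨y, hy⟩ := (memPm m l).mp hl.2
      exact (memPm m _).mpr ⟨g y, by rw [← map_pow, hy]⟩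
    · right; exact Subgroup.eq_of_le_of_card_ge inf_le_left (by rw [h, hWc])
  have hex : ∃ m, omegaOne p H ⊓ Pm m = ⊥ := by
    obtain ⟨N, hN⟩ := hH.exists_card_eq
    refine ⟨N, ?_⟩
    rw [eq_bot_iff]
    intro x hx
    obtain ⟨y, hy⟩ := (memPm N x).mp (Subgroup.mem_inf.mp hx).2
    rw [Subgroup.mem_bot, ← hy, ← hN]
    exact pow_card_eq_one'
  classical
  set k := Nat.find hex with hk
  have hk0 : k ≠ 0 := by
    intro h0
    have h1 := Nat.find_spec hex
    rw [← hk, h0] at h1
    have h2 : w₁ ∈ omegaOne p H ⊓ Pm 0 :=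
      Subgroup.mem_inf.mpr ⟨hw₁, (memPm 0 w₁).mpr ⟨w₁, by rw [pow_zero, pow_one]⟩⟩
    rw [h1, Subgroup.mem_bot] at h2
    have h3 := (hindep 1 0 (by rw [h2]; simp)).1
    exact hp.one_lt.ne' (Nat.dvd_one.mp h3)
  obtain ⟨k', hk'⟩ := Nat.exists_eq_succ_of_ne_zero hk0
  have hk'W : omegaOne p H ⊓ Pm k' = omegaOne p H := by
    rcases hdich k' with h | h
    · exact absurd h (Nat.find_min hex (by rw [← hk, hk']; exact Nat.lt_succ_self k'))
    · exact h
  have hroot : ∀ w ∈ omegaOne p H, ∃ y, y ^ (p ^ k') = w := by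
    intro w hw
    have : w ∈ omegaOne p H ⊓ Pm k' := by rw [hk'W]; exact hw
    exact (memPm k' w).mp (Subgroup.mem_inf.mp this).2
  have hkbot : omegaOne p H ⊓ Pm (k' + 1) = ⊥ := by
    have := Nat.find_spec hex
    rwa [← hk, hk'] at this
  have hexp : ∀ x : H, x ^ (p ^ (k' + 1)) = 1 := by
    intro x
    by_contra hne
    set z := x ^ (p ^ (k' + 1)) with hz
    obtain ⟨j, hj⟩ := IsPGroup.iff_orderOf.mp hH z
    have hj0 : j ≠ 0 := by
      intro h0
      rw [h0, pow_zero, orderOf_eq_one_iff] at hj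
      exact hne hj
    obtain ⟨j', rfl⟩ := Nat.exists_eq_succ_of_ne_zero hj0
    have hz' : z ^ (p ^ j') ∈ omegaOne p H ⊓ Pm (k' + 1) := by
      rw [Subgroup.mem_inf]
      constructor
      · rw [mem_omegaOne, ← pow_mul, ← pow_succ, ← hj]
        exact pow_orderOf_eq_one z
      · exact (memPm _ _).mpr ⟨x ^ (p ^ j'), by rw [hz, ← pow_mul, ← pow_mul, mul_comm]⟩
    rw [hkbot, Subgroup.mem_bot] at hz'
    have h1 := orderOf_dvd_of_pow_eq_one hz'
    rw [hj] at h1
    exact absurd (Nat.le_of_dvd (pow_pos hp.pos _) h1)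
      (not_le.mpr (Nat.pow_lt_pow_right hp.one_lt (Nat.lt_succ_self j')))
  obtain ⟨y₁, hy₁⟩ := hroot w₁ hw₁
  obtain ⟨y₂, hy₂⟩ := hroot w₂ hw₂
  have hyw : ∀ a b : ℕ, (y₁ ^ a * y₂ ^ b) ^ (p ^ k') = w₁ ^ a * w₂ ^ b := by
    intro a b
    rw [mul_pow, ← pow_mul, ← pow_mul, mul_comm a, mul_comm b, pow_mul, pow_mul, hy₁, hy₂]
  -- generation
  have hsurj : ∀ j, j ≤ k' + 1 → ∀ x : H, x ^ (p ^ j) = 1 → ∃ a b : ℕ, x = y₁ ^ a * y₂ ^ b := by
    intro j
    induction j with
    | zero =>
      intro _ x hx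
      rw [pow_zero, pow_one] at hx
      exact ⟨0, 0, by rw [hx]; simp⟩
    | succ j ih =>
      intro hj x hx
      have hjk : j ≤ k' := Nat.le_of_succ_le_succ hj
      have hxW : x ^ (p ^ j) ∈ omegaOne p H := by
        rw [mem_omegaOne, ← pow_mul, ← pow_succ]; exact hx
      obtain ⟨a, b, hab⟩ := hspan _ hxW
      set z := (y₁ ^ a * y₂ ^ b) ^ (p ^ (k' - j)) with hz
      have hzj : z ^ (p ^ j) = x ^ (p ^ j) := by
        rw [hz, ← pow_mul, ← pow_add, Nat.sub_add_cancel hjk, hyw, hab]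
      have h1 : (x * z⁻¹) ^ (p ^ j) = 1 := by
        rw [mul_pow, inv_pow, hzj, mul_inv_cancel]
      obtain ⟨a', b', hab'⟩ := ih (Nat.le_of_succ_le hj) _ h1
      refine ⟨a' + a * p ^ (k' - j), b' + b * p ^ (k' - j), ?_⟩
      have h2 : x = (x * z⁻¹) * z := by rw [inv_mul_cancel_right]
      rw [h2, hab', hz, mul_pow, ← pow_mul, ← pow_mul, pow_add, pow_add]
      exact mul_mul_mul_comm _ _ _ _
  have hgen : ∀ x : H, ∃ a b : ℕ, x = y₁ ^ a * y₂ ^ b := fun x => hsurj (k' + 1) le_rfl x (hexp x)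
  -- independence
  have hinj : ∀ j, j ≤ k' + 1 → ∀ a b : ℕ, y₁ ^ a * y₂ ^ b = 1 → p ^ j ∣ a ∧ p ^ j ∣ b := by
    intro j
    induction j with
    | zero => intro _ a b _; simp
    | succ j ih =>
      intro hj a b hab
      have hjk : j ≤ k' := Nat.le_of_succ_le_succ hj
      obtain ⟨⟨a', rfl⟩, ⟨b', rfl⟩⟩ := ih (Nat.le_of_succ_le hj) a b hab
      have h1 : (y₁ ^ a' * y₂ ^ b') ^ (p ^ j) = 1 := by
        rw [mul_pow, ← pow_mul, ← pow_mul, mul_comm a', mul_comm b']; exact hab
      have hpk : p ^ k' = p ^ j * p ^ (k' - j) := by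
        rw [← pow_add]; congr 1; omega
      have h2 : w₁ ^ a' * w₂ ^ b' = 1 := by
        rw [← hyw, hpk, pow_mul, h1, one_pow]
      obtain ⟨ha, hb⟩ := hindep a' b' h2
      rw [pow_succ]
      exact ⟨Nat.mul_dvd_mul_left _ ha, Nat.mul_dvd_mul_left _ hb⟩
  -- the isomorphism
  have hy₁k : y₁ ^ (p ^ (k' + 1)) = 1 := hexp y₁
  have hy₂k : y₂ ^ (p ^ (k' + 1)) = 1 := hexp y₂
  have hne : NeZero (p ^ (k' + 1)) := ⟨pow_ne_zero _ hp.ne_zero⟩
  have hpowadd : ∀ (y : H), y ^ (p ^ (k' + 1)) = 1 → ∀ a b : ZMod (p ^ (k' + 1)),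
      y ^ ((a + b).val) = y ^ (a.val) * y ^ (b.val) := by
    intro y hy a b
    have e : (a + b).val = (a.val + b.val) % (p ^ (k' + 1)) := ZMod.val_add a b
    calc y ^ ((a + b).val) = y ^ ((a.val + b.val) % (p ^ (k' + 1))) := congrArg (y ^ ·) e
      _ = y ^ (a.val + b.val) := (pow_eq_pow_mod _ hy).symm
      _ = y ^ (a.val) * y ^ (b.val) := pow_add _ _ _
  have hpowcast : ∀ (y : H), y ^ (p ^ (k' + 1)) = 1 → ∀ a : ℕ,
      y ^ ((a : ZMod (p ^ (k' + 1))).val) = y ^ a := by
    intro y hy a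
    have e : ((a : ZMod (p ^ (k' + 1)))).val = a % (p ^ (k' + 1)) := ZMod.val_natCast _ a
    calc y ^ ((a : ZMod (p ^ (k' + 1))).val) = y ^ (a % (p ^ (k' + 1))) := congrArg (y ^ ·) e
      _ = y ^ a := (pow_eq_pow_mod _ hy).symm
  let f : Multiplicative (ZMod (p ^ (k' + 1)) × ZMod (p ^ (k' + 1))) →* H :=
    { toFun := fun z => y₁ ^ (Multiplicative.toAdd z).1.val * y₂ ^ (Multiplicative.toAdd z).2.val
      map_one' := by simp
      map_mul' := by
        intro z z'
        show y₁ ^ ((Multiplicative.toAdd z).1 + (Multiplicative.toAdd z').1).val *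
          y₂ ^ ((Multiplicative.toAdd z).2 + (Multiplicative.toAdd z').2).val = _
        rw [hpowadd y₁ hy₁k, hpowadd y₂ hy₂k]
        exact mul_mul_mul_comm _ _ _ _ }
  have hfapp : ∀ z, f z = y₁ ^ (Multiplicative.toAdd z).1.val * y₂ ^ (Multiplicative.toAdd z).2.val :=
    fun z => rfl
  have hfinj : Function.Injective f := by
    rw [injective_iff_map_eq_one]
    intro z hz
    rw [hfapp] at hz
    obtain ⟨ha, hb⟩ := hinj (k' + 1) le_rfl _ _ hz
    have ha0 : (Multiplicative.toAdd z).1.val = 0 := Nat.eq_zero_of_dvd_of_lt ha (ZMod.val_lt _)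
    have hb0 : (Multiplicative.toAdd z).2.val = 0 := Nat.eq_zero_of_dvd_of_lt hb (ZMod.val_lt _)
    have h1 : Multiplicative.toAdd z = 0 :=
      Prod.ext ((ZMod.val_eq_zero _).mp ha0) ((ZMod.val_eq_zero _).mp hb0)
    exact Multiplicative.toAdd.injective h1
  have hfsurj : Function.Surjective f := by
    intro x
    obtain ⟨a, b, hab⟩ := hgen x
    refine ⟨Multiplicative.ofAdd ((a : ZMod (p ^ (k' + 1))), (b : ZMod (p ^ (k' + 1)))), ?_⟩
    rw [hfapp]
    show y₁ ^ ((a : ZMod (p ^ (k' + 1)))).val * y₂ ^ ((b : ZMod (p ^ (k' + 1)))).val = x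
    rw [hpowcast y₁ hy₁k, hpowcast y₂ hy₂k, hab]
  by_cases hk'0 : k' = 0
  · left
    subst hk'0
    have hexp1 : ∀ x : H, x ^ p = 1 := fun x => by
      have := hexp x
      simpa using this
    refine ⟨hexp1, ?_⟩
    have htop : omegaOne p H = ⊤ := by
      rw [eq_top_iff]
      intro x _
      exact mem_omegaOne.mpr (hexp1 x)
    rw [← Subgroup.card_top (G := H), ← htop]
    exact hWc
  · right
    refine ⟨?_, k' + 1, ⟨(MulEquiv.ofBijective f ⟨hfinj, hfsurj⟩).symm⟩⟩
    by_contra hp3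
    push Not at hp3
    have hp5 : 5 ≤ p := by
      rcases Nat.lt_or_ge p 5 with h | h
      · exfalso
        have h4 : p = 4 := by omega
        rw [h4] at hp
        exact absurd hp (by norm_num)
      · exact h
    obtain ⟨k'', rfl⟩ := Nat.exists_eq_succ_of_ne_zero hk'0
    have h2 : ∀ x : H, ∃ y : H, nuHom α (nuHom α x) = y ^ p := by
      intro x
      have hxW : x ^ (p ^ (k'' + 1)) ∈ omegaOne p H := by
        rw [mem_omegaOne, ← pow_mul, ← pow_succ]; exact hexp x
      have h3 := nuHom_nuHom_eq_one α hαp hWc _ hxW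
      rw [map_pow, map_pow] at h3
      obtain ⟨a, b, hab⟩ := hgen (nuHom α (nuHom α x))
      rw [hab, hyw] at h3
      obtain ⟨⟨a', rfl⟩, ⟨b', rfl⟩⟩ := hindep a b h3
      exact ⟨y₁ ^ a' * y₂ ^ b', by rw [hab, mul_pow, ← pow_mul, ← pow_mul, mul_comm a', mul_comm b']⟩
    have h3 := nuHom_pow_eq_pow_sq hp hp5 α hαp h2
    apply hα1
    apply hfaith α hαG
    intro w hw
    obtain ⟨y, hy⟩ := hroot w (mem_omegaOne.mpr hw)
    obtain ⟨y', hy'⟩ := h3 y
    have h4 : nuHom α w = 1 := by
      rw [← hy, map_pow, pow_succ', pow_mul, hy', ← pow_mul]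
      have e : p ^ 2 * p ^ k'' = p ^ (k'' + 1 + 1) := by
        rw [← pow_add]; congr 1; omega
      rw [e]
      exact hexp y'
    rw [nuHom_apply, inv_mul_eq_one] at h4
    exact h4.symm

end

end Cfsg.Agent.Lib.Helper91
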