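import Mathlib
import Cfsg.Agent.Lib.Helper90.StabChain

set_option autoImplicit false

namespace Cfsg.Agent.Lib.Helper91

open Cfsg.Agent.Lib.Helper90

/-- An endomorphism `β` of `M` preserving the kernel of a homomorphism `f` to a cyclic group acts through `f` as a
power map. -/
theorem exists_zpow_of_map_cyclic {M C : Type*} [Group M] [Group C] [IsCyclic C] (f : M →* C) (β : M →* M)
    (hβ : ∀ y, f y = 1 → f (β y) = 1) : ∃ a : ℤ, ∀ y, f (β y) = f y ^ a := by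
  have : IsCyclic f.range := Subgroup.isCyclic _
  obtain ⟨⟨g, x₀, rfl⟩, hg⟩ := IsCyclic.exists_generator (α := f.range)
  have h1 : (⟨f (β x₀), β x₀, rfl⟩ : f.range) ∈ Subgroup.zpowers (⟨f x₀, x₀, rfl⟩ : f.range) := hg _
  obtain ⟨a, ha⟩ := h1
  have ha' : f x₀ ^ a = f (β x₀) := congrArg Subtype.val ha
  refine ⟨a, fun y => ?_⟩
  obtain ⟨k, hk⟩ := hg ⟨f y, y, rfl⟩
  have hk' : f x₀ ^ k = f y := congrArg Subtype.val hk
  have h2 : f (y * (x₀ ^ k)⁻¹) = 1 := by rw [map_mul, map_inv, map_zpow, hk', mul_inv_cancel]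
  have h3 := hβ _ h2
  simp only [map_mul, map_inv, map_zpow] at h3
  rw [mul_inv_eq_one] at h3
  rw [h3, ← ha', ← hk', ← zpow_mul, ← zpow_mul, mul_comm]

/-- Euler's theorem in the form needed below. -/
theorem pow_modEq_one_of_mul_modEq_one {p : ℕ} (hp : p.Prime) {k n : ℕ} (hkn : k ≤ n) {a a' : ℤ}
    (h : a' * a ≡ 1 [ZMOD ((p ^ k : ℕ) : ℤ)]) : a ^ ((p - 1) * p ^ n) ≡ 1 [ZMOD ((p ^ k : ℕ) : ℤ)] := by
  have h1 : ((a' : ZMod (p ^ k)) * (a : ZMod (p ^ k))) = 1 := by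
    have := (ZMod.intCast_eq_intCast_iff _ _ _).mpr h
    push_cast at this
    exact this
  let u : (ZMod (p ^ k))ˣ := Units.mkOfMulEqOne (a : ZMod (p ^ k)) (a' : ZMod (p ^ k))
    (by rw [mul_comm]; exact h1)
  have hu : u ^ Nat.totient (p ^ k) = 1 := ZMod.pow_totient u
  have hdvd : Nat.totient (p ^ k) ∣ (p - 1) * p ^ n := by
    cases k with
    | zero => simp
    | succ k =>
      rw [Nat.totient_prime_pow hp (Nat.succ_pos k), Nat.succ_sub_one, mul_comm]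
      exact Nat.mul_dvd_mul_left _ (pow_dvd_pow p (Nat.le_of_succ_le hkn))
  have hu' : u ^ ((p - 1) * p ^ n) = 1 := by
    obtain ⟨t, ht⟩ := hdvd
    rw [ht, pow_mul, hu, one_pow]
  have h2 : (a : ZMod (p ^ k)) ^ ((p - 1) * p ^ n) = 1 := by
    have := congrArg Units.val hu'
    rw [Units.val_pow_eq_pow_val, Units.val_one] at this
    exact this
  apply (ZMod.intCast_eq_intCast_iff _ _ _).mp
  push_cast
  exact h2

section chain

variable {P : Type*} [Group P] (c : ℕ → Subgroup P) (C : ℕ → Type*) [∀ i, Group (C i)]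
  [∀ i, IsCyclic (C i)] (f : ∀ i, c (i + 1) →* C i)
  (hker : ∀ i (y : c (i + 1)), f i y = 1 ↔ (y : P) ∈ c i)

include hker in
/-- An automorphism preserving the chain acts on each (cyclic) factor as a power map. -/
theorem exists_zpow_of_chain (α : MulAut P) (hα : ∀ i, ∀ x ∈ c i, α x ∈ c i) (i : ℕ) :
    ∃ a : ℤ, ∀ (y : P) (hy : y ∈ c (i + 1)),
      f i ⟨α y, hα (i + 1) y hy⟩ = f i ⟨y, hy⟩ ^ a := by
  let β : c (i + 1) →* c (i + 1) :=
    (α.toMonoidHom.comp (c (i + 1)).subtype).codRestrict (c (i + 1)) (fun y => hα (i + 1) y y.2)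
  have hβ : ∀ y, f i y = 1 → f i (β y) = 1 := by
    intro y hy
    rw [hker] at hy ⊢
    exact hα i _ hy
  obtain ⟨a, ha⟩ := exists_zpow_of_map_cyclic (f i) β hβ
  exact ⟨a, fun y hy => ha ⟨y, hy⟩⟩

include hker in
/-- Commutators of automorphisms preserving a chain with cyclic factors stabilize the chain. -/
theorem comm_mem_of_chain (α β : MulAut P) (hα : ∀ i, ∀ x ∈ c i, α x ∈ c i)
    (hα' : ∀ i, ∀ x ∈ c i, α⁻¹ x ∈ c i) (hβ : ∀ i, ∀ x ∈ c i, β x ∈ c i)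
    (hβ' : ∀ i, ∀ x ∈ c i, β⁻¹ x ∈ c i) (i : ℕ) :
    ∀ x ∈ c (i + 1), x⁻¹ * (α * β * α⁻¹ * β⁻¹) x ∈ c i := by
  intro x hx
  obtain ⟨a, ha⟩ := exists_zpow_of_chain c C f hker α hα i
  obtain ⟨a', ha'⟩ := exists_zpow_of_chain c C f hker α⁻¹ hα' i
  obtain ⟨b, hb⟩ := exists_zpow_of_chain c C f hker β hβ i
  obtain ⟨b', hb'⟩ := exists_zpow_of_chain c C f hker β⁻¹ hβ' i
  have hαα : ∀ (w : P) (hw : w ∈ c (i + 1)), (f i ⟨w, hw⟩ ^ a') ^ a = f i ⟨w, hw⟩ := by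
    intro w hw
    rw [← ha' w hw, ← ha _ (hα' (i + 1) w hw)]
    congr 1
    apply Subtype.ext
    simp
  have hββ : ∀ (w : P) (hw : w ∈ c (i + 1)), (f i ⟨w, hw⟩ ^ b') ^ b = f i ⟨w, hw⟩ := by
    intro w hw
    rw [← hb' w hw, ← hb _ (hβ' (i + 1) w hw)]
    congr 1
    apply Subtype.ext
    simp
  have hx1 : β⁻¹ x ∈ c (i + 1) := hβ' _ x hx
  have hx2 : α⁻¹ (β⁻¹ x) ∈ c (i + 1) := hα' _ _ hx1
  have hx3 : β (α⁻¹ (β⁻¹ x)) ∈ c (i + 1) := hβ _ _ hx2
  have hx4 : α (β (α⁻¹ (β⁻¹ x))) ∈ c (i + 1) := hα _ _ hx3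
  have h4 : f i ⟨α (β (α⁻¹ (β⁻¹ x))), hx4⟩ = f i ⟨x, hx⟩ := by
    rw [ha _ hx3, hb _ hx2, ha' _ hx1, hb' _ hx]
    have e : (((f i ⟨x, hx⟩ ^ b') ^ a') ^ b) ^ a = (((f i ⟨x, hx⟩ ^ b') ^ b) ^ a') ^ a := by
      rw [← zpow_mul, ← zpow_mul, ← zpow_mul, ← zpow_mul, ← zpow_mul, ← zpow_mul]
      congr 1
      ring
    rw [e, hββ, hαα]
  have e : (α * β * α⁻¹ * β⁻¹) x = α (β (α⁻¹ (β⁻¹ x))) := by
    simp only [MulAut.mul_apply]
  rw [e]
  have h5 : f i (⟨x, hx⟩⁻¹ * ⟨α (β (α⁻¹ (β⁻¹ x))), hx4⟩) = 1 := by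
    rw [map_mul, map_inv, h4, inv_mul_cancel]
  exact (hker i _).mp h5

include hker in
/-- A suitable power of an automorphism preserving a chain with cyclic factors stabilizes the chain. -/
theorem pow_mem_of_chain [Finite P] {p : ℕ} [Fact p.Prime] (hP : IsPGroup p P) (α : MulAut P)
    (hα : ∀ i, ∀ x ∈ c i, α x ∈ c i) (hα' : ∀ i, ∀ x ∈ c i, α⁻¹ x ∈ c i) (i : ℕ) :
    ∀ x ∈ c (i + 1), x⁻¹ * (α ^ ((p - 1) * Nat.card P)) x ∈ c i := by
  have hp : p.Prime := Fact.out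
  intro x hx
  obtain ⟨a, ha⟩ := exists_zpow_of_chain c C f hker α hα i
  obtain ⟨a', ha'⟩ := exists_zpow_of_chain c C f hker α⁻¹ hα' i
  have hαα : ∀ (w : P) (hw : w ∈ c (i + 1)), (f i ⟨w, hw⟩ ^ a') ^ a = f i ⟨w, hw⟩ := by
    intro w hw
    rw [← ha' w hw, ← ha _ (hα' (i + 1) w hw)]
    congr 1
    apply Subtype.ext
    simp
  have hit : ∀ (j : ℕ) (w : P) (hw : w ∈ c (i + 1)), ∃ hw' : (α ^ j) w ∈ c (i + 1),
      f i ⟨(α ^ j) w, hw'⟩ = f i ⟨w, hw⟩ ^ (a ^ j) := by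
    intro j
    induction j with
    | zero => intro w hw; exact ⟨by simpa using hw, by simp⟩
    | succ j ih =>
      intro w hw
      obtain ⟨hw', h1⟩ := ih w hw
      have e : (α ^ (j + 1)) w = α ((α ^ j) w) := by rw [pow_succ', MulAut.mul_apply]
      have hw'' : (α ^ (j + 1)) w ∈ c (i + 1) := by rw [e]; exact hα _ _ hw'
      refine ⟨hw'', ?_⟩
      have h2 := ha _ hw'
      rw [h1] at h2
      have h3 : f i ⟨(α ^ (j + 1)) w, hw''⟩ = f i ⟨α ((α ^ j) w), hα _ _ hw'⟩ := by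
        congr 1
        exact Subtype.ext e
      rw [h3, h2, pow_succ a j, zpow_mul]
  obtain ⟨n, hn⟩ := hP.exists_card_eq
  set z := f i ⟨x, hx⟩ with hz
  -- the order of `z`
  have hordz : orderOf z ∣ p ^ n := by
    have h1 : orderOf z ∣ orderOf (⟨x, hx⟩ : c (i + 1)) := orderOf_map_dvd _ _
    have h2 : orderOf (⟨x, hx⟩ : c (i + 1)) ∣ Nat.card P := by
      rw [Subgroup.orderOf_mk]
      exact orderOf_dvd_natCard x
    rw [← hn]
    exact h1.trans h2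
  obtain ⟨k, hkn, hk⟩ := (Nat.dvd_prime_pow hp).mp hordz
  have hmod : a' * a ≡ 1 [ZMOD ((p ^ k : ℕ) : ℤ)] := by
    rw [← hk, ← zpow_eq_zpow_iff_modEq, zpow_mul, zpow_one]
    exact hαα x hx
  have hmod2 := pow_modEq_one_of_mul_modEq_one hp hkn hmod
  rw [← hk, ← zpow_eq_zpow_iff_modEq, zpow_one] at hmod2
  obtain ⟨hw', h1⟩ := hit ((p - 1) * Nat.card P) x hx
  have h1' : f i ⟨(α ^ ((p - 1) * Nat.card P)) x, hw'⟩ = z := by
    rw [h1, hn]
    exact hmod2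
  have h5 : f i (⟨x, hx⟩⁻¹ * ⟨(α ^ ((p - 1) * Nat.card P)) x, hw'⟩) = 1 := by
    rw [map_mul, map_inv, h1', inv_mul_cancel]
  exact (hker i _).mp h5

end chain

section corollaries

variable {P : Type*} [Group P] [Finite P] {p : ℕ} [Fact p.Prime] (c : ℕ → Subgroup P) (C : ℕ → Type*)
  [∀ i, Group (C i)] [∀ i, IsCyclic (C i)] (f : ∀ i, c (i + 1) →* C i)
  (hker : ∀ i (y : c (i + 1)), f i y = 1 ↔ (y : P) ∈ c i)

include hker in
/-- A `p'`-group of automorphisms of a finite `p`-group preserving a chain with cyclic factors, and acting faithfully on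
the top `c n` of the chain, is commutative of exponent dividing `p - 1`. -/
theorem comm_and_exp_of_coprime (hP : IsPGroup p P) (hc0 : c 0 = ⊥) (hmono : Monotone c)
    (A : Subgroup (MulAut P)) (hA : ∀ α ∈ A, ∀ i, ∀ x ∈ c i, α x ∈ c i) (hcop : (Nat.card A).Coprime p)
    (n : ℕ) (hfaith : ∀ α ∈ A, (∀ x ∈ c n, α x = x) → α = 1) :
    (∀ α ∈ A, ∀ β ∈ A, α * β = β * α) ∧ ∀ α ∈ A, α ^ (p - 1) = 1 := by
  have hp : p.Prime := Fact.out
  have hm : ∀ x : P, x ^ Nat.card P = 1 := fun x => pow_card_eq_one'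
  obtain ⟨e, he⟩ := hP.exists_card_eq
  have hordA : ∀ γ ∈ A, orderOf γ ∣ Nat.card A := by
    intro γ hγ
    have := orderOf_dvd_natCard (⟨γ, hγ⟩ : A)
    rwa [Subgroup.orderOf_mk] at this
  have hord : ∀ γ ∈ A, ∀ M : ℕ, γ ^ (p ^ M) = 1 → γ = 1 := by
    intro γ hγ M h
    have h1 : orderOf γ ∣ p ^ M := orderOf_dvd_of_pow_eq_one h
    have h3 : (orderOf γ).Coprime (p ^ M) :=
      (Nat.Coprime.coprime_dvd_left (hordA γ hγ) hcop).pow_right M
    have h4 : orderOf γ = 1 := Nat.Coprime.eq_one_of_dvd h3 h1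
    exact orderOf_eq_one_iff.mp h4
  constructor
  · intro α hα β hβ
    have hκ : α * β * α⁻¹ * β⁻¹ ∈ A :=
      A.mul_mem (A.mul_mem (A.mul_mem hα hβ) (A.inv_mem hα)) (A.inv_mem hβ)
    have h1 := comm_mem_of_chain c C f hker α β (hA α hα) (hA α⁻¹ (A.inv_mem hα)) (hA β hβ)
      (hA β⁻¹ (A.inv_mem hβ))
    have h2 := stab_chain_pow hm c hc0 hmono (α * β * α⁻¹ * β⁻¹) h1 n
    have h3 : (α * β * α⁻¹ * β⁻¹) ^ (Nat.card P ^ n) = 1 := hfaith _ (A.pow_mem hκ _) h2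
    rw [he, ← pow_mul] at h3
    have h4 := hord _ hκ _ h3
    calc α * β = (α * β * α⁻¹ * β⁻¹) * (β * α) := by group
      _ = β * α := by rw [h4, one_mul]
  · intro α hα
    have h1 := pow_mem_of_chain c C f hker hP α (hA α hα) (hA α⁻¹ (A.inv_mem hα))
    have h2 := stab_chain_pow hm c hc0 hmono (α ^ ((p - 1) * Nat.card P)) h1 n
    have h3 : (α ^ ((p - 1) * Nat.card P)) ^ (Nat.card P ^ n) = 1 :=
      hfaith _ (A.pow_mem (A.pow_mem hα _) _) h2
    have h4 : orderOf α ∣ (p - 1) * (p ^ e * (p ^ e) ^ n) := by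
      rw [← pow_mul, he, mul_assoc] at h3
      exact orderOf_dvd_of_pow_eq_one h3
    have h6 : (orderOf α).Coprime (p ^ e * (p ^ e) ^ n) := by
      have h0 : (orderOf α).Coprime p := Nat.Coprime.coprime_dvd_left (hordA α hα) hcop
      exact Nat.Coprime.mul_right (h0.pow_right e) ((h0.pow_right e).pow_right n)
    have h7 : orderOf α ∣ p - 1 := h6.dvd_of_dvd_mul_right h4
    exact orderOf_dvd_iff_pow_eq_one.mp h7

include hker in
/-- A group of automorphisms of a finite `p`-group preserving a chain from `⊥` to `⊤` with cyclic factors has a normal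
Sylow `p`-subgroup. -/
theorem exists_normal_sylow_of_chain (hP : IsPGroup p P) (hc0 : c 0 = ⊥) (hmono : Monotone c) (n : ℕ)
    (hcn : c n = ⊤) (A : Subgroup (MulAut P)) (hA : ∀ α ∈ A, ∀ i, ∀ x ∈ c i, α x ∈ c i) :
    ∃ R : Sylow p A, (R : Subgroup A).Normal := by
  let K₀ : Subgroup A := (stabChain c hmono).subgroupOf A
  have hK₀p : IsPGroup p K₀ := (stabChain_isPGroup hP c hc0 hmono n hcn).comap_subtype
  have hK₀n : K₀.Normal := by
    refine ⟨fun k hk g => ?_⟩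
    rw [Subgroup.mem_subgroupOf] at hk ⊢
    have := stabChain_conj_mem c hmono (g : MulAut P) (hA g g.2) (hA _ (A.inv_mem g.2)) hk
    exact this
  have hcomm : ∀ g r : A, g * r * g⁻¹ * r⁻¹ ∈ K₀ := by
    intro g r
    rw [Subgroup.mem_subgroupOf]
    intro i x hx
    constructor
    · exact comm_mem_of_chain c C f hker g r (hA g g.2) (hA _ (A.inv_mem g.2)) (hA r r.2)
        (hA _ (A.inv_mem r.2)) i x hx
    · have e : ((g * r * g⁻¹ * r⁻¹ : A) : MulAut P)⁻¹ = (r : MulAut P) * g * (r : MulAut P)⁻¹ * (g : MulAut P)⁻¹ := by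
        simp [mul_assoc]
      rw [e]
      exact comm_mem_of_chain c C f hker r g (hA r r.2) (hA _ (A.inv_mem r.2)) (hA g g.2)
        (hA _ (A.inv_mem g.2)) i x hx
  obtain ⟨R⟩ : Nonempty (Sylow p A) := inferInstance
  have hK₀R : K₀ ≤ R := hK₀p.le_sylow_of_normal R
  refine ⟨R, ⟨fun r hr g => ?_⟩⟩
  have e : g * r * g⁻¹ = (g * r * g⁻¹ * r⁻¹) * r := by group
  rw [e]
  exact (R : Subgroup A).mul_mem (hK₀R (hcomm g r)) hr

end corollaries

end Cfsg.Agent.Lib.Helper91
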