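import Mathlib
import Cfsg.Agent.Lib.Helper91.CyclicChainStab
import Cfsg.Agent.Lib.Helper91.AbelianRankTwo

set_option autoImplicit false

namespace Cfsg.Agent.Lib.Helper91

open Multiplicative

section cyclic

variable {p : ℕ} [Fact p.Prime]

theorem zmod_pow_pow_eq_one (t : ℕ) (x : Multiplicative (ZMod (p ^ t))) : x ^ (p ^ t) = 1 := by
  apply Multiplicative.toAdd.injective
  rw [toAdd_pow, toAdd_one, nsmul_eq_mul, ZMod.natCast_self, zero_mul]

theorem zmod_pow_pow_eq_one_of_le {t s : ℕ} (hts : t ≤ s) (x : Multiplicative (ZMod (p ^ t))) :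
    x ^ (p ^ s) = 1 := by
  obtain ⟨k, rfl⟩ := Nat.exists_eq_add_of_le hts
  rw [pow_add, pow_mul, zmod_pow_pow_eq_one, one_pow]

/-- In a cyclic group of order `p ^ t` with `t ≥ s + 2`, the elements of order dividing `p` are `p ^ (s + 1)`-th powers. -/
theorem zmod_exists_root {t s : ℕ} (hst : s + 2 ≤ t) (x : Multiplicative (ZMod (p ^ t))) (hx : x ^ p = 1) :
    ∃ y : Multiplicative (ZMod (p ^ t)), y ^ (p ^ (s + 1)) = x := by
  have hp : p.Prime := Fact.out
  have hne : NeZero (p ^ t) := ⟨pow_ne_zero _ hp.ne_zero⟩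
  have ha : ((p * (toAdd x).val : ℕ) : ZMod (p ^ t)) = 0 := by
    have h1 := congrArg toAdd hx
    rw [toAdd_pow, toAdd_one, nsmul_eq_mul] at h1
    rw [Nat.cast_mul, ZMod.natCast_zmod_val]
    exact h1
  rw [ZMod.natCast_eq_zero_iff] at ha
  obtain ⟨t', rfl⟩ : ∃ t', t = t' + 1 := ⟨t - 1, by omega⟩
  have ha' : p * p ^ t' ∣ p * (toAdd x).val := by rw [← pow_succ']; exact ha
  obtain ⟨c, hc⟩ := Nat.dvd_of_mul_dvd_mul_left hp.pos ha'
  refine ⟨ofAdd ((p ^ (t' - 1 - s) * c : ℕ) : ZMod (p ^ (t' + 1))), ?_⟩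
  apply Multiplicative.toAdd.injective
  rw [toAdd_pow, toAdd_ofAdd, nsmul_eq_mul, ← Nat.cast_mul, ← mul_assoc, ← pow_add]
  have e : s + 1 + (t' - 1 - s) = t' := by omega
  rw [e, ← hc, ZMod.natCast_zmod_val]

end cyclic

section product

variable {p : ℕ} [Fact p.Prime] {ι : Type} (e : ι → ℕ)

/-- `Ω₁(G) ∩ G^{p^s}` for `G = ∏ C_{p^{e i}}`. -/
def omegaAgemo (p : ℕ) (e : ι → ℕ) (s : ℕ) : Subgroup (∀ i, Multiplicative (ZMod (p ^ e i))) where
  carrier := {g | g ^ p = 1 ∧ ∃ h, h ^ (p ^ s) = g}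
  one_mem' := ⟨one_pow _, 1, one_pow _⟩
  mul_mem' := by
    rintro a b ⟨ha, h, hh⟩ ⟨hb, k, hk⟩
    exact ⟨by rw [mul_pow, ha, hb, one_mul], h * k, by rw [mul_pow, hh, hk]⟩
  inv_mem' := by
    rintro a ⟨ha, h, hh⟩
    exact ⟨by rw [inv_pow, ha, inv_one], h⁻¹, by rw [inv_pow, hh]⟩

theorem mem_omegaAgemo {s : ℕ} {g : ∀ i, Multiplicative (ZMod (p ^ e i))} :
    g ∈ omegaAgemo p e s ↔ g ^ p = 1 ∧ ∃ h, h ^ (p ^ s) = g := Iff.rfl

theorem omegaAgemo_succ_le (s : ℕ) : omegaAgemo p e (s + 1) ≤ omegaAgemo p e s := by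
  rintro g ⟨hg, h, hh⟩
  exact ⟨hg, h ^ p, by rw [← pow_mul, ← pow_succ']; exact hh⟩

theorem omegaAgemo_antitone : Antitone (omegaAgemo p e) :=
  antitone_nat_of_succ_le (omegaAgemo_succ_le e)

theorem omegaAgemo_eq_bot {N : ℕ} (hN : ∀ i, e i ≤ N) : omegaAgemo p e N = ⊥ := by
  rw [eq_bot_iff]
  rintro g ⟨-, h, rfl⟩
  rw [Subgroup.mem_bot]
  funext i
  rw [Pi.pow_apply, Pi.one_apply]
  exact zmod_pow_pow_eq_one_of_le (hN i) _

/-- The key computation: inside `Ω₁(G) ∩ G^{p^s}`, the subgroup `Ω₁(G) ∩ G^{p^(s+1)}` is cut out by the vanishing of the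
coordinates of exponent exactly `s + 1`. -/
theorem mem_omegaAgemo_succ_iff {s : ℕ} {g : ∀ i, Multiplicative (ZMod (p ^ e i))}
    (hg : g ∈ omegaAgemo p e s) : g ∈ omegaAgemo p e (s + 1) ↔ ∀ i, e i = s + 1 → g i = 1 := by
  constructor
  · rintro ⟨-, h, rfl⟩ i hi
    rw [Pi.pow_apply, ← hi]
    exact zmod_pow_pow_eq_one _ _
  · intro hv
    obtain ⟨hgp, h, hh⟩ := hg
    refine ⟨hgp, ?_⟩
    have key : ∀ i, ∃ y : Multiplicative (ZMod (p ^ e i)), y ^ (p ^ (s + 1)) = g i := by
      intro i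
      rcases Nat.lt_or_ge (e i) (s + 1) with h1 | h1
      · refine ⟨1, ?_⟩
        rw [one_pow, ← hh, Pi.pow_apply]
        exact (zmod_pow_pow_eq_one_of_le (Nat.lt_succ_iff.mp h1) _).symm
      · rcases h1.lt_or_eq with h2 | h2
        · apply zmod_exists_root (s := s) (by omega)
          have := congrFun hgp i
          rw [Pi.pow_apply, Pi.one_apply] at this
          exact this
        · exact ⟨1, by rw [one_pow, hv i h2.symm]⟩
    choose y hy using key
    exact ⟨y, funext fun i => by rw [Pi.pow_apply, hy]⟩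

/-- The projection to the coordinate of exponent `t` (trivial if there is none), with values in `C_{p^t}`. -/
noncomputable def expProj (p : ℕ) (e : ι → ℕ) (t : ℕ) :
    (∀ i, Multiplicative (ZMod (p ^ e i))) →* Multiplicative (ZMod (p ^ t)) := by
  classical
  exact if h : ∃ i, e i = t then
    (MulEquiv.cast (M := fun t => Multiplicative (ZMod (p ^ t))) h.choose_spec).toMonoidHom.comp
      (Pi.evalMonoidHom _ h.choose)
  else 1

theorem expProj_eq_one_iff (he : Function.Injective e) (t : ℕ) (g : ∀ i, Multiplicative (ZMod (p ^ e i))) :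
    expProj p e t g = 1 ↔ ∀ i, e i = t → g i = 1 := by
  classical
  unfold expProj
  by_cases h : ∃ i, e i = t
  · rw [dif_pos h]
    have h1 : ((MulEquiv.cast (M := fun t => Multiplicative (ZMod (p ^ t))) h.choose_spec).toMonoidHom.comp
        (Pi.evalMonoidHom _ h.choose)) g =
        (MulEquiv.cast (M := fun t => Multiplicative (ZMod (p ^ t))) h.choose_spec) (g h.choose) := rfl
    rw [h1, MulEquiv.map_eq_one_iff]
    constructor
    · intro hg i hi
      have : i = h.choose := he (hi.trans h.choose_spec.symm)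
      rw [this]
      exact hg
    · intro hg
      exact hg _ h.choose_spec
  · rw [dif_neg h]
    constructor
    · intro _ i hi
      exact absurd ⟨i, hi⟩ h
    · intro _
      rfl

theorem expProj_ker_succ (he : Function.Injective e) (s t : ℕ) (hts : t = s + 1)
    {g : ∀ i, Multiplicative (ZMod (p ^ e i))} (hg : g ∈ omegaAgemo p e s) :
    expProj p e t g = 1 ↔ g ∈ omegaAgemo p e t := by
  subst hts
  rw [expProj_eq_one_iff e he, mem_omegaAgemo_succ_iff e hg]

theorem expProj_ker_zero (he : Function.Injective e) (t : ℕ) (ht : t = 0)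
    {g : ∀ i, Multiplicative (ZMod (p ^ e i))} (hg : g ∈ omegaAgemo p e 0) :
    expProj p e t g = 1 ↔ g ∈ omegaAgemo p e t := by
  subst ht
  constructor
  · intro _
    exact hg
  · intro _
    rw [expProj_eq_one_iff e he]
    intro i hi
    calc g i = (g i) ^ 1 := (pow_one _).symm
      _ = (g i) ^ (p ^ e i) := by
        congr 1
        rw [hi, pow_zero]
      _ = 1 := zmod_pow_pow_eq_one _ _

/-- In a product of cyclic `p`-groups of pairwise distinct orders, the groups of automorphisms of order prime to `p` are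
commutative of exponent dividing `p - 1`. -/
theorem comm_exp_of_injective_exponents [Finite ι] (he : Function.Injective e)
    (A : Subgroup (MulAut (∀ i, Multiplicative (ZMod (p ^ e i))))) (hA : (Nat.card A).Coprime p) :
    (∀ α ∈ A, ∀ β ∈ A, α * β = β * α) ∧ ∀ α ∈ A, α ^ (p - 1) = 1 := by
  have hp : p.Prime := Fact.out
  have hne : ∀ i, NeZero (p ^ e i) := fun i => ⟨pow_ne_zero _ hp.ne_zero⟩
  have hfin : Finite (∀ i, Multiplicative (ZMod (p ^ e i))) := inferInstance
  obtain ⟨N, hN⟩ : ∃ N, ∀ i, e i ≤ N := by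
    obtain ⟨N, hN⟩ := (Set.finite_range e).bddAbove
    exact ⟨N, fun i => hN ⟨i, rfl⟩⟩
  have hG : IsPGroup p (∀ i, Multiplicative (ZMod (p ^ e i))) := by
    intro g
    refine ⟨N, funext fun i => ?_⟩
    rw [Pi.pow_apply, Pi.one_apply]
    exact zmod_pow_pow_eq_one_of_le (hN i) _
  let c : ℕ → Subgroup (∀ i, Multiplicative (ZMod (p ^ e i))) := fun j => omegaAgemo p e (N - j)
  let C : ℕ → Type := fun j => Multiplicative (ZMod (p ^ (N - j)))
  letI instG : ∀ j, Group (C j) := fun j => inferInstanceAs (Group (Multiplicative (ZMod (p ^ (N - j)))))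
  have instC : ∀ j, IsCyclic (C j) := fun j =>
    inferInstanceAs (IsCyclic (Multiplicative (ZMod (p ^ (N - j)))))
  let f : ∀ j, c (j + 1) →* C j := fun j => (expProj p e (N - j)).comp (c (j + 1)).subtype
  have hker : ∀ j (y : c (j + 1)), f j y = 1 ↔ (y : ∀ i, Multiplicative (ZMod (p ^ e i))) ∈ c j := by
    intro j y
    show expProj p e (N - j) (y : ∀ i, Multiplicative (ZMod (p ^ e i))) = 1 ↔ _ ∈ omegaAgemo p e (N - j)
    have hy : (y : ∀ i, Multiplicative (ZMod (p ^ e i))) ∈ omegaAgemo p e (N - (j + 1)) := y.2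
    rcases Nat.lt_or_ge j N with hj | hj
    · exact expProj_ker_succ e he (N - (j + 1)) (N - j) (by omega) hy
    · have h0 : N - (j + 1) = 0 := by omega
      rw [h0] at hy
      exact expProj_ker_zero e he (N - j) (by omega) hy
  have hc0 : c 0 = ⊥ := omegaAgemo_eq_bot e hN
  have hmono : Monotone c := fun i j hij => omegaAgemo_antitone e (Nat.sub_le_sub_left hij N)
  have hA' : ∀ α ∈ A, ∀ i, ∀ x ∈ c i, α x ∈ c i := by
    rintro α - i x ⟨hx, h, hh⟩
    exact ⟨by rw [← map_pow, hx, map_one], α h, by rw [← map_pow, hh]⟩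
  refine comm_and_exp_of_coprime c C f hker hG hc0 hmono A hA' hA N ?_
  intro α hα hfix
  have hord : (orderOf α).Coprime p := by
    have h1 : orderOf α ∣ Nat.card A := by
      have := orderOf_dvd_natCard (⟨α, hα⟩ : A)
      rwa [Subgroup.orderOf_mk] at this
    exact Nat.Coprime.coprime_dvd_left h1 hA
  apply aut_eq_one_of_fix_omega_comm hG α hord
  intro x hx
  apply hfix
  show x ∈ omegaAgemo p e (N - N)
  rw [Nat.sub_self]
  exact ⟨hx, x, by rw [pow_zero, pow_one]⟩

end product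

end Cfsg.Agent.Lib.Helper91
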