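import Mathlib
import Cfsg.Agent.Lib.Helper91.DistinctExponents

set_option autoImplicit false

namespace Cfsg.Agent.Lib.Helper91

open Multiplicative

/-- Splitting two coordinates with the same exponent off a product of cyclic `p`-groups. -/
theorem exists_split_two {p : ℕ} {ι : Type} (e : ι → ℕ) {i j : ι} (hij : i ≠ j) (he : e i = e j) :
    ∃ (H : Type) (_ : CommGroup H), Nonempty ((∀ k, Multiplicative (ZMod (p ^ e k))) ≃*
      (Multiplicative (ZMod (p ^ e i)) × Multiplicative (ZMod (p ^ e i))) × H) := by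
  classical
  let β : ι → Type := fun k => Multiplicative (ZMod (p ^ e k))
  let ψ₁ : (∀ k, β k) ≃* β i × (∀ k : {k // k ≠ i}, β k) :=
    MulEquiv.mk' (Equiv.piSplitAt i β) (fun _ _ => rfl)
  let j' : {k // k ≠ i} := ⟨j, hij.symm⟩
  let ψ₂ : (∀ k : {k // k ≠ i}, β k) ≃* β j × (∀ k : {k : {k // k ≠ i} // k ≠ j'}, β k) :=
    MulEquiv.mk' (Equiv.piSplitAt j' (fun k : {k // k ≠ i} => β k)) (fun _ _ => rfl)
  let cst : β j ≃* β i := MulEquiv.cast (M := fun t => Multiplicative (ZMod (p ^ t))) he.symm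
  refine ⟨∀ k : {k : {k // k ≠ i} // k ≠ j'}, β k, inferInstance, ⟨?_⟩⟩
  exact (ψ₁.trans (MulEquiv.prodCongr (MulEquiv.refl _) ψ₂)).trans
    ((MulEquiv.prodAssoc).symm.trans
      (MulEquiv.prodCongr (MulEquiv.prodCongr (MulEquiv.refl _) cst) (MulEquiv.refl _)))

/-- A finite abelian `p`-group without a direct factor `C_{p^n} × C_{p^n}`, `n > 0`: its groups of automorphisms of order prime
to `p` are commutative of exponent dividing `p - 1`. -/
theorem comm_exp_of_no_square_factor {p : ℕ} [Fact p.Prime] {A : Type*} [CommGroup A] [Finite A]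
    (hA : IsPGroup p A)
    (hno : ¬ ∃ (n : ℕ) (H : Type) (_ : CommGroup H), 0 < n ∧
      Nonempty (A ≃* (Multiplicative (ZMod (p ^ n)) × Multiplicative (ZMod (p ^ n))) × H))
    (K : Subgroup (MulAut A)) (hK : (Nat.card K).Coprime p) :
    (∀ α ∈ K, ∀ β ∈ K, α * β = β * α) ∧ ∀ α ∈ K, α ^ (p - 1) = 1 := by
  have hp : p.Prime := Fact.out
  obtain ⟨ι, _, n, hn1, ⟨φ⟩⟩ := CommGroup.equiv_prod_multiplicative_zmod_of_finite A
  obtain ⟨N, hN⟩ := hA.exists_card_eq
  have hcard : Nat.card A = ∏ i, n i := by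
    rw [Nat.card_congr φ.toEquiv, Nat.card_pi]
    apply Finset.prod_congr rfl
    intro i _
    rw [Nat.card_congr (Multiplicative.toAdd : Multiplicative (ZMod (n i)) ≃ ZMod (n i)), Nat.card_zmod]
  have hpow : ∀ i, ∃ k, n i = p ^ k := by
    intro i
    have h1 : n i ∣ p ^ N := by
      rw [← hN, hcard]
      exact Finset.dvd_prod_of_mem n (Finset.mem_univ i)
    obtain ⟨k, -, hk⟩ := (Nat.dvd_prime_pow hp).mp h1
    exact ⟨k, hk⟩
  choose e he' using hpow
  have hn : n = fun i => p ^ e i := funext he'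
  subst hn
  have hinj : Function.Injective e := by
    intro i j hij
    by_contra hne
    obtain ⟨H, instH, ⟨ψ⟩⟩ := exists_split_two (p := p) e hne hij
    apply hno
    refine ⟨e i, H, instH, ?_, ⟨φ.trans ψ⟩⟩
    rcases Nat.eq_zero_or_pos (e i) with h0 | h0
    · have := hn1 i
      simp only [h0, pow_zero, lt_self_iff_false] at this
    · exact h0
  -- transport
  let Φ : MulAut A ≃* MulAut (∀ i, Multiplicative (ZMod (p ^ e i))) := MulAut.congr φ
  have hcardK : Nat.card (K.map Φ.toMonoidHom) = Nat.card K :=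
    Subgroup.card_map_of_injective Φ.injective
  obtain ⟨hc, hexp⟩ := comm_exp_of_injective_exponents e hinj (K.map Φ.toMonoidHom)
    (by rw [hcardK]; exact hK)
  constructor
  · intro α hα β hβ
    apply Φ.injective
    rw [map_mul, map_mul]
    exact hc _ ⟨α, hα, rfl⟩ _ ⟨β, hβ, rfl⟩
  · intro α hα
    apply Φ.injective
    rw [map_pow, map_one]
    exact hexp _ ⟨α, hα, rfl⟩

end Cfsg.Agent.Lib.Helper91
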