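import Cfsg.Agent.Lib.Helper89.AutSystem

set_option autoImplicit false

namespace Cfsg.Agent.Lib.Helper91

open Cfsg Cfsg.FusionSystem Cfsg.Agent.Lib.Helper87 Cfsg.Agent.Lib.Helper89
open scoped Pointwise

variable {Ω : Type*} [Group Ω]

/-- The system of `Inn(P) K`, for a subgroup `K ≤ Aut(P)` of order prime to `p`, is realized by the semidirect product of
`P` by `K`, hence saturated. -/
theorem autSystem_saturated_of_coprime {p : ℕ} [Fact p.Prime] {P : Subgroup Ω} [Finite P] (hP : IsPGroup p P)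
    (H : Subgroup (MulAut P)) (hH : (Nat.card H).Coprime p) :
    (autSystem P (Inn P ⊔ H) le_sup_left).IsSaturated p := by
  let G := P ⋊[H.subtype] H
  let ι : P →* G := SemidirectProduct.inl
  have hHfin : Finite H := inferInstance
  have hGfin : Finite G := Finite.of_equiv _ (SemidirectProduct.equivProd (φ := H.subtype)).symm
  have hreal : (autSystem P (Inn P ⊔ H) le_sup_left).IsRealizedBy ι := by
    refine ⟨SemidirectProduct.inl_injective, fun R hR φ hφ => ?_⟩
    constructor
    · rintro ⟨_, γ, hγ, h⟩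
      have hγ' : γ ∈ ((Inn P ⊔ H : Subgroup (MulAut P)) : Set (MulAut P)) := hγ
      rw [Subgroup.normal_mul] at hγ'
      obtain ⟨c, hc, b, hb, hcb⟩ := Set.mem_mul.mp hγ'
      obtain ⟨y, rfl⟩ := hc
      refine ⟨SemidirectProduct.inl y * SemidirectProduct.inr ⟨b, hb⟩, fun x => ?_⟩
      have h1 : (⟨φ x, hφ x⟩ : P) = γ ⟨x, hR x.2⟩ := Subtype.ext (h x)
      rw [h1, ← hcb]
      have h2 : (MulAut.conj y * b) ⟨x, hR x.2⟩ = y * b ⟨x, hR x.2⟩ * y⁻¹ := rfl
      rw [h2]
      have h3 := SemidirectProduct.inl_aut (φ := H.subtype) (⟨b, hb⟩ : H) (⟨x, hR x.2⟩ : P)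
      have h4 : (H.subtype ⟨b, hb⟩) ⟨x, hR x.2⟩ = b ⟨x, hR x.2⟩ := rfl
      rw [h4] at h3
      show ι (y * b ⟨x, hR x.2⟩ * y⁻¹) = _
      rw [map_mul, map_mul, h3, map_inv]
      simp only [mul_inv_rev, mul_assoc]
      rfl
    · rintro ⟨g, hg⟩
      refine ⟨hR, MulAut.conj g.left * (g.right : MulAut P),
        Subgroup.mul_mem _ (Subgroup.mem_sup_left ⟨g.left, rfl⟩) (Subgroup.mem_sup_right g.right.2),
        fun x => ?_⟩
      have h1 := hg x
      have h2 : g = SemidirectProduct.inl g.left * SemidirectProduct.inr g.right :=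
        (SemidirectProduct.inl_left_mul_inr_right g).symm
      have h3 := SemidirectProduct.inl_aut (φ := H.subtype) g.right (⟨x, hR x.2⟩ : P)
      have h4 : (H.subtype g.right) ⟨x, hR x.2⟩ = (g.right : MulAut P) ⟨x, hR x.2⟩ := rfl
      rw [h4] at h3
      have h5 : ι ⟨φ x, hφ x⟩ = ι (g.left * (g.right : MulAut P) ⟨x, hR x.2⟩ * g.left⁻¹) := by
        rw [h1, map_mul, map_mul, map_inv]
        show g * ι ⟨x, hR x.2⟩ * g⁻¹ = SemidirectProduct.inl g.left *
          SemidirectProduct.inl ((g.right : MulAut P) ⟨x, hR x.2⟩) * (SemidirectProduct.inl g.left)⁻¹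
        rw [h3]
        conv_lhs => rw [h2]
        rw [mul_inv_rev, ← map_inv (SemidirectProduct.inr : H →* G)]
        simp only [mul_assoc]
        rfl
      have h6 := SemidirectProduct.inl_injective h5
      have h7 := congrArg (fun z : P => (z : Ω)) h6
      exact h7
  -- the image of `P` is a Sylow subgroup
  have hidx : ι.range.index = Nat.card H := by
    have h1 : ι.range = (SemidirectProduct.rightHom : G →* H).ker :=
      SemidirectProduct.range_inl_eq_ker_rightHom
    rw [h1, Subgroup.index_ker]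
    have h2 : (SemidirectProduct.rightHom : G →* H).range = ⊤ :=
      MonoidHom.range_eq_top.mpr SemidirectProduct.rightHom_surjective
    rw [h2, Nat.card_congr (Subgroup.topEquiv (G := H)).toEquiv]
  have hpr : IsPGroup p ι.range := by
    rw [MonoidHom.range_eq_map]
    exact IsPGroup.map ((IsPGroup.of_surjective hP (Subgroup.topEquiv (G := P)).symm.toMonoidHom
      (Subgroup.topEquiv (G := P)).symm.surjective)) ι
  have hnd : ¬ p ∣ ι.range.index := by
    rw [hidx]
    intro h
    have hp : p.Prime := Fact.out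
    exact hp.one_lt.ne' (Nat.eq_one_of_dvd_coprimes hH h (dvd_refl p))
  exact isSaturated_of_realized _ hreal (hpr.toSylow hnd) (IsPGroup.toSylow_coe hpr hnd)

end Cfsg.Agent.Lib.Helper91
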