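import Mathlib
import Cfsg.Agent.Lib.Helper16.BG1363Defs
import Cfsg.Agent.Lib.Helper55.Basic
import Cfsg.Agent.Lib.Helper71.BG11a
import Cfsg.Agent.Lib.Helper01.BG134CJ

/-!
# K-1435-P1 (keystone 143503, architect helper31; parallel hand): `NU.kappa_empty`
-/

set_option autoImplicit false

namespace Cfsg.Agent.Lib.Helper91.BG1435

open Cfsg Subgroup Cfsg.Agent.Lib.Helper55 Cfsg.Agent.Lib.Helper11.BG14D Cfsg.Agent.Lib.Helper16.BG1363

variable {G : Type*} [Group G] [Finite G]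

theorem NU.kappa_empty (hG : IsMinSimpleOddOrder G) {M K U R H Ms : Subgroup G} {r : ℕ}
    (c : NU M K U R H r) (pf : PF M K Ms) (hp : (Nat.card K).Prime)
    (hnc : ∀ g : G, H ≠ M.map (MulAut.conj g).toMonoidHom) (hpH : Nat.card K ∉ sigma H) :
    kappa H = ∅ := by
  by_contra hne
  have hne' : (kappa H).Nonempty := Set.nonempty_iff_ne_empty.mpr hne
  obtain ⟨g, hg | hg⟩ := pf.h69 H c.hH hne'
  · exact hnc g hg
  · apply hpH
    have hpσ : Nat.card K ∈ sigma Ms :=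
      Cfsg.Agent.Lib.Helper71.BG11.sigmaCore_pi hG pf.hMs hp (Subgroup.card_dvd_of_le pf.hKMs)
    rw [hg]
    exact (Cfsg.Agent.Lib.Helper01.BG134.mem_sigma_cj_iff (M := Ms) g).mpr hpσ

end Cfsg.Agent.Lib.Helper91.BG1435
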