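import Mathlib
import Cfsg.Agent.Lib.Helper16.BG1363Defs
import Cfsg.Agent.Lib.Helper55.Basic
import Cfsg.Agent.S1432

/-!
# K-1435-P15 (keystone 143508, architect helper31; parallel hand): `star_cases`
-/

set_option autoImplicit false

namespace Cfsg.Agent.Lib.Helper91.BG1435

open Cfsg Subgroup Cfsg.Agent.Lib.Helper55 Cfsg.Agent.Lib.Helper11.BG14D Cfsg.Agent.Lib.Helper16.BG1363

variable {G : Type*} [Group G] [Finite G]

theorem star_cases (hG : IsMinSimpleOddOrder G) {M K Ms : Subgroup G} (pf : PF M K Ms)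
    (hp : (Nat.card K).Prime) {t : ℕ} (ht : t.Prime) (x' : G) (hxt : orderOf x' = t)
    (hxK : x' ∈ centralizer (K : Set G)) :
    t ∈ sigma Ms ∨ t ∈ kappa Ms ∨ (t ∈ tau2 Ms ∧ centralizer ({x'} : Set G) ≤ Ms) := by
  by_cases hσ : t ∈ sigma Ms
  · exact Or.inl hσ
  right
  -- a nonidentity element of `K`
  have hK1 : K ≠ ⊥ := by
    intro h
    rw [h, Subgroup.card_bot] at hp
    exact Nat.not_prime_one hp
  obtain ⟨k, hkK, hk1⟩ := (Subgroup.ne_bot_iff_exists_ne_one).mp hK1 |>.imp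
    (fun k h => h) |> fun ⟨k, hk⟩ => (⟨(k : G), k.2, fun e => hk (Subtype.ext e)⟩ : ∃ k : G, k ∈ K ∧ k ≠ 1)
  have hkσ : k ∈ sigmaCore Ms := pf.hKMs hkK
  have hx'Ms : x' ∈ Ms := pf.hCK hxK
  have hx'k : x' ∈ centralizer ({k} : Set G) := by
    rw [Subgroup.mem_centralizer_iff]
    intro y hy
    rw [Set.mem_singleton_iff] at hy
    subst hy
    exact (Subgroup.mem_centralizer_iff.mp hxK) y hkK
  have hx'1 : x' ≠ 1 := by
    intro h
    rw [h, orderOf_one] at hxt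
    rw [← hxt] at ht
    exact Nat.not_prime_one ht
  have hσ' : ∀ p : ℕ, p.Prime → p ∣ orderOf x' → p ∉ sigma Ms := by
    intro p hpp hpd
    rw [hxt] at hpd
    rw [(Nat.prime_dvd_prime_iff_eq hpp ht).mp hpd]
    exact hσ
  have htd : t ∣ orderOf x' := by rw [hxt]
  rcases Cfsg.Agent.S1432.result hG Ms pf.hMs k hkσ hk1 x' ⟨hx'Ms, hx'k⟩ hx'1 hσ' with h | h
  · exact Or.inl (h.1 t ht htd)
  · exact Or.inr ⟨h.1 t ht htd, h.2.2.1⟩

end Cfsg.Agent.Lib.Helper91.BG1435
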