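import Mathlib
import Cfsg.Agent.Lib.Helper15.BG139Defs
import Cfsg.Agent.Lib.Helper31.BG12a
import Cfsg.Agent.S1350
import Cfsg.Agent.S1415
import Cfsg.Agent.S2971
import Cfsg.Agent.Lib.Helper13.BG12B
import Cfsg.Agent.Lib.Helper16.BG134Asm
import Cfsg.Agent.Lib.Helper54.BG134A3a
import Cfsg.Agent.Lib.Helper71.BG11a
import Cfsg.Agent.Lib.Helper41.BG134Z
import Cfsg.Agent.Lib.Helper55.Uniq2
import Cfsg.Agent.Lib.Helper58.BG139K2c

/-!
# KEYSTONE 135309  K-S1353-A  (Claim A of the proof of BG 14.2 for a cyclic Hall `κ(M)`-subgroup)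

A CYCLIC Hall `κ(M)`-subgroup forces `κ(M) ⊆ τ₁(M)`.  The two easy facts about `κ(M)` (135308) are
re-proved locally (`kappa_fix_ne_bot`, `kappa_of_fix_ne_bot`).
-/

set_option autoImplicit false
set_option linter.unusedVariables false
set_option linter.style.haveILetI false

namespace Cfsg.Agent.Lib.Helper91.BG14

open Cfsg Cfsg.Agent.Lib.Helper55 Cfsg.Agent.Lib.Helper31.BG134 Cfsg.Agent.Lib.Helper15.BG139
open scoped Pointwise

variable {G : Type*} [Group G] [Finite G]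

/-- a subgroup of prime order is nontrivial -/
theorem ne_bot_of_card_prime {P : Subgroup G} {p : ℕ} (hp : p.Prime) (hPc : Nat.card P = p) :
    P ≠ ⊥ := by
  intro h
  rw [h, Subgroup.card_bot] at hPc
  exact hp.one_lt.ne hPc

/-- a subgroup of prime order `p` is a `p`-group -/
theorem isPGroup_of_card_prime {P : Subgroup G} {p : ℕ} [Fact p.Prime] (hPc : Nat.card P = p) :
    IsPGroup p P := IsPGroup.of_card (n := 1) (by rw [hPc, pow_one])

/-- (135308(a), local copy) `p ∈ κ(M)`, `P ≤ M` of order `p`: `C_{M_σ}(P) ≠ 1`. -/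
theorem kappa_fix_ne_bot {M P : Subgroup G} {p : ℕ} (hp : p ∈ kappa M) (hPM : P ≤ M)
    (hPc : Nat.card P = p) : sigmaCore M ⊓ Subgroup.centralizer (P : Set G) ≠ ⊥ := by
  obtain ⟨hpp, hpM, hpσ, hall⟩ := hp
  haveI : Fact p.Prime := ⟨hpp⟩
  have hPp : IsPGroup p P := isPGroup_of_card_prime hPc
  obtain ⟨Q, hQ⟩ := (hPp.comap_subtype : IsPGroup p (P.subgroupOf M)).exists_le_sylow
  obtain ⟨hQc, x, hxQ, hx1, y, hy, hy1, hxy⟩ := hall Q
  -- the subgroup of order `p` of `⟨x⟩`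
  have hXle : Subgroup.zpowers x ≤ (Q : Subgroup M) := by
    rw [Subgroup.zpowers_le]; exact hxQ
  have hXp : IsPGroup p (Subgroup.zpowers x) := Q.isPGroup'.to_le hXle
  have hX1 : Subgroup.zpowers x ≠ ⊥ := by
    intro h
    exact hx1 (Subgroup.zpowers_eq_bot.mp h)
  have hdvd : p ∣ Nat.card (Subgroup.zpowers x) := by
    have : Nontrivial (Subgroup.zpowers x) := (Subgroup.nontrivial_iff_ne_bot _).mpr hX1
    obtain ⟨n, hn0, hn⟩ := hXp.nontrivial_iff_card.mp inferInstance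
    rw [hn]
    exact dvd_pow_self _ (ne_of_gt hn0)
  obtain ⟨z, hzX, hzo⟩ :=
    Cfsg.Agent.Lib.Helper58.BG139.exists_mem_orderOf_eq_of_dvd_card hpp hdvd
  have hZle : Subgroup.zpowers z ≤ Subgroup.zpowers x := by
    rw [Subgroup.zpowers_le]; exact hzX
  have hcard : Nat.card (Subgroup.zpowers z) = Nat.card (P.subgroupOf M) := by
    rw [Nat.card_zpowers, hzo, Nat.card_congr (Subgroup.subgroupOfEquivOfLe hPM).toEquiv, hPc]
  have heq : Subgroup.zpowers z = P.subgroupOf M :=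
    Cfsg.Agent.Lib.Helper41.BG134.z_eq_of_le_cyclic hQc (hZle.trans hXle) hQ hcard
  -- `y` centralizes `P`
  intro hbot
  apply hy1
  have hymem : y ∈ sigmaCore M ⊓ Subgroup.centralizer (P : Set G) := by
    refine Subgroup.mem_inf.mpr ⟨hy, ?_⟩
    rw [Subgroup.mem_centralizer_iff]
    intro g hg
    have hgM : g ∈ M := hPM hg
    have h1 : (⟨g, hgM⟩ : M) ∈ P.subgroupOf M := by
      rw [Subgroup.mem_subgroupOf]; exact hg
    rw [← heq] at h1
    obtain ⟨k, hk⟩ := Subgroup.mem_zpowers_iff.mp (hZle h1)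
    have h2 : g = ((x : G)) ^ k := by
      have := congrArg Subtype.val hk
      simpa using this.symm
    rw [h2]
    have hc : Commute (x : G) y := hxy
    exact (hc.zpow_left k).eq
  rw [hbot] at hymem
  exact Subgroup.mem_bot.mp hymem

/-- (135308(b), local copy) `r ∉ σ(M)` a prime divisor of `|M|` of rank one, `R ≤ M` of order `r`
with `C_{M_σ}(R) ≠ 1`: `r ∈ κ(M)`. -/
theorem kappa_of_fix_ne_bot (hG : IsMinSimpleOddOrder G) {M R : Subgroup G} {r : ℕ} (hr : r.Prime)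
    (hrM : r ∣ Nat.card M) (hrσ : r ∉ sigma M) (hr1 : PRankLE r 1 M) (hRM : R ≤ M)
    (hRc : Nat.card R = r) (hC : sigmaCore M ⊓ Subgroup.centralizer (R : Set G) ≠ ⊥) :
    r ∈ kappa M := by
  haveI : Fact r.Prime := ⟨hr⟩
  have hRp : IsPGroup r R := isPGroup_of_card_prime hRc
  have hR1 : R ≠ ⊥ := ne_bot_of_card_prime hr hRc
  have hr2 : r ≠ 2 := ms_prime_ne_two hG hRp hR1
  refine ⟨hr, hrM, hrσ, fun Q => ⟨Cfsg.Agent.S2971.sylow_cyclic hr2 hr1 Q, ?_⟩⟩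
  obtain ⟨Q', hQ'⟩ := (hRp.comap_subtype : IsPGroup r (R.subgroupOf M)).exists_le_sylow
  obtain ⟨m, hm⟩ := MulAction.exists_smul_eq M Q' Q
  obtain ⟨x₀, hx₀1⟩ := (Subgroup.ne_bot_iff_exists_ne_one).mp hR1
  obtain ⟨⟨y₀, hy₀C⟩, hy₀1'⟩ := (Subgroup.ne_bot_iff_exists_ne_one).mp hC
  have hy₀1 : y₀ ≠ 1 := fun h => hy₀1' (Subtype.ext h)
  obtain ⟨hy₀σ, hy₀c⟩ := Subgroup.mem_inf.mp hy₀C
  have hx₀M : (x₀ : G) ∈ M := hRM x₀.2
  have hx₀Q' : (⟨(x₀ : G), hx₀M⟩ : M) ∈ (Q' : Subgroup M) := by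
    apply hQ'
    exact x₀.2
  refine ⟨m * ⟨(x₀ : G), hx₀M⟩ * m⁻¹, ?_, ?_, (m : G) * y₀ * (m : G)⁻¹, ?_, ?_, ?_⟩
  · rw [← hm]
    have h1 : ((m • Q' : Sylow r M) : Subgroup M) = MulAut.conj m • (Q' : Subgroup M) :=
      Sylow.pointwise_smul_def
    change _ ∈ ((m • Q' : Sylow r M) : Subgroup M)
    rw [h1]
    have := Subgroup.smul_mem_pointwise_smul _ (MulAut.conj m) _ hx₀Q'
    simpa [MulAut.smul_def] using this
  · intro h
    apply hx₀1
    have h1 : (⟨(x₀ : G), hx₀M⟩ : M) = 1 := by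
      have := congrArg (fun t => m⁻¹ * t * m) h
      simpa [mul_assoc] using this
    have h2 := congrArg Subtype.val h1
    exact Subtype.ext h2
  · have hn := Cfsg.Agent.Lib.Helper71.BG11.le_normalizer_sigmaCore M m.2
    exact (Subgroup.mem_normalizer_iff.mp hn y₀).mp hy₀σ
  · intro h
    apply hy₀1
    have := congrArg (fun t => (m : G)⁻¹ * t * (m : G)) h
    simpa [mul_assoc] using this
  · have hc : (x₀ : G) * y₀ = y₀ * x₀ := ((Subgroup.mem_centralizer_iff.mp hy₀c) _ x₀.2)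
    simp only [Subgroup.coe_mul, Subgroup.coe_inv]
    calc (m : G) * (x₀ : G) * (m : G)⁻¹ * ((m : G) * y₀ * (m : G)⁻¹)
        = (m : G) * ((x₀ : G) * y₀) * (m : G)⁻¹ := by group
      _ = (m : G) * (y₀ * (x₀ : G)) * (m : G)⁻¹ := by rw [hc]
      _ = (m : G) * y₀ * (m : G)⁻¹ * ((m : G) * (x₀ : G) * (m : G)⁻¹) := by group

/-- `κ(M) ∩ τ₂(M) = ∅`: the Sylow subgroups for the primes of `κ(M)` are cyclic. -/
theorem not_kappa_and_tau2 {M : Subgroup G} {s : ℕ} (hκ : s ∈ kappa M) (h2 : s ∈ tau2 M) :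
    False := by
  obtain ⟨hsp, hsM, hsσ, hall⟩ := hκ
  haveI : Fact s.Prime := ⟨hsp⟩
  obtain ⟨A, hAM, hAe, hAc⟩ := Cfsg.Agent.Lib.Helper13.BG12.exists_elemAb_sq_of_tau2 h2
  have hAp : IsPGroup s A := IsPGroup.of_card (n := 2) hAc
  obtain ⟨Q, hQ⟩ := (hAp.comap_subtype : IsPGroup s (A.subgroupOf M)).exists_le_sylow
  have hQc : IsCyclic (Q : Subgroup M) := (hall Q).1
  have hcyc : IsCyclic (A.subgroupOf M) := by
    have hinj : Function.Injective (Subgroup.inclusion hQ) := Subgroup.inclusion_injective hQ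
    exact isCyclic_of_injective (Subgroup.inclusion hQ) hinj
  have h1 : Monoid.exponent (A.subgroupOf M) ∣ s := by
    apply Monoid.exponent_dvd_of_forall_pow_eq_one
    intro a
    have ha : ((a : M) : G) ∈ A := a.2
    have := hAe.2 _ ha
    apply Subtype.ext
    apply Subtype.ext
    simpa using this
  rw [IsCyclic.exponent_eq_card, Nat.card_congr (Subgroup.subgroupOfEquivOfLe hAM).toEquiv, hAc]
    at h1
  have h2' : s ^ 2 ≤ s := Nat.le_of_dvd hsp.pos h1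
  have h3 : s < s ^ 2 := by
    have := hsp.one_lt
    nlinarith
  omega

/-- KEYSTONE 135309  K-S1353-A  (Claim A: a CYCLIC Hall `κ(M)`-subgroup forces `κ(M) ⊆ τ₁(M)`). -/
theorem kappa_subset_tau1 (hG : IsMinSimpleOddOrder G) {M K : Subgroup G} (hM : IsCoatom M)
    (hKc : IsCyclic K) (hK : IsPiHallOf (kappa M) K M)
    (hR1 : ∀ (E S₀ : Subgroup G) (q s : ℕ), IsComplIn E (sigmaCore M) M → q ∈ tau2 M → s ∈ tau3 M →
      S₀ ≤ E → Nat.card S₀ = s → sigmaCore M ⊓ Subgroup.centralizer (S₀ : Set G) = ⊥)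
    (hT3 : ∀ (E S₀ S₀' : Subgroup G) (s s' : ℕ), IsComplIn E (sigmaCore M) M → s ∈ tau3 M →
      s' ∈ tau3 M → S₀ ≤ E → Nat.card S₀ = s → S₀' ≤ E → Nat.card S₀' = s' →
      sigmaCore M ⊓ Subgroup.centralizer (S₀ : Set G) ≤
        sigmaCore M ⊓ Subgroup.centralizer (S₀' : Set G))
    (hD1 : ∀ (E S₀ P : Subgroup G) (s p : ℕ), IsComplIn E (sigmaCore M) M → s ∈ tau3 M → S₀ ≤ E →
      Nat.card S₀ = s → sigmaCore M ⊓ Subgroup.centralizer (S₀ : Set G) ≠ ⊥ → p ∈ tau1 M →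
      P ≤ E → Nat.card P = p → sigmaCore M ⊓ Subgroup.centralizer (P : Set G) ≠ ⊥) :
    ∀ p : ℕ, p ∈ kappa M → p ∈ tau1 M := by
  intro s hsκ
  have hsp : s.Prime := hsκ.1
  have hsM : s ∣ Nat.card M := hsκ.2.1
  have hsσ : s ∉ sigma M := hsκ.2.2.1
  rcases Cfsg.Agent.Lib.Helper16.BG134.mem_tau_cases hG hM hsp hsM hsσ with h1 | h2 | h3
  · exact h1
  · exact (not_kappa_and_tau2 hsκ h2).elim
  exfalso
  have hHall : IsPiHallOf (sigma M) (sigmaCore M) M := (Cfsg.Agent.S1350.result hG M hM).1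
  -- `K` lies in a complement `E` of `M_σ`
  have hKσ : ∀ p : ℕ, p.Prime → p ∣ Nat.card K → p ∉ sigma M :=
    fun p hp hpd => (hK.2.1 p hp hpd).2.2.1
  obtain ⟨E, hE, hKE⟩ := Cfsg.Agent.Lib.Helper13.BG12.exists_complIn_ge hG hM hHall hK.1 hKσ
  have hEσ := Cfsg.Agent.Lib.Helper13.BG12.complIn_prime_not_mem_sigma hHall hE
  have hEM : E ≤ M := hE.1
  -- the primes of `|M|` outside `σ(M)` divide `|E|`
  have hdvdE : ∀ r : ℕ, r.Prime → r ∣ Nat.card M → r ∉ sigma M → r ∣ Nat.card E := by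
    intro r hr hrM hrσ
    have h1 := Cfsg.Agent.Lib.Helper31.IsComplIn.card_mul hE
    rw [← h1] at hrM
    rcases (Nat.Prime.dvd_mul hr).mp hrM with h | h
    · exact h
    · exact absurd (Cfsg.Agent.Lib.Helper71.BG11.sigmaCore_pi hG hM hr h) hrσ
  -- Cauchy in `E`
  have hcauchy : ∀ r : ℕ, r.Prime → r ∣ Nat.card E →
      ∃ R : Subgroup G, R ≤ E ∧ Nat.card R = r := by
    intro r hr hrd
    obtain ⟨x, hxE, hxo⟩ :=
      Cfsg.Agent.Lib.Helper58.BG139.exists_mem_orderOf_eq_of_dvd_card hr hrd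
    exact ⟨Subgroup.zpowers x, by rw [Subgroup.zpowers_le]; exact hxE,
      by rw [Nat.card_zpowers, hxo]⟩
  obtain ⟨S₀, hS₀E, hS₀c⟩ := hcauchy s hsp (hdvdE s hsp hsM hsσ)
  have hC₃ : sigmaCore M ⊓ Subgroup.centralizer (S₀ : Set G) ≠ ⊥ :=
    kappa_fix_ne_bot hsκ (hS₀E.trans hEM) hS₀c
  -- `τ₂(M) = ∅`
  have hτ2 : ∀ q : ℕ, q ∉ tau2 M := fun q hq => hC₃ (hR1 E S₀ q s hE hq h3 hS₀E hS₀c)
  -- all primes of `|E|` are in `κ(M)`
  have hEκ : ∀ r : ℕ, r.Prime → r ∣ Nat.card E → r ∈ kappa M := by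
    intro r hr hrd
    have hrσ := hEσ r hr hrd
    have hrM : r ∣ Nat.card M := hrd.trans (Subgroup.card_dvd_of_le hEM)
    obtain ⟨R, hRE, hRc⟩ := hcauchy r hr hrd
    rcases Cfsg.Agent.Lib.Helper16.BG134.mem_tau_cases hG hM hr hrM hrσ with h1 | h2 | h3'
    · exact kappa_of_fix_ne_bot hG hr hrM hrσ h1.2.2.2.2 (hRE.trans hEM) hRc
        (hD1 E S₀ R s r hE h3 hS₀E hS₀c hC₃ h1 hRE hRc)
    · exact absurd h2 (hτ2 r)
    · refine kappa_of_fix_ne_bot hG hr hrM hrσ h3'.2.2.2 (hRE.trans hEM) hRc ?_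
      intro hbot
      apply hC₃
      have := hT3 E S₀ R s r hE h3 h3' hS₀E hS₀c hRE hRc
      rw [hbot] at this
      exact le_bot_iff.mp this
  -- `K = E`
  have hKeq : K = E := by
    by_contra hne
    have h1 : K.relIndex E ≠ 1 := by
      intro h
      rw [Subgroup.relIndex_eq_one] at h
      exact hne (le_antisymm hKE h)
    obtain ⟨r, hr, hrd⟩ := Nat.exists_prime_and_dvd h1
    have h2 : K.relIndex E ∣ K.relIndex M :=
      Dvd.intro _ (Subgroup.relIndex_mul_relIndex K E M hKE hEM)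
    have hrκ : r ∈ kappa M := hEκ r hr (hrd.trans (Subgroup.relIndex_dvd_card K E))
    exact hK.2.2 r hr hrκ (hrd.trans h2)
  subst hKeq
  -- the cyclic complement `K` has trivial derived subgroup
  have hcomm : ⁅K, K⁆ = ⊥ := by
    rw [Subgroup.commutator_eq_bot_iff_le_centralizer]
    intro a ha
    rw [Subgroup.mem_centralizer_iff]
    intro b hb
    obtain ⟨g, hg⟩ := hKc.exists_generator
    obtain ⟨i, hi⟩ := Subgroup.mem_zpowers_iff.mp (hg ⟨a, ha⟩)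
    obtain ⟨j, hj⟩ := Subgroup.mem_zpowers_iff.mp (hg ⟨b, hb⟩)
    have ha' : a = (g : G) ^ i := by
      have := congrArg Subtype.val hi
      simpa using this.symm
    have hb' : b = (g : G) ^ j := by
      have := congrArg Subtype.val hj
      simpa using this.symm
    rw [ha', hb']
    exact ((Commute.refl (g : G)).zpow_zpow j i).eq
  have hKtop : K ≠ ⊤ := fun h => hM.1 (top_le_iff.mp (h ▸ hEM))
  have hsolv : Group.IsSolvable ↥K := ms_solvable hG hKtop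
  obtain ⟨E₃, hE₃, -⟩ := Cfsg.Agent.Lib.Helper54.BG134.exists_isPiHallOf_ge hsolv (tau3 M)
    (bot_le : (⊥ : Subgroup G) ≤ K) (by
      intro p hp hpd
      rw [Subgroup.card_bot] at hpd
      exact absurd (Nat.dvd_one.mp hpd) hp.one_lt.ne')
  have hE₃le : E₃ ≤ ⁅K, K⁆ := ((Cfsg.Agent.S1415.result hG M hM K hE).2.2 E₃ hE₃).2.1
  have hE₃bot : E₃ = ⊥ := by
    rw [hcomm] at hE₃le
    exact le_bot_iff.mp hE₃le
  apply hE₃.2.2 s hsp h3
  rw [hE₃bot, Subgroup.relIndex_bot_left]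
  exact hdvdE s hsp hsM hsσ

end Cfsg.Agent.Lib.Helper91.BG14
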