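import Mathlib
import Cfsg.Agent.S1350
import Cfsg.Agent.S1409
import Cfsg.Agent.S1415
import Cfsg.Agent.Lib.Helper54.BG134A3a
import Cfsg.Agent.Lib.Helper55.Uniq2
import Cfsg.Agent.Lib.Helper12.CNMaxSub
import Cfsg.Agent.Lib.Helper13.BG12B
import Cfsg.Agent.Lib.Helper01.BG134T3N
import Cfsg.Agent.Lib.Helper01.BG134CJ
import Cfsg.Agent.Lib.Helper58.BG134G3
import Cfsg.Agent.Lib.Helper71.BG10Sub

/-!
# KEYSTONE 135302  K-S1353-T3  (BG 13.3(b)): all subgroups of prime order of `E₃` have the same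
fixed points on `M_σ`  (parallel hand of helper91)
-/

set_option autoImplicit false
set_option linter.unusedVariables false
set_option linter.style.haveILetI false

namespace Cfsg.Agent.Lib.Helper91.BG14

open Cfsg Cfsg.Agent.Lib.Helper55

variable {G : Type*} [Group G] [Finite G]

/-- KEYSTONE 135302  K-S1353-T3  (BG 13.3(b)). -/
theorem tau3_fix_le (hG : IsMinSimpleOddOrder G) {M E S₀ S₀' : Subgroup G} (hM : IsCoatom M)
    (hE : IsComplIn E (sigmaCore M) M) {s s' : ℕ} (hs : s ∈ tau3 M) (hs' : s' ∈ tau3 M)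
    (hS₀E : S₀ ≤ E) (hS₀c : Nat.card S₀ = s) (hS₀'E : S₀' ≤ E) (hS₀'c : Nat.card S₀' = s') :
    sigmaCore M ⊓ Subgroup.centralizer (S₀ : Set G) ≤
      sigmaCore M ⊓ Subgroup.centralizer (S₀' : Set G) := by
  have hsp : s.Prime := hs.1
  have hsp' : s'.Prime := hs'.1
  haveI : Fact s.Prime := ⟨hsp⟩
  haveI : Fact s'.Prime := ⟨hsp'⟩
  have hEM : E ≤ M := hE.1
  have hEtop : E ≠ ⊤ := by
    intro h
    apply hM.1
    rw [eq_top_iff, ← h]
    exact hEM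
  have hsolv : Group.IsSolvable ↥E := ms_solvable hG hEtop
  -- a Hall τ₃-subgroup of `E` over `S₀`
  obtain ⟨E₃, hE₃, hS₀E₃⟩ := Cfsg.Agent.Lib.Helper54.BG134.exists_isPiHallOf_ge hsolv (tau3 M) hS₀E
    (by
      intro p hp hpd
      rw [hS₀c] at hpd
      rw [(Nat.prime_dvd_prime_iff_eq hp hsp).mp hpd]
      exact hs)
  obtain ⟨hE₃cyc, hE₃d, hEN₃⟩ := (Cfsg.Agent.S1415.result hG M hM E hE).2.2 E₃ hE₃
  have hS₀'E₃ : S₀' ≤ E₃ := Cfsg.Agent.Lib.Helper71.BG10.le_of_isPiHallOf_normal hE₃ hEN₃ hS₀'E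
    (by
      intro p hp hpd
      rw [hS₀'c] at hpd
      rw [(Nat.prime_dvd_prime_iff_eq hp hsp').mp hpd]
      exact hs')
  have hES₀ : E ≤ Subgroup.normalizer (S₀ : Set G) :=
    hEN₃.trans (Cfsg.Agent.Lib.Helper01.BG134.normalizer_le_normalizer_of_isCyclic E₃ S₀ hE₃cyc hS₀E₃)
  -- a maximal subgroup over `N_G(S₀)`
  have hS₀bot : S₀ ≠ ⊥ := by
    intro h
    rw [h, Subgroup.card_bot] at hS₀c
    exact hsp.one_lt.ne hS₀c
  have hS₀top : S₀ ≠ ⊤ := by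
    intro h
    apply hEtop
    rw [eq_top_iff, ← h]
    exact hS₀E
  obtain ⟨H, hH, hNH⟩ := Cfsg.Agent.Lib.Helper12.CNMaxSub.exists_coatom_normalizer_le hG hS₀bot hS₀top
  have hEH : E ≤ H := hES₀.trans hNH
  -- `H` is not conjugate to `M`
  have hnc : ∀ g : G, cj g M ≠ H := by
    intro g hg
    have hσH : s ∉ sigma H := by
      rw [← hg, Cfsg.Agent.Lib.Helper01.BG134.mem_sigma_cj_iff]
      exact hs.2.1
    have hrk : PRankLE s 1 H := by
      rw [← hg, Cfsg.Agent.Lib.Helper01.BG134.pRankLE_cj_iff]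
      exact hs.2.2.2
    exact (Cfsg.Agent.S1409.result hG H hH s hσH S₀ hS₀c hNH).1.2 hrk
  -- `S₀'` centralizes `M_σ ⊓ H` (Lemma T)
  have hS₀'p : IsPGroup s' S₀' := IsPGroup.of_card (n := 1) (by rw [hS₀'c, pow_one])
  have hS₀'d : S₀' ≤ ⁅H, H⁆ := (hS₀'E₃.trans hE₃d).trans (Subgroup.commutator_mono hEH hEH)
  have hcent := Cfsg.Agent.Lib.Helper58.BG134.centralizes_of_le_commutator hG hM hH hnc hs'.2.1
    hS₀'p (hS₀'E.trans hEM) (hS₀'E.trans hEH) hS₀'d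
  have hle1 : sigmaCore M ⊓ Subgroup.centralizer (S₀ : Set G) ≤ sigmaCore M ⊓ H :=
    inf_le_inf_left _ ((Subgroup.centralizer_le_normalizer (S₀ : Set G)).trans hNH)
  have hle2 : sigmaCore M ⊓ H ≤ Subgroup.centralizer (S₀' : Set G) :=
    Subgroup.le_centralizer_iff.mp hcent
  exact le_inf (hle1.trans inf_le_left) (hle1.trans hle2)

end Cfsg.Agent.Lib.Helper91.BG14
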