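import Mathlib
import Cfsg.Prelude.Def_Blocks
import Cfsg.Agent.Lib.Helper01.CD3Defs
import Cfsg.Agent.Lib.Helper83.Linear
import Cfsg.Agent.Lib.Helper84.LinearTwist

/-!
# K-CD3-TORSOR (keystone 446027, S4460): `exists_twist_inertia`
helper32's argument (Isaacs 12.4), without torsor/quotient-character formalism.
-/

set_option autoImplicit false

namespace Cfsg.Agent.Lib.Helper91.CD3

open Cfsg Cfsg.Agent.Lib.Helper01.CD3

universe u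

/-- pure group theory: `x ↦ [g,x]` is injective, hence surjective, modulo `K` on `⟨S⟩K`. -/
theorem torsor_core {G : Type u} [Group G] [Finite G] (K N : Subgroup G) [hK : K.Normal]
    [hN : N.Normal]
    (hNK : ∀ x ∈ N, ∀ y ∈ N, x * y * x⁻¹ * y⁻¹ ∈ K)
    (g : G) (hg : ∀ x ∈ N, g * x * g⁻¹ * x⁻¹ ∈ K → x ∈ K)
    (H : Subgroup G) (hKH : K ≤ H)
    (S : Set G) (hSN : S ⊆ N) (hSg : ∀ s ∈ S, g * s * g⁻¹ ∈ S)
    (hS : ∀ s ∈ S, g * s * g⁻¹ * s⁻¹ ∈ H) : S ⊆ H := by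
  classical
  let π : G →* G ⧸ K := QuotientGroup.mk' K
  have hπ1 : ∀ x : G, π x = 1 ↔ x ∈ K := fun x => QuotientGroup.eq_one_iff x
  set gb : G ⧸ K := π g with hgb
  let Φ : G ⧸ K → G ⧸ K := fun v => gb * v * gb⁻¹ * v⁻¹
  have hΦdef : ∀ v, Φ v = gb * v * gb⁻¹ * v⁻¹ := fun v => rfl
  have hΦπ : ∀ x : G, Φ (π x) = π (g * x * g⁻¹ * x⁻¹) := by
    intro x
    rw [hΦdef, hgb, map_mul, map_mul, map_mul, map_inv, map_inv]
  let Nb : Subgroup (G ⧸ K) := N.map π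
  let Hb : Subgroup (G ⧸ K) := H.map π
  let Mb : Subgroup (G ⧸ K) := Subgroup.closure (π '' S)
  have hab : ∀ a ∈ Nb, ∀ b ∈ Nb, a * b = b * a := by
    rintro _ ⟨x, hx, rfl⟩ _ ⟨y, hy, rfl⟩
    have h1 : π (x * y * x⁻¹ * y⁻¹) = 1 := (hπ1 _).2 (hNK x hx y hy)
    rw [map_mul, map_mul, map_mul, map_inv, map_inv] at h1
    calc π x * π y = (π x * π y * (π x)⁻¹ * (π y)⁻¹) * (π y * π x) := by group
      _ = π y * π x := by rw [h1, one_mul]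
  have hconj : ∀ a ∈ Nb, gb * a * gb⁻¹ ∈ Nb := by
    rintro _ ⟨x, hx, rfl⟩
    refine ⟨g * x * g⁻¹, hN.conj_mem x hx g, ?_⟩
    rw [hgb, map_mul, map_mul, map_inv]
  have hΦN : ∀ a ∈ Nb, Φ a ∈ Nb := fun a ha => Nb.mul_mem (hconj a ha) (Nb.inv_mem ha)
  have hΦmul : ∀ a ∈ Nb, ∀ b ∈ Nb, Φ (a * b) = Φ a * Φ b := by
    intro a ha b hb
    have hB : gb * b * gb⁻¹ * b⁻¹ ∈ Nb := hΦN b hb
    have hc : a⁻¹ * (gb * b * gb⁻¹ * b⁻¹) = (gb * b * gb⁻¹ * b⁻¹) * a⁻¹ :=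
      hab _ (Nb.inv_mem ha) _ hB
    rw [hΦdef, hΦdef, hΦdef]
    calc gb * (a * b) * gb⁻¹ * (a * b)⁻¹
        = (gb * a * gb⁻¹) * ((gb * b * gb⁻¹ * b⁻¹) * a⁻¹) := by group
      _ = (gb * a * gb⁻¹) * (a⁻¹ * (gb * b * gb⁻¹ * b⁻¹)) := by rw [hc]
      _ = gb * a * gb⁻¹ * a⁻¹ * (gb * b * gb⁻¹ * b⁻¹) := by group
  have hΦone : Φ 1 = 1 := by rw [hΦdef]; group
  have hΦker : ∀ a ∈ Nb, Φ a = 1 → a = 1 := by
    rintro _ ⟨x, hx, rfl⟩ h
    rw [hΦπ, hπ1] at h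
    exact (hπ1 x).2 (hg x hx h)
  have hΦinv : ∀ a ∈ Nb, Φ a⁻¹ = (Φ a)⁻¹ := by
    intro a ha
    have h := hΦmul a⁻¹ (Nb.inv_mem ha) a ha
    rw [inv_mul_cancel, hΦone] at h
    exact eq_inv_of_mul_eq_one_left h.symm
  have hΦinj : ∀ a ∈ Nb, ∀ b ∈ Nb, Φ a = Φ b → a = b := by
    intro a ha b hb h
    have h1 := hΦmul a ha b⁻¹ (Nb.inv_mem hb)
    rw [hΦinv b hb, h, mul_inv_cancel] at h1
    have h2 := hΦker (a * b⁻¹) (Nb.mul_mem ha (Nb.inv_mem hb)) h1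
    exact mul_inv_eq_one.1 h2
  have hMN : Mb ≤ Nb := by
    rw [Subgroup.closure_le]
    rintro _ ⟨s, hs, rfl⟩
    exact ⟨s, hSN hs, rfl⟩
  have hMconj : ∀ m ∈ Mb, gb * m * gb⁻¹ ∈ Mb := by
    intro m hm
    induction hm using Subgroup.closure_induction with
    | mem v hv =>
      obtain ⟨s, hs, rfl⟩ := hv
      refine Subgroup.subset_closure ⟨g * s * g⁻¹, hSg s hs, ?_⟩
      rw [hgb, map_mul, map_mul, map_inv]
    | one => rw [mul_one, mul_inv_cancel]; exact Mb.one_mem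
    | mul a b _ _ iha ihb =>
      have : gb * (a * b) * gb⁻¹ = (gb * a * gb⁻¹) * (gb * b * gb⁻¹) := by group
      rw [this]; exact Mb.mul_mem iha ihb
    | inv a _ iha =>
      have : gb * a⁻¹ * gb⁻¹ = (gb * a * gb⁻¹)⁻¹ := by group
      rw [this]; exact Mb.inv_mem iha
  have hΦM : ∀ m ∈ Mb, Φ m ∈ Mb := fun m hm => Mb.mul_mem (hMconj m hm) (Mb.inv_mem hm)
  -- surjectivity on `Mb`
  have hsurj : ∀ m ∈ Mb, ∃ v ∈ Mb, Φ v = m := by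
    let f : Mb → Mb := fun v => ⟨Φ v.1, hΦM v.1 v.2⟩
    have hfinj : Function.Injective f := by
      intro v w h
      have h' : Φ v.1 = Φ w.1 := congrArg Subtype.val h
      exact Subtype.ext (hΦinj v.1 (hMN v.2) w.1 (hMN w.2) h')
    have hfsurj : Function.Surjective f := Finite.injective_iff_surjective.1 hfinj
    intro m hm
    obtain ⟨v, hv⟩ := hfsurj ⟨m, hm⟩
    exact ⟨v.1, v.2, congrArg Subtype.val hv⟩
  -- `Φ` maps `Mb` into `Hb`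
  have hΦH : ∀ m ∈ Mb, m ∈ Nb ∧ Φ m ∈ Hb := by
    intro m hm
    induction hm using Subgroup.closure_induction with
    | mem v hv =>
      obtain ⟨s, hs, rfl⟩ := hv
      refine ⟨⟨s, hSN hs, rfl⟩, ?_⟩
      rw [hΦπ]
      exact ⟨_, hS s hs, rfl⟩
    | one => exact ⟨Nb.one_mem, by rw [hΦone]; exact Hb.one_mem⟩
    | mul a b _ _ iha ihb =>
      refine ⟨Nb.mul_mem iha.1 ihb.1, ?_⟩
      rw [hΦmul a iha.1 b ihb.1]
      exact Hb.mul_mem iha.2 ihb.2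
    | inv a _ iha =>
      refine ⟨Nb.inv_mem iha.1, ?_⟩
      rw [hΦinv a iha.1]
      exact Hb.inv_mem iha.2
  intro s hs
  have hsM : π s ∈ Mb := Subgroup.subset_closure ⟨s, hs, rfl⟩
  obtain ⟨v, hv, hvs⟩ := hsurj (π s) hsM
  have h1 : π s ∈ Hb := hvs ▸ (hΦH v hv).2
  obtain ⟨h, hh, hhs⟩ := h1
  have h2 : π (h⁻¹ * s) = 1 := by rw [map_mul, map_inv, hhs, inv_mul_cancel]
  have h3 : h⁻¹ * s ∈ H := hKH ((hπ1 _).1 h2)
  have : s = h * (h⁻¹ * s) := by group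
  rw [this]
  exact H.mul_mem hh h3


section TwelveFour

variable {G : Type u} [Group G] [Finite G] (K N : Subgroup G) [hK : K.Normal] [hN : N.Normal]

/-- conjugation by `g` on the normal subgroup `N` -/
def cjN (g : G) (x : N) : N := ⟨g * x * g⁻¹, hN.conj_mem x x.2 g⟩

omit [Finite G] hK in
theorem cjN_mul (g : G) (x y : N) : cjN N g (x * y) = cjN N g x * cjN N g y := by
  apply Subtype.ext
  show g * (x * y : N) * g⁻¹ = (g * x * g⁻¹) * (g * y * g⁻¹)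
  rw [Subgroup.coe_mul]
  group

/-- Claim 1: if `g` (acting f.p.f. on `N/K`) fixes `ψ` and `ψ ν`, `ν` multiplicative and trivial on `K`,
then `ψ ν = ψ`. -/
theorem twist_eq_of_fixed (hKN : K ≤ N)
    (hNK : ∀ x ∈ N, ∀ y ∈ N, x * y * x⁻¹ * y⁻¹ ∈ K)
    (g : G) (hg : ∀ x ∈ N, g * x * g⁻¹ * x⁻¹ ∈ K → x ∈ K)
    (ψ ν : N → ℂ) (hmul : ∀ x y : N, ν (x * y) = ν x * ν y)
    (hνK : ∀ k : N, (k : G) ∈ K → ν k = 1)
    (h1 : ∀ x : N, ψ (cjN N g x) = ψ x)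
    (h2 : ∀ x : N, (ψ * ν) (cjN N g x) = (ψ * ν) x) : ψ * ν = ψ := by
  have hν1 : ν 1 = 1 := hνK 1 K.one_mem
  have hνinv : ∀ x : N, ν x * ν x⁻¹ = 1 := fun x => by rw [← hmul, mul_inv_cancel, hν1]
  have hνne : ∀ x : N, ν x ≠ 0 := fun x h => by
    have := hνinv x
    rw [h, zero_mul] at this
    exact zero_ne_one this
  -- the kernel of `ν` as a subgroup of `G`
  let H0 : Subgroup N :=
    { carrier := {x | ν x = 1}
      mul_mem' := fun {a b} ha hb => by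
        show ν (a * b) = 1
        rw [hmul, show ν a = 1 from ha, show ν b = 1 from hb, one_mul]
      one_mem' := hν1
      inv_mem' := fun {a} ha => by
        show ν a⁻¹ = 1
        have := hνinv a
        rw [show ν a = 1 from ha, one_mul] at this
        exact this }
  let H : Subgroup G := H0.map N.subtype
  have hH : ∀ x : N, (x : G) ∈ H ↔ ν x = 1 := by
    intro x
    constructor
    · rintro ⟨y, hy, hyx⟩
      have : y = x := Subtype.ext hyx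
      rw [← this]; exact hy
    · intro hx
      exact ⟨x, hx, rfl⟩
  have hKH : K ≤ H := fun k hk => (hH ⟨k, hKN hk⟩).2 (hνK ⟨k, hKN hk⟩ hk)
  let S : Set G := {s | ∃ x : N, (x : G) = s ∧ ψ x ≠ 0}
  have hSN : S ⊆ N := by
    rintro _ ⟨x, rfl, _⟩
    exact x.2
  have hSg : ∀ s ∈ S, g * s * g⁻¹ ∈ S := by
    rintro _ ⟨x, rfl, hx⟩
    exact ⟨cjN N g x, rfl, by rw [h1]; exact hx⟩
  have hS : ∀ s ∈ S, g * s * g⁻¹ * s⁻¹ ∈ H := by
    rintro _ ⟨x, rfl, hx⟩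
    have e1 : ν (cjN N g x) = ν x := by
      have := h2 x
      simp only [Pi.mul_apply] at this
      rw [h1] at this
      exact mul_left_cancel₀ hx this
    have e2 : (g * (x : G) * g⁻¹ * (x : G)⁻¹) = ((cjN N g x * x⁻¹ : N) : G) := rfl
    rw [e2, hH, hmul, e1, hνinv]
  have key := torsor_core K N hNK g hg H hKH S hSN hSg hS
  funext x
  by_cases hx : ψ x = 0
  · simp only [Pi.mul_apply, hx, zero_mul]
  · have : (x : G) ∈ H := key ⟨x, rfl, hx⟩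
    simp only [Pi.mul_apply]
    rw [(hH x).1 this, mul_one]


/-- Claim 2: if `g₁ ∉ N` fixes `ψ` and `h` fixes `ψ ν`, then `h` fixes `ψ`. -/
theorem fixed_of_twist_fixed (hKN : K ≤ N)
    (hNK : ∀ x ∈ N, ∀ y ∈ N, x * y * x⁻¹ * y⁻¹ ∈ K) (hGN : ∀ g h : G, g * h * g⁻¹ * h⁻¹ ∈ N)
    (g₁ : G) (hg : ∀ x ∈ N, g₁ * x * g₁⁻¹ * x⁻¹ ∈ K → x ∈ K)
    (ψ ν : N → ℂ) (hψ : ∀ c x : N, ψ (c * x * c⁻¹) = ψ x)
    (hmul : ∀ x y : N, ν (x * y) = ν x * ν y)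
    (hνK : ∀ k : N, (k : G) ∈ K → ν k = 1)
    (h1 : ∀ x : N, ψ (cjN N g₁ x) = ψ x)
    (h : G) (h2 : ∀ x : N, (ψ * ν) (cjN N h x) = (ψ * ν) x) :
    ∀ x : N, ψ (cjN N h x) = ψ x := by
  have hν1 : ν 1 = 1 := hνK 1 K.one_mem
  have hνinv : ∀ x : N, ν x * ν x⁻¹ = 1 := fun x => by rw [← hmul, mul_inv_cancel, hν1]
  have hνne : ∀ x : N, ν x ≠ 0 := fun x h => by
    have := hνinv x
    rw [h, zero_mul] at this
    exact zero_ne_one this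
  let ν' : N → ℂ := fun x => ν x * (ν (cjN N h x))⁻¹
  let ψ' : N → ℂ := fun x => ψ (cjN N h x)
  have hψ' : ψ * ν' = ψ' := by
    funext x
    have := h2 x
    simp only [Pi.mul_apply] at this
    show ψ x * (ν x * (ν (cjN N h x))⁻¹) = ψ (cjN N h x)
    rw [← mul_assoc, ← this, mul_assoc, mul_inv_cancel₀ (hνne _), mul_one]
  have hmul' : ∀ x y : N, ν' (x * y) = ν' x * ν' y := by
    intro x y
    show ν (x * y) * (ν (cjN N h (x * y)))⁻¹ =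
      ν x * (ν (cjN N h x))⁻¹ * (ν y * (ν (cjN N h y))⁻¹)
    rw [cjN_mul, hmul, hmul, mul_inv]
    ring
  have hνK' : ∀ k : N, (k : G) ∈ K → ν' k = 1 := by
    intro k hk
    have hk' : ((cjN N h k : N) : G) ∈ K := hK.conj_mem k hk h
    show ν k * (ν (cjN N h k))⁻¹ = 1
    rw [hνK k hk, hνK _ hk', inv_one, mul_one]
  have hfix' : ∀ x : N, (ψ * ν') (cjN N g₁ x) = (ψ * ν') x := by
    intro x
    rw [hψ']
    show ψ (cjN N h (cjN N g₁ x)) = ψ (cjN N h x)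
    let c : N := ⟨h * g₁ * h⁻¹ * g₁⁻¹, hGN h g₁⟩
    have e : cjN N h (cjN N g₁ x) = c * cjN N g₁ (cjN N h x) * c⁻¹ := by
      apply Subtype.ext
      show h * (g₁ * (x : G) * g₁⁻¹) * h⁻¹ =
        (h * g₁ * h⁻¹ * g₁⁻¹) * (g₁ * (h * (x : G) * h⁻¹) * g₁⁻¹) * (h * g₁ * h⁻¹ * g₁⁻¹)⁻¹
      group
    rw [e, hψ, h1]
  have key := twist_eq_of_fixed K N hKN hNK g₁ hg ψ ν' hmul' hνK' h1 hfix'
  intro x
  have := congrFun hψ' x
  rw [key] at this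
  exact this.symm

/-- 446027 K-CD3-TORSOR (helper32's argument, msg 6354): if some linear character `μ` of `N`, trivial
on `K`, moves `ψ`, then some irreducible `ξ` of `N` of the same degree has inertia group `N`. -/
theorem exists_twist_inertia (hKN : K ≤ N)
    (hNK : ∀ x ∈ N, ∀ y ∈ N, x * y * x⁻¹ * y⁻¹ ∈ K) (hGN : ∀ g h : G, g * h * g⁻¹ * h⁻¹ ∈ N)
    (hfpf : ∀ g : G, g ∉ N → ∀ x ∈ N, g * x * g⁻¹ * x⁻¹ ∈ K → x ∈ K)
    {ψ : N → ℂ} (hψ : IsIrrCharacter N ψ)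
    (hmove : ∃ μ : N → ℂ, IsIrrCharacter N μ ∧ μ 1 = 1 ∧ (∀ k : N, (k : G) ∈ K → μ k = 1) ∧ ψ * μ ≠ ψ) :
    ∃ ξ : N → ℂ, IsIrrCharacter N ξ ∧ charDegree ξ = charDegree ψ ∧
      ∀ g : G, (∀ x : N, ξ ⟨g * x * g⁻¹, hN.conj_mem x x.2 g⟩ = ξ x) → g ∈ N := by
  classical
  have : Fintype N := Fintype.ofFinite N
  obtain ⟨μ, hμirr, hμ1, hμK, hne⟩ := hmove
  have hμc : IsCharacter N μ := Cfsg.Agent.Lib.Helper83.isCharacter_of_irr hμirr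
  have hμmul : ∀ x y : N, μ (x * y) = μ x * μ y :=
    Cfsg.Agent.Lib.Helper83.char_deg_one_mul hμc hμ1
  have hψc : IsCharacter N ψ := Cfsg.Agent.Lib.Helper83.isCharacter_of_irr hψ
  have hψcl : ∀ c x : N, ψ (c * x * c⁻¹) = ψ x :=
    fun c x => Cfsg.Agent.Lib.Helper83.char_conj_eq hψc x c
  by_contra hcon
  push Not at hcon
  obtain ⟨g₁, hg₁fix, hg₁N⟩ := hcon ψ hψ rfl
  have hirr2 : IsIrrCharacter N (ψ * μ) :=
    Cfsg.Agent.Lib.Helper84.isIrrCharacter_mul_linear hμc hμ1 hψ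
  have hdeg2 : charDegree (ψ * μ) = charDegree ψ := by
    unfold charDegree
    rw [Pi.mul_apply, hμ1, mul_one]
  obtain ⟨g₂, hg₂fix, hg₂N⟩ := hcon (ψ * μ) hirr2 hdeg2
  have hfix1 : ∀ x : N, ψ (cjN N g₁ x) = ψ x := hg₁fix
  have hfix2 : ∀ x : N, (ψ * μ) (cjN N g₂ x) = (ψ * μ) x := hg₂fix
  have h3 : ∀ x : N, ψ (cjN N g₂ x) = ψ x :=
    fixed_of_twist_fixed K N hKN hNK hGN g₁ (hfpf g₁ hg₁N) ψ μ hψcl hμmul hμK hfix1 g₂ hfix2
  exact hne (twist_eq_of_fixed K N hKN hNK g₂ (hfpf g₂ hg₂N) ψ μ hμmul hμK h3 hfix2)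

end TwelveFour

end Cfsg.Agent.Lib.Helper91.CD3
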