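import Mathlib

set_option autoImplicit false

namespace Cfsg.Agent.Lib.Helper91

open scoped BigOperators

/-- The fixed points of a group `A` of automorphisms of `M`. -/
def fixedSubgroup {M : Type*} [Group M] (A : Subgroup (MulAut M)) : Subgroup M where
  carrier := {x | ∀ α ∈ A, α x = x}
  one_mem' := fun α _ => map_one α
  mul_mem' := fun {a b} ha hb α hα => by rw [map_mul, ha α hα, hb α hα]
  inv_mem' := fun {a} ha α hα => by rw [map_inv, ha α hα]

theorem mem_fixedSubgroup {M : Type*} [Group M] (A : Subgroup (MulAut M)) (x : M) :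
    x ∈ fixedSubgroup A ↔ ∀ α ∈ A, α x = x := Iff.rfl

/-- The commutator `[M, A]`: generated by the `x⁻¹ α(x)`. -/
def commSubgroup {M : Type*} [Group M] (A : Subgroup (MulAut M)) : Subgroup M :=
  Subgroup.closure {y | ∃ α ∈ A, ∃ x : M, y = x⁻¹ * α x}

/-- Coprime action on an abelian group: `M = C_M(A) × [M, A]`. -/
theorem coprime_abelian_decomp {M : Type*} [Group M] [Finite M] (hcomm : ∀ x y : M, x * y = y * x)
    (A : Subgroup (MulAut M)) (hcop : Nat.Coprime (Nat.card A) (Nat.card M)) :
    fixedSubgroup A ⊓ commSubgroup A = ⊥ ∧ fixedSubgroup A ⊔ commSubgroup A = ⊤ := by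
  classical
  let _ : CommGroup M := { ‹Group M› with mul_comm := hcomm }
  have : Fintype A := Fintype.ofFinite A
  set n := Nat.card A with hn
  set e := Nat.card M with he
  -- the norm map
  let N : M →* M :=
    { toFun := fun x => ∏ α : A, (α : MulAut M) x
      map_one' := by simp
      map_mul' := fun x y => by simp [Finset.prod_mul_distrib] }
  have hN : ∀ x, N x = ∏ α : A, (α : MulAut M) x := fun x => rfl
  have hNfix : ∀ x, N x ∈ fixedSubgroup A := by
    intro x β hβ
    rw [hN, map_prod]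
    exact Fintype.prod_equiv (Equiv.mulLeft (⟨β, hβ⟩ : A)) _ _ (fun α => rfl)
  have hNinv : ∀ (β : MulAut M), β ∈ A → ∀ x, N (β x) = N x := by
    intro β hβ x
    rw [hN, hN]
    exact Fintype.prod_equiv (Equiv.mulRight (⟨β, hβ⟩ : A)) _ _ (fun α => rfl)
  have hNC : ∀ x ∈ fixedSubgroup A, N x = x ^ n := by
    intro x hx
    rw [hN]
    have : ∀ α : A, (α : MulAut M) x = x := fun α => hx α α.2
    simp only [this, Finset.prod_const, Finset.card_univ]
    rw [hn, Nat.card_eq_fintype_card]
  have hNK : ∀ y ∈ commSubgroup A, N y = 1 := by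
    intro y hy
    unfold commSubgroup at hy
    induction hy using Subgroup.closure_induction with
    | mem y hy =>
      obtain ⟨α, hα, x, rfl⟩ := hy
      rw [map_mul, map_inv, hNinv α hα, inv_mul_cancel]
    | one => exact map_one N
    | mul a b _ _ ha hb => rw [map_mul, ha, hb, one_mul]
    | inv a _ ha => rw [map_inv, ha, inv_one]
  -- Bezout
  have hbez : (1 : ℤ) = n * Nat.gcdA n e + e * Nat.gcdB n e := by
    have := Nat.gcd_eq_gcd_ab n e
    rw [hcop.gcd_eq_one] at this
    exact_mod_cast this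
  have hpow : ∀ x : M, x = (x ^ n) ^ (Nat.gcdA n e) := by
    intro x
    have h1 : x ^ (e : ℤ) = 1 := by
      rw [zpow_natCast, he]; exact pow_card_eq_one'
    calc x = x ^ (1 : ℤ) := (zpow_one x).symm
      _ = x ^ ((n : ℤ) * Nat.gcdA n e + e * Nat.gcdB n e) := by rw [← hbez]
      _ = (x ^ n) ^ (Nat.gcdA n e) := by
        rw [zpow_add, zpow_mul, zpow_mul, h1, one_zpow, mul_one, zpow_natCast]
  constructor
  · rw [eq_bot_iff]
    rintro y ⟨hyC, hyK⟩
    rw [Subgroup.mem_bot]
    have h1 : y ^ n = 1 := by rw [← hNC y hyC]; exact hNK y hyK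
    rw [hpow y, h1, one_zpow]
  · rw [eq_top_iff]
    intro x _
    have hx : x = (N x) ^ (Nat.gcdA n e) * ((x ^ n) * (N x)⁻¹) ^ (Nat.gcdA n e) := by
      rw [← mul_zpow, mul_comm (x ^ n), mul_inv_cancel_left]
      exact hpow x
    rw [hx]
    apply Subgroup.mul_mem_sup
    · exact Subgroup.zpow_mem _ (hNfix x) _
    · apply Subgroup.zpow_mem
      have h2 : x ^ n * (N x)⁻¹ = ∏ α : A, (x⁻¹ * (α : MulAut M) x)⁻¹ := by
        rw [hN]
        simp only [mul_inv_rev, inv_inv, Finset.prod_mul_distrib, Finset.prod_const, Finset.card_univ,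
          Finset.prod_inv_distrib]
        rw [mul_comm, hn, Nat.card_eq_fintype_card]
      rw [h2]
      apply Subgroup.prod_mem
      intro α _
      apply Subgroup.inv_mem
      exact Subgroup.subset_closure ⟨α, α.2, x, rfl⟩

end Cfsg.Agent.Lib.Helper91
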