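import Mathlib
import Cfsg.Agent.Lib.Helper11.CoxA3

set_option autoImplicit false
set_option linter.unusedSectionVars false
set_option linter.unusedSimpArgs false

/-!
# Four involutions satisfying the Coxeter relations of type `A₄` generate `S₅`
-/

namespace Cfsg.Agent.Lib.Helper91.CoxA4

variable {X : Type*} [Group X]

/-- The Coxeter relations of type `A₄` for four involutions `s1 - s2 - s3 - s4`. -/
structure Rel (s1 s2 s3 s4 : X) : Prop where
  h11 : s1 * s1 = 1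
  h22 : s2 * s2 = 1
  h33 : s3 * s3 = 1
  h44 : s4 * s4 = 1
  c13 : s1 * s3 = s3 * s1
  c14 : s1 * s4 = s4 * s1
  c24 : s2 * s4 = s4 * s2
  b12 : s1 * s2 * s1 = s2 * s1 * s2
  b23 : s2 * s3 * s2 = s3 * s2 * s3
  b34 : s3 * s4 * s3 = s4 * s3 * s4

/-- the subgroup generated by the last three -/
abbrev H0 (s2 s3 s4 : X) : Subgroup X := Subgroup.closure ({s2, s3, s4} : Set X)

theorem mem2 (s2 s3 s4 : X) : s2 ∈ H0 s2 s3 s4 := Subgroup.subset_closure (by simp)
theorem mem3 (s2 s3 s4 : X) : s3 ∈ H0 s2 s3 s4 := Subgroup.subset_closure (by simp)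
theorem mem4 (s2 s3 s4 : X) : s4 ∈ H0 s2 s3 s4 := Subgroup.subset_closure (by simp)

/-- the five cosets -/
def pt (s1 s2 s3 s4 : X) : Fin 5 → X ⧸ H0 s2 s3 s4 :=
  ![QuotientGroup.mk 1, QuotientGroup.mk s1, QuotientGroup.mk (s2 * s1),
    QuotientGroup.mk (s3 * (s2 * s1)), QuotientGroup.mk (s4 * (s3 * (s2 * s1)))]

/-- the generators -/
def gen (s1 s2 s3 s4 : X) : Fin 4 → X := ![s1, s2, s3, s4]

/-- the formal action of the generators on the indices -/
def tau : Fin 4 → Fin 5 → Fin 5 :=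
  ![![1, 0, 2, 3, 4], ![0, 2, 1, 3, 4], ![0, 1, 3, 2, 4], ![0, 1, 2, 4, 3]]

theorem tau_tau : ∀ k i, tau k (tau k i) = i := by decide

theorem tau_eq_swap : ∀ (k : Fin 4) (i : Fin 5),
    tau k i = Equiv.swap (Fin.castSucc k) (Fin.succ k) i := by decide

theorem smul_mk' {s2 s3 s4 : X} (g x : X) :
    g • (QuotientGroup.mk x : X ⧸ H0 s2 s3 s4) = QuotientGroup.mk (g * x) := rfl

theorem fix_of_conj {s2 s3 s4 : X} {g x h : X} (hh : h ∈ H0 s2 s3 s4) (e : g * x = x * h) :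
    g • (QuotientGroup.mk x : X ⧸ H0 s2 s3 s4) = QuotientGroup.mk x := by
  rw [smul_mk', e]
  exact QuotientGroup.mk_mul_of_mem x hh

section act
variable {s1 s2 s3 s4 : X} (h : Rel s1 s2 s3 s4)
include h

theorem act (k : Fin 4) (i : Fin 5) :
    gen s1 s2 s3 s4 k • pt s1 s2 s3 s4 i = pt s1 s2 s3 s4 (tau k i) := by
  have m2 := mem2 s2 s3 s4
  have m3 := mem3 s2 s3 s4
  have m4 := mem4 s2 s3 s4
  fin_cases k
  · -- s1
    fin_cases i
    · show s1 • (QuotientGroup.mk 1 : X ⧸ H0 s2 s3 s4) = QuotientGroup.mk s1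
      rw [smul_mk', mul_one]
    · show s1 • (QuotientGroup.mk s1 : X ⧸ H0 s2 s3 s4) = QuotientGroup.mk 1
      rw [smul_mk', h.h11]
    · show s1 • (QuotientGroup.mk (s2 * s1) : X ⧸ H0 s2 s3 s4) = QuotientGroup.mk (s2 * s1)
      apply fix_of_conj m2
      rw [← mul_assoc, h.b12]
    · show s1 • (QuotientGroup.mk (s3 * (s2 * s1)) : X ⧸ H0 s2 s3 s4) =
        QuotientGroup.mk (s3 * (s2 * s1))
      apply fix_of_conj m2
      calc s1 * (s3 * (s2 * s1)) = (s1 * s3) * s2 * s1 := by simp only [mul_assoc]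
        _ = (s3 * s1) * s2 * s1 := by rw [h.c13]
        _ = s3 * (s1 * s2 * s1) := by simp only [mul_assoc]
        _ = s3 * (s2 * s1 * s2) := by rw [h.b12]
        _ = s3 * (s2 * s1) * s2 := by simp only [mul_assoc]
    · show s1 • (QuotientGroup.mk (s4 * (s3 * (s2 * s1))) : X ⧸ H0 s2 s3 s4) =
        QuotientGroup.mk (s4 * (s3 * (s2 * s1)))
      apply fix_of_conj m2
      calc s1 * (s4 * (s3 * (s2 * s1))) = (s1 * s4) * s3 * s2 * s1 := by simp only [mul_assoc]
        _ = (s4 * s1) * s3 * s2 * s1 := by rw [h.c14]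
        _ = s4 * (s1 * s3) * s2 * s1 := by simp only [mul_assoc]
        _ = s4 * (s3 * s1) * s2 * s1 := by rw [h.c13]
        _ = s4 * s3 * (s1 * s2 * s1) := by simp only [mul_assoc]
        _ = s4 * s3 * (s2 * s1 * s2) := by rw [h.b12]
        _ = s4 * (s3 * (s2 * s1)) * s2 := by simp only [mul_assoc]
  · -- s2
    fin_cases i
    · show s2 • (QuotientGroup.mk 1 : X ⧸ H0 s2 s3 s4) = QuotientGroup.mk 1
      apply fix_of_conj m2
      rw [mul_one, one_mul]
    · show s2 • (QuotientGroup.mk s1 : X ⧸ H0 s2 s3 s4) = QuotientGroup.mk (s2 * s1)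
      rw [smul_mk']
    · show s2 • (QuotientGroup.mk (s2 * s1) : X ⧸ H0 s2 s3 s4) = QuotientGroup.mk s1
      rw [smul_mk', ← mul_assoc, h.h22, one_mul]
    · show s2 • (QuotientGroup.mk (s3 * (s2 * s1)) : X ⧸ H0 s2 s3 s4) =
        QuotientGroup.mk (s3 * (s2 * s1))
      apply fix_of_conj m3
      calc s2 * (s3 * (s2 * s1)) = (s2 * s3 * s2) * s1 := by simp only [mul_assoc]
        _ = (s3 * s2 * s3) * s1 := by rw [h.b23]
        _ = s3 * s2 * (s3 * s1) := by simp only [mul_assoc]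
        _ = s3 * s2 * (s1 * s3) := by rw [h.c13]
        _ = s3 * (s2 * s1) * s3 := by simp only [mul_assoc]
    · show s2 • (QuotientGroup.mk (s4 * (s3 * (s2 * s1))) : X ⧸ H0 s2 s3 s4) =
        QuotientGroup.mk (s4 * (s3 * (s2 * s1)))
      apply fix_of_conj m3
      calc s2 * (s4 * (s3 * (s2 * s1))) = (s2 * s4) * s3 * s2 * s1 := by simp only [mul_assoc]
        _ = (s4 * s2) * s3 * s2 * s1 := by rw [h.c24]
        _ = s4 * (s2 * s3 * s2) * s1 := by simp only [mul_assoc]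
        _ = s4 * (s3 * s2 * s3) * s1 := by rw [h.b23]
        _ = s4 * s3 * s2 * (s3 * s1) := by simp only [mul_assoc]
        _ = s4 * s3 * s2 * (s1 * s3) := by rw [h.c13]
        _ = s4 * (s3 * (s2 * s1)) * s3 := by simp only [mul_assoc]
  · -- s3
    fin_cases i
    · show s3 • (QuotientGroup.mk 1 : X ⧸ H0 s2 s3 s4) = QuotientGroup.mk 1
      apply fix_of_conj m3
      rw [mul_one, one_mul]
    · show s3 • (QuotientGroup.mk s1 : X ⧸ H0 s2 s3 s4) = QuotientGroup.mk s1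
      apply fix_of_conj m3
      exact h.c13.symm
    · show s3 • (QuotientGroup.mk (s2 * s1) : X ⧸ H0 s2 s3 s4) =
        QuotientGroup.mk (s3 * (s2 * s1))
      rw [smul_mk']
    · show s3 • (QuotientGroup.mk (s3 * (s2 * s1)) : X ⧸ H0 s2 s3 s4) =
        QuotientGroup.mk (s2 * s1)
      rw [smul_mk', ← mul_assoc, h.h33, one_mul]
    · show s3 • (QuotientGroup.mk (s4 * (s3 * (s2 * s1))) : X ⧸ H0 s2 s3 s4) =
        QuotientGroup.mk (s4 * (s3 * (s2 * s1)))
      apply fix_of_conj m4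
      calc s3 * (s4 * (s3 * (s2 * s1))) = (s3 * s4 * s3) * s2 * s1 := by simp only [mul_assoc]
        _ = (s4 * s3 * s4) * s2 * s1 := by rw [h.b34]
        _ = s4 * s3 * (s4 * s2) * s1 := by simp only [mul_assoc]
        _ = s4 * s3 * (s2 * s4) * s1 := by rw [h.c24]
        _ = s4 * s3 * s2 * (s4 * s1) := by simp only [mul_assoc]
        _ = s4 * s3 * s2 * (s1 * s4) := by rw [h.c14]
        _ = s4 * (s3 * (s2 * s1)) * s4 := by simp only [mul_assoc]
  · -- s4
    fin_cases i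
    · show s4 • (QuotientGroup.mk 1 : X ⧸ H0 s2 s3 s4) = QuotientGroup.mk 1
      apply fix_of_conj m4
      rw [mul_one, one_mul]
    · show s4 • (QuotientGroup.mk s1 : X ⧸ H0 s2 s3 s4) = QuotientGroup.mk s1
      apply fix_of_conj m4
      exact h.c14.symm
    · show s4 • (QuotientGroup.mk (s2 * s1) : X ⧸ H0 s2 s3 s4) = QuotientGroup.mk (s2 * s1)
      apply fix_of_conj m4
      calc s4 * (s2 * s1) = (s4 * s2) * s1 := by simp only [mul_assoc]
        _ = (s2 * s4) * s1 := by rw [h.c24]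
        _ = s2 * (s4 * s1) := by simp only [mul_assoc]
        _ = s2 * (s1 * s4) := by rw [h.c14]
        _ = s2 * s1 * s4 := by simp only [mul_assoc]
    · show s4 • (QuotientGroup.mk (s3 * (s2 * s1)) : X ⧸ H0 s2 s3 s4) =
        QuotientGroup.mk (s4 * (s3 * (s2 * s1)))
      rw [smul_mk']
    · show s4 • (QuotientGroup.mk (s4 * (s3 * (s2 * s1))) : X ⧸ H0 s2 s3 s4) =
        QuotientGroup.mk (s3 * (s2 * s1))
      rw [smul_mk', ← mul_assoc, h.h44, one_mul]

theorem gen_inv (k : Fin 4) : (gen s1 s2 s3 s4 k)⁻¹ = gen s1 s2 s3 s4 k := by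
  fin_cases k
  · exact inv_eq_of_mul_eq_one_right h.h11
  · exact inv_eq_of_mul_eq_one_right h.h22
  · exact inv_eq_of_mul_eq_one_right h.h33
  · exact inv_eq_of_mul_eq_one_right h.h44

theorem range_gen : Set.range (gen s1 s2 s3 s4) = ({s1, s2, s3, s4} : Set X) := by
  ext x
  constructor
  · rintro ⟨k, rfl⟩
    fin_cases k <;> simp [gen]
  · intro hx
    simp only [Set.mem_insert_iff, Set.mem_singleton_iff] at hx
    rcases hx with rfl | rfl | rfl | rfl
    · exact ⟨0, rfl⟩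
    · exact ⟨1, rfl⟩
    · exact ⟨2, rfl⟩
    · exact ⟨3, rfl⟩

theorem pt_surj (hgen : Subgroup.closure ({s1, s2, s3, s4} : Set X) = ⊤) :
    Function.Surjective (pt s1 s2 s3 s4) := by
  have key : ∀ g ∈ Subgroup.closure ({s1, s2, s3, s4} : Set X),
      (∀ i, ∃ j, g • pt s1 s2 s3 s4 i = pt s1 s2 s3 s4 j) ∧
      (∀ i, ∃ j, g⁻¹ • pt s1 s2 s3 s4 i = pt s1 s2 s3 s4 j) := by
    intro g hg
    induction hg using Subgroup.closure_induction with
    | mem x hx =>
      rw [← range_gen h] at hx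
      obtain ⟨k, rfl⟩ := hx
      refine ⟨fun i => ⟨_, act h k i⟩, fun i => ?_⟩
      rw [gen_inv h k]
      exact ⟨_, act h k i⟩
    | one => exact ⟨fun i => ⟨i, one_smul _ _⟩, fun i => ⟨i, by rw [inv_one, one_smul]⟩⟩
    | mul x y _ _ hx hy =>
      refine ⟨fun i => ?_, fun i => ?_⟩
      · obtain ⟨j, hj⟩ := hy.1 i
        obtain ⟨k, hk⟩ := hx.1 j
        exact ⟨k, by rw [mul_smul, hj, hk]⟩
      · obtain ⟨j, hj⟩ := hx.2 i
        obtain ⟨k, hk⟩ := hy.2 j
        exact ⟨k, by rw [mul_inv_rev, mul_smul, hj, hk]⟩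
    | inv x _ hx => exact ⟨hx.2, by rw [inv_inv]; exact hx.1⟩
  intro x
  induction x using QuotientGroup.induction_on with
  | H g =>
    obtain ⟨j, hj⟩ := (key g (by rw [hgen]; trivial)).1 0
    refine ⟨j, ?_⟩
    rw [← hj]
    show g • (QuotientGroup.mk 1 : X ⧸ H0 s2 s3 s4) = (QuotientGroup.mk g : X ⧸ H0 s2 s3 s4)
    rw [smul_mk', mul_one]

/-- collisions among the five points propagate -/
theorem collide_step (k : Fin 4) {i j : Fin 5}
    (hij : pt s1 s2 s3 s4 i = pt s1 s2 s3 s4 j) :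
    pt s1 s2 s3 s4 (tau k i) = pt s1 s2 s3 s4 (tau k j) := by
  rw [← act h k i, ← act h k j, hij]

end act

/-- a relation on `Fin 5` invariant under the adjacent transpositions relating two distinct
indices relates `0` and `1` -/
theorem descent (R : Fin 5 → Fin 5 → Prop) (hsymm : ∀ i j, R i j → R j i)
    (hstep : ∀ k i j, R i j → R (tau k i) (tau k j)) :
    ∀ i j, i ≠ j → R i j → R 0 1 := by
  -- first bring the pair to the form (0, j)
  have h01 : ∀ j : Fin 5, j ≠ 0 → R 0 j → R 0 1 := by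
    intro j hj h0
    fin_cases j
    · exact absurd rfl hj
    · exact h0
    · exact hstep 1 0 2 h0
    · exact hstep 1 0 2 (hstep 2 0 3 h0)
    · exact hstep 1 0 2 (hstep 2 0 3 (hstep 3 0 4 h0))
  have h0 : ∀ i j : Fin 5, i ≠ j → R i j → ∃ j', j' ≠ 0 ∧ R 0 j' := by
    intro i j hij hR
    fin_cases i
    · exact ⟨j, fun h => hij h.symm, hR⟩
    · exact ⟨tau 0 j, by revert hij; fin_cases j <;> decide, hstep 0 1 j hR⟩
    · exact ⟨tau 0 (tau 1 j), by revert hij; fin_cases j <;> decide,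
        hstep 0 1 (tau 1 j) (hstep 1 2 j hR)⟩
    · exact ⟨tau 0 (tau 1 (tau 2 j)), by revert hij; fin_cases j <;> decide,
        hstep 0 1 (tau 1 (tau 2 j)) (hstep 1 2 (tau 2 j) (hstep 2 3 j hR))⟩
    · exact ⟨tau 0 (tau 1 (tau 2 (tau 3 j))), by revert hij; fin_cases j <;> decide,
        hstep 0 1 (tau 1 (tau 2 (tau 3 j))) (hstep 1 2 (tau 2 (tau 3 j))
          (hstep 2 3 (tau 3 j) (hstep 3 4 j hR)))⟩
  intro i j hij hR
  obtain ⟨j', hj', hR'⟩ := h0 i j hij hR
  exact h01 j' hj' hR'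

set_option maxRecDepth 100000 in
theorem s4_centralizer_trivial : ∀ x : Equiv.Perm (Fin 4), x * x = 1 →
    ∀ y : Equiv.Perm (Fin 4), y * y = 1 → x * y * x = y * x * y → x * y ≠ y * x →
    ∀ g : Equiv.Perm (Fin 4), g * x = x * g → g * y = y * g → g = 1 := by
  decide

section iso
variable {s1 s2 s3 s4 : X} (h : Rel s1 s2 s3 s4) [Finite X]
include h

theorem exists_equiv_H0 (h23 : s2 * s3 ≠ s3 * s2) (h24 : s2 ≠ s4) :
    Nonempty (↥(H0 s2 s3 s4) ≃* Equiv.Perm (Fin 4)) := by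
  set a' : ↥(H0 s2 s3 s4) := ⟨s2, mem2 s2 s3 s4⟩ with ha'
  set b' : ↥(H0 s2 s3 s4) := ⟨s3, mem3 s2 s3 s4⟩ with hb'
  set c' : ↥(H0 s2 s3 s4) := ⟨s4, mem4 s2 s3 s4⟩ with hc'
  have hrel : Cfsg.Agent.Lib.Helper11.CoxA3.Rel a' b' c' := by
    refine ⟨?_, ?_, ?_, ?_, ?_, ?_⟩
    · apply Subtype.ext; exact h.h22
    · apply Subtype.ext; exact h.h33
    · apply Subtype.ext; exact h.h44
    · apply Subtype.ext; exact h.c24
    · apply Subtype.ext; exact h.b23
    · apply Subtype.ext; exact h.b34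
  have hgen : Subgroup.closure ({a', b', c'} : Set ↥(H0 s2 s3 s4)) = ⊤ := by
    have := Subgroup.closure_closure_coe_preimage (k := ({s2, s3, s4} : Set X))
    convert this using 2
    ext x
    simp only [Set.mem_insert_iff, Set.mem_singleton_iff, Set.mem_preimage, ha', hb', hc']
    constructor
    · rintro (rfl | rfl | rfl)
      · left; rfl
      · right; left; rfl
      · right; right; rfl
    · rintro (h' | h' | h')
      · left; exact Subtype.ext h'
      · right; left; exact Subtype.ext h'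
      · right; right; exact Subtype.ext h'
  exact hrel.equiv_perm_four (fun he => h23 (congrArg Subtype.val he))
    (fun he => h24 (congrArg Subtype.val he)) hgen

theorem s1_notMem (h23 : s2 * s3 ≠ s3 * s2) (h24 : s2 ≠ s4) (h34 : s3 * s4 ≠ s4 * s3)
    (h1 : s1 ≠ 1) : s1 ∉ H0 s2 s3 s4 := by
  intro hmem
  obtain ⟨φ⟩ := exists_equiv_H0 h h23 h24
  set b' : ↥(H0 s2 s3 s4) := ⟨s3, mem3 s2 s3 s4⟩ with hb'
  set c' : ↥(H0 s2 s3 s4) := ⟨s4, mem4 s2 s3 s4⟩ with hc'
  set g' : ↥(H0 s2 s3 s4) := ⟨s1, hmem⟩ with hg'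
  have e1 : φ b' * φ b' = 1 := by
    rw [← map_mul, ← map_one φ]; congr 1; apply Subtype.ext; exact h.h33
  have e2 : φ c' * φ c' = 1 := by
    rw [← map_mul, ← map_one φ]; congr 1; apply Subtype.ext; exact h.h44
  have e3 : φ b' * φ c' * φ b' = φ c' * φ b' * φ c' := by
    rw [← map_mul, ← map_mul, ← map_mul, ← map_mul]; congr 1; apply Subtype.ext; exact h.b34
  have e4 : φ b' * φ c' ≠ φ c' * φ b' := by
    rw [← map_mul, ← map_mul]
    intro he
    exact h34 (congrArg Subtype.val (φ.injective he))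
  have e5 : φ g' * φ b' = φ b' * φ g' := by
    rw [← map_mul, ← map_mul]; congr 1; apply Subtype.ext; exact h.c13
  have e6 : φ g' * φ c' = φ c' * φ g' := by
    rw [← map_mul, ← map_mul]; congr 1; apply Subtype.ext; exact h.c14
  have := s4_centralizer_trivial _ e1 _ e2 e3 e4 _ e5 e6
  rw [← map_one φ] at this
  exact h1 (congrArg Subtype.val (φ.injective this))

theorem pt_inj (h23 : s2 * s3 ≠ s3 * s2) (h24 : s2 ≠ s4) (h34 : s3 * s4 ≠ s4 * s3)
    (h1 : s1 ≠ 1) : Function.Injective (pt s1 s2 s3 s4) := by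
  intro i j hij
  by_contra hne
  have := descent (fun i j => pt s1 s2 s3 s4 i = pt s1 s2 s3 s4 j) (fun i j hh => hh.symm)
    (fun k i j hh => collide_step h k hh) i j hne hij
  have hm : (1 : X)⁻¹ * s1 ∈ H0 s2 s3 s4 := QuotientGroup.eq.mp this
  rw [inv_one, one_mul] at hm
  exact s1_notMem h h23 h24 h34 h1 hm

theorem exists_equiv (hgen : Subgroup.closure ({s1, s2, s3, s4} : Set X) = ⊤)
    (h23 : s2 * s3 ≠ s3 * s2) (h24 : s2 ≠ s4) (h34 : s3 * s4 ≠ s4 * s3) (h1 : s1 ≠ 1) :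
    ∃ ψ : X ≃* Equiv.Perm (Fin 5), ψ s1 = Equiv.swap 0 1 ∧ ψ s2 = Equiv.swap 1 2 ∧
      ψ s3 = Equiv.swap 2 3 ∧ ψ s4 = Equiv.swap 3 4 := by
  classical
  have hinj := pt_inj h h23 h24 h34 h1
  let e : Fin 5 ≃ X ⧸ H0 s2 s3 s4 :=
    Equiv.ofBijective (pt s1 s2 s3 s4) ⟨hinj, pt_surj h hgen⟩
  have hact : ∀ k : Fin 4, MulAction.toPermHom X (X ⧸ H0 s2 s3 s4) (gen s1 s2 s3 s4 k) =
      Equiv.swap (pt s1 s2 s3 s4 (Fin.castSucc k)) (pt s1 s2 s3 s4 (Fin.succ k)) := by
    intro k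
    ext z
    obtain ⟨m, rfl⟩ := pt_surj h hgen z
    rw [MulAction.toPermHom_apply, MulAction.toPerm_apply, act h k m, tau_eq_swap,
      hinj.swap_apply]
  have hsw : ∀ σ ∈ ({s1, s2, s3, s4} : Set X),
      (MulAction.toPermHom X (X ⧸ H0 s2 s3 s4) σ).IsSwap := by
    intro σ hσ
    rw [← range_gen h] at hσ
    obtain ⟨k, rfl⟩ := hσ
    rw [hact k]
    refine ⟨_, _, ?_, rfl⟩
    intro he
    have := hinj he
    revert this
    fin_cases k <;> decide
  have hsurj := surjective_of_isSwap_of_isPretransitive ({s1, s2, s3, s4} : Set X) hsw hgen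
  have hcardX : Nat.card (X ⧸ H0 s2 s3 s4) = 5 := by
    rw [← Nat.card_congr e]; simp
  obtain ⟨φ⟩ := exists_equiv_H0 h h23 h24
  have hcardS : Nat.card ↥(H0 s2 s3 s4) = 24 := by
    rw [Nat.card_congr φ.toEquiv, Nat.card_eq_fintype_card, Fintype.card_perm, Fintype.card_fin]
    rfl
  have hcardG : Nat.card X = 120 := by
    rw [Subgroup.card_eq_card_quotient_mul_card_subgroup (H0 s2 s3 s4), hcardX, hcardS]
  have hcardP : Nat.card (Equiv.Perm (X ⧸ H0 s2 s3 s4)) = 120 := by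
    rw [Nat.card_congr (e.symm.permCongrHom.toEquiv), Nat.card_eq_fintype_card,
      Fintype.card_perm, Fintype.card_fin]
    rfl
  have hbij := hsurj.bijective_of_nat_card_le (by rw [hcardG, hcardP])
  set ψ : X ≃* Equiv.Perm (Fin 5) := (MulEquiv.ofBijective _ hbij).trans e.symm.permCongrHom
    with hψ
  have hψgen : ∀ k : Fin 4, ψ (gen s1 s2 s3 s4 k) = Equiv.swap (Fin.castSucc k) (Fin.succ k) := by
    intro k
    ext i
    have : ψ (gen s1 s2 s3 s4 k) i = e.symm (gen s1 s2 s3 s4 k • e i) := rfl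
    rw [this]
    have he : e i = pt s1 s2 s3 s4 i := rfl
    rw [he, act h k i, ← tau_eq_swap]
    have : pt s1 s2 s3 s4 (tau k i) = e (tau k i) := rfl
    rw [this, Equiv.symm_apply_apply]
  exact ⟨ψ, hψgen 0, hψgen 1, hψgen 2, hψgen 3⟩

end iso

end Cfsg.Agent.Lib.Helper91.CoxA4
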