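import Mathlib
import Cfsg.Agent.Lib.Helper91.CyclicChainStab

set_option autoImplicit false

namespace Cfsg.Agent.Lib.Helper91

variable {Ω : Type*} [Group Ω]

/-- If `M = N ⊔ ⟨x⟩` and `N` is normal in `M`, then `M / N` is cyclic. -/
theorem isCyclic_quotient_of_sup_zpowers (N M : Subgroup Ω) [hn : (N.subgroupOf M).Normal] (x : Ω)
    (hM : M = N ⊔ Subgroup.zpowers x) : IsCyclic (M ⧸ N.subgroupOf M) := by
  have hxM : x ∈ M := by rw [hM]; exact Subgroup.mem_sup_right (Subgroup.mem_zpowers x)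
  have hNM : N ≤ M := by rw [hM]; exact le_sup_left
  have hle : M ≤ ((Subgroup.zpowers (QuotientGroup.mk' (N.subgroupOf M) ⟨x, hxM⟩)).comap
      (QuotientGroup.mk' (N.subgroupOf M))).map M.subtype := by
    have h1 : N ⊔ Subgroup.zpowers x ≤ ((Subgroup.zpowers (QuotientGroup.mk' (N.subgroupOf M) ⟨x, hxM⟩)).comap
        (QuotientGroup.mk' (N.subgroupOf M))).map M.subtype := by
      apply sup_le
      · intro n hnN
        refine ⟨⟨n, hNM hnN⟩, ?_, rfl⟩
        rw [SetLike.mem_coe, Subgroup.mem_comap]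
        have h2 : QuotientGroup.mk' (N.subgroupOf M) ⟨n, hNM hnN⟩ = 1 :=
          (QuotientGroup.eq_one_iff _).mpr (by rw [Subgroup.mem_subgroupOf]; exact hnN)
        rw [h2]
        exact Subgroup.one_mem _
      · rw [Subgroup.zpowers_le]
        exact ⟨⟨x, hxM⟩, Subgroup.mem_zpowers _, rfl⟩
    exact hM.le.trans h1
  refine ⟨⟨QuotientGroup.mk' (N.subgroupOf M) ⟨x, hxM⟩, fun q => ?_⟩⟩
  obtain ⟨y, rfl⟩ := QuotientGroup.mk_surjective q
  obtain ⟨y', hy', hyy⟩ := hle y.2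
  have : y' = y := Subtype.ext hyy
  rw [← this]
  exact hy'

/-- Consequences, for a group `A` of automorphisms of a finite `p`-subgroup `P`, of preserving the intersections with `P` of
a chain of subgroups with cyclic steps. -/
theorem chain_apply {p : ℕ} [Fact p.Prime] (cN : ℕ → Subgroup Ω)
    (hnorm : ∀ j, ((cN j).subgroupOf (cN (j + 1))).Normal)
    (hcyc : ∀ j, ∃ x, cN (j + 1) = cN j ⊔ Subgroup.zpowers x) (h0 : cN 0 = ⊥) (hmono : Monotone cN)
    (P : Subgroup Ω) [Finite P] (hP : IsPGroup p P) (m : ℕ) (hPm : P ≤ cN m) (A : Subgroup (MulAut P))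
    (hA : ∀ α ∈ A, ∀ j, ∀ x : P, (x : Ω) ∈ cN j → ((α x : P) : Ω) ∈ cN j) :
    (∃ R : Sylow p A, (R : Subgroup A).Normal) ∧
      ((Nat.card A).Coprime p → (∀ α ∈ A, ∀ β ∈ A, α * β = β * α) ∧ ∀ α ∈ A, α ^ (p - 1) = 1) := by
  have hninst : ∀ j, ((cN j).subgroupOf (cN (j + 1))).Normal := hnorm
  let d : ℕ → Subgroup P := fun j => (cN j).subgroupOf P
  let C : ℕ → Type _ := fun j => cN (j + 1) ⧸ (cN j).subgroupOf (cN (j + 1))
  letI instG : ∀ j, Group (C j) := fun j =>
    inferInstanceAs (Group (cN (j + 1) ⧸ (cN j).subgroupOf (cN (j + 1))))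
  have instC : ∀ j, IsCyclic (C j) := fun j => by
    obtain ⟨x, hx⟩ := hcyc j
    exact isCyclic_quotient_of_sup_zpowers _ _ x hx
  let incl : ∀ j, d (j + 1) →* cN (j + 1) := fun j =>
    (P.subtype.comp (d (j + 1)).subtype).codRestrict (cN (j + 1)) (fun y => y.2)
  let f : ∀ j, d (j + 1) →* C j := fun j =>
    (QuotientGroup.mk' ((cN j).subgroupOf (cN (j + 1)))).comp (incl j)
  have hker : ∀ j (y : d (j + 1)), f j y = 1 ↔ (y : P) ∈ d j := by
    intro j y
    show (QuotientGroup.mk' ((cN j).subgroupOf (cN (j + 1))) (incl j y)) = 1 ↔ _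
    rw [QuotientGroup.mk'_apply, QuotientGroup.eq_one_iff]
    exact Iff.rfl
  have hd0 : d 0 = ⊥ := by
    show (cN 0).subgroupOf P = ⊥
    rw [h0]
    exact Subgroup.bot_subgroupOf P
  have hdmono : Monotone d := fun i j hij x hx => hmono hij hx
  have hdm : d m = ⊤ := Subgroup.subgroupOf_eq_top.mpr hPm
  have hA' : ∀ α ∈ A, ∀ i, ∀ x ∈ d i, α x ∈ d i := fun α hα i x hx => hA α hα i x hx
  constructor
  · exact exists_normal_sylow_of_chain d C f hker hP hd0 hdmono m hdm A hA'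
  · intro hcop
    refine comm_and_exp_of_coprime d C f hker hP hd0 hdmono A hA' hcop m ?_
    intro α _ h
    ext x
    have := h x (by rw [hdm]; exact Subgroup.mem_top x)
    rw [this]
    rfl

end Cfsg.Agent.Lib.Helper91
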