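import Mathlib

set_option autoImplicit false

namespace Cfsg.Agent.Lib.Helper91

open Polynomial

/-- An endomorphism `T` of a nonzero finite vector space over `𝔽_p` with `T ^ (p - 1) = 1` has an eigenvector. -/
theorem exists_eigenvector_of_pow_eq_one {p : ℕ} [Fact p.Prime] {A : Type*} [AddCommGroup A]
    [Module (ZMod p) A] [Finite A] [Nontrivial A] (T : Module.End (ZMod p) A)
    (hT : T ^ (p - 1) = 1) : ∃ (μ : ZMod p) (v : A), v ≠ 0 ∧ T v = μ • v := by
  have hp : p.Prime := Fact.out
  have : Module.Finite (ZMod p) A := Module.Finite.of_finite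
  set f : (ZMod p)[X] := X ^ (p - 1) - 1 with hf
  have hfT : aeval T f = 0 := by
    rw [hf]; simp [hT]
  have hdvd : minpoly (ZMod p) T ∣ f := minpoly.dvd _ _ hfT
  have hsplit0 : Splits (X ^ p - X : (ZMod p)[X]) := by
    have := FiniteField.splits_X_pow_card_sub_X (p := p) (K := ZMod p)
    simpa [ZMod.card] using this
  have hXf : (X ^ p - X : (ZMod p)[X]) = X * f := by
    rw [hf, mul_sub, mul_one, ← pow_succ']
    congr 2
    have := hp.one_lt
    omega
  have hne0 : (X ^ p - X : (ZMod p)[X]) ≠ 0 := FiniteField.X_pow_card_sub_X_ne_zero _ hp.one_lt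
  have hfs : Splits f := by
    rw [hXf] at hsplit0
    exact hsplit0.of_X_mul
  have hf0 : f ≠ 0 := by
    intro h
    rw [hXf, h, mul_zero] at hne0
    exact hne0 rfl
  have hms : Splits (minpoly (ZMod p) T) := hfs.of_dvd hf0 hdvd
  have hint : IsIntegral (ZMod p) T := Algebra.IsIntegral.isIntegral T
  have hdeg : degree (minpoly (ZMod p) T) ≠ 0 := (minpoly.degree_pos hint).ne'
  obtain ⟨μ, hμ⟩ := hms.exists_eval_eq_zero hdeg
  have hev : T.HasEigenvalue μ := Module.End.hasEigenvalue_of_isRoot hμ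
  obtain ⟨v, hv⟩ := hev.exists_hasEigenvector
  exact ⟨μ, v, hv.2, hv.apply_eq_smul⟩

/-- Version for an additive endomorphism of an additive group of exponent `p`. -/
theorem exists_eigenvector_add {p : ℕ} [Fact p.Prime] {A : Type*} [AddCommGroup A] [Finite A] [Nontrivial A]
    (hexp : ∀ x : A, p • x = 0) (g : A →+ A) (hg : ∀ x, g^[p - 1] x = x) :
    ∃ (a : ℕ) (v : A), v ≠ 0 ∧ g v = a • v := by
  have inst : Module (ZMod p) A := AddCommGroup.zmodModule hexp
  obtain ⟨T, hTdef⟩ : ∃ T : Module.End (ZMod p) A, ∀ x, T x = g x :=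
    ⟨g.toZModLinearMap p, fun x => rfl⟩
  have hTfun : (⇑T : A → A) = ⇑g := funext hTdef
  have hT : T ^ (p - 1) = 1 := by
    apply LinearMap.ext
    intro x
    rw [Module.End.pow_apply, hTfun]
    exact hg x
  obtain ⟨μ, v, hv, hTv⟩ := exists_eigenvector_of_pow_eq_one T hT
  refine ⟨μ.val, v, hv, ?_⟩
  have h1 : μ • v = μ.val • v := by
    conv_lhs => rw [← ZMod.natCast_zmod_val μ]
    exact Nat.cast_smul_eq_nsmul (ZMod p) μ.val v
  rw [h1, hTdef] at hTv
  exact hTv

/-- Multiplicative version: an endomorphism `f` of a nontrivial finite commutative group of exponent `p` whose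
`(p - 1)`-st iterate is the identity maps some nontrivial element to a power of itself. -/
theorem exists_eigenvector_mul {p : ℕ} [Fact p.Prime] {V : Type*} [CommGroup V] [Finite V] [Nontrivial V]
    (hexp : ∀ v : V, v ^ p = 1) (f : V →* V) (hf : ∀ v, f^[p - 1] v = v) :
    ∃ (a : ℕ) (v : V), v ≠ 1 ∧ f v = v ^ a := by
  have hexpA : ∀ x : Additive V, p • x = 0 := fun x => hexp (Additive.toMul x)
  obtain ⟨a, v, hv, hgv⟩ := exists_eigenvector_add hexpA (MonoidHom.toAdditive f) (fun x => hf x)
  exact ⟨a, Additive.toMul v, fun h => hv h, hgv⟩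

/-- A family `K` of endomorphisms of a group `G` preserving a finite nontrivial abelian subgroup `U` of exponent `p`, commuting
on `U` and with `(p - 1)`-st iterates trivial on `U`, has a common eigenvector in `U`. -/
theorem exists_common_eigenvector_aux {p : ℕ} [Fact p.Prime] {G : Type*} [Group G] (K : Set (G →* G)) :
    ∀ (n : ℕ) (U : Subgroup G), Nat.card U = n → Finite U → U ≠ ⊥ →
    (∀ u ∈ U, ∀ v ∈ U, u * v = v * u) → (∀ u ∈ U, u ^ p = 1) →
    (∀ f ∈ K, ∀ u ∈ U, f u ∈ U) →
    (∀ f ∈ K, ∀ g ∈ K, ∀ u ∈ U, f (g u) = g (f u)) →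
    (∀ f ∈ K, ∀ u ∈ U, f^[p - 1] u = u) →
    ∃ v ∈ U, v ≠ 1 ∧ ∀ f ∈ K, ∃ a : ℕ, f v = v ^ a := by
  intro n
  induction n using Nat.strong_induction_on with
  | _ n ih =>
    intro U hcard hfin hU hcomm hexp hKU hKc hKp
    by_cases hsc : ∀ f ∈ K, ∃ a : ℕ, ∀ u ∈ U, f u = u ^ a
    · obtain ⟨v, hv1⟩ := (Subgroup.ne_bot_iff_exists_ne_one.mp hU)
      refine ⟨v, v.2, fun h => hv1 (Subtype.ext h), fun f hf => ?_⟩
      obtain ⟨a, ha⟩ := hsc f hf
      exact ⟨a, ha v v.2⟩
    · push Not at hsc
      obtain ⟨f, hfK, hnon⟩ := hsc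
      letI instC : CommGroup U :=
        { (inferInstance : Group U) with mul_comm := fun a b => Subtype.ext (hcomm a a.2 b b.2) }
      have hnt : Nontrivial U := (Subgroup.nontrivial_iff_ne_bot U).mpr hU
      let fU : U →* U := (f.comp U.subtype).codRestrict U (fun u => hKU f hfK u u.2)
      have hfUapp : ∀ u : U, ((fU u : U) : G) = f u := fun u => rfl
      have hfUit : ∀ (k : ℕ) (u : U), (((fU^[k]) u : U) : G) = (f^[k]) (u : G) := by
        intro k
        induction k with
        | zero => intro u; rfl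
        | succ k ihk =>
          intro u
          rw [Function.iterate_succ_apply', Function.iterate_succ_apply', hfUapp, ihk]
      have hfU : ∀ u : U, (fU^[p - 1]) u = u := by
        intro u
        apply Subtype.ext
        rw [hfUit]
        exact hKp f hfK u u.2
      have hexpU : ∀ u : U, u ^ p = 1 := by
        intro u
        apply Subtype.ext
        exact hexp u u.2
      obtain ⟨a, v, hv1, hfv⟩ := exists_eigenvector_mul (p := p) hexpU fU hfU
      have hfv' : f (v : G) = (v : G) ^ a := by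
        have := congrArg (fun z : U => (z : G)) hfv
        exact this
      -- the eigenspace
      let E : Subgroup G :=
        { carrier := {u | u ∈ U ∧ f u = u ^ a}
          one_mem' := ⟨U.one_mem, by simp⟩
          mul_mem' := by
            rintro x y ⟨hx, hfx⟩ ⟨hy, hfy⟩
            refine ⟨U.mul_mem hx hy, ?_⟩
            have hc : Commute x y := hcomm x hx y hy
            rw [map_mul, hfx, hfy, hc.mul_pow]
          inv_mem' := by
            rintro x ⟨hx, hfx⟩
            refine ⟨U.inv_mem hx, ?_⟩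
            rw [map_inv, hfx, inv_pow] }
      have hEU : E ≤ U := fun u hu => hu.1
      have hEmem : ∀ u, u ∈ E ↔ u ∈ U ∧ f u = u ^ a := fun u => Iff.rfl
      have hEne : E ≠ ⊥ := by
        intro h
        have : (v : G) ∈ E := ⟨v.2, hfv'⟩
        rw [h, Subgroup.mem_bot] at this
        exact hv1 (Subtype.ext this)
      have hEfin : Finite E := Finite.of_injective (Subgroup.inclusion hEU) (Subgroup.inclusion_injective hEU)
      have hElt : Nat.card E < n := by
        rw [← hcard]
        obtain ⟨u, huU, hfu⟩ := hnon a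
        rcases (Subgroup.card_le_of_le hEU).lt_or_eq with h | h
        · exact h
        · exfalso
          have := Subgroup.eq_of_le_of_card_ge hEU h.ge
          have huE : u ∈ E := by rw [this]; exact huU
          exact hfu huE.2
      obtain ⟨w, hwE, hw1, hw⟩ := ih (Nat.card E) hElt E rfl hEfin hEne
        (fun u hu v hv => hcomm u (hEU hu) v (hEU hv)) (fun u hu => hexp u (hEU hu))
        (fun g hg u hu => by
          refine ⟨hKU g hg u hu.1, ?_⟩
          rw [hKc f hfK g hg u hu.1, hu.2, map_pow])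
        (fun g hg g' hg' u hu => hKc g hg g' hg' u (hEU hu))
        (fun g hg u hu => hKp g hg u (hEU hu))
      exact ⟨w, hEU hwE, hw1, hw⟩

theorem exists_common_eigenvector {p : ℕ} [Fact p.Prime] {G : Type*} [Group G] (K : Set (G →* G))
    (U : Subgroup G) [Finite U] (hU : U ≠ ⊥)
    (hcomm : ∀ u ∈ U, ∀ v ∈ U, u * v = v * u) (hexp : ∀ u ∈ U, u ^ p = 1)
    (hKU : ∀ f ∈ K, ∀ u ∈ U, f u ∈ U)
    (hKc : ∀ f ∈ K, ∀ g ∈ K, ∀ u ∈ U, f (g u) = g (f u))
    (hKp : ∀ f ∈ K, ∀ u ∈ U, f^[p - 1] u = u) :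
    ∃ v ∈ U, v ≠ 1 ∧ ∀ f ∈ K, ∃ a : ℕ, f v = v ^ a :=
  exists_common_eigenvector_aux K (Nat.card U) U rfl inferInstance hU hcomm hexp hKU hKc hKp

end Cfsg.Agent.Lib.Helper91
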