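import Mathlib
import Cfsg.Agent.Lib.Helper91.Eigen

set_option autoImplicit false

namespace Cfsg.Agent.Lib.Helper91

variable {P : Type*} [Group P] [Finite P] {p : ℕ} [Fact p.Prime]

/-- One step of the chain: above a proper normal `K`-invariant subgroup `T` of a finite `p`-group, where `K` is a
commutative group of automorphisms of exponent dividing `p - 1`, there is a normal `K`-invariant subgroup
`T ⊔ ⟨x⟩` with `x ∉ T`. -/
theorem exists_cyclic_step (hP : IsPGroup p P) (K : Subgroup (MulAut P))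
    (hKc : ∀ h ∈ K, ∀ k ∈ K, h * k = k * h) (hKe : ∀ k ∈ K, k ^ (p - 1) = 1)
    (T : Subgroup P) (hTn : T.Normal) (hTK : ∀ k ∈ K, ∀ x ∈ T, k x ∈ T) (hT : T ≠ ⊤) :
    ∃ x : P, x ∉ T ∧ (T ⊔ Subgroup.zpowers x).Normal ∧
      ∀ k ∈ K, ∀ y ∈ T ⊔ Subgroup.zpowers x, k y ∈ T ⊔ Subgroup.zpowers x := by
  have hp : p.Prime := Fact.out
  have hQp : IsPGroup p (P ⧸ T) := hP.to_quotient T
  have hQnt : Nontrivial (P ⧸ T) := by
    obtain ⟨x₀, hx₀⟩ : ∃ x₀ : P, x₀ ∉ T := by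
      by_contra h
      push Not at h
      exact hT ((Subgroup.eq_top_iff' T).mpr h)
    exact ⟨⟨(x₀ : P ⧸ T), 1, fun h => hx₀ ((QuotientGroup.eq_one_iff x₀).mp h)⟩⟩
  have hZnt : Nontrivial (Subgroup.center (P ⧸ T)) := hQp.center_nontrivial
  have hZp : IsPGroup p (Subgroup.center (P ⧸ T)) := hQp.to_subgroup _
  have hpZ : p ∣ Nat.card (Subgroup.center (P ⧸ T)) :=
    (hZp.card_eq_or_dvd).resolve_left (ne_of_gt Finite.one_lt_card)
  obtain ⟨z, hz⟩ := exists_prime_orderOf_dvd_card' p hpZ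
  -- the subgroup `Ω₁(Z(P/T))`
  let U : Subgroup (P ⧸ T) :=
    { carrier := {u | u ∈ Subgroup.center (P ⧸ T) ∧ u ^ p = 1}
      one_mem' := ⟨Subgroup.one_mem _, one_pow _⟩
      mul_mem' := by
        rintro a b ⟨ha, hap⟩ ⟨hb, hbp⟩
        refine ⟨Subgroup.mul_mem _ ha hb, ?_⟩
        have hc : Commute a b := (Subgroup.mem_center_iff.mp ha b).symm
        rw [hc.mul_pow, hap, hbp, one_mul]
      inv_mem' := by
        rintro a ⟨ha, hap⟩
        exact ⟨Subgroup.inv_mem _ ha, by rw [inv_pow, hap, inv_one]⟩ }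
  have hUmem : ∀ u, u ∈ U ↔ u ∈ Subgroup.center (P ⧸ T) ∧ u ^ p = 1 := fun u => Iff.rfl
  have hzU : (z : P ⧸ T) ∈ U := by
    refine ⟨z.2, ?_⟩
    have : z ^ p = 1 := by rw [← hz]; exact pow_orderOf_eq_one z
    have h2 := congrArg (fun w : Subgroup.center (P ⧸ T) => (w : P ⧸ T)) this
    exact h2
  have hz1 : (z : P ⧸ T) ≠ 1 := by
    intro h
    have : z = 1 := Subtype.ext h
    rw [this, orderOf_one] at hz
    exact hp.one_lt.ne hz
  have hUne : U ≠ ⊥ := by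
    intro h
    rw [h, Subgroup.mem_bot] at hzU
    exact hz1 hzU
  -- the induced endomorphisms
  let qm : ∀ k : MulAut P, (∀ x ∈ T, k x ∈ T) → ((P ⧸ T) →* (P ⧸ T)) := fun k hk =>
    QuotientGroup.map T T k.toMonoidHom (fun x hx => hk x hx)
  have hqm : ∀ (k : MulAut P) (hk : ∀ x ∈ T, k x ∈ T) (y : P), qm k hk (y : P ⧸ T) = ((k y : P) : P ⧸ T) :=
    fun k hk y => rfl
  let Kbar : Set ((P ⧸ T) →* (P ⧸ T)) := {f | ∃ k, ∃ hk : k ∈ K, f = qm k (hTK k hk)}
  have hKU : ∀ f ∈ Kbar, ∀ u ∈ U, f u ∈ U := by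
    rintro f ⟨k, hk, rfl⟩ u ⟨huc, hup⟩
    refine ⟨?_, by rw [← map_pow, hup, map_one]⟩
    rw [Subgroup.mem_center_iff]
    intro w
    obtain ⟨w', rfl⟩ := QuotientGroup.mk_surjective w
    have hw : (w' : P ⧸ T) = qm k (hTK k hk) ((k⁻¹ w' : P) : P ⧸ T) := by
      rw [hqm]; simp
    rw [hw, ← map_mul, ← map_mul, Subgroup.mem_center_iff.mp huc]
  have hKc' : ∀ f ∈ Kbar, ∀ g ∈ Kbar, ∀ u ∈ U, f (g u) = g (f u) := by
    rintro f ⟨k, hk, rfl⟩ g ⟨h, hh, rfl⟩ u -
    obtain ⟨y, rfl⟩ := QuotientGroup.mk_surjective u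
    rw [hqm, hqm, hqm, hqm]
    have : k (h y) = h (k y) := by
      have := hKc k hk h hh
      exact DFunLike.congr_fun this y
    rw [this]
  have hKit : ∀ (k : MulAut P) (hk : ∀ x ∈ T, k x ∈ T) (n : ℕ) (y : P),
      ((qm k hk)^[n]) (y : P ⧸ T) = (((k ^ n) y : P) : P ⧸ T) := by
    intro k hk n
    induction n with
    | zero => intro y; simp
    | succ n ih =>
      intro y
      rw [Function.iterate_succ_apply', ih, hqm, pow_succ', MulAut.mul_apply]
  have hKp : ∀ f ∈ Kbar, ∀ u ∈ U, f^[p - 1] u = u := by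
    rintro f ⟨k, hk, rfl⟩ u -
    obtain ⟨y, rfl⟩ := QuotientGroup.mk_surjective u
    rw [hKit, hKe k hk, MulAut.one_apply]
  have hcomm : ∀ u ∈ U, ∀ v ∈ U, u * v = v * u := by
    rintro u ⟨hu, -⟩ v -
    exact (Subgroup.mem_center_iff.mp hu v).symm
  have hexp : ∀ u ∈ U, u ^ p = 1 := fun u hu => hu.2
  obtain ⟨v, hvU, hv1, hv⟩ := exists_common_eigenvector (p := p) Kbar U hUne hcomm hexp hKU hKc' hKp
  obtain ⟨x, rfl⟩ := QuotientGroup.mk_surjective v
  have hxT : x ∉ T := fun h => hv1 ((QuotientGroup.eq_one_iff x).mpr h)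
  have hT' : ∀ y : P, y ∈ T ⊔ Subgroup.zpowers x ↔ (y : P ⧸ T) ∈ Subgroup.zpowers (x : P ⧸ T) := by
    intro y
    constructor
    · intro hy
      have hle : T ⊔ Subgroup.zpowers x ≤ (Subgroup.zpowers (x : P ⧸ T)).comap (QuotientGroup.mk' T) := by
        apply sup_le
        · intro t ht
          rw [Subgroup.mem_comap]
          have : (QuotientGroup.mk' T) t = 1 := (QuotientGroup.eq_one_iff t).mpr ht
          rw [this]
          exact Subgroup.one_mem _
        · rw [Subgroup.zpowers_le, Subgroup.mem_comap]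
          exact Subgroup.mem_zpowers _
      exact hle hy
    · rintro ⟨j, hj⟩
      have h1 : ((x ^ j : P) : P ⧸ T) = (y : P ⧸ T) := by
        rw [QuotientGroup.mk_zpow]; exact hj
      have h2 : (x ^ j)⁻¹ * y ∈ T := QuotientGroup.eq.mp h1
      have e : y = x ^ j * ((x ^ j)⁻¹ * y) := by group
      rw [e]
      exact Subgroup.mul_mem _ (Subgroup.mem_sup_right (Subgroup.zpow_mem_zpowers x j))
        (Subgroup.mem_sup_left h2)
  refine ⟨x, hxT, ⟨fun y hy g => ?_⟩, fun k hk y hy => ?_⟩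
  · rw [hT'] at hy ⊢
    obtain ⟨j, hj⟩ := hy
    have hc : ∀ w : P ⧸ T, w * (x : P ⧸ T) ^ j = (x : P ⧸ T) ^ j * w := by
      intro w
      have := Subgroup.zpow_mem _ hvU.1 j
      exact Subgroup.mem_center_iff.mp this w
    have : ((g * y * g⁻¹ : P) : P ⧸ T) = (y : P ⧸ T) := by
      rw [QuotientGroup.mk_mul, QuotientGroup.mk_mul, QuotientGroup.mk_inv, ← hj, hc, mul_inv_cancel_right]
    rw [this, ← hj]
    exact Subgroup.zpow_mem_zpowers _ j
  · rw [hT'] at hy ⊢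
    obtain ⟨j, hj⟩ := hy
    obtain ⟨a, ha⟩ := hv (qm k (hTK k hk)) ⟨k, hk, rfl⟩
    have : ((k y : P) : P ⧸ T) = ((x : P ⧸ T) ^ a) ^ j := by
      rw [← hqm k (hTK k hk) y, ← hj, map_zpow, ha]
    rw [this]
    exact Subgroup.zpow_mem _ (Subgroup.pow_mem _ (Subgroup.mem_zpowers _) a) j

/-- A finite `p`-group with a commutative group `K` of automorphisms of exponent dividing `p - 1` has a chain of normal
`K`-invariant subgroups from `⊥` to `⊤` with cyclic steps. -/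
theorem exists_cyclic_chain_aux (hP : IsPGroup p P) (K : Subgroup (MulAut P))
    (hKc : ∀ h ∈ K, ∀ k ∈ K, h * k = k * h) (hKe : ∀ k ∈ K, k ^ (p - 1) = 1) :
    ∀ (m : ℕ) (T : Subgroup P), Nat.card P - Nat.card T = m → T.Normal → (∀ k ∈ K, ∀ x ∈ T, k x ∈ T) →
      ∃ (n : ℕ) (d : ℕ → Subgroup P), d 0 = T ∧ d n = ⊤ ∧
        (∀ i, (d i).Normal ∧ ∀ k ∈ K, ∀ x ∈ d i, k x ∈ d i) ∧
        ∀ i, ∃ x, d (i + 1) = d i ⊔ Subgroup.zpowers x := by
  intro m
  induction m using Nat.strong_induction_on with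
  | _ m ih =>
    intro T hm hTn hTK
    by_cases hT : T = ⊤
    · refine ⟨0, fun _ => ⊤, hT.symm, rfl, fun _ => ⟨inferInstance, fun _ _ _ _ => Subgroup.mem_top _⟩,
        fun _ => ⟨1, by simp⟩⟩
    · obtain ⟨x, hxT, hn', hK'⟩ := exists_cyclic_step hP K hKc hKe T hTn hTK hT
      have hlt : Nat.card T < Nat.card (T ⊔ Subgroup.zpowers x : Subgroup P) := by
        have hle : T ≤ T ⊔ Subgroup.zpowers x := le_sup_left
        rcases (Subgroup.card_le_of_le hle).lt_or_eq with h | h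
        · exact h
        · exfalso
          have := Subgroup.eq_of_le_of_card_ge hle h.ge
          apply hxT
          rw [this]
          exact Subgroup.mem_sup_right (Subgroup.mem_zpowers x)
      have hle' : Nat.card (T ⊔ Subgroup.zpowers x : Subgroup P) ≤ Nat.card P := Subgroup.card_le_card_group _
      obtain ⟨n, d, hd0, hdn, hdinv, hdstep⟩ :=
        ih (Nat.card P - Nat.card (T ⊔ Subgroup.zpowers x : Subgroup P)) (by omega) _ rfl hn' hK'
      refine ⟨n + 1, fun i => Nat.casesOn i T d, rfl, hdn, ?_, ?_⟩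
      · intro i
        cases i with
        | zero => exact ⟨hTn, hTK⟩
        | succ i => exact hdinv i
      · intro i
        cases i with
        | zero => exact ⟨x, hd0⟩
        | succ i => exact hdstep i

theorem exists_cyclic_chain (hP : IsPGroup p P) (K : Subgroup (MulAut P))
    (hKc : ∀ h ∈ K, ∀ k ∈ K, h * k = k * h) (hKe : ∀ k ∈ K, k ^ (p - 1) = 1) :
    ∃ (n : ℕ) (d : ℕ → Subgroup P), d 0 = ⊥ ∧ d n = ⊤ ∧
      (∀ i, (d i).Normal ∧ ∀ k ∈ K, ∀ x ∈ d i, k x ∈ d i) ∧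
      ∀ i, ∃ x, d (i + 1) = d i ⊔ Subgroup.zpowers x :=
  exists_cyclic_chain_aux hP K hKc hKe _ ⊥ rfl inferInstance
    (fun k _ x hx => by rw [Subgroup.mem_bot] at hx ⊢; rw [hx, map_one])

end Cfsg.Agent.Lib.Helper91
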