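import Cfsg.Agent.Lib.Helper91.OddAutChain

set_option autoImplicit false

namespace Cfsg.Agent.Lib.Helper91

theorem zmod_two_torsion (A : ℕ) (hA : 1 ≤ A) (t : ZMod (2 ^ A)) (ht : t + t = 0) :
    t = 0 ∨ t = ((2 ^ (A - 1) : ℕ) : ZMod (2 ^ A)) := by
  have : NeZero (2 ^ A) := ⟨by positivity⟩
  have hv := ZMod.val_lt t
  have h2 : (t + t).val = 0 := by rw [ht, ZMod.val_zero]
  rw [ZMod.val_add] at h2
  obtain ⟨q, hq⟩ := Nat.dvd_of_mod_eq_zero h2
  have hq2 : q < 2 := by
    by_contra h
    push Not at h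
    have : 2 ^ A * 2 ≤ 2 ^ A * q := Nat.mul_le_mul_left _ h
    omega
  have hpow : 2 ^ A = 2 * 2 ^ (A - 1) := by
    rw [← pow_succ']
    congr 1
    omega
  interval_cases q
  · left
    have : t.val = 0 := by omega
    exact (ZMod.val_eq_zero t).mp this
  · right
    have : t.val = 2 ^ (A - 1) := by omega
    rw [← this, ZMod.natCast_zmod_val]

theorem zmod_pow_smul_eq_zero (A B : ℕ) (hAB : A ≤ B) (t : ZMod (2 ^ A)) : (2 ^ B : ℕ) • t = 0 := by
  rw [nsmul_eq_mul]
  have : ((2 ^ B : ℕ) : ZMod (2 ^ A)) = 0 := by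
    rw [ZMod.natCast_eq_zero_iff]
    exact pow_dvd_pow 2 hAB
  rw [this, zero_mul]

/-- An automorphism of odd order of a product of cyclic `2`-groups of pairwise different orders is trivial. -/
theorem mulAut_odd_order_trivial {S : Type*} [Group S] (n : ℕ) (a : Fin n → ℕ) (ha : StrictMono a)
    (ha1 : ∀ i, 1 ≤ a i) (e : S ≃* Multiplicative ((i : Fin n) → ZMod (2 ^ a i)))
    (α : MulAut S) (k : ℕ) (hk : Odd k) (hαk : α ^ k = 1) : α = 1 := by
  classical
  have hcomm : ∀ x y : S, x * y = y * x := by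
    intro x y
    apply e.injective
    rw [map_mul, map_mul, mul_comm]
  -- coordinates
  set c : S → (i : Fin n) → ZMod (2 ^ a i) := fun s => Multiplicative.toAdd (e s) with hc
  have c_mul : ∀ s s' : S, c (s * s') = c s + c s' := by
    intro s s'
    simp only [hc, map_mul, toAdd_mul]
  have c_one : c 1 = 0 := by simp only [hc, map_one, toAdd_one]
  have c_inv : ∀ s : S, c s⁻¹ = - c s := by
    intro s
    simp only [hc, map_inv, toAdd_inv]
  have c_pow : ∀ (s : S) (m : ℕ), c (s ^ m) = m • c s := by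
    intro s m
    simp only [hc, map_pow, toAdd_pow]
  have c_inj : ∀ s s' : S, c s = c s' → s = s' := by
    intro s s' h
    apply e.injective
    exact Multiplicative.toAdd.injective h
  have c_surj : ∀ v : (i : Fin n) → ZMod (2 ^ a i), ∃ s : S, c s = v := by
    intro v
    refine ⟨e.symm (Multiplicative.ofAdd v), ?_⟩
    simp only [hc, MulEquiv.apply_symm_apply, toAdd_ofAdd]
  have sq_iff : ∀ s : S, s ^ 2 = 1 ↔ ∀ i, c s i + c s i = 0 := by
    intro s
    constructor
    · intro h i
      have := congrArg c h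
      rw [c_pow, c_one] at this
      have := congrFun this i
      rw [Pi.smul_apply, two_nsmul] at this
      exact this
    · intro h
      apply c_inj
      rw [c_pow, c_one]
      funext i
      rw [Pi.smul_apply, two_nsmul]
      exact h i
  -- the chain
  let W : ℕ → Subgroup S := fun t =>
    { carrier := {s | s ^ 2 = 1 ∧ ∀ i : Fin n, (i : ℕ) < t → c s i = 0}
      one_mem' := ⟨one_pow 2, fun i _ => by rw [c_one]; rfl⟩
      mul_mem' := by
        rintro x y ⟨hx2, hx⟩ ⟨hy2, hy⟩
        refine ⟨?_, fun i hi => ?_⟩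
        · rw [pow_two]
          calc x * y * (x * y) = x * (y * x) * y := by group
            _ = x * (x * y) * y := by rw [hcomm y x]
            _ = x ^ 2 * y ^ 2 := by rw [pow_two, pow_two]; group
            _ = 1 := by rw [hx2, hy2, one_mul]
        · rw [c_mul, Pi.add_apply, hx i hi, hy i hi, add_zero]
      inv_mem' := by
        rintro x ⟨hx2, hx⟩
        refine ⟨by rw [inv_pow, hx2, inv_one], fun i hi => ?_⟩
        rw [c_inv, Pi.neg_apply, hx i hi, neg_zero] }
  have hWmem : ∀ t s, s ∈ W t ↔ s ^ 2 = 1 ∧ ∀ i : Fin n, (i : ℕ) < t → c s i = 0 := fun t s => Iff.rfl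
  have htor : ∀ x : S, x ^ (2 ^ (∑ i, a i)) = 1 := by
    intro x
    apply c_inj
    rw [c_pow, c_one]
    funext i
    rw [Pi.smul_apply]
    exact zmod_pow_smul_eq_zero _ _ (Finset.single_le_sum (fun _ _ => Nat.zero_le _) (Finset.mem_univ i)) _
  apply aut_trivial_of_chain hcomm α k hk hαk (∑ i, a i) htor W
  · intro x hx
    exact ⟨hx, fun i hi => absurd hi (Nat.not_lt_zero _)⟩
  · refine ⟨n, fun x hx => ?_⟩
    apply c_inj
    rw [c_one]
    funext i
    exact hx.2 i i.2
  · intro t x hx
    exact hx.1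
  · -- invariance
    intro t s hs
    refine ⟨by rw [← map_pow, hs.1, map_one], fun i₀ hi₀ => ?_⟩
    have hs2 := (sq_iff s).mp hs.1
    -- s is a 2^(a i₀)-th power
    obtain ⟨y, hy⟩ := c_surj (fun i => if a i ≤ a i₀ then 0 else
      (if c s i = 0 then 0 else ((2 ^ (a i - 1 - a i₀) : ℕ) : ZMod (2 ^ a i))))
    have hsy : s = y ^ (2 ^ a i₀) := by
      apply c_inj
      rw [c_pow, hy]
      funext i
      rw [Pi.smul_apply]
      by_cases hi : a i ≤ a i₀
      · rw [if_pos hi, smul_zero]
        have : i ≤ i₀ := ha.le_iff_le.mp hi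
        exact hs.2 i (lt_of_le_of_lt this hi₀)
      · rw [if_neg hi]
        by_cases h0 : c s i = 0
        · rw [if_pos h0, smul_zero, h0]
        · rw [if_neg h0]
          rcases zmod_two_torsion (a i) (ha1 i) (c s i) (hs2 i) with h | h
          · exact absurd h h0
          · rw [h, nsmul_eq_mul, ← Nat.cast_mul, ← pow_add]
            congr 2
            omega
    rw [hsy, map_pow, c_pow, Pi.smul_apply]
    exact zmod_pow_smul_eq_zero _ _ le_rfl _
  · -- index
    intro t x y hx hy hx1 hy1
    have hxy : x⁻¹ * y ∈ W t := (W t).mul_mem ((W t).inv_mem hx) hy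
    refine ⟨hxy.1, fun i hi => ?_⟩
    rcases Nat.lt_succ_iff_lt_or_eq.mp hi with hlt | heq
    · exact hxy.2 i hlt
    · -- the coordinate t
      have hne : ∀ z ∈ W t, z ∉ W (t + 1) → c z i ≠ 0 := by
        intro z hz hz1 h0
        apply hz1
        refine ⟨hz.1, fun j hj => ?_⟩
        rcases Nat.lt_succ_iff_lt_or_eq.mp hj with hlt | heq'
        · exact hz.2 j hlt
        · have : j = i := Fin.ext (heq'.trans heq.symm)
          rw [this]; exact h0
      have hxi := hne x hx hx1
      have hyi := hne y hy hy1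
      have hx2 := (sq_iff x).mp hx.1 i
      have hy2 := (sq_iff y).mp hy.1 i
      rcases zmod_two_torsion (a i) (ha1 i) (c x i) hx2 with h | h
      · exact absurd h hxi
      · rcases zmod_two_torsion (a i) (ha1 i) (c y i) hy2 with h' | h'
        · exact absurd h' hyi
        · rw [c_mul, c_inv, Pi.add_apply, Pi.neg_apply, h, h', neg_add_cancel]

end Cfsg.Agent.Lib.Helper91
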