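import Mathlib
import Cfsg.Agent.Lib.Helper28.FStar
import Cfsg.Prelude.Def_Transfer

set_option autoImplicit false

/-!
# S5436: a group with an extraspecial involution centralizer of the right kind is simple
-/

namespace Cfsg.Agent.Lib.Helper91

section Inv
variable {G : Type*} [Group G]

theorem eq_one_or_of_mem_zpowers_sq {z x : G} (hzz : z * z = 1) (hx : x ∈ Subgroup.zpowers z) :
    x = 1 ∨ x = z := by
  obtain ⟨k, hk⟩ := Subgroup.mem_zpowers_iff.mp hx
  subst hk
  have h2 : z ^ (2 : ℤ) = 1 := by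
    rw [zpow_ofNat, pow_two]; exact hzz
  rcases Int.even_or_odd' k with ⟨j, hj | hj⟩
  · left
    rw [hj, zpow_mul, h2, one_zpow]
  · right
    rw [hj, zpow_add, zpow_mul, h2, one_zpow, one_mul, zpow_one]

/-- The inversion trick: if `z`, `u` and `u z` are conjugate involutions and `M` is a non-trivial
normal subgroup, then `z` centralizes a non-identity element of `M`. -/
theorem exists_fixed_of_normal [Finite G] {z u : G} (hzz : z * z = 1) (M : Subgroup G)
    [hMn : M.Normal] (hu : IsConj z u) (hv : IsConj z (u * z)) (hM : M ≠ ⊥) :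
    ∃ m ∈ M, m ≠ 1 ∧ z * m = m * z := by
  have hzinv : z⁻¹ = z := by rw [eq_comm, ← mul_eq_one_iff_eq_inv]; exact hzz
  by_contra hcon
  push Not at hcon
  -- z inverts M
  have hinj : Function.Injective (fun m : M => (⟨(m : G)⁻¹ * (z * m * z⁻¹),
      M.mul_mem (M.inv_mem m.2) (hMn.conj_mem _ m.2 z)⟩ : M)) := by
    intro m n hmn
    have h1 : (m : G)⁻¹ * (z * m * z⁻¹) = (n : G)⁻¹ * (z * n * z⁻¹) := congrArg Subtype.val hmn
    have h2 : z * ((n : G) * (m : G)⁻¹) = ((n : G) * (m : G)⁻¹) * z := by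
      have h3 : (n : G) * (m : G)⁻¹ = z * ((n : G) * (m : G)⁻¹) * z⁻¹ := by
        have h4 : z * ((n : G) * (m : G)⁻¹) * z⁻¹ = (z * n * z⁻¹) * (z * m * z⁻¹)⁻¹ := by group
        rw [h4]
        have h5 : (z * m * z⁻¹) = (m : G) * ((n : G)⁻¹ * (z * n * z⁻¹)) := by
          rw [← h1]; group
        rw [h5]; group
      calc z * ((n : G) * (m : G)⁻¹) = z * ((n : G) * (m : G)⁻¹) * z⁻¹ * z := by group
        _ = ((n : G) * (m : G)⁻¹) * z := by rw [← h3]
    have h6 := hcon _ (M.mul_mem n.2 (M.inv_mem m.2))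
    have h7 : (n : G) * (m : G)⁻¹ = 1 := by
      by_contra h8
      exact h6 h8 h2
    apply Subtype.ext
    have : (n : G) = m := by
      calc (n : G) = (n : G) * (m : G)⁻¹ * m := by group
        _ = m := by rw [h7, one_mul]
    exact this.symm
  have hsurj := Finite.surjective_of_injective hinj
  have hinv : ∀ x ∈ M, z * x * z⁻¹ = x⁻¹ := by
    intro x hx
    obtain ⟨m, hm⟩ := hsurj ⟨x, hx⟩
    have h1 : (m : G)⁻¹ * (z * m * z⁻¹) = x := congrArg Subtype.val hm
    rw [← h1, hzinv]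
    have h2 : z * ((m : G)⁻¹ * (z * m * z)) * z = z * (m : G)⁻¹ * z * m * (z * z) := by
      simp only [mul_assoc]
    have h3 : ((m : G)⁻¹ * (z * m * z))⁻¹ = z⁻¹ * (m : G)⁻¹ * z⁻¹ * m := by group
    rw [h2, h3, hzz, mul_one, hzinv]
  -- every conjugate of z inverts M
  have hinv' : ∀ w : G, IsConj z w → ∀ x ∈ M, w * x * w⁻¹ = x⁻¹ := by
    intro w hw x hx
    obtain ⟨g, hg⟩ := isConj_iff.mp hw
    have h1 := hinv (g⁻¹ * x * g) (by
      have := hMn.conj_mem x hx g⁻¹
      rwa [inv_inv] at this)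
    rw [← hg]
    have h2 : g * z * g⁻¹ * x * (g * z * g⁻¹)⁻¹ = g * (z * (g⁻¹ * x * g) * z⁻¹) * g⁻¹ := by group
    rw [h2, h1]; group
  apply hM
  rw [eq_bot_iff]
  intro x hx
  rw [Subgroup.mem_bot]
  have h1 := hinv' u hu x hx
  have h2 := hinv' (u * z) hv x hx
  have h3 := hinv x hx
  -- (u z) x (u z)⁻¹ = u (z x z⁻¹) u⁻¹ = u x⁻¹ u⁻¹ = x
  have h4 : u * z * x * (u * z)⁻¹ = x := by
    have h5 : u * z * x * (u * z)⁻¹ = u * (z * x * z⁻¹) * u⁻¹ := by group
    rw [h5, h3]
    have h6 : u * x⁻¹ * u⁻¹ = (u * x * u⁻¹)⁻¹ := by group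
    rw [h6, h1, inv_inv]
  have h7 : x = x⁻¹ := h4.symm.trans h2
  by_contra hx1
  apply hcon x hx hx1
  have h8 : z * x * z⁻¹ = x := by rw [h3]; exact h7.symm
  calc z * x = z * x * z⁻¹ * z := by group
    _ = x * z := by rw [h8]

end Inv

section Main
variable {G : Type*} [Group G] [Finite G]

open scoped commutatorElement

theorem simple_of_extraspecial_centralizer_aux (z : G) (hz : orderOf z = 2)
    (H : Subgroup G) (hmemH : ∀ x : G, x ∈ H ↔ z * x = x * z)
    (Q : Subgroup H) [hQn : Q.Normal]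
    (hF : Cfsg.generalizedFittingSubgroup ↥H = Q)
    (hQ : Cfsg.IsExtraspecial 2 ↥Q)
    (hnwc : ∃ g : G, (∃ hq : g * z * g⁻¹ ∈ H,
      (⟨g * z * g⁻¹, hq⟩ : H) ∈ Q) ∧ g * z * g⁻¹ ≠ z)
    (hsimp : IsSimpleGroup (↥H ⧸ Q))
    (hirr : ∀ W : Subgroup H, W.Normal → W ≤ Q →
      (W = Q ∨ ∀ x ∈ W, (x : G) ∈ Subgroup.zpowers z))
    (hwcl : Subgroup.closure {x : H | IsConj z (x : G)} ≠ Q) :
    IsSimpleGroup G := by
  haveI : Fact (Nat.Prime 2) := ⟨Nat.prime_two⟩
  have hz1 : z ≠ 1 := by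
    intro h; rw [h, orderOf_one] at hz; omega
  have hzz : z * z = 1 := by
    have := pow_orderOf_eq_one z
    rwa [hz, pow_two] at this
  have hzinv : z⁻¹ = z := by rw [eq_comm, ← mul_eq_one_iff_eq_inv]; exact hzz
  have hzH : z ∈ H := (hmemH z).mpr rfl
  set zH : H := ⟨z, hzH⟩ with hzHdef
  -- C_H(Q) ≤ Q
  have hCQ : Subgroup.centralizer (Q : Set H) ≤ Q := by
    have := Cfsg.Agent.Lib.Helper28.centralizer_genFitting_le (G := H)
    rwa [hF] at this
  have hzcent : ∀ y : H, y * zH = zH * y := by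
    intro y
    apply Subtype.ext
    exact ((hmemH y).mp y.2).symm
  have hzQ : zH ∈ Q := by
    apply hCQ
    rw [Subgroup.mem_centralizer_iff]
    intro y _
    exact hzcent y
  -- the central elements of Q are 1 and z
  have hcenter : ∀ c : H, c ∈ Q → (∀ q ∈ Q, c * q = q * c) → c = 1 ∨ c = zH := by
    intro c hc hcomm
    have hcard := hQ.2
    rw [Nat.card_eq_two_iff' (1 : Subgroup.center ↥Q)] at hcard
    obtain ⟨y, _, hy⟩ := hcard
    have hzc : (⟨zH, hzQ⟩ : ↥Q) ∈ Subgroup.center ↥Q := by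
      rw [Subgroup.mem_center_iff]
      intro q
      apply Subtype.ext
      exact hzcent q.1
    have hcc : (⟨c, hc⟩ : ↥Q) ∈ Subgroup.center ↥Q := by
      rw [Subgroup.mem_center_iff]
      intro q
      apply Subtype.ext
      exact (hcomm q.1 q.2).symm
    by_cases hc1 : c = 1
    · exact Or.inl hc1
    · right
      have h1 : (⟨⟨c, hc⟩, hcc⟩ : Subgroup.center ↥Q) = y := by
        apply hy
        intro h
        apply hc1
        have := congrArg (fun t : Subgroup.center ↥Q => ((t : ↥Q) : H)) h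
        exact this
      have h2 : (⟨⟨zH, hzQ⟩, hzc⟩ : Subgroup.center ↥Q) = y := by
        apply hy
        intro h
        apply hz1
        have := congrArg (fun t : Subgroup.center ↥Q => (((t : ↥Q) : H) : G)) h
        exact this
      have := congrArg (fun t : Subgroup.center ↥Q => ((t : ↥Q) : H)) (h1.trans h2.symm)
      exact this
  -- the non-weakly-closed conjugate u and its Q-conjugate u z
  obtain ⟨g, ⟨hq, huQ⟩, hune⟩ := hnwc
  set u := g * z * g⁻¹ with hu
  have huconj : IsConj z u := isConj_iff.mpr ⟨g, rfl⟩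
  have hu1 : u ≠ 1 := by
    intro h
    apply hz1
    have : z = g⁻¹ * u * g := by rw [hu]; group
    rw [this, h]; group
  have hunz : u ∉ Subgroup.zpowers z := by
    intro h
    rcases eq_one_or_of_mem_zpowers_sq hzz h with h | h
    · exact hu1 h
    · exact hune h
  have hvconj : IsConj z (u * z) := by
    -- u is not central in Q
    have hnc : ¬ ∀ q ∈ Q, (⟨u, hq⟩ : H) * q = q * ⟨u, hq⟩ := by
      intro h
      rcases hcenter ⟨u, hq⟩ huQ h with h' | h'
      · exact hu1 (congrArg Subtype.val h')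
      · exact hune (congrArg Subtype.val h')
    push Not at hnc
    obtain ⟨q, hqQ, hqne⟩ := hnc
    -- the commutator is central in Q
    have hcomm : (⁅(⟨q, hqQ⟩ : ↥Q), ⟨⟨u, hq⟩, huQ⟩⁆ : ↥Q) ∈ Subgroup.center ↥Q := by
      rw [← hQ.1.2.2, commutator_def]
      exact Subgroup.commutator_mem_commutator (Subgroup.mem_top _) (Subgroup.mem_top _)
    have hc1 : ∀ q' ∈ Q, (q * ⟨u, hq⟩ * q⁻¹ * (⟨u, hq⟩ : H)⁻¹) * q' =
        q' * (q * ⟨u, hq⟩ * q⁻¹ * (⟨u, hq⟩ : H)⁻¹) := by
      intro q' hq'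
      have := Subgroup.mem_center_iff.mp hcomm ⟨q', hq'⟩
      have h2 := congrArg (fun t : ↥Q => (t : H)) this
      exact h2.symm
    have hcQ : q * ⟨u, hq⟩ * q⁻¹ * (⟨u, hq⟩ : H)⁻¹ ∈ Q :=
      Q.mul_mem (Q.mul_mem (Q.mul_mem hqQ huQ) (Q.inv_mem hqQ)) (Q.inv_mem huQ)
    rcases hcenter _ hcQ hc1 with h | h
    · exfalso
      apply hqne
      have h3 : q * ⟨u, hq⟩ = (q * ⟨u, hq⟩ * q⁻¹ * (⟨u, hq⟩ : H)⁻¹) * (⟨u, hq⟩ * q) := by group
      rw [h3, h, one_mul]
    · -- q u q⁻¹ = z u = u z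
      have h3 : (q : G) * u * (q : G)⁻¹ * u⁻¹ = z := congrArg Subtype.val h
      have h4 : (q : G) * u * (q : G)⁻¹ = u * z := by
        have h5 : (q : G) * u * (q : G)⁻¹ = ((q : G) * u * (q : G)⁻¹ * u⁻¹) * u := by group
        rw [h5, h3]
        exact (hmemH u).mp hq
      rw [← h4]
      exact huconj.trans (isConj_iff.mpr ⟨(q : G), rfl⟩)
  haveI : Nontrivial G := ⟨⟨z, 1, hz1⟩⟩
  refine ⟨fun M hMn => ?_⟩
  by_cases hMbot : M = ⊥
  · exact Or.inl hMbot
  right
  haveI := hMn
  obtain ⟨m, hmM, hm1, hmz⟩ := exists_fixed_of_normal hzz M huconj hvconj hMbot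
  have hmH : m ∈ H := (hmemH m).mpr hmz
  -- M ∩ H and W = M ∩ Q
  set M' : Subgroup H := M.subgroupOf H with hM'
  haveI hM'n : M'.Normal := Subgroup.Normal.subgroupOf hMn H
  have hmemM' : ∀ x : H, x ∈ M' ↔ (x : G) ∈ M := fun x => Subgroup.mem_subgroupOf
  set W : Subgroup H := M' ⊓ Q with hW
  haveI hWn : W.Normal := Subgroup.normal_inf_normal M' Q
  have hWQ : W ≤ Q := inf_le_right
  -- z ∈ M
  have hzM : z ∈ M := by
    rcases hirr W hWn hWQ with h | h
    · have : zH ∈ W := by rw [h]; exact hzQ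
      exact (hmemM' zH).mp this.1
    · by_contra hzM
      have hWbot : ∀ x ∈ W, x = 1 := by
        intro x hx
        rcases eq_one_or_of_mem_zpowers_sq hzz (h x hx) with h' | h'
        · exact Subtype.ext h'
        · exfalso
          apply hzM
          rw [← h']
          exact (hmemM' x).mp hx.1
      -- m centralizes Q
      have hmc : (⟨m, hmH⟩ : H) ∈ Subgroup.centralizer (Q : Set H) := by
        rw [Subgroup.mem_centralizer_iff]
        intro q hqQ
        have h1 : (⟨m, hmH⟩ : H) * q * (⟨m, hmH⟩ : H)⁻¹ * q⁻¹ ∈ W := by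
          refine ⟨?_, ?_⟩
          · have h2 : (⟨m, hmH⟩ : H) * q * (⟨m, hmH⟩ : H)⁻¹ * q⁻¹ =
                (⟨m, hmH⟩ : H) * (q * (⟨m, hmH⟩ : H)⁻¹ * q⁻¹) := by group
            rw [h2]
            exact M'.mul_mem ((hmemM' _).mpr hmM)
              (hM'n.conj_mem _ (M'.inv_mem ((hmemM' _).mpr hmM)) q)
          · exact Q.mul_mem (hQn.conj_mem q hqQ _) (Q.inv_mem hqQ)
        have h3 := hWbot _ h1
        have h4 : q * ⟨m, hmH⟩ = ((⟨m, hmH⟩ : H) * q * (⟨m, hmH⟩ : H)⁻¹ * q⁻¹)⁻¹ *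
            (⟨m, hmH⟩ * q) := by group
        rw [h4, h3, inv_one, one_mul]
      have h5 : (⟨m, hmH⟩ : H) ∈ W := ⟨(hmemM' _).mpr hmM, hCQ hmc⟩
      exact hm1 (congrArg Subtype.val (hWbot _ h5))
  have huM : u ∈ M := hMn.conj_mem z hzM g
  -- Q ≤ M'
  have hQM : Q ≤ M' := by
    rcases hirr W hWn hWQ with h | h
    · rw [← h]; exact inf_le_left
    · exfalso
      have : (⟨u, hq⟩ : H) ∈ W := ⟨(hmemM' _).mpr huM, huQ⟩
      exact hunz (h _ this)
  -- H ≤ M
  have hHM : H ≤ M := by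
    have hNn : (M'.map (QuotientGroup.mk' Q)).Normal :=
      Subgroup.Normal.map hM'n _ (QuotientGroup.mk'_surjective Q)
    rcases hsimp.eq_bot_or_eq_top_of_normal _ hNn with h | h
    · exfalso
      have hM'Q : M' ≤ Q := by
        have := (Subgroup.map_eq_bot_iff M').mp h
        rwa [QuotientGroup.ker_mk'] at this
      -- the weak closure
      set Wc : Subgroup H := Subgroup.closure {x : H | IsConj z (x : G)} with hWc
      have hWcQ : Wc ≤ Q := by
        rw [hWc, Subgroup.closure_le]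
        intro x hx
        apply hM'Q
        rw [hmemM']
        obtain ⟨k, hk⟩ := isConj_iff.mp hx
        rw [← hk]
        exact hMn.conj_mem z hzM k
      have hWcn : Wc.Normal := by
        constructor
        intro n hn k
        have hle : Wc ≤ Wc.comap (MulAut.conj k).toMonoidHom := by
          rw [hWc, Subgroup.closure_le]
          intro x hx
          rw [SetLike.mem_coe, Subgroup.mem_comap]
          apply Subgroup.subset_closure
          have hx' : IsConj z (x : G) := hx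
          have : IsConj (x : G) ((k : G) * (x : G) * (k : G)⁻¹) := isConj_iff.mpr ⟨(k : G), rfl⟩
          exact hx'.trans this
        have := hle hn
        rw [Subgroup.mem_comap] at this
        exact this
      rcases hirr Wc hWcn hWcQ with h' | h'
      · exact hwcl h'
      · have : (⟨u, hq⟩ : H) ∈ Wc := Subgroup.subset_closure huconj
        exact hunz (h' _ this)
    · intro x hx
      have h1 : (QuotientGroup.mk' Q) ⟨x, hx⟩ ∈ M'.map (QuotientGroup.mk' Q) := by rw [h]; trivial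
      obtain ⟨m', hm', hm'eq⟩ := h1
      have h2 : m'⁻¹ * ⟨x, hx⟩ ∈ Q := by
        rw [← QuotientGroup.eq]
        exact hm'eq
      have h3 : (⟨x, hx⟩ : H) ∈ M' := by
        have : (⟨x, hx⟩ : H) = m' * (m'⁻¹ * ⟨x, hx⟩) := by group
        rw [this]
        exact M'.mul_mem hm' (hQM h2)
      exact (hmemM' _).mp h3
  -- a Sylow 2-subgroup of G containing Q
  have hQp : IsPGroup 2 (Q.map H.subtype) := hQ.1.1.map H.subtype
  obtain ⟨S, hQS⟩ := hQp.exists_le_sylow
  have hzS : z ∈ (S : Subgroup G) := hQS ⟨zH, hzQ, rfl⟩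
  -- central elements of S are 1 or z
  have hcenS : ∀ c ∈ (S : Subgroup G), (∀ s ∈ (S : Subgroup G), c * s = s * c) →
      c = 1 ∨ c = z := by
    intro c hcS hcomm
    have hcH : c ∈ H := (hmemH c).mpr (hcomm z hzS).symm
    have hcc : (⟨c, hcH⟩ : H) ∈ Subgroup.centralizer (Q : Set H) := by
      rw [Subgroup.mem_centralizer_iff]
      intro q hqQ
      apply Subtype.ext
      exact (hcomm q (hQS ⟨q, hqQ, rfl⟩)).symm
    have hcQ := hCQ hcc
    rcases hcenter ⟨c, hcH⟩ hcQ (fun q hqQ => by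
        apply Subtype.ext; exact hcomm q (hQS ⟨q, hqQ, rfl⟩)) with h | h
    · left; exact congrArg Subtype.val h
    · right; exact congrArg Subtype.val h
  -- the centre of S is non-trivial, hence contains z
  haveI : Nontrivial (S : Subgroup G) :=
    ⟨⟨⟨z, hzS⟩, 1, fun h => hz1 (congrArg Subtype.val h)⟩⟩
  have hSp : IsPGroup 2 (S : Subgroup G) := S.isPGroup'
  haveI := hSp.center_nontrivial
  obtain ⟨c, hc1⟩ := exists_ne (1 : Subgroup.center (S : Subgroup G))
  have hccomm : ∀ s ∈ (S : Subgroup G), ((c : (S : Subgroup G)) : G) * s = s * (c : (S : Subgroup G)) := by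
    intro s hs
    have := Subgroup.mem_center_iff.mp c.2 ⟨s, hs⟩
    exact (congrArg Subtype.val this).symm
  have hcz : ((c : (S : Subgroup G)) : G) = z := by
    rcases hcenS _ (c : (S : Subgroup G)).2 hccomm with h | h
    · exfalso
      apply hc1
      apply Subtype.ext
      apply Subtype.ext
      exact h
    · exact h
  have hzS' : ∀ s ∈ (S : Subgroup G), z * s = s * z := by
    intro s hs
    rw [← hcz]; exact hccomm s hs
  have hSH : (S : Subgroup G) ≤ H := fun s hs => (hmemH s).mpr (hzS' s hs)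
  have hNH : Subgroup.normalizer ((S : Subgroup G) : Set G) ≤ H := by
    intro n hn
    rw [Subgroup.mem_normalizer_iff] at hn
    have h1 : n * z * n⁻¹ ∈ (S : Subgroup G) := (hn z).mp hzS
    have h2 : ∀ s ∈ (S : Subgroup G), n * z * n⁻¹ * s = s * (n * z * n⁻¹) := by
      intro s hs
      have h3 : n⁻¹ * s * n ∈ (S : Subgroup G) := by
        rw [hn]
        have : n * (n⁻¹ * s * n) * n⁻¹ = s := by group
        rw [this]; exact hs
      have h4 := hzS' _ h3
      calc n * z * n⁻¹ * s = n * (z * (n⁻¹ * s * n)) * n⁻¹ := by group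
        _ = n * ((n⁻¹ * s * n) * z) * n⁻¹ := by rw [h4]
        _ = s * (n * z * n⁻¹) := by group
    rcases hcenS _ h1 h2 with h | h
    · exfalso
      apply hz1
      have : z = n⁻¹ * (n * z * n⁻¹) * n := by group
      rw [this, h]; group
    · rw [hmemH]
      calc z * n = (n * z * n⁻¹) * n := by rw [h]
        _ = n * z := by group
  have hSM : (S : Subgroup G) ≤ M := hSH.trans hHM
  have hfr := Sylow.normalizer_sup_eq_top' S hSM
  rw [eq_top_iff, ← hfr]
  exact sup_le (hNH.trans hHM) le_rfl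

theorem simple_of_extraspecial_centralizer (z : G) (hz : orderOf z = 2)
    (Q : Subgroup (Subgroup.centralizer ({z} : Set G))) [hQn : Q.Normal]
    (hF : Cfsg.generalizedFittingSubgroup ↥(Subgroup.centralizer ({z} : Set G)) = Q)
    (hQ : Cfsg.IsExtraspecial 2 ↥Q)
    (hnwc : ∃ g : G, (∃ hq : g * z * g⁻¹ ∈ Subgroup.centralizer ({z} : Set G),
      (⟨g * z * g⁻¹, hq⟩ : Subgroup.centralizer ({z} : Set G)) ∈ Q) ∧ g * z * g⁻¹ ≠ z)
    (hsimp : IsSimpleGroup (↥(Subgroup.centralizer ({z} : Set G)) ⧸ Q))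
    (hirr : ∀ W : Subgroup (Subgroup.centralizer ({z} : Set G)), W.Normal → W ≤ Q →
      (W = Q ∨ ∀ x ∈ W, (x : G) ∈ Subgroup.zpowers z))
    (hwcl : Subgroup.closure {x : Subgroup.centralizer ({z} : Set G) | IsConj z (x : G)} ≠ Q) :
    IsSimpleGroup G := by
  refine simple_of_extraspecial_centralizer_aux z hz (Subgroup.centralizer ({z} : Set G)) ?_ Q hF hQ
    hnwc hsimp hirr hwcl
  intro x
  rw [Subgroup.mem_centralizer_iff]
  constructor
  · intro h; exact h z rfl
  · intro h y hy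
    rw [Set.mem_singleton_iff] at hy
    rw [hy]; exact h

end Main

end Cfsg.Agent.Lib.Helper91
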