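import Mathlib
import Cfsg.Agent.Lib.Helper91.ExtraspecialSimple

set_option autoImplicit false

/-!
# S5427: simplicity from an extraspecial involution centralizer generated by conjugates of an
abelian subgroup
-/

namespace Cfsg.Agent.Lib.Helper91

section Inv2
variable {G : Type*} [Group G]

/-- The inversion trick, second form: `u` is a product of conjugates of the involution `z`, and
`u z` is conjugate to `u`. -/
theorem exists_fixed_of_normal' [Finite G] {z u q : G} (hzz : z * z = 1) (M : Subgroup G)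
    [hMn : M.Normal] (hu : u ∈ Subgroup.closure {w : G | IsConj z w})
    (hq : q * u * q⁻¹ = u * z) (hM : M ≠ ⊥) :
    ∃ m ∈ M, m ≠ 1 ∧ z * m = m * z := by
  have hzinv : z⁻¹ = z := by rw [eq_comm, ← mul_eq_one_iff_eq_inv]; exact hzz
  by_contra hcon
  push Not at hcon
  -- z inverts M
  have hinj : Function.Injective (fun m : M => (⟨(m : G)⁻¹ * (z * m * z⁻¹),
      M.mul_mem (M.inv_mem m.2) (hMn.conj_mem _ m.2 z)⟩ : M)) := by
    intro m n hmn
    have h1 : (m : G)⁻¹ * (z * m * z⁻¹) = (n : G)⁻¹ * (z * n * z⁻¹) := congrArg Subtype.val hmn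
    have h2 : z * ((n : G) * (m : G)⁻¹) = ((n : G) * (m : G)⁻¹) * z := by
      have h3 : (n : G) * (m : G)⁻¹ = z * ((n : G) * (m : G)⁻¹) * z⁻¹ := by
        have h4 : z * ((n : G) * (m : G)⁻¹) * z⁻¹ = (z * n * z⁻¹) * (z * m * z⁻¹)⁻¹ := by group
        rw [h4]
        have h5 : (z * m * z⁻¹) = (m : G) * ((n : G)⁻¹ * (z * n * z⁻¹)) := by
          rw [← h1]; group
        rw [h5]; group
      calc z * ((n : G) * (m : G)⁻¹) = z * ((n : G) * (m : G)⁻¹) * z⁻¹ * z := by group
        _ = ((n : G) * (m : G)⁻¹) * z := by rw [← h3]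
    have h6 := hcon _ (M.mul_mem n.2 (M.inv_mem m.2))
    have h7 : (n : G) * (m : G)⁻¹ = 1 := by
      by_contra h8
      exact h6 h8 h2
    apply Subtype.ext
    have : (n : G) = m := by
      calc (n : G) = (n : G) * (m : G)⁻¹ * m := by group
        _ = m := by rw [h7, one_mul]
    exact this.symm
  have hsurj := Finite.surjective_of_injective hinj
  have hinv : ∀ x ∈ M, z * x * z⁻¹ = x⁻¹ := by
    intro x hx
    obtain ⟨m, hm⟩ := hsurj ⟨x, hx⟩
    have h1 : (m : G)⁻¹ * (z * m * z⁻¹) = x := congrArg Subtype.val hm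
    rw [← h1, hzinv]
    have h2 : z * ((m : G)⁻¹ * (z * m * z)) * z = z * (m : G)⁻¹ * z * m * (z * z) := by
      simp only [mul_assoc]
    have h3 : ((m : G)⁻¹ * (z * m * z))⁻¹ = z⁻¹ * (m : G)⁻¹ * z⁻¹ * m := by group
    rw [h2, h3, hzz, mul_one, hzinv]
  -- every conjugate of z inverts M
  have hinv' : ∀ w : G, IsConj z w → ∀ x ∈ M, w * x * w⁻¹ = x⁻¹ := by
    intro w hw x hx
    obtain ⟨g, hg⟩ := isConj_iff.mp hw
    have h1 := hinv (g⁻¹ * x * g) (by
      have := hMn.conj_mem x hx g⁻¹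
      rwa [inv_inv] at this)
    rw [← hg]
    have h2 : g * z * g⁻¹ * x * (g * z * g⁻¹)⁻¹ = g * (z * (g⁻¹ * x * g) * z⁻¹) * g⁻¹ := by group
    rw [h2, h1]; group
  -- u centralizes M or inverts M
  have hsign_all : ∀ w ∈ Subgroup.closure {w : G | IsConj z w},
      (∀ x ∈ M, w * x * w⁻¹ = x) ∨ (∀ x ∈ M, w * x * w⁻¹ = x⁻¹) := by
    intro w hw
    induction hw using Subgroup.closure_induction with
    | mem w hw => exact Or.inr (hinv' w hw)
    | one => left; intro x _; group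
    | mul a b _ _ iha ihb =>
      have hconjb : ∀ x ∈ M, b * x * b⁻¹ ∈ M := fun x hx => hMn.conj_mem x hx b
      rcases iha with ha | ha <;> rcases ihb with hb | hb
      · left; intro x hx
        have : a * b * x * (a * b)⁻¹ = a * (b * x * b⁻¹) * a⁻¹ := by group
        rw [this, hb x hx, ha x hx]
      · right; intro x hx
        have : a * b * x * (a * b)⁻¹ = a * (b * x * b⁻¹) * a⁻¹ := by group
        rw [this, hb x hx, ha _ (M.inv_mem hx)]
      · right; intro x hx
        have : a * b * x * (a * b)⁻¹ = a * (b * x * b⁻¹) * a⁻¹ := by group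
        rw [this, hb x hx, ha x hx]
      · left; intro x hx
        have : a * b * x * (a * b)⁻¹ = a * (b * x * b⁻¹) * a⁻¹ := by group
        rw [this, hb x hx, ha _ (M.inv_mem hx), inv_inv]
    | inv a _ iha =>
      rcases iha with ha | ha
      · left; intro x hx
        have h1 := ha (a⁻¹ * x * a) (by
          have := hMn.conj_mem x hx a⁻¹
          rwa [inv_inv] at this)
        have h2 : a * (a⁻¹ * x * a) * a⁻¹ = x := by group
        rw [h2] at h1
        rw [inv_inv]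
        exact h1.symm
      · right; intro x hx
        have h1 := ha (a⁻¹ * x * a) (by
          have := hMn.conj_mem x hx a⁻¹
          rwa [inv_inv] at this)
        have h2 : a * (a⁻¹ * x * a) * a⁻¹ = x := by group
        rw [h2] at h1
        rw [inv_inv, eq_comm, inv_eq_iff_eq_inv]
        exact h1
  have hsign := hsign_all u hu
  apply hM
  rw [eq_bot_iff]
  intro x hx
  rw [Subgroup.mem_bot]
  have h3 := hinv x hx
  -- x = x⁻¹
  have h7 : x = x⁻¹ := by
    -- the action of u z = q u q⁻¹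
    have hxq : q⁻¹ * x * q ∈ M := by
      have := hMn.conj_mem x hx q⁻¹
      rwa [inv_inv] at this
    have h4 : u * z * x * (u * z)⁻¹ = u * (z * x * z⁻¹) * u⁻¹ := by group
    have h5 : q * u * q⁻¹ * x * (q * u * q⁻¹)⁻¹ = q * (u * (q⁻¹ * x * q) * u⁻¹) * q⁻¹ := by group
    rcases hsign with hs | hs
    · -- u centralizes: u z inverts, q u q⁻¹ centralizes
      have h6 : u * z * x * (u * z)⁻¹ = x⁻¹ := by
        rw [h4, h3, hs _ (M.inv_mem hx)]
      have h8 : q * u * q⁻¹ * x * (q * u * q⁻¹)⁻¹ = x := by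
        rw [h5, hs _ hxq]; group
      rw [hq, h6] at h8
      exact h8.symm
    · have h6 : u * z * x * (u * z)⁻¹ = x := by
        rw [h4, h3, hs _ (M.inv_mem hx), inv_inv]
      have h8 : q * u * q⁻¹ * x * (q * u * q⁻¹)⁻¹ = x⁻¹ := by
        rw [h5, hs _ hxq]; group
      rw [hq, h6] at h8
      exact h8
  by_contra hx1
  apply hcon x hx hx1
  have h8 : z * x * z⁻¹ = x := by rw [h3]; exact h7.symm
  calc z * x = z * x * z⁻¹ * z := by group
    _ = x * z := by rw [h8]

end Inv2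

section Main2
variable {G : Type*} [Group G] [Finite G]

open scoped commutatorElement

/-- the central elements of an extraspecial `Q ≤ G` containing the involution `z` centrally -/
theorem central_eq_of_extraspecial {Q : Subgroup G} (hQ : Cfsg.IsExtraspecial 2 ↥Q) {z : G}
    (hz1 : z ≠ 1) (hzQ : z ∈ Q) (hzc : ∀ q ∈ Q, z * q = q * z) {c : G} (hc : c ∈ Q)
    (hcomm : ∀ q ∈ Q, c * q = q * c) : c = 1 ∨ c = z := by
  have hcard := hQ.2
  rw [Nat.card_eq_two_iff' (1 : Subgroup.center ↥Q)] at hcard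
  obtain ⟨y, _, hy⟩ := hcard
  have hzc' : (⟨z, hzQ⟩ : ↥Q) ∈ Subgroup.center ↥Q := by
    rw [Subgroup.mem_center_iff]
    intro q
    apply Subtype.ext
    exact (hzc q.1 q.2).symm
  have hcc : (⟨c, hc⟩ : ↥Q) ∈ Subgroup.center ↥Q := by
    rw [Subgroup.mem_center_iff]
    intro q
    apply Subtype.ext
    exact (hcomm q.1 q.2).symm
  by_cases hc1 : c = 1
  · exact Or.inl hc1
  · right
    have h1 : (⟨⟨c, hc⟩, hcc⟩ : Subgroup.center ↥Q) = y := by
      apply hy
      intro h
      apply hc1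
      have := congrArg (fun t : Subgroup.center ↥Q => ((t : ↥Q) : G)) h
      exact this
    have h2 : (⟨⟨z, hzQ⟩, hzc'⟩ : Subgroup.center ↥Q) = y := by
      apply hy
      intro h
      apply hz1
      have := congrArg (fun t : Subgroup.center ↥Q => ((t : ↥Q) : G)) h
      exact this
    have := congrArg (fun t : Subgroup.center ↥Q => ((t : ↥Q) : G)) (h1.trans h2.symm)
    exact this

/-- commutators of an extraspecial `Q ≤ G` are `1` or `z` -/
theorem comm_eq_of_extraspecial {Q : Subgroup G} (hQ : Cfsg.IsExtraspecial 2 ↥Q) {z : G}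
    (hz1 : z ≠ 1) (hzQ : z ∈ Q) (hzc : ∀ q ∈ Q, z * q = q * z) {a b : G} (ha : a ∈ Q)
    (hb : b ∈ Q) : a * b * a⁻¹ * b⁻¹ = 1 ∨ a * b * a⁻¹ * b⁻¹ = z := by
  have hcomm : (⁅(⟨a, ha⟩ : ↥Q), ⟨b, hb⟩⁆ : ↥Q) ∈ Subgroup.center ↥Q := by
    rw [← hQ.1.2.2, commutator_def]
    exact Subgroup.commutator_mem_commutator (Subgroup.mem_top _) (Subgroup.mem_top _)
  apply central_eq_of_extraspecial hQ hz1 hzQ hzc
    (Q.mul_mem (Q.mul_mem (Q.mul_mem ha hb) (Q.inv_mem ha)) (Q.inv_mem hb))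
  intro q' hq'
  have := Subgroup.mem_center_iff.mp hcomm ⟨q', hq'⟩
  have h2 := congrArg (fun t : ↥Q => (t : G)) this
  exact h2.symm

theorem simple_of_extraspecial_generation (z : G) (hz : orderOf z = 2)
    (H : Subgroup G) (hmemH : ∀ x : G, x ∈ H ↔ z * x = x * z)
    (Q : Subgroup G) (hQH : Q ≤ H) (hQn : ∀ h ∈ H, ∀ q ∈ Q, h * q * h⁻¹ ∈ Q)
    (hCQ : ∀ c ∈ H, (∀ q ∈ Q, c * q = q * c) → c ∈ Q)
    (hQ : Cfsg.IsExtraspecial 2 ↥Q)
    (u : G) (huQ : u ∈ Q) (hunz : u ∉ Subgroup.zpowers z)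
    (huU : u ∈ Subgroup.closure {w : G | IsConj z w})
    (hgenM : ∀ M : Subgroup G, M.Normal → z ∈ M → H ≤ M) :
    IsSimpleGroup G := by
  haveI : Fact (Nat.Prime 2) := ⟨Nat.prime_two⟩
  have hz1 : z ≠ 1 := by
    intro h; rw [h, orderOf_one] at hz; omega
  have hzz : z * z = 1 := by
    have := pow_orderOf_eq_one z
    rwa [hz, pow_two] at this
  have hzH : z ∈ H := (hmemH z).mpr rfl
  have hzc : ∀ q ∈ Q, z * q = q * z := fun q hq => (hmemH q).mp (hQH hq)
  have hzQ : z ∈ Q := hCQ z hzH hzc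
  have hcenter : ∀ c ∈ Q, (∀ q ∈ Q, c * q = q * c) → c = 1 ∨ c = z :=
    fun c hc hcomm => central_eq_of_extraspecial hQ hz1 hzQ hzc hc hcomm
  have hu1 : u ≠ 1 := fun h => hunz (h ▸ Subgroup.one_mem _)
  have huz : u ≠ z := fun h => hunz (h ▸ Subgroup.mem_zpowers z)
  -- u z is Q-conjugate to u
  have hq : ∃ q ∈ Q, q * u * q⁻¹ = u * z := by
    have hnc : ¬ ∀ q ∈ Q, u * q = q * u := by
      intro h
      rcases hcenter u huQ h with h' | h'
      · exact hu1 h'
      · exact huz h'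
    push Not at hnc
    obtain ⟨q, hqQ, hqne⟩ := hnc
    refine ⟨q, hqQ, ?_⟩
    rcases comm_eq_of_extraspecial hQ hz1 hzQ hzc hqQ huQ with h | h
    · exfalso
      apply hqne
      have h3 : q * u = (q * u * q⁻¹ * u⁻¹) * (u * q) := by group
      rw [h3, h, one_mul]
    · have h5 : q * u * q⁻¹ = (q * u * q⁻¹ * u⁻¹) * u := by group
      rw [h5, h]
      exact hzc u huQ
  obtain ⟨q, hqQ, hqu⟩ := hq
  haveI : Nontrivial G := ⟨⟨z, 1, hz1⟩⟩
  refine ⟨fun M hMn => ?_⟩
  by_cases hMbot : M = ⊥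
  · exact Or.inl hMbot
  right
  haveI := hMn
  obtain ⟨m, hmM, hm1, hmz⟩ := exists_fixed_of_normal' hzz M huU hqu hMbot
  have hmH : m ∈ H := (hmemH m).mpr hmz
  -- M ∩ Q ≠ 1
  have hMQ : ∃ n ∈ M, n ∈ Q ∧ n ≠ 1 := by
    by_contra hcon
    push Not at hcon
    have hmc : ∀ q' ∈ Q, m * q' = q' * m := by
      intro q' hq'
      have h1 : m * q' * m⁻¹ * q'⁻¹ ∈ M := by
        have h2 : m * q' * m⁻¹ * q'⁻¹ = m * (q' * m⁻¹ * q'⁻¹) := by group
        rw [h2]
        exact M.mul_mem hmM (hMn.conj_mem _ (M.inv_mem hmM) q')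
      have h3 : m * q' * m⁻¹ * q'⁻¹ ∈ Q := Q.mul_mem (hQn m hmH q' hq') (Q.inv_mem hq')
      have h4 := hcon _ h1 h3
      have h5 : m * q' = (m * q' * m⁻¹ * q'⁻¹) * (q' * m) := by group
      rw [h5, h4, one_mul]
    exact hm1 (hcon m hmM (hCQ m hmH hmc))
  -- z ∈ M
  have hzM : z ∈ M := by
    obtain ⟨n, hnM, hnQ, hn1⟩ := hMQ
    by_cases hnc : ∀ q' ∈ Q, n * q' = q' * n
    · rcases hcenter n hnQ hnc with h | h
      · exact absurd h hn1
      · rw [← h]; exact hnM
    · push Not at hnc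
      obtain ⟨q', hq'Q, hq'ne⟩ := hnc
      rcases comm_eq_of_extraspecial hQ hz1 hzQ hzc hq'Q hnQ with h | h
      · exfalso
        apply hq'ne
        have h3 : q' * n = (q' * n * q'⁻¹ * n⁻¹) * (n * q') := by group
        rw [eq_comm, h3, h, one_mul]
      · rw [← h]
        exact M.mul_mem (hMn.conj_mem n hnM q') (M.inv_mem hnM)
  have hHM : H ≤ M := hgenM M hMn hzM
  -- a Sylow 2-subgroup of G containing Q
  have hQp : IsPGroup 2 Q := hQ.1.1
  obtain ⟨S, hQS⟩ := hQp.exists_le_sylow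
  have hzS : z ∈ (S : Subgroup G) := hQS hzQ
  have hcenS : ∀ c ∈ (S : Subgroup G), (∀ s ∈ (S : Subgroup G), c * s = s * c) →
      c = 1 ∨ c = z := by
    intro c hcS hcomm
    have hcH : c ∈ H := (hmemH c).mpr (hcomm z hzS).symm
    have hcQ' : ∀ q' ∈ Q, c * q' = q' * c := fun q' hq' => hcomm q' (hQS hq')
    exact hcenter c (hCQ c hcH hcQ') hcQ'
  haveI : Nontrivial (S : Subgroup G) :=
    ⟨⟨⟨z, hzS⟩, 1, fun h => hz1 (congrArg Subtype.val h)⟩⟩
  have hSp : IsPGroup 2 (S : Subgroup G) := S.isPGroup'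
  haveI := hSp.center_nontrivial
  obtain ⟨c, hc1⟩ := exists_ne (1 : Subgroup.center (S : Subgroup G))
  have hccomm : ∀ s ∈ (S : Subgroup G),
      ((c : (S : Subgroup G)) : G) * s = s * (c : (S : Subgroup G)) := by
    intro s hs
    have := Subgroup.mem_center_iff.mp c.2 ⟨s, hs⟩
    exact (congrArg Subtype.val this).symm
  have hcz : ((c : (S : Subgroup G)) : G) = z := by
    rcases hcenS _ (c : (S : Subgroup G)).2 hccomm with h | h
    · exfalso
      apply hc1
      apply Subtype.ext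
      apply Subtype.ext
      exact h
    · exact h
  have hzS' : ∀ s ∈ (S : Subgroup G), z * s = s * z := by
    intro s hs
    rw [← hcz]; exact hccomm s hs
  have hSH : (S : Subgroup G) ≤ H := fun s hs => (hmemH s).mpr (hzS' s hs)
  have hNH : Subgroup.normalizer ((S : Subgroup G) : Set G) ≤ H := by
    intro n hn
    rw [Subgroup.mem_normalizer_iff] at hn
    have h1 : n * z * n⁻¹ ∈ (S : Subgroup G) := (hn z).mp hzS
    have h2 : ∀ s ∈ (S : Subgroup G), n * z * n⁻¹ * s = s * (n * z * n⁻¹) := by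
      intro s hs
      have h3 : n⁻¹ * s * n ∈ (S : Subgroup G) := by
        rw [hn]
        have : n * (n⁻¹ * s * n) * n⁻¹ = s := by group
        rw [this]; exact hs
      have h4 := hzS' _ h3
      calc n * z * n⁻¹ * s = n * (z * (n⁻¹ * s * n)) * n⁻¹ := by group
        _ = n * ((n⁻¹ * s * n) * z) * n⁻¹ := by rw [h4]
        _ = s * (n * z * n⁻¹) := by group
    rcases hcenS _ h1 h2 with h | h
    · exfalso
      apply hz1
      have : z = n⁻¹ * (n * z * n⁻¹) * n := by group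
      rw [this, h]; group
    · rw [hmemH]
      calc z * n = (n * z * n⁻¹) * n := by rw [h]
        _ = n * z := by group
  have hSM : (S : Subgroup G) ≤ M := hSH.trans hHM
  have hfr := Sylow.normalizer_sup_eq_top' S hSM
  rw [eq_top_iff, ← hfr]
  exact sup_le (hNH.trans hHM) le_rfl

end Main2

end Cfsg.Agent.Lib.Helper91
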