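import Mathlib
import Cfsg.Agent.Lib.Helper91.ExtraspecialGen
import Cfsg.Agent.Lib.Helper92.ExtraSub

set_option autoImplicit false

/-!
# Elementwise calculus in an extraspecial 2-subgroup

`XS Q z`: `Q ≤ G` is "extraspecial-like" with centre `{1, z}`: any two members commute or
anticommute (`a b = z b a`), squares are `1` or `z`, and the central members are `1`, `z`.
-/

namespace Cfsg.Agent.Lib.Helper91

section XSdef
variable {G : Type*} [Group G]

structure XS (Q : Subgroup G) (z : G) : Prop where
  zQ : z ∈ Q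
  z1 : z ≠ 1
  zz : z * z = 1
  zc : ∀ q ∈ Q, z * q = q * z
  comm : ∀ a ∈ Q, ∀ b ∈ Q, a * b = b * a ∨ a * b = z * (b * a)
  sq : ∀ a ∈ Q, a * a = 1 ∨ a * a = z
  cen : ∀ c ∈ Q, (∀ q ∈ Q, c * q = q * c) → c = 1 ∨ c = z

theorem XS.of_isExtraspecial [Finite G] {Q : Subgroup G} (hQ : Cfsg.IsExtraspecial 2 ↥Q) {z : G}
    (hz1 : z ≠ 1) (hzQ : z ∈ Q) (hzc : ∀ q ∈ Q, z * q = q * z) : XS Q z := by
  have hcen : ∀ c ∈ Q, (∀ q ∈ Q, c * q = q * c) → c = 1 ∨ c = z :=
    fun c hc hcomm => central_eq_of_extraspecial hQ hz1 hzQ hzc hc hcomm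
  have hZ : ∀ x ∈ (Subgroup.center ↥Q).map Q.subtype, x = 1 ∨ x = z := by
    intro x hx
    rw [Cfsg.Agent.Lib.Helper92.mem_map_subtype_center_iff] at hx
    exact hcen x hx.1 (fun q hq => (hx.2 q hq).symm)
  have hzz : z * z = 1 := by
    rcases hZ _ (Cfsg.Agent.Lib.Helper92.sq_mem_centerMap hQ hzQ) with h | h
    · exact h
    · exfalso; apply hz1
      calc z = z⁻¹ * (z * z) := by group
        _ = z⁻¹ * z := by rw [h]
        _ = 1 := by group
  refine ⟨hzQ, hz1, hzz, hzc, ?_, ?_, hcen⟩
  · intro a ha b hb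
    rcases comm_eq_of_extraspecial hQ hz1 hzQ hzc ha hb with h | h
    · left
      calc a * b = (a * b * a⁻¹ * b⁻¹) * (b * a) := by group
        _ = b * a := by rw [h, one_mul]
    · right
      calc a * b = (a * b * a⁻¹ * b⁻¹) * (b * a) := by group
        _ = z * (b * a) := by rw [h]
  · intro a ha
    exact hZ _ (Cfsg.Agent.Lib.Helper92.sq_mem_centerMap hQ ha)

variable {Q : Subgroup G} {z : G}

theorem XS.zinv (h : XS Q z) : z⁻¹ = z := by
  rw [eq_comm, ← mul_eq_one_iff_eq_inv]; exact h.zz

/-- commuting and anticommuting exclude each other -/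
theorem XS.not_both (h : XS Q z) {a b : G} (h1 : a * b = b * a) (h2 : a * b = z * (b * a)) :
    False := by
  apply h.z1
  have : z * (b * a) = 1 * (b * a) := by rw [one_mul, ← h2, h1]
  exact mul_right_cancel this

theorem XS.anti_symm (h : XS Q z) {a b : G} (ha : a ∈ Q) (hb : b ∈ Q)
    (h2 : a * b = z * (b * a)) : b * a = z * (a * b) := by
  rw [h2, ← mul_assoc, h.zz, one_mul]

/-- anticommuting with two elements means commuting with the product -/
theorem XS.anti_mul (h : XS Q z) {a q q' : G} (ha : a ∈ Q) (hq : q ∈ Q) (hq' : q' ∈ Q)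
    (h1 : a * q = z * (q * a)) (h2 : a * q' = z * (q' * a)) : a * (q * q') = (q * q') * a := by
  calc a * (q * q') = (a * q) * q' := by group
    _ = z * (q * a) * q' := by rw [h1]
    _ = z * q * (a * q') := by group
    _ = z * q * (z * (q' * a)) := by rw [h2]
    _ = (z * q) * z * (q' * a) := by group
    _ = (q * z) * z * (q' * a) := by rw [h.zc q hq]
    _ = q * (z * z) * (q' * a) := by group
    _ = (q * q') * a := by rw [h.zz]; group

/-- commuting with one and anticommuting with the other means anticommuting with the product -/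
theorem XS.comm_anti_mul (h : XS Q z) {a q q' : G} (hq : q ∈ Q)
    (h1 : a * q = q * a) (h2 : a * q' = z * (q' * a)) : a * (q * q') = z * ((q * q') * a) := by
  calc a * (q * q') = (a * q) * q' := by group
    _ = (q * a) * q' := by rw [h1]
    _ = q * (a * q') := by group
    _ = q * (z * (q' * a)) := by rw [h2]
    _ = (q * z) * (q' * a) := by group
    _ = (z * q) * (q' * a) := by rw [h.zc q hq]
    _ = z * ((q * q') * a) := by group

/-- If `b` commutes with everything in `Q` commuting with `a`, then `b` or `a b` is central. -/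
theorem XS.mem_of_centralizes (h : XS Q z) {a b : G} (ha : a ∈ Q) (hb : b ∈ Q)
    (hab : ∀ q ∈ Q, q * a = a * q → q * b = b * q) :
    (b = 1 ∨ b = z) ∨ (a * b = 1 ∨ a * b = z) := by
  by_cases hbc : ∀ q ∈ Q, b * q = q * b
  · exact Or.inl (h.cen b hb hbc)
  · right
    push Not at hbc
    obtain ⟨q0, hq0, hbq0⟩ := hbc
    have hb0 : b * q0 = z * (q0 * b) := by
      rcases h.comm b hb q0 hq0 with h' | h'
      · exact absurd h' hbq0
      · exact h'
    have ha0 : a * q0 = z * (q0 * a) := by
      rcases h.comm a ha q0 hq0 with h' | h'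
      · exfalso
        exact hbq0 (hab q0 hq0 h'.symm).symm
      · exact h'
    apply h.cen _ (Q.mul_mem ha hb)
    intro q hq
    rcases h.comm a ha q hq with h1 | h1
    · have h2 : b * q = q * b := (hab q hq h1.symm).symm
      calc a * b * q = a * (b * q) := by group
        _ = a * (q * b) := by rw [h2]
        _ = (a * q) * b := by group
        _ = (q * a) * b := by rw [h1]
        _ = q * (a * b) := by group
    · -- a commutes with q q0, so b does, so b anticommutes with q
      have h3 : a * (q * q0) = (q * q0) * a := h.anti_mul ha hq hq0 h1 ha0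
      have h4 : b * (q * q0) = (q * q0) * b := (hab _ (Q.mul_mem hq hq0) h3.symm).symm
      have h5 : b * q = z * (q * b) := by
        rcases h.comm b hb q hq with h' | h'
        · exfalso
          exact h.not_both h4 (h.comm_anti_mul hq h' hb0)
        · exact h'
      calc a * b * q = a * (b * q) := by group
        _ = a * (z * (q * b)) := by rw [h5]
        _ = (a * z) * (q * b) := by group
        _ = (z * a) * (q * b) := by rw [h.zc a ha]
        _ = z * (a * q) * b := by group
        _ = z * (z * (q * a)) * b := by rw [h1]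
        _ = (z * z) * (q * a) * b := by group
        _ = q * (a * b) := by rw [h.zz]; group

/-- a member of `Q` commuting with `a` and conjugating `b` to `b z` -/
theorem XS.exists_comm_conj (h : XS Q z) {a b : G} (ha : a ∈ Q) (hb : b ∈ Q)
    (hb1 : b ≠ 1) (hbz : b ≠ z) (hab1 : a * b ≠ 1) (habz : a * b ≠ z) :
    ∃ q ∈ Q, q * a = a * q ∧ q * b * q⁻¹ = b * z := by
  by_contra hcon
  push Not at hcon
  have := h.mem_of_centralizes ha hb (by
    intro q hq hqa
    rcases h.comm q hq b hb with h' | h'
    · exact h'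
    · exfalso
      apply hcon q hq hqa
      calc q * b * q⁻¹ = (q * b) * q⁻¹ := by group
        _ = z * (b * q) * q⁻¹ := by rw [h']
        _ = z * b := by group
        _ = b * z := h.zc b hb)
  rcases this with (h' | h') | (h' | h')
  · exact hb1 h'
  · exact hbz h'
  · exact hab1 h'
  · exact habz h'

/-- a noncentral member anticommutes with some member -/
theorem XS.exists_anti (h : XS Q z) {a : G} (ha : a ∈ Q) (ha1 : a ≠ 1) (haz : a ≠ z) :
    ∃ s ∈ Q, a * s = z * (s * a) := by
  by_contra hcon
  push Not at hcon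
  rcases h.cen a ha (fun q hq => by
    rcases h.comm a ha q hq with h' | h'
    · exact h'
    · exact absurd h' (hcon q hq)) with h' | h'
  · exact ha1 h'
  · exact haz h'

end XSdef

section XScard
variable {G : Type*} [Group G] {Q : Subgroup G} {z : G}

/-- the centralizer of a noncentral member has index 2 -/
theorem XS.card_centralizer (h : XS Q z) [Finite Q] {a : G} (ha : a ∈ Q) (ha1 : a ≠ 1)
    (haz : a ≠ z) :
    Nat.card ↥(Q ⊓ Subgroup.centralizer ({a} : Set G)) * 2 = Nat.card ↥Q := by
  obtain ⟨s, hs, has⟩ := h.exists_anti ha ha1 haz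
  set P := Q ⊓ Subgroup.centralizer ({a} : Set G) with hP
  have hmemP : ∀ x : G, x ∈ P ↔ x ∈ Q ∧ a * x = x * a := by
    intro x
    rw [hP, Subgroup.mem_inf, Subgroup.mem_centralizer_iff]
    constructor
    · rintro ⟨h1, h2⟩; exact ⟨h1, h2 a rfl⟩
    · rintro ⟨h1, h2⟩
      refine ⟨h1, ?_⟩
      intro y hy
      rw [Set.mem_singleton_iff] at hy
      rw [hy]; exact h2
  have hidx : (P.subgroupOf Q).index = 2 := by
    rw [Subgroup.index_eq_two_iff]
    refine ⟨⟨s, hs⟩, ?_⟩
    intro b
    have hbQ := b.2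
    rcases h.comm a ha b hbQ with h1 | h1
    · -- b ∈ P, b s ∉ P
      refine Or.inr ⟨?_, ?_⟩
      · rw [Subgroup.mem_subgroupOf]; exact (hmemP _).mpr ⟨hbQ, h1⟩
      · rw [Subgroup.mem_subgroupOf]
        intro h2
        have h3 := ((hmemP _).mp h2).2
        exact h.not_both h3 (h.comm_anti_mul hbQ h1 has)
    · refine Or.inl ⟨?_, ?_⟩
      · rw [Subgroup.mem_subgroupOf]
        exact (hmemP _).mpr ⟨Q.mul_mem hbQ hs, h.anti_mul ha hbQ hs h1 has⟩
      · rw [Subgroup.mem_subgroupOf]
        intro h2
        exact h.not_both ((hmemP _).mp h2).2 h1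
  have h1 := (P.subgroupOf Q).card_mul_index
  rw [hidx] at h1
  have h2 : Nat.card ↥(P.subgroupOf Q) = Nat.card ↥P := by
    have hle : P ≤ Q := inf_le_left
    exact Nat.card_congr (Subgroup.subgroupOfEquivOfLe hle).toEquiv
  rw [h2] at h1
  exact h1

end XScard

end Cfsg.Agent.Lib.Helper91
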