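import Cfsg.Agent.Lib.Helper91.FischerSpace

set_option autoImplicit false

namespace Cfsg.Agent.Lib.Helper91.Fischer

open Cfsg Cfsg.LineSystem

/-! ### The dual affine plane of order two -/

/-- The explicit map `t(s)` of the dual affine plane. -/
def dapThird (s s' : DualAffinePoint) : DualAffinePoint :=
  if h : (symmDiff s.val s'.val).card = 2 then ⟨symmDiff s.val s'.val, h⟩ else s'

set_option maxRecDepth 100000 in
theorem dap_pl : ∀ (i j : Fin 4) (s s' : DualAffinePoint), s ≠ s' → i ∉ s.val → i ∉ s'.val →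
    j ∉ s.val → j ∉ s'.val → i = j := by
  decide

set_option maxRecDepth 100000 in
theorem dap_p1 : ∀ s s' : DualAffinePoint, (symmDiff s.val s'.val).card = 2 →
    (dapThird s s' ≠ s ∧ dapThird s s' ≠ s' ∧ s ≠ s' ∧
      ∃ i : Fin 4, ∀ u : DualAffinePoint, (u = s ∨ u = s' ∨ u = dapThird s s') ↔ i ∉ u.val) := by
  decide

set_option maxRecDepth 100000 in
theorem dap_p2 : ∀ (s s' : DualAffinePoint) (i : Fin 4), s ≠ s' → i ∉ s.val → i ∉ s'.val →
    (symmDiff s.val s'.val).card = 2 := by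
  decide

set_option maxRecDepth 100000 in
theorem dap_p3 : ∀ (s : DualAffinePoint) (i : Fin 4), ∃ j : Fin 4, ∀ u : DualAffinePoint,
    (∃ v : DualAffinePoint, i ∉ v.val ∧ dapThird s v = u) ↔ j ∉ u.val := by
  decide

theorem dap_isPartialLinear : IsPartialLinear dualAffinePlaneTwo := by
  rintro l ⟨i, rfl⟩ m ⟨j, rfl⟩ s s' hne hs hs' hs2 hs2'
  rw [dap_pl i j s s' hne hs hs' hs2 hs2']

theorem dap_lineMap (s s' : DualAffinePoint) : lineMap dualAffinePlaneTwo s s' = dapThird s s' := by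
  by_cases h : (symmDiff s.val s'.val).card = 2
  · obtain ⟨h1, h2, h3, i, hi⟩ := dap_p1 s s' h
    apply lineMap_eq dap_isPartialLinear
    refine ⟨h1, h2, h3, i, ?_⟩
    ext u
    simp only [Set.mem_insert_iff, Set.mem_singleton_iff]
    exact hi u
  · have e : dapThird s s' = s' := by
      unfold dapThird; rw [dif_neg h]
    rw [e]
    apply lineMap_of_not
    rintro ⟨z, -, -, hne, i, hi⟩
    apply h
    have hs : s ∈ ({s, s', z} : Set DualAffinePoint) := by simp
    have hs' : s' ∈ ({s, s', z} : Set DualAffinePoint) := by simp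
    rw [hi] at hs hs'
    exact dap_p2 s s' i hne hs hs'

theorem dap_preservesLines : PreservesLines dualAffinePlaneTwo := by
  rintro s l ⟨i, rfl⟩
  obtain ⟨j, hj⟩ := dap_p3 s i
  refine ⟨j, ?_⟩
  ext u
  refine Iff.trans ?_ (hj u)
  constructor
  · rintro ⟨v, hv, rfl⟩
    exact ⟨v, hv, (dap_lineMap s v).symm⟩
  · rintro ⟨v, hv, rfl⟩
    exact ⟨v, hv, dap_lineMap s v⟩

/-! ### The affine plane of order three -/

/-- The line through `v` in direction `w`. -/
def affLine (v w : Fin 2 → ZMod 3) : Set (Fin 2 → ZMod 3) := {x | ∃ c : ZMod 3, x = v + c • w}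

theorem mem_affinePlaneThree {l : Set (Fin 2 → ZMod 3)} :
    l ∈ affinePlaneThree ↔ ∃ v w : Fin 2 → ZMod 3, w ≠ 0 ∧ l = affLine v w := Iff.rfl

set_option maxRecDepth 100000 in
theorem aff_a0 : ∀ x : Fin 2 → ZMod 3, -x - x = x := by decide

set_option maxRecDepth 100000 in
theorem aff_a1 : ∀ x y : Fin 2 → ZMod 3, x ≠ y → (-x - y ≠ x ∧ -x - y ≠ y) := by
  decide

set_option maxRecDepth 100000 in
theorem aff_a2 : ∀ x y u : Fin 2 → ZMod 3, x ≠ y →
    ((u = x ∨ u = y ∨ u = -x - y) ↔ ∃ c : ZMod 3, u = x + c • (y - x)) := by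
  decide

/-- A line is determined by any two of its points. -/
theorem affLine_eq_of_mem {v w x y : Fin 2 → ZMod 3} (hx : x ∈ affLine v w) (hy : y ∈ affLine v w)
    (hxy : x ≠ y) : affLine v w = affLine x (y - x) := by
  obtain ⟨c₁, rfl⟩ := hx
  obtain ⟨c₂, rfl⟩ := hy
  have hc : c₂ - c₁ ≠ 0 := by
    intro h
    apply hxy
    rw [sub_eq_zero] at h
    rw [h]
  have hd : v + c₂ • w - (v + c₁ • w) = (c₂ - c₁) • w := by
    rw [sub_smul]; abel
  rw [hd]
  ext u
  constructor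
  · rintro ⟨c, rfl⟩
    refine ⟨(c - c₁) * (c₂ - c₁)⁻¹, ?_⟩
    rw [smul_smul, inv_mul_cancel_right₀ hc, sub_smul]
    abel
  · rintro ⟨c, rfl⟩
    refine ⟨c₁ + c * (c₂ - c₁), ?_⟩
    rw [smul_smul, add_smul, add_assoc]

theorem aff_isPartialLinear : IsPartialLinear affinePlaneThree := by
  rintro l ⟨v, w, -, rfl⟩ m ⟨v', w', -, rfl⟩ x y hne hx hy hx' hy'
  exact (affLine_eq_of_mem hx hy hne).trans (affLine_eq_of_mem hx' hy' hne).symm

theorem aff_third {x y : Fin 2 → ZMod 3} (hxy : x ≠ y) : Third affinePlaneThree x y (-x - y) := by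
  obtain ⟨h1, h2⟩ := aff_a1 x y hxy
  refine ⟨h1, h2, hxy, x, y - x, fun h => hxy (sub_eq_zero.mp h).symm, ?_⟩
  ext u
  simp only [Set.mem_insert_iff, Set.mem_singleton_iff]
  exact aff_a2 x y u hxy

theorem aff_lineMap (x y : Fin 2 → ZMod 3) : lineMap affinePlaneThree x y = -x - y := by
  by_cases hxy : x = y
  · subst hxy
    rw [lineMap_self, aff_a0]
  · exact lineMap_eq aff_isPartialLinear (aff_third hxy)

theorem aff_preservesLines : PreservesLines affinePlaneThree := by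
  rintro x l ⟨v, w, hw, rfl⟩
  refine ⟨-x - v, -w, neg_ne_zero.mpr hw, ?_⟩
  ext u
  constructor
  · rintro ⟨_, ⟨c, rfl⟩, rfl⟩
    refine ⟨c, ?_⟩
    rw [aff_lineMap, smul_neg]; abel
  · rintro ⟨c, rfl⟩
    refine ⟨v + c • w, ⟨c, rfl⟩, ?_⟩
    rw [aff_lineMap, smul_neg]; abel

end Cfsg.Agent.Lib.Helper91.Fischer
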