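import Cfsg.Agent.Lib.Helper91.FischerParam
import Cfsg.Agent.Lib.Helper91.FischerModels

set_option autoImplicit false
set_option linter.unusedSimpArgs false

namespace Cfsg.Agent.Lib.Helper91.Fischer

open Cfsg Cfsg.LineSystem

variable {G : Type*} [Group G]

/-- Three involutions, pairwise braided, with `b` braided with `aca`. -/
structure AffRel (a b c : G) : Prop where
  aa : a * a = 1
  bb : b * b = 1
  cc : c * c = 1
  ab : a * b * a = b * a * b
  ac : a * c * a = c * a * c
  bc : b * c * b = c * b * c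
  bd : b * (a * c * a) * b = (a * c * a) * b * (a * c * a)

/-- The nine points of the affine plane generated by `a`, `b`, `c`. -/
def tab (a b c : G) (i j : ZMod 3) : G :=
  match i.val, j.val with
  | 0, 0 => a
  | 0, 1 => c
  | 0, 2 => a * c * a
  | 1, 0 => b
  | 1, 1 => a * (b * c * b) * a
  | 1, 2 => a * (b * (a * c * a) * b) * a
  | 2, 0 => a * b * a
  | 2, 1 => b * (a * c * a) * b
  | 2, 2 => b * c * b
  | _, _ => 1

namespace AffRel

variable {a b c : G}

theorem aa' (h : AffRel a b c) (z : G) : a * (a * z) = z := by rw [← mul_assoc, h.aa, one_mul]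
theorem bb' (h : AffRel a b c) (z : G) : b * (b * z) = z := by rw [← mul_assoc, h.bb, one_mul]
theorem cc' (h : AffRel a b c) (z : G) : c * (c * z) = z := by rw [← mul_assoc, h.cc, one_mul]
theorem ainv (h : AffRel a b c) : a⁻¹ = a := inv_eq_of_mul_eq_one_right h.aa
theorem binv (h : AffRel a b c) : b⁻¹ = b := inv_eq_of_mul_eq_one_right h.bb
theorem cinv (h : AffRel a b c) : c⁻¹ = c := inv_eq_of_mul_eq_one_right h.cc

theorem bab1 (h : AffRel a b c) : b * (a * b) = a * (b * a) := by
  rw [← mul_assoc, ← mul_assoc]; exact h.ab.symm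
theorem bab' (h : AffRel a b c) (z : G) : b * (a * (b * z)) = a * (b * (a * z)) := by
  rw [← mul_assoc, ← mul_assoc, ← h.ab, mul_assoc, mul_assoc]
theorem cac1 (h : AffRel a b c) : c * (a * c) = a * (c * a) := by
  rw [← mul_assoc, ← mul_assoc]; exact h.ac.symm
theorem cac' (h : AffRel a b c) (z : G) : c * (a * (c * z)) = a * (c * (a * z)) := by
  rw [← mul_assoc, ← mul_assoc, ← h.ac, mul_assoc, mul_assoc]
theorem cbc1 (h : AffRel a b c) : c * (b * c) = b * (c * b) := by
  rw [← mul_assoc, ← mul_assoc]; exact h.bc.symm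
theorem cbc' (h : AffRel a b c) (z : G) : c * (b * (c * z)) = b * (c * (b * z)) := by
  rw [← mul_assoc, ← mul_assoc, ← h.bc, mul_assoc, mul_assoc]

/-! the action of `a` -/
theorem A00 (h : AffRel a b c) : a * a * a = a := by rw [h.aa, one_mul]
theorem A02 (h : AffRel a b c) : a * (a * c * a) * a = c := by
  simp only [mul_assoc, h.aa', h.aa, mul_one]
theorem A11 (h : AffRel a b c) : a * (a * (b * c * b) * a) * a = b * c * b := by
  simp only [mul_assoc, h.aa', h.aa, mul_one]
theorem A12 (h : AffRel a b c) : a * (a * (b * (a * c * a) * b) * a) * a = b * (a * c * a) * b := by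
  simp only [mul_assoc, h.aa', h.aa, mul_one]
theorem A20 (h : AffRel a b c) : a * (a * b * a) * a = b := by
  simp only [mul_assoc, h.aa', h.aa, mul_one]

/-! the action of `b` -/
theorem B00 (h : AffRel a b c) : b * a * b = a * b * a := h.ab.symm
theorem B10 (h : AffRel a b c) : b * b * b = b := by rw [h.bb, one_mul]
theorem B11 (h : AffRel a b c) : b * (a * (b * c * b) * a) * b = a * (b * (a * c * a) * b) * a := by
  simp only [mul_assoc, h.bab', h.bab1]
theorem B12 (h : AffRel a b c) : b * (a * (b * (a * c * a) * b) * a) * b = a * (b * c * b) * a := by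
  simp only [mul_assoc, h.bab', h.bab1, h.aa', h.aa, mul_one]
theorem B20 (h : AffRel a b c) : b * (a * b * a) * b = a := by
  rw [h.ab]; simp only [mul_assoc, h.bb', h.bb, mul_one]
theorem B21 (h : AffRel a b c) : b * (b * (a * c * a) * b) * b = a * c * a := by
  simp only [mul_assoc, h.bb', h.bb, mul_one]
theorem B22 (h : AffRel a b c) : b * (b * c * b) * b = c := by
  simp only [mul_assoc, h.bb', h.bb, mul_one]

/-! the action of `c` -/
theorem C00 (h : AffRel a b c) : c * a * c = a * c * a := h.ac.symm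
theorem C01 (h : AffRel a b c) : c * c * c = c := by rw [h.cc, one_mul]
theorem C02 (h : AffRel a b c) : c * (a * c * a) * c = a := by
  rw [h.ac]; simp only [mul_assoc, h.cc', h.cc, mul_one]
theorem C10 (h : AffRel a b c) : c * b * c = b * c * b := h.bc.symm
theorem C22 (h : AffRel a b c) : c * (b * c * b) * c = b := by
  rw [h.bc]; simp only [mul_assoc, h.cc', h.cc, mul_one]
theorem C20 (h : AffRel a b c) : c * (a * b * a) * c = a * (b * (a * c * a) * b) * a := by
  rw [h.bd]; simp only [mul_assoc, h.aa', h.aa, mul_one]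
theorem C12 (h : AffRel a b c) : c * (a * (b * (a * c * a) * b) * a) * c = a * b * a := by
  rw [← h.C20]; simp only [mul_assoc, h.cc', h.cc, mul_one]
theorem C11 (h : AffRel a b c) : c * (a * (b * c * b) * a) * c = b * (a * c * a) * b := by
  rw [h.bd, h.bc, h.ac]; simp only [mul_assoc]
theorem C21 (h : AffRel a b c) : c * (b * (a * c * a) * b) * c = a * (b * c * b) * a := by
  rw [← h.C11]; simp only [mul_assoc, h.cc', h.cc, mul_one]

theorem symA (h : AffRel a b c) (i j : ZMod 3) : a * tab a b c i j * a⁻¹ = tab a b c (-i) (-j) := by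
  rw [h.ainv]
  fin_cases i <;> fin_cases j
  · exact h.A00
  · exact rfl
  · exact h.A02
  · exact rfl
  · exact h.A11
  · exact h.A12
  · exact h.A20
  · exact rfl
  · exact rfl

theorem symB (h : AffRel a b c) (i j : ZMod 3) : b * tab a b c i j * b⁻¹ = tab a b c (2 - i) (-j) := by
  rw [h.binv]
  fin_cases i <;> fin_cases j
  · exact h.B00
  · exact rfl
  · exact rfl
  · exact h.B10
  · exact h.B11
  · exact h.B12
  · exact h.B20
  · exact h.B21
  · exact h.B22

theorem symC (h : AffRel a b c) (i j : ZMod 3) : c * tab a b c i j * c⁻¹ = tab a b c (-i) (2 - j) := by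
  rw [h.cinv]
  fin_cases i <;> fin_cases j
  · exact h.C00
  · exact h.C01
  · exact h.C02
  · exact h.C10
  · exact h.C11
  · exact h.C12
  · exact h.C20
  · exact h.C21
  · exact h.C22

/-- Some element of the group translates the table by `(k, l)`. -/
def Trans (a b c : G) (k l : ZMod 3) : Prop :=
  ∃ g : G, ∀ i j, g * tab a b c i j * g⁻¹ = tab a b c (i + k) (j + l)

theorem trans_zero : Trans a b c 0 0 := ⟨1, fun i j => by simp⟩

theorem Trans.add {k l k' l' : ZMod 3} (h₁ : Trans a b c k l) (h₂ : Trans a b c k' l') :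
    Trans a b c (k' + k) (l' + l) := by
  obtain ⟨g₁, hg₁⟩ := h₁
  obtain ⟨g₂, hg₂⟩ := h₂
  refine ⟨g₁ * g₂, fun i j => ?_⟩
  have : g₁ * g₂ * tab a b c i j * (g₁ * g₂)⁻¹ = g₁ * (g₂ * tab a b c i j * g₂⁻¹) * g₁⁻¹ := by group
  rw [this, hg₂, hg₁, add_assoc, add_assoc]

theorem transX (h : AffRel a b c) : Trans a b c 2 0 := by
  refine ⟨b * a, fun i j => ?_⟩
  have : b * a * tab a b c i j * (b * a)⁻¹ = b * (a * tab a b c i j * a⁻¹) * b⁻¹ := by group
  rw [this, h.symA, h.symB, sub_neg_eq_add, neg_neg, add_comm, add_zero]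

theorem transY (h : AffRel a b c) : Trans a b c 0 2 := by
  refine ⟨c * a, fun i j => ?_⟩
  have : c * a * tab a b c i j * (c * a)⁻¹ = c * (a * tab a b c i j * a⁻¹) * c⁻¹ := by group
  rw [this, h.symA, h.symC, sub_neg_eq_add, neg_neg, add_comm 2 j, add_zero]

theorem zmod3_cases : ∀ k : ZMod 3, k = 0 ∨ k = 2 ∨ k = 2 + 2 := by decide

theorem trans_all (h : AffRel a b c) (k l : ZMod 3) : Trans a b c k l := by
  have hX : Trans a b c k 0 := by
    rcases zmod3_cases k with rfl | rfl | rfl
    · exact trans_zero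
    · exact h.transX
    · have := h.transX.add h.transX
      rwa [add_zero] at this
  have hY : Trans a b c 0 l := by
    rcases zmod3_cases l with rfl | rfl | rfl
    · exact trans_zero
    · exact h.transY
    · have := h.transY.add h.transY
      rwa [add_zero] at this
  have := hY.add hX
  rwa [add_zero, zero_add] at this

end AffRel

theorem commute_conj_of_sq {g x y : G} (gg : g * g = 1) (h : Commute x y) :
    Commute (g * x * g) (g * y * g) := by
  have ginv : g⁻¹ = g := inv_eq_of_mul_eq_one_right gg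
  have := (Commute.conj_iff g).mpr h
  rwa [ginv] at this

namespace AffRel

variable {a b c : G}

theorem nc_aca (h : AffRel a b c) (hac : ¬ Commute a c) : ¬ Commute a (a * c * a) := by
  intro hc
  apply hac
  have := commute_conj_of_sq h.aa hc
  rwa [h.A00, h.A02] at this

theorem nc_aba (h : AffRel a b c) (hab : ¬ Commute a b) : ¬ Commute a (a * b * a) := by
  intro hc
  apply hab
  have := commute_conj_of_sq h.aa hc
  rwa [h.A00, h.A20] at this

theorem nc_bcb (h : AffRel a b c) (hbd : ¬ Commute b (a * c * a)) : ¬ Commute a (b * c * b) := by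
  intro hc
  apply hbd
  have h1 := commute_conj_of_sq h.bb hc
  rw [h.B00, h.B22] at h1
  have h2 := commute_conj_of_sq h.aa h1
  rwa [h.A20] at h2

theorem nc_bdb (h : AffRel a b c) (hbc : ¬ Commute b c) : ¬ Commute a (b * (a * c * a) * b) := by
  intro hc
  apply hbc
  have h1 := commute_conj_of_sq h.bb hc
  rw [h.B00, h.B21] at h1
  have h2 := commute_conj_of_sq h.aa h1
  rwa [h.A20, h.A02] at h2

theorem nc_conj_a (h : AffRel a b c) {x : G} (hx : ¬ Commute a x) : ¬ Commute a (a * x * a) := by
  intro hc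
  apply hx
  have := commute_conj_of_sq h.aa hc
  rw [h.A00] at this
  have e : a * (a * x * a) * a = x := by simp only [mul_assoc, h.aa', h.aa, mul_one]
  rwa [e] at this

theorem not_commute_origin (h : AffRel a b c) (hab : ¬ Commute a b) (hac : ¬ Commute a c)
    (hbc : ¬ Commute b c) (hbd : ¬ Commute b (a * c * a)) (i j : ZMod 3) (hij : ¬ (i = 0 ∧ j = 0)) :
    ¬ Commute a (tab a b c i j) := by
  fin_cases i <;> fin_cases j
  · exact absurd ⟨rfl, rfl⟩ hij
  · exact hac
  · exact h.nc_aca hac
  · exact hab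
  · exact h.nc_conj_a (h.nc_bcb hbd)
  · exact h.nc_conj_a (h.nc_bdb hbc)
  · exact h.nc_aba hab
  · exact h.nc_bdb hbc
  · exact h.nc_bcb hbd

end AffRel

section param

variable {D : Set G}

theorem tab_mem (hD : IsThreeTranspositionSet D) (hconj : ∀ g : G, ∀ d ∈ D, g * d * g⁻¹ ∈ D) {a b c : G}
    (ha : a ∈ D) (hb : b ∈ D) (hc : c ∈ D) (i j : ZMod 3) : tab a b c i j ∈ D := by
  have conjD : ∀ g ∈ D, ∀ d ∈ D, g * d * g ∈ D := fun g hg d hd => by
    have := hconj g d hd
    rwa [ttD_inv hD hg] at this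
  fin_cases i <;> fin_cases j
  · exact ha
  · exact hc
  · exact conjD a ha c hc
  · exact hb
  · exact conjD a ha _ (conjD b hb c hc)
  · exact conjD a ha _ (conjD b hb _ (conjD a ha c hc))
  · exact conjD a ha b hb
  · exact conjD b hb _ (conjD a ha c hc)
  · exact conjD b hb c hc

theorem affRel_of (hD : IsThreeTranspositionSet D) (hconj : ∀ g : G, ∀ d ∈ D, g * d * g⁻¹ ∈ D) {a b c : G}
    (ha : a ∈ D) (hb : b ∈ D) (hc : c ∈ D) (hab : ¬ Commute a b) (hac : ¬ Commute a c)
    (hbc : ¬ Commute b c) (hbd : ¬ Commute b (a * c * a)) : AffRel a b c := by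
  have hd : a * c * a ∈ D := by
    have := hconj a c hc
    rwa [ttD_inv hD ha] at this
  exact ⟨tt_sq hD ha, tt_sq hD hb, tt_sq hD hc, ttD_braid hD ha hb hab, ttD_braid hD ha hc hac,
    ttD_braid hD hb hc hbc, ttD_braid hD hb hd hbd⟩

theorem zmod3_id : ∀ x y : ZMod 3, -(y - x) + x = -x - y := by decide

/-- The parametrization of the nine points by the affine plane of order three. -/
def pA (a b c : G) (hmem : ∀ i j, tab a b c i j ∈ D) (v : Fin 2 → ZMod 3) : D :=
  ⟨tab a b c (v 0) (v 1), hmem _ _⟩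

theorem aff_isParam (hD : IsThreeTranspositionSet D) {a b c : G}
    (ha : a ∈ D) (h : AffRel a b c) (hab : ¬ Commute a b) (hac : ¬ Commute a c)
    (hbc : ¬ Commute b c) (hbd : ¬ Commute b (a * c * a)) (hmem : ∀ i j, tab a b c i j ∈ D) :
    IsParam D affinePlaneThree (pA a b c hmem) := by
  intro u v huv
  left
  refine ⟨-u - v, aff_third huv, ?_, ?_⟩
  all_goals
    obtain ⟨g, hg⟩ := h.trans_all (u 0) (u 1)
    have hu : tab a b c (u 0) (u 1) = g * a * g⁻¹ := by
      have := hg 0 0
      rw [zero_add, zero_add] at this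
      exact this.symm
    have hv : tab a b c (v 0) (v 1) = g * tab a b c (v 0 - u 0) (v 1 - u 1) * g⁻¹ := by
      have := hg (v 0 - u 0) (v 1 - u 1)
      rw [sub_add_cancel, sub_add_cancel] at this
      exact this.symm
    have hne : ¬ (v 0 - u 0 = 0 ∧ v 1 - u 1 = 0) := by
      rintro ⟨h0, h1⟩
      apply huv
      funext k
      fin_cases k
      · exact (sub_eq_zero.mp h0).symm
      · exact (sub_eq_zero.mp h1).symm
    have hnc := h.not_commute_origin hab hac hbc hbd _ _ hne
  · show ¬ Commute (tab a b c (u 0) (u 1)) (tab a b c (v 0) (v 1))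
    rw [hu, hv, Commute.conj_iff]
    exact hnc
  · show tab a b c ((-u - v) 0) ((-u - v) 1) =
      tab a b c (v 0) (v 1) * tab a b c (u 0) (u 1) * (tab a b c (v 0) (v 1))⁻¹
    rw [hu, hv]
    have hx := hmem (v 0 - u 0) (v 1 - u 1)
    set x := tab a b c (v 0 - u 0) (v 1 - u 1) with hxdef
    have e1 : g * x * g⁻¹ * (g * a * g⁻¹) * (g * x * g⁻¹)⁻¹ = g * (x * a * x⁻¹) * g⁻¹ := by group
    rw [e1, ttD_inv hD hx, ← ttD_braid hD ha hx hnc]
    have e2 : a * x * a = a * x * a⁻¹ := by rw [h.ainv]
    rw [e2, hxdef, h.symA, hg, zmod3_id, zmod3_id]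
    rfl

end param

theorem aff_triple_eq {x y : Fin 2 → ZMod 3} (hxy : x ≠ y) :
    ({x, y, -x - y} : Set (Fin 2 → ZMod 3)) = affLine x (y - x) := by
  ext u
  simp only [Set.mem_insert_iff, Set.mem_singleton_iff]
  exact aff_a2 x y u hxy

theorem aff_lines_triple : ∀ l ∈ affinePlaneThree,
    ∃ u v w, Third affinePlaneThree u v w ∧ l = {u, v, w} := by
  rintro l ⟨v, w, hw, rfl⟩
  have hne : v ≠ v + w := fun h => hw (by simpa using h.symm)
  have hx : v ∈ affLine v w := ⟨0, by simp⟩
  have hy : v + w ∈ affLine v w := ⟨1, by simp⟩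
  refine ⟨v, v + w, -v - (v + w), aff_third hne, ?_⟩
  rw [aff_triple_eq hne]
  exact affLine_eq_of_mem hx hy hne

set_option maxRecDepth 100000 in
theorem aff_cases : ∀ v : Fin 2 → ZMod 3, v = ![0, 0] ∨ v = ![0, 1] ∨ v = ![0, 2] ∨ v = ![1, 0] ∨
    v = ![1, 1] ∨ v = ![1, 2] ∨ v = ![2, 0] ∨ v = ![2, 1] ∨ v = ![2, 2] := by decide

section plane

variable {D : Set G}

/-- The plane generated by two lines `{a, b, bab}` and `{a, c, cac}` such that no point of the first other than
`a` commutes with a point of the second other than `a` is an affine plane of order three. -/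
theorem affine_plane (hD : IsThreeTranspositionSet D) (hconj : ∀ g : G, ∀ d ∈ D, g * d * g⁻¹ ∈ D) {a b c : G}
    (ha : a ∈ D) (hb : b ∈ D) (hc : c ∈ D) (hab : ¬ Commute a b) (hac : ¬ Commute a c)
    (hbc : ¬ Commute b c) (hbd : ¬ Commute b (a * c * a)) :
    Isomorphic (restrict (threeTranspositionLines D)
      (span (threeTranspositionLines D) (ttLine D a b ∪ ttLine D a c))) affinePlaneThree := by
  have hmem := tab_mem hD hconj ha hb hc
  have h := affRel_of hD hconj ha hb hc hab hac hbc hbd
  have hpar := aff_isParam hD ha h hab hac hbc hbd hmem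
  have e20 : b * a * b⁻¹ = a * b * a := by rw [h.binv]; exact h.ab.symm
  have e02 : c * a * c⁻¹ = a * c * a := by rw [h.cinv]; exact h.ac.symm
  have hl : ∀ v, ((pA a b c hmem v : D) : G) ∈ tri a b → pA a b c hmem v ∈ ttLine D a b ∪ ttLine D a c :=
    fun v hv => Or.inl hv
  have hm : ∀ v, ((pA a b c hmem v : D) : G) ∈ tri a c → pA a b c hmem v ∈ ttLine D a b ∪ ttLine D a c :=
    fun v hv => Or.inr hv
  have g00 := hl ![0, 0] (by show a ∈ tri a b; unfold tri; simp)
  have g10 := hl ![1, 0] (by show b ∈ tri a b; unfold tri; simp)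
  have g20 := hl ![2, 0] (by show a * b * a ∈ tri a b; unfold tri; simp [e20])
  have g01 := hm ![0, 1] (by show c ∈ tri a c; unfold tri; simp)
  have g02 := hm ![0, 2] (by show a * c * a ∈ tri a c; unfold tri; simp [e02])
  have step : ∀ u v : Fin 2 → ZMod 3, u ≠ v →
      pA a b c hmem u ∈ span (threeTranspositionLines D) (ttLine D a b ∪ ttLine D a c) →
      pA a b c hmem v ∈ span (threeTranspositionLines D) (ttLine D a b ∪ ttLine D a c) →
      pA a b c hmem (-u - v) ∈ span (threeTranspositionLines D) (ttLine D a b ∪ ttLine D a c) :=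
    fun u v huv hu hv => third_mem_span hu hv
      ((hpar.third_iff hD hconj aff_isPartialLinear u v _).mp (aff_third huv))
  apply plane_of_param hD hconj aff_isPartialLinear aff_lines_triple hpar
  · rintro z (hz | hz)
    · have hz' : (z : G) ∈ tri a b := hz
      unfold tri at hz'
      simp only [Set.mem_insert_iff, Set.mem_singleton_iff] at hz'
      rcases hz' with h' | h' | h'
      · exact ⟨![0, 0], Subtype.ext h'.symm⟩
      · exact ⟨![1, 0], Subtype.ext h'.symm⟩
      · exact ⟨![2, 0], Subtype.ext (e20.symm.trans h'.symm)⟩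
    · have hz' : (z : G) ∈ tri a c := hz
      unfold tri at hz'
      simp only [Set.mem_insert_iff, Set.mem_singleton_iff] at hz'
      rcases hz' with h' | h' | h'
      · exact ⟨![0, 0], Subtype.ext h'.symm⟩
      · exact ⟨![0, 1], Subtype.ext h'.symm⟩
      · exact ⟨![0, 2], Subtype.ext (e02.symm.trans h'.symm)⟩
  · have s00 := subset_span (threeTranspositionLines D) _ g00
    have s10 := subset_span (threeTranspositionLines D) _ g10
    have s20 := subset_span (threeTranspositionLines D) _ g20
    have s01 := subset_span (threeTranspositionLines D) _ g01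
    have s02 := subset_span (threeTranspositionLines D) _ g02
    have s22 := step ![1, 0] ![0, 1] (by decide) s10 s01
    rw [show -![1, 0] - ![0, 1] = (![2, 2] : Fin 2 → ZMod 3) from by decide] at s22
    have s21 := step ![1, 0] ![0, 2] (by decide) s10 s02
    rw [show -![1, 0] - ![0, 2] = (![2, 1] : Fin 2 → ZMod 3) from by decide] at s21
    have s11 := step ![0, 0] ![2, 2] (by decide) s00 s22
    rw [show -![0, 0] - ![2, 2] = (![1, 1] : Fin 2 → ZMod 3) from by decide] at s11
    have s12 := step ![0, 0] ![2, 1] (by decide) s00 s21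
    rw [show -![0, 0] - ![2, 1] = (![1, 2] : Fin 2 → ZMod 3) from by decide] at s12
    intro v
    rcases aff_cases v with rfl | rfl | rfl | rfl | rfl | rfl | rfl | rfl | rfl
    · exact s00
    · exact s01
    · exact s02
    · exact s10
    · exact s11
    · exact s12
    · exact s20
    · exact s21
    · exact s22

end plane

end Cfsg.Agent.Lib.Helper91.Fischer
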