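import Cfsg.Agent.Lib.Helper91.FischerParam
import Cfsg.Agent.Lib.Helper91.FischerModels
import Cfsg.Agent.S5344

set_option autoImplicit false

namespace Cfsg.Agent.Lib.Helper91.Fischer

open Cfsg Cfsg.LineSystem

/-- The transposition of `Fin 4` attached to a two-element subset. -/
def swapOf (s : DualAffinePoint) : Equiv.Perm (Fin 4) :=
  if (0 : Fin 4) ∈ s.val then
    (if (1 : Fin 4) ∈ s.val then Equiv.swap 0 1 else if (2 : Fin 4) ∈ s.val then Equiv.swap 0 2
      else Equiv.swap 0 3)
  else if (1 : Fin 4) ∈ s.val then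
    (if (2 : Fin 4) ∈ s.val then Equiv.swap 1 2 else Equiv.swap 1 3)
  else Equiv.swap 2 3

def s01 : DualAffinePoint := ⟨{0, 1}, by decide⟩
def s02 : DualAffinePoint := ⟨{0, 2}, by decide⟩
def s03 : DualAffinePoint := ⟨{0, 3}, by decide⟩
def s12 : DualAffinePoint := ⟨{1, 2}, by decide⟩
def s13 : DualAffinePoint := ⟨{1, 3}, by decide⟩
def s23 : DualAffinePoint := ⟨{2, 3}, by decide⟩

set_option maxRecDepth 100000 in
theorem dap_cases : ∀ s : DualAffinePoint, s = s01 ∨ s = s02 ∨ s = s03 ∨ s = s12 ∨ s = s13 ∨ s = s23 := by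
  decide

set_option maxRecDepth 100000 in
theorem swapOf_third : ∀ u v : DualAffinePoint, (symmDiff u.val v.val).card = 2 →
    swapOf u * swapOf v ≠ swapOf v * swapOf u ∧
      swapOf (dapThird u v) = swapOf v * swapOf u * (swapOf v)⁻¹ := by decide

set_option maxRecDepth 100000 in
theorem swapOf_comm : ∀ u v : DualAffinePoint, u ≠ v → (symmDiff u.val v.val).card ≠ 2 →
    swapOf u * swapOf v = swapOf v * swapOf u ∧ swapOf u ≠ swapOf v := by decide

set_option maxRecDepth 100000 in
theorem swapOf_eq_swap : ∀ s : DualAffinePoint, ∃ i j : Fin 4, i ≠ j ∧ swapOf s = Equiv.swap i j := by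
  decide

set_option maxRecDepth 100000 in
theorem dap_line_triple : ∀ i : Fin 4, ∃ u v : DualAffinePoint, (symmDiff u.val v.val).card = 2 ∧
    ∀ x : DualAffinePoint, (x = u ∨ x = v ∨ x = dapThird u v) ↔ i ∉ x.val := by decide

theorem swapOf_s01 : swapOf s01 = Equiv.swap 0 1 := by decide
theorem swapOf_s12 : swapOf s12 = Equiv.swap 1 2 := by decide
theorem swapOf_s23 : swapOf s23 = Equiv.swap 2 3 := by decide
theorem dapThird_s12_s01 : dapThird s12 s01 = s02 := by decide
theorem dapThird_s12_s23 : dapThird s12 s23 = s13 := by decide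
theorem dapThird_s02_s23 : dapThird s02 s23 = s03 := by decide
theorem card_s12_s01 : (symmDiff s12.val s01.val).card = 2 := by decide
theorem card_s12_s23 : (symmDiff s12.val s23.val).card = 2 := by decide
theorem card_s02_s23 : (symmDiff s02.val s23.val).card = 2 := by decide

theorem dap_third_of_card {u v : DualAffinePoint} (h : (symmDiff u.val v.val).card = 2) :
    Third dualAffinePlaneTwo u v (dapThird u v) := by
  obtain ⟨h1, h2, h3, i, hi⟩ := dap_p1 u v h
  refine ⟨h1, h2, h3, i, ?_⟩
  ext x
  simp only [Set.mem_insert_iff, Set.mem_singleton_iff]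
  exact hi x

theorem dap_not_third {u v : DualAffinePoint} (h : (symmDiff u.val v.val).card ≠ 2) :
    ¬ ∃ w, Third dualAffinePlaneTwo u v w := by
  rintro ⟨z, -, -, hne, i, hi⟩
  apply h
  have hs : u ∈ ({u, v, z} : Set DualAffinePoint) := by simp
  have hs' : v ∈ ({u, v, z} : Set DualAffinePoint) := by simp
  rw [hi] at hs hs'
  exact dap_p2 u v i hne hs hs'

theorem dap_lines_triple : ∀ l ∈ dualAffinePlaneTwo,
    ∃ u v w, Third dualAffinePlaneTwo u v w ∧ l = {u, v, w} := by
  rintro l ⟨i, rfl⟩
  obtain ⟨u, v, hc, hx⟩ := dap_line_triple i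
  refine ⟨u, v, dapThird u v, dap_third_of_card hc, ?_⟩
  ext x
  simp only [Set.mem_insert_iff, Set.mem_singleton_iff]
  exact (hx x).symm

variable {G : Type*} [Group G] {D : Set G}

theorem dap_isParam (φ : Equiv.Perm (Fin 4) →* G) (hφ : Function.Injective φ)
    (hmem : ∀ s, φ (swapOf s) ∈ D) :
    IsParam D dualAffinePlaneTwo (fun s => (⟨φ (swapOf s), hmem s⟩ : D)) := by
  intro u v huv
  by_cases h : (symmDiff u.val v.val).card = 2
  · left
    refine ⟨dapThird u v, dap_third_of_card h, ?_, ?_⟩
    · intro hc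
      apply (swapOf_third u v h).1
      apply hφ
      rw [map_mul, map_mul]
      exact hc.eq
    · show φ (swapOf (dapThird u v)) = φ (swapOf v) * φ (swapOf u) * (φ (swapOf v))⁻¹
      rw [(swapOf_third u v h).2, map_mul, map_mul, map_inv]
  · right
    refine ⟨dap_not_third h, ?_, ?_⟩
    · show φ (swapOf u) * φ (swapOf v) = φ (swapOf v) * φ (swapOf u)
      rw [← map_mul, ← map_mul, (swapOf_comm u v huv h).1]
    · intro e
      apply (swapOf_comm u v huv h).2
      apply hφ
      exact congrArg Subtype.val e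

/-- The plane generated by two lines `{a, b, bab}` and `{a, c, cac}` with `b`, `c` commuting and different is a
dual affine plane of order two. -/
theorem dual_plane (hD : IsThreeTranspositionSet D) (hconj : ∀ g : G, ∀ d ∈ D, g * d * g⁻¹ ∈ D) {a b c : G}
    (ha : a ∈ D) (hb : b ∈ D) (hc : c ∈ D) (hab : ¬ Commute a b) (hac : ¬ Commute a c) (hbc : Commute b c)
    (hne : b ≠ c) :
    Isomorphic (restrict (threeTranspositionLines D)
      (span (threeTranspositionLines D) (ttLine D a b ∪ ttLine D a c))) dualAffinePlaneTwo := by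
  obtain ⟨φ, hφ, h01, h12, h23⟩ := Cfsg.Agent.S5344.result hD hb ha hc hne hbc (fun h => hab h.symm) hac
  have hmem : ∀ s, φ (swapOf s) ∈ D := by
    intro s
    obtain ⟨i, j, hij, e⟩ := swapOf_eq_swap s
    obtain ⟨π, hπ⟩ := isConj_iff.mp (Equiv.Perm.isConj_swap (show (0 : Fin 4) ≠ 1 by decide) hij)
    rw [e, ← hπ, map_mul, map_mul, map_inv, h01]
    exact hconj _ _ hb
  have hpar := dap_isParam φ hφ hmem
  have e01 : φ (swapOf s01) = b := by rw [swapOf_s01, h01]
  have e12 : φ (swapOf s12) = a := by rw [swapOf_s12, h12]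
  have e23 : φ (swapOf s23) = c := by rw [swapOf_s23, h23]
  have e02 : φ (swapOf s02) = b * a * b⁻¹ := by
    rw [← dapThird_s12_s01, (swapOf_third s12 s01 card_s12_s01).2, map_mul, map_mul, map_inv, e01, e12]
  have e13 : φ (swapOf s13) = c * a * c⁻¹ := by
    rw [← dapThird_s12_s23, (swapOf_third s12 s23 card_s12_s23).2, map_mul, map_mul, map_inv, e23, e12]
  have hl : ∀ s, φ (swapOf s) ∈ tri a b → (⟨φ (swapOf s), hmem s⟩ : D) ∈ ttLine D a b ∪ ttLine D a c :=
    fun s h => Or.inl h
  have hm : ∀ s, φ (swapOf s) ∈ tri a c → (⟨φ (swapOf s), hmem s⟩ : D) ∈ ttLine D a b ∪ ttLine D a c :=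
    fun s h => Or.inr h
  have g01 := hl s01 (by rw [e01]; unfold tri; simp)
  have g12 := hl s12 (by rw [e12]; unfold tri; simp)
  have g02 := hl s02 (by rw [e02]; unfold tri; simp)
  have g23 := hm s23 (by rw [e23]; unfold tri; simp)
  have g13 := hm s13 (by rw [e13]; unfold tri; simp)
  apply plane_of_param hD hconj dap_isPartialLinear dap_lines_triple hpar
  · rintro z (hz | hz)
    · have hz' : (z : G) ∈ tri a b := hz
      unfold tri at hz'
      simp only [Set.mem_insert_iff, Set.mem_singleton_iff] at hz'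
      rcases hz' with h | h | h
      · exact ⟨s12, Subtype.ext (e12.trans h.symm)⟩
      · exact ⟨s01, Subtype.ext (e01.trans h.symm)⟩
      · exact ⟨s02, Subtype.ext (e02.trans h.symm)⟩
    · have hz' : (z : G) ∈ tri a c := hz
      unfold tri at hz'
      simp only [Set.mem_insert_iff, Set.mem_singleton_iff] at hz'
      rcases hz' with h | h | h
      · exact ⟨s12, Subtype.ext (e12.trans h.symm)⟩
      · exact ⟨s23, Subtype.ext (e23.trans h.symm)⟩
      · exact ⟨s13, Subtype.ext (e13.trans h.symm)⟩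
  · intro s
    rcases dap_cases s with rfl | rfl | rfl | rfl | rfl | rfl
    · exact subset_span _ _ g01
    · exact subset_span _ _ g02
    · have h1 := (hpar.third_iff hD hconj dap_isPartialLinear s02 s23 _).mp (dap_third_of_card card_s02_s23)
      rw [dapThird_s02_s23] at h1
      exact third_mem_span (subset_span _ _ g02) (subset_span _ _ g23) h1
    · exact subset_span _ _ g12
    · exact subset_span _ _ g13
    · exact subset_span _ _ g23

end Cfsg.Agent.Lib.Helper91.Fischer
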