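import Cfsg.Agent.Lib.Helper91.FischerSpace
import Cfsg.Agent.Lib.Helper91.ThreeTransp

set_option autoImplicit false
set_option linter.unusedSimpArgs false

namespace Cfsg.Agent.Lib.Helper91.Fischer

open Cfsg Cfsg.LineSystem

variable {G : Type*} [Group G]

/-- The three involutions of the dihedral group of order six generated by `x` and `y`. -/
def tri (x y : G) : Set G := {x, y, y * x * y⁻¹}

/-- `x` and `y` are two different involutions satisfying the braid relation. -/
structure S3Rel (x y : G) : Prop where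
  xx : x * x = 1
  yy : y * y = 1
  braid : x * y * x = y * x * y
  ne : x ≠ y

namespace S3Rel

variable {x y : G}

theorem xinv (h : S3Rel x y) : x⁻¹ = x := inv_eq_of_mul_eq_one_right h.xx
theorem yinv (h : S3Rel x y) : y⁻¹ = y := inv_eq_of_mul_eq_one_right h.yy
theorem xx' (h : S3Rel x y) (z : G) : x * (x * z) = z := by rw [← mul_assoc, h.xx, one_mul]
theorem yy' (h : S3Rel x y) (z : G) : y * (y * z) = z := by rw [← mul_assoc, h.yy, one_mul]
theorem braid1 (h : S3Rel x y) : x * (y * x) = y * (x * y) := by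
  rw [← mul_assoc, ← mul_assoc]; exact h.braid
theorem braid' (h : S3Rel x y) (z : G) : x * (y * (x * z)) = y * (x * (y * z)) := by
  rw [← mul_assoc, ← mul_assoc, h.braid, mul_assoc, mul_assoc]

theorem not_commute (h : S3Rel x y) : ¬ Commute x y := by
  intro hc
  apply h.ne
  have h1 : x * y * x = y := by rw [hc.eq, mul_assoc, h.xx, mul_one]
  have h2 : y * x * y = x := by rw [← hc.eq, mul_assoc, h.yy, mul_one]
  rw [← h2, ← h.braid, h1]

theorem symm (h : S3Rel x y) : S3Rel y x := ⟨h.yy, h.xx, h.braid.symm, h.ne.symm⟩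

theorem third_eq (h : S3Rel x y) : y * x * y⁻¹ = y * x * y := by rw [h.yinv]

theorem third_ne_left (h : S3Rel x y) : y * x * y ≠ x := by
  intro e
  apply h.ne
  have h1 : x * y * x = x := h.braid.trans e
  have h2 : x * y = 1 := by
    have := congrArg (· * x) h1
    simp only [mul_assoc, h.xx, mul_one] at this
    exact this
  have h3 := eq_inv_of_mul_eq_one_left h2
  rw [h.yinv] at h3; exact h3

theorem third_ne_right (h : S3Rel x y) : y * x * y ≠ y := by
  intro e
  apply h.ne
  have h2 : y * x = 1 := by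
    have := congrArg (· * y) e
    simp only [mul_assoc, h.yy, mul_one] at this
    exact this
  have h3 := eq_inv_of_mul_eq_one_left h2
  rw [h.xinv] at h3; exact h3.symm

/-- The pair `(x, yxy)`. -/
theorem shift (h : S3Rel x y) : S3Rel x (y * x * y) := by
  refine ⟨h.xx, ?_, ?_, h.third_ne_left.symm⟩
  · simp only [mul_assoc, h.xx', h.yy', h.braid', h.xx, h.yy, mul_one]
  · simp only [mul_assoc, h.xx', h.yy', h.braid', h.braid1, h.xx, h.yy, mul_one]

theorem tri_symm (h : S3Rel x y) : tri y x = tri x y := by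
  unfold tri
  rw [h.xinv, h.yinv, h.braid]
  ext u; simp only [Set.mem_insert_iff, Set.mem_singleton_iff]; tauto

theorem tri_shift (h : S3Rel x y) : tri x (y * x * y) = tri x y := by
  unfold tri
  have e : y * x * y * x * (y * x * y)⁻¹ = y := by
    rw [mul_inv_rev, mul_inv_rev, h.xinv, h.yinv]
    simp only [mul_assoc, h.xx', h.yy', h.braid', h.braid1, h.xx, h.yy, mul_one]
  rw [e, h.yinv]
  ext u; simp only [Set.mem_insert_iff, Set.mem_singleton_iff]; tauto

end S3Rel

/-- A line is determined by any two of its points. -/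
theorem tri_eq_of_mem {x y : G} (h : S3Rel x y) {u v : G} (hu : u ∈ tri x y) (hv : v ∈ tri x y)
    (huv : u ≠ v) : S3Rel u v ∧ tri u v = tri x y := by
  unfold tri at hu hv
  rw [h.third_eq] at hu hv
  simp only [Set.mem_insert_iff, Set.mem_singleton_iff] at hu hv
  rcases hu with rfl | rfl | rfl <;> rcases hv with rfl | rfl | rfl
  · exact absurd rfl huv
  · exact ⟨h, rfl⟩
  · exact ⟨h.shift, h.tri_shift⟩
  · exact ⟨h.symm, h.tri_symm⟩
  · exact absurd rfl huv
  · have h1 : S3Rel u (u * x * u) := by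
      have := h.symm.shift
      rwa [h.braid] at this
    refine ⟨h1, ?_⟩
    have := h.symm.tri_shift
    rw [h.braid] at this
    rw [this, h.tri_symm]
  · exact ⟨h.shift.symm, h.shift.tri_symm.trans h.tri_shift⟩
  · have h1 : S3Rel v (v * x * v) := by
      have := h.symm.shift
      rwa [h.braid] at this
    refine ⟨h1.symm, ?_⟩
    have := h.symm.tri_shift
    rw [h.braid] at this
    rw [h1.tri_symm, this, h.tri_symm]
  · exact absurd rfl huv

/-! ### The line system of a set of 3-transpositions -/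

variable {D : Set G}

theorem s3Rel_of_not_commute (hD : IsThreeTranspositionSet D) {x y : G} (hx : x ∈ D) (hy : y ∈ D)
    (h : ¬ Commute x y) : S3Rel x y :=
  ⟨tt_sq hD hx, tt_sq hD hy, ttD_braid hD hx hy h, fun e => h (e ▸ Commute.refl x)⟩

/-- The line through two members of `D`. -/
def ttLine (D : Set G) (x y : G) : Set D := {z : D | (z : G) ∈ tri x y}

theorem mem_lines_iff {l : Set D} :
    l ∈ threeTranspositionLines D ↔ ∃ x y : D, ¬ Commute (x : G) (y : G) ∧ l = ttLine D x y := Iff.rfl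

theorem tt_isPartialLinear (hD : IsThreeTranspositionSet D) :
    IsPartialLinear (threeTranspositionLines D) := by
  intro l hl m hm U V hUV hU hV hU' hV'
  obtain ⟨x, y, hxy, rfl⟩ := mem_lines_iff.mp hl
  obtain ⟨x', y', hxy', rfl⟩ := mem_lines_iff.mp hm
  have hne : (U : G) ≠ V := fun h => hUV (Subtype.ext h)
  obtain ⟨-, e1⟩ := tri_eq_of_mem (s3Rel_of_not_commute hD x.2 y.2 hxy) hU hV hne
  obtain ⟨-, e2⟩ := tri_eq_of_mem (s3Rel_of_not_commute hD x'.2 y'.2 hxy') hU' hV' hne
  unfold ttLine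
  rw [← e1, ← e2]

theorem third_iff (hD : IsThreeTranspositionSet D) (hconj : ∀ g : G, ∀ d ∈ D, g * d * g⁻¹ ∈ D)
    (X Y Z : D) : Third (threeTranspositionLines D) X Y Z ↔
      ¬ Commute (X : G) (Y : G) ∧ (Z : G) = (Y : G) * X * (Y : G)⁻¹ := by
  constructor
  · rintro ⟨hZX, hZY, hXY, hl⟩
    obtain ⟨x, y, hxy, e⟩ := mem_lines_iff.mp hl
    have hX : X ∈ ttLine D (x : G) y := by rw [← e]; simp
    have hY : Y ∈ ttLine D (x : G) y := by rw [← e]; simp
    have hne : (X : G) ≠ Y := fun h => hXY (Subtype.ext h)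
    obtain ⟨hrel, e1⟩ := tri_eq_of_mem (s3Rel_of_not_commute hD x.2 y.2 hxy) hX hY hne
    refine ⟨hrel.not_commute, ?_⟩
    have hT : (⟨(Y : G) * X * (Y : G)⁻¹, hconj _ _ X.2⟩ : D) ∈ ttLine D (x : G) y := by
      show (Y : G) * X * (Y : G)⁻¹ ∈ tri (x : G) y
      rw [← e1]; unfold tri; simp
    rw [← e] at hT
    simp only [Set.mem_insert_iff, Set.mem_singleton_iff] at hT
    rcases hT with h | h | h
    · exact absurd (hrel.third_eq ▸ congrArg Subtype.val h) hrel.third_ne_left
    · exact absurd (hrel.third_eq ▸ congrArg Subtype.val h) hrel.third_ne_right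
    · exact (congrArg Subtype.val h).symm
  · rintro ⟨hc, hZ⟩
    have hrel := s3Rel_of_not_commute hD X.2 Y.2 hc
    refine ⟨fun h => hrel.third_ne_left ?_, fun h => hrel.third_ne_right ?_,
      fun h => hrel.ne (congrArg Subtype.val h), mem_lines_iff.mpr ⟨X, Y, hc, ?_⟩⟩
    · rw [← hrel.third_eq, ← hZ, h]
    · rw [← hrel.third_eq, ← hZ, h]
    · ext W
      unfold ttLine tri
      simp only [Set.mem_insert_iff, Set.mem_singleton_iff, Set.mem_ofPred_eq, Subtype.ext_iff, hZ]

theorem tt_ncard (hD : IsThreeTranspositionSet D) (hconj : ∀ g : G, ∀ d ∈ D, g * d * g⁻¹ ∈ D) :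
    ∀ l ∈ threeTranspositionLines D, l.ncard = 3 := by
  intro l hl
  obtain ⟨x, y, hxy, rfl⟩ := mem_lines_iff.mp hl
  have hrel := s3Rel_of_not_commute hD x.2 y.2 hxy
  rw [Set.ncard_eq_three]
  refine ⟨x, y, ⟨(y : G) * x * (y : G)⁻¹, hconj _ _ x.2⟩, fun h => hrel.ne (congrArg Subtype.val h),
    fun h => hrel.third_ne_left ?_, fun h => hrel.third_ne_right ?_, ?_⟩
  · rw [← hrel.third_eq]; exact (congrArg Subtype.val h).symm
  · rw [← hrel.third_eq]; exact (congrArg Subtype.val h).symm
  · ext W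
    unfold ttLine tri
    simp only [Set.mem_insert_iff, Set.mem_singleton_iff, Set.mem_ofPred_eq, Subtype.ext_iff]

end Cfsg.Agent.Lib.Helper91.Fischer
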