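import Cfsg.Agent.Lib.Helper91.FischerSpace

set_option autoImplicit false

namespace Cfsg.Agent.Lib.Helper91.Fischer

open Cfsg Cfsg.LineSystem

universe u v

variable {X : Type u} {Y : Type v}

theorem mem_restrict_iff_image {L : Set (Set X)} {S : Set X} (t : Set S) :
    t ∈ restrict L S ↔ Subtype.val '' t ∈ L := by
  constructor
  · rintro ⟨l, hl, hsub, rfl⟩
    have : Subtype.val '' {x : S | (x : X) ∈ l} = l := by
      ext x
      constructor
      · rintro ⟨y, hy, rfl⟩; exact hy
      · intro hx; exact ⟨⟨x, hsub hx⟩, hx, rfl⟩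
    rw [this]; exact hl
  · intro h
    refine ⟨_, h, ?_, ?_⟩
    · rintro _ ⟨y, -, rfl⟩; exact y.2
    · ext x
      constructor
      · intro hx; exact ⟨x, hx, rfl⟩
      · rintro ⟨y, hy, hyx⟩
        rw [← Subtype.ext hyx]; exact hy

/-- Lines correspond under a parametrization respecting third points. -/
theorem mem_iff_image_mem {L : Set (Set X)} {M : Set (Set Y)} (hL3 : ∀ l ∈ L, l.ncard = 3)
    (hM3 : ∀ l ∈ M, ∃ u v w, Third M u v w ∧ l = {u, v, w}) (p : Y → X) (hinj : Function.Injective p)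
    (hthird : ∀ u v w, Third M u v w ↔ Third L (p u) (p v) (p w)) (s : Set Y) :
    s ∈ M ↔ p '' s ∈ L := by
  constructor
  · intro hs
    obtain ⟨u, v, w, h, rfl⟩ := hM3 s hs
    rw [image_triple]
    exact ((hthird u v w).mp h).2.2.2
  · intro hs
    have hcard : (p '' s).ncard = 3 := hL3 _ hs
    rw [Set.ncard_image_of_injective s hinj] at hcard
    obtain ⟨u, v, w, huv, -, -, rfl⟩ := Set.ncard_eq_three.mp hcard
    have hpu : p u ∈ p '' ({u, v, w} : Set Y) := ⟨u, by simp, rfl⟩
    have hpv : p v ∈ p '' ({u, v, w} : Set Y) := ⟨v, by simp, rfl⟩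
    obtain ⟨z, hz, e⟩ := exists_third_of_mem hL3 hs hpu hpv (fun h => huv (hinj h))
    have hzmem : z ∈ p '' ({u, v, w} : Set Y) := by rw [e]; simp
    obtain ⟨w', hw', rfl⟩ := hzmem
    have h1 : Third M u v w' := (hthird u v w').mpr hz
    have h2 : ({u, v, w} : Set Y) = {u, v, w'} := by
      apply Set.image_injective.mpr hinj
      rw [e, image_triple]
    rw [h2]; exact h1.2.2.2

/-- The plane isomorphism produced by a parametrization. -/
theorem plane_iso {L : Set (Set X)} {M : Set (Set Y)} (hL3 : ∀ l ∈ L, l.ncard = 3)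
    (hM3 : ∀ l ∈ M, ∃ u v w, Third M u v w ∧ l = {u, v, w}) (p : Y → X) (hinj : Function.Injective p)
    (hthird : ∀ u v w, Third M u v w ↔ Third L (p u) (p v) (p w)) (S : Set X) (hS : Set.range p = S) :
    Isomorphic (restrict L S) M := by
  let E : Y ≃ S := (Equiv.ofInjective p hinj).trans (Equiv.setCongr hS)
  have hE : ∀ y : Y, ((E y : S) : X) = p y := fun y => rfl
  refine ⟨E.symm, fun t => ?_⟩
  rw [mem_restrict_iff_image, mem_iff_image_mem hL3 hM3 p hinj hthird, Set.image_image]
  have : (fun x : S => p (E.symm x)) = Subtype.val := by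
    funext x
    rw [← hE, Equiv.apply_symm_apply]
  rw [this]

/-- The image of a parametrization closed under third points is a subspace. -/
theorem isSubspace_range {L : Set (Set X)} (hL3 : ∀ l ∈ L, l.ncard = 3) (p : Y → X)
    (hclosed : ∀ u v z, Third L (p u) (p v) z → ∃ w, z = p w) : IsSubspace L (Set.range p) := by
  rintro l hl _ ⟨u, rfl⟩ _ ⟨v, rfl⟩ hne hul hvl
  obtain ⟨z, hz, rfl⟩ := exists_third_of_mem hL3 hl hul hvl hne
  obtain ⟨w, rfl⟩ := hclosed u v z hz
  intro x hx
  simp only [Set.mem_insert_iff, Set.mem_singleton_iff] at hx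
  rcases hx with rfl | rfl | rfl
  · exact ⟨u, rfl⟩
  · exact ⟨v, rfl⟩
  · exact ⟨w, rfl⟩

theorem span_subset_of_isSubspace {L : Set (Set X)} {S T : Set X} (hST : S ⊆ T) (hT : IsSubspace L T) :
    span L S ⊆ T := by
  intro x hx
  unfold span at hx
  rw [Set.mem_sInter] at hx
  exact hx T ⟨hST, hT⟩

/-- The third point of two points of a span lies in the span. -/
theorem third_mem_span {L : Set (Set X)} {S : Set X} {x y z : X} (hx : x ∈ span L S) (hy : y ∈ span L S)
    (h : Third L x y z) : z ∈ span L S :=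
  isSubspace_span L S _ h.2.2.2 x hx y hy h.2.2.1 (by simp) (by simp) (by simp)

end Cfsg.Agent.Lib.Helper91.Fischer
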