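import Cfsg.Agent.Lib.Helper91.FischerLines
import Cfsg.Agent.Lib.Helper91.FischerPlaneIso

set_option autoImplicit false

namespace Cfsg.Agent.Lib.Helper91.Fischer

open Cfsg Cfsg.LineSystem

universe v

variable {G : Type*} [Group G] {D : Set G} {Y : Type v}

/-- The hypothesis on a parametrization `p` of a set of 3-transpositions by the points of a model line system:
two different points either lie on a model line, and then the transpositions do not commute and the third
point corresponds to the conjugate, or they lie on no common line, and then the transpositions commute and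
are different. -/
def IsParam (D : Set G) (M : Set (Set Y)) (p : Y → D) : Prop :=
  ∀ u v : Y, u ≠ v →
    (∃ w, Third M u v w ∧ ¬ Commute ((p u : D) : G) (p v) ∧
      ((p w : D) : G) = (p v : G) * (p u : G) * ((p v : D) : G)⁻¹) ∨
    ((¬ ∃ w, Third M u v w) ∧ Commute ((p u : D) : G) (p v) ∧ p u ≠ p v)

theorem IsParam.injective {M : Set (Set Y)} {p : Y → D} (h : IsParam D M p) : Function.Injective p := by
  intro u v huv
  by_contra hne
  rcases h u v hne with ⟨w, -, hc, -⟩ | ⟨-, -, hpne⟩
  · exact hc (huv ▸ Commute.refl _)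
  · exact hpne huv

theorem IsParam.third_iff (hD : IsThreeTranspositionSet D) (hconj : ∀ g : G, ∀ d ∈ D, g * d * g⁻¹ ∈ D)
    {M : Set (Set Y)} (hM : IsPartialLinear M) {p : Y → D} (h : IsParam D M p) (u v w : Y) :
    Third M u v w ↔ Third (threeTranspositionLines D) (p u) (p v) (p w) := by
  rw [Fischer.third_iff hD hconj]
  constructor
  · intro hT
    rcases h u v hT.2.2.1 with ⟨w', hw', hc, he⟩ | ⟨hno, -, -⟩
    · rw [hT.unique hM hw']; exact ⟨hc, he⟩
    · exact absurd ⟨w, hT⟩ hno
  · rintro ⟨hc, he⟩
    have huv : u ≠ v := fun e => hc (e ▸ Commute.refl _)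
    rcases h u v huv with ⟨w', hw', -, he'⟩ | ⟨-, hc', -⟩
    · have : w' = w := h.injective (Subtype.ext (he'.trans he.symm))
      rw [← this]; exact hw'
    · exact absurd hc' hc

theorem IsParam.closed (hD : IsThreeTranspositionSet D) (hconj : ∀ g : G, ∀ d ∈ D, g * d * g⁻¹ ∈ D)
    {M : Set (Set Y)} {p : Y → D} (h : IsParam D M p) (u v : Y) (z : D)
    (hz : Third (threeTranspositionLines D) (p u) (p v) z) : ∃ w, z = p w := by
  rw [Fischer.third_iff hD hconj] at hz
  obtain ⟨hc, he⟩ := hz
  have huv : u ≠ v := fun e => hc (e ▸ Commute.refl _)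
  rcases h u v huv with ⟨w', -, -, he'⟩ | ⟨-, hc', -⟩
  · exact ⟨w', Subtype.ext (he.trans he'.symm)⟩
  · exact absurd hc' hc

/-- The plane generated by two lines is isomorphic to the model, given a parametrization. -/
theorem plane_of_param (hD : IsThreeTranspositionSet D) (hconj : ∀ g : G, ∀ d ∈ D, g * d * g⁻¹ ∈ D)
    {M : Set (Set Y)} (hM : IsPartialLinear M) (hM3 : ∀ l ∈ M, ∃ u v w, Third M u v w ∧ l = {u, v, w})
    {p : Y → D} (h : IsParam D M p) (S : Set D) (hS : S ⊆ Set.range p)
    (hgen : ∀ y, p y ∈ span (threeTranspositionLines D) S) :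
    Isomorphic (restrict (threeTranspositionLines D) (span (threeTranspositionLines D) S)) M := by
  have h3 := tt_ncard hD hconj
  apply plane_iso h3 hM3 p h.injective (h.third_iff hD hconj hM)
  apply le_antisymm
  · rintro _ ⟨y, rfl⟩; exact hgen y
  · exact span_subset_of_isSubspace hS (isSubspace_range h3 p (h.closed hD hconj))

end Cfsg.Agent.Lib.Helper91.Fischer
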