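import Cfsg.Prelude.Def_FischerSpaces

set_option autoImplicit false

namespace Cfsg.Agent.Lib.Helper91.Fischer

open Cfsg Cfsg.LineSystem

universe u v

variable {X : Type u} {Y : Type v}

/-- `z` is the third point of a line through the two different points `x`, `y`. -/
def Third (L : Set (Set X)) (x y z : X) : Prop :=
  z ≠ x ∧ z ≠ y ∧ x ≠ y ∧ ({x, y, z} : Set X) ∈ L

theorem lineMap_spec (L : Set (Set X)) (x y : X) (h : ∃ z, Third L x y z) : Third L x y (lineMap L x y) := by
  have h' : ∃ z : X, z ≠ x ∧ z ≠ y ∧ x ≠ y ∧ ({x, y, z} : Set X) ∈ L := h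
  unfold lineMap
  rw [dif_pos h']
  exact h'.choose_spec

theorem lineMap_of_not (L : Set (Set X)) (x y : X) (h : ¬ ∃ z, Third L x y z) : lineMap L x y = y := by
  have h' : ¬ ∃ z : X, z ≠ x ∧ z ≠ y ∧ x ≠ y ∧ ({x, y, z} : Set X) ∈ L := h
  unfold lineMap
  rw [dif_neg h']

theorem Third.unique {L : Set (Set X)} (hPL : IsPartialLinear L) {x y z z' : X} (h : Third L x y z)
    (h' : Third L x y z') : z = z' := by
  obtain ⟨hzx, hzy, hxy, hl⟩ := h
  obtain ⟨-, -, -, hl'⟩ := h'
  have e := hPL _ hl _ hl' x y hxy (by simp) (by simp) (by simp) (by simp)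
  have hz : z ∈ ({x, y, z'} : Set X) := by rw [← e]; simp
  simp only [Set.mem_insert_iff, Set.mem_singleton_iff] at hz
  rcases hz with h | h | h
  · exact absurd h hzx
  · exact absurd h hzy
  · exact h

theorem lineMap_eq {L : Set (Set X)} (hPL : IsPartialLinear L) {x y z : X} (h : Third L x y z) :
    lineMap L x y = z :=
  (lineMap_spec L x y ⟨z, h⟩).unique hPL h

theorem Third.swap23 {L : Set (Set X)} {x y z : X} (h : Third L x y z) : Third L x z y := by
  refine ⟨h.2.2.1.symm, h.2.1.symm, h.1.symm, ?_⟩
  have e : ({x, z, y} : Set X) = {x, y, z} := by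
    ext u; simp only [Set.mem_insert_iff, Set.mem_singleton_iff]; tauto
  rw [e]; exact h.2.2.2

theorem Third.swap12 {L : Set (Set X)} {x y z : X} (h : Third L x y z) : Third L y x z := by
  refine ⟨h.2.1, h.1, h.2.2.1.symm, ?_⟩
  have e : ({y, x, z} : Set X) = {x, y, z} := by
    ext u; simp only [Set.mem_insert_iff, Set.mem_singleton_iff]; tauto
  rw [e]; exact h.2.2.2

theorem lineMap_self (L : Set (Set X)) (x : X) : lineMap L x x = x :=
  lineMap_of_not L x x (fun ⟨_, h⟩ => h.2.2.1 rfl)

theorem lineMap_lineMap {L : Set (Set X)} (hPL : IsPartialLinear L) (x y : X) :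
    lineMap L x (lineMap L x y) = y := by
  by_cases h : ∃ z, Third L x y z
  · obtain ⟨z, hz⟩ := h
    rw [lineMap_eq hPL hz, lineMap_eq hPL hz.swap23]
  · rw [lineMap_of_not L x y h, lineMap_of_not L x y h]

/-- `t(x)` as a permutation. -/
noncomputable def lineMapPerm {L : Set (Set X)} (hPL : IsPartialLinear L) (x : X) : Equiv.Perm X :=
  ⟨lineMap L x, lineMap L x, lineMap_lineMap hPL x, lineMap_lineMap hPL x⟩

@[simp] theorem lineMapPerm_apply {L : Set (Set X)} (hPL : IsPartialLinear L) (x y : X) :
    lineMapPerm hPL x y = lineMap L x y := rfl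

/-- The third point of a three-point line through two given points. -/
theorem exists_third_of_mem {L : Set (Set X)} (h3 : ∀ l ∈ L, l.ncard = 3) {l : Set X} (hl : l ∈ L)
    {x y : X} (hx : x ∈ l) (hy : y ∈ l) (hxy : x ≠ y) : ∃ z, Third L x y z ∧ l = {x, y, z} := by
  have hfin : l.Finite := Set.finite_of_ncard_ne_zero (by rw [h3 l hl]; norm_num)
  have hsub : ({x, y} : Set X) ⊆ l := by
    intro u hu
    simp only [Set.mem_insert_iff, Set.mem_singleton_iff] at hu
    rcases hu with rfl | rfl <;> assumption
  have hcard : (l \ {x, y}).ncard = 1 := by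
    rw [Set.ncard_sdiff hsub (Set.toFinite _), h3 l hl, Set.ncard_pair hxy]
  obtain ⟨z, hz⟩ := Set.ncard_eq_one.mp hcard
  have hzmem : z ∈ l \ {x, y} := by rw [hz]; simp
  have hzl : z ∈ l := hzmem.1
  have hzx : z ≠ x := fun h => hzmem.2 (by simp [h])
  have hzy : z ≠ y := fun h => hzmem.2 (by simp [h])
  have e : l = {x, y, z} := by
    ext u
    simp only [Set.mem_insert_iff, Set.mem_singleton_iff]
    constructor
    · intro hu
      by_cases hu' : u ∈ ({x, y} : Set X)
      · simp only [Set.mem_insert_iff, Set.mem_singleton_iff] at hu'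
        tauto
      · have : u ∈ l \ {x, y} := ⟨hu, hu'⟩
        rw [hz] at this
        right; right; exact this
    · rintro (rfl | rfl | rfl) <;> assumption
  exact ⟨z, ⟨hzx, hzy, hxy, e ▸ hl⟩, e⟩

/-- A general compatibility criterion for the maps `t(x)` of two line systems. -/
theorem lineMap_comm_of {L : Set (Set X)} {M : Set (Set Y)} (hM : IsPartialLinear M) (f : X → Y)
    (h1 : ∀ p q z, Third L p q z → Third M (f p) (f q) (f z))
    (h2 : ∀ p q w, Third M (f p) (f q) w → ∃ z, Third L p q z) (p q : X) :
    lineMap M (f p) (f q) = f (lineMap L p q) := by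
  by_cases h : ∃ z, Third L p q z
  · exact lineMap_eq hM (h1 _ _ _ (lineMap_spec L p q h))
  · rw [lineMap_of_not L p q h]
    apply lineMap_of_not
    rintro ⟨w, hw⟩
    exact h (h2 p q w hw)

theorem image_triple (f : X → Y) (a b c : X) : f '' ({a, b, c} : Set X) = {f a, f b, f c} := by
  rw [Set.image_insert_eq, Set.image_pair]

/-- An isomorphism of line systems commutes with the maps `t(x)`. -/
theorem lineMap_iso {L : Set (Set X)} {M : Set (Set Y)} (hM : IsPartialLinear M) (e : X ≃ Y)
    (he : IsIso L M e) (p q : X) : lineMap M (e p) (e q) = e (lineMap L p q) := by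
  refine lineMap_comm_of hM e (fun p q z h => ?_) (fun p q w h => ?_) p q
  · refine ⟨fun h' => h.1 (e.injective h'), fun h' => h.2.1 (e.injective h'),
      fun h' => h.2.2.1 (e.injective h'), ?_⟩
    rw [← image_triple]
    exact (he _).mp h.2.2.2
  · refine ⟨e.symm w, fun h' => h.1 ?_, fun h' => h.2.1 ?_, fun h' => h.2.2.1 (by rw [h']), ?_⟩
    · rw [← h']; simp
    · rw [← h']; simp
    · rw [he, image_triple]
      simpa using h.2.2.2

/-- The line system preserved by all its maps `t(x)`. -/
def PreservesLines (M : Set (Set Y)) : Prop := ∀ x : Y, ∀ l ∈ M, lineMap M x '' l ∈ M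

theorem preservesLines_of_iso {L : Set (Set X)} {M : Set (Set Y)} (hM : IsPartialLinear M)
    (hP : PreservesLines M) (e : X ≃ Y) (he : IsIso L M e) : PreservesLines L := by
  intro x l hl
  have h1 := hP (e x) (e '' l) ((he l).mp hl)
  rw [he]
  have e1 : e '' (lineMap L x '' l) = lineMap M (e x) '' (e '' l) := by
    rw [Set.image_image, Set.image_image]
    apply Set.image_congr
    intro p _
    exact (lineMap_iso hM e he x p).symm
  rw [e1]; exact h1

theorem isSubspace_span (L : Set (Set X)) (S : Set X) : IsSubspace L (span L S) := by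
  intro l hl x hx y hy hxy hxl hyl u hu
  unfold span at *
  rw [Set.mem_sInter] at *
  intro T hT
  exact hT.2 l hl x (hx T hT) y (hy T hT) hxy hxl hyl hu

theorem subset_span (L : Set (Set X)) (S : Set X) : S ⊆ span L S := by
  intro x hx
  unfold span
  rw [Set.mem_sInter]
  intro T hT
  exact hT.1 hx

theorem mem_restrict_triple {L : Set (Set X)} {P : Set X} (p q z : P) :
    ({p, q, z} : Set P) ∈ restrict L P ↔ ({(p : X), (q : X), (z : X)} : Set X) ∈ L := by
  constructor
  · rintro ⟨l, hl, hlP, e⟩
    have e' : l = {(p : X), (q : X), (z : X)} := by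
      ext u
      simp only [Set.mem_insert_iff, Set.mem_singleton_iff]
      constructor
      · intro hu
        have : (⟨u, hlP hu⟩ : P) ∈ ({p, q, z} : Set P) := by rw [e]; exact hu
        simp only [Set.mem_insert_iff, Set.mem_singleton_iff] at this
        rcases this with h | h | h
        · left; exact congrArg Subtype.val h
        · right; left; exact congrArg Subtype.val h
        · right; right; exact congrArg Subtype.val h
      · have hp : p ∈ {x : P | (x : X) ∈ l} := by rw [← e]; simp
        have hq : q ∈ {x : P | (x : X) ∈ l} := by rw [← e]; simp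
        have hz : z ∈ {x : P | (x : X) ∈ l} := by rw [← e]; simp
        rintro (rfl | rfl | rfl)
        · exact hp
        · exact hq
        · exact hz
    rw [← e']; exact hl
  · intro hl
    refine ⟨_, hl, ?_, ?_⟩
    · intro u hu
      simp only [Set.mem_insert_iff, Set.mem_singleton_iff] at hu
      rcases hu with rfl | rfl | rfl
      · exact p.2
      · exact q.2
      · exact z.2
    · ext u
      simp only [Set.mem_insert_iff, Set.mem_singleton_iff, Set.mem_ofPred_eq, Subtype.ext_iff]

/-- In a subspace the map `t(x)` is the restriction of the map of the whole space. -/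
theorem lineMap_restrict {L : Set (Set X)} (hL : IsPartialLinear L) {P : Set X} (hP : IsSubspace L P)
    (p q : P) : lineMap L (p : X) (q : X) = ((lineMap (restrict L P) p q : P) : X) := by
  refine lineMap_comm_of (L := restrict L P) hL Subtype.val (fun p q z h => ?_) (fun p q w h => ?_) p q
  · exact ⟨fun h' => h.1 (Subtype.ext h'), fun h' => h.2.1 (Subtype.ext h'),
      fun h' => h.2.2.1 (Subtype.ext h'), (mem_restrict_triple p q z).mp h.2.2.2⟩
  · have hw : w ∈ P := hP _ h.2.2.2 p p.2 q q.2 h.2.2.1 (by simp) (by simp) (by simp)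
    refine ⟨⟨w, hw⟩, fun h' => h.1 (congrArg Subtype.val h'), fun h' => h.2.1 (congrArg Subtype.val h'),
      fun h' => h.2.2.1 (congrArg Subtype.val h'), ?_⟩
    rw [mem_restrict_triple]
    exact h.2.2.2

end Cfsg.Agent.Lib.Helper91.Fischer
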