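import Cfsg.Agent.Lib.Helper91.FischerModels

set_option autoImplicit false

namespace Cfsg.Agent.Lib.Helper91.Fischer

open Cfsg Cfsg.LineSystem

universe u

variable {X : Type u} {L : Set (Set X)}

/-- In a Fischer space the plane generated by two meeting lines is preserved by its maps `t(x)`. -/
theorem restrict_preservesLines (hF : IsFischerSpace L) {l m : Set X} (hl : l ∈ L) (hm : m ∈ L) (hne : l ≠ m)
    (hmeet : (l ∩ m).Nonempty) : PreservesLines (restrict L (span L (l ∪ m))) := by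
  rcases hF.2.2 l hl m hm hne hmeet with ⟨e, he⟩ | ⟨e, he⟩
  · exact preservesLines_of_iso dap_isPartialLinear dap_preservesLines e he
  · exact preservesLines_of_iso aff_isPartialLinear aff_preservesLines e he

theorem lineMap_image_of_subspace (hL : IsPartialLinear L) {P : Set X} (hP : IsSubspace L P)
    (hpres : PreservesLines (restrict L P)) {x : X} (hx : x ∈ P) {l : Set X} (hl : l ∈ L) (hlP : l ⊆ P) :
    lineMap L x '' l ∈ L := by
  have h1 : {p : P | (p : X) ∈ l} ∈ restrict L P := ⟨l, hl, hlP, rfl⟩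
  obtain ⟨l', hl', hl'P, e⟩ := hpres ⟨x, hx⟩ _ h1
  have : lineMap L x '' l = l' := by
    ext y
    constructor
    · rintro ⟨p, hp, rfl⟩
      have h2 : lineMap (restrict L P) ⟨x, hx⟩ ⟨p, hlP hp⟩ ∈ {q : P | (q : X) ∈ l'} := by
        rw [← e]; exact ⟨⟨p, hlP hp⟩, hp, rfl⟩
      have h3 := lineMap_restrict hL hP ⟨x, hx⟩ ⟨p, hlP hp⟩
      have h4 : lineMap L x p = ((lineMap (restrict L P) ⟨x, hx⟩ ⟨p, hlP hp⟩ : P) : X) := h3
      rw [h4]; exact h2
    · intro hy
      have h2 : (⟨y, hl'P hy⟩ : P) ∈ {q : P | (q : X) ∈ l'} := hy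
      rw [← e] at h2
      obtain ⟨p, hp, hpy⟩ := h2
      refine ⟨p, hp, ?_⟩
      have h3 := lineMap_restrict hL hP ⟨x, hx⟩ p
      have h4 : lineMap L x (p : X) = ((lineMap (restrict L P) ⟨x, hx⟩ p : P) : X) := h3
      rw [h4, hpy]
  rw [this]; exact hl'

theorem exists_ne_of_mem (h3 : ∀ l ∈ L, l.ncard = 3) {l : Set X} (hl : l ∈ L) (x : X) :
    ∃ y ∈ l, y ≠ x := by
  obtain ⟨a, b, c, hab, -, -, rfl⟩ := Set.ncard_eq_three.mp (h3 l hl)
  by_cases h : x = a
  · exact ⟨b, by simp, fun h' => hab (h.symm.trans h'.symm)⟩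
  · exact ⟨a, by simp, fun h' => h h'.symm⟩

/-- In a Fischer space every map `t(x)` sends lines to lines. -/
theorem fischer_preservesLines (hF : IsFischerSpace L) : PreservesLines L := by
  obtain ⟨hPL, h3, hpl⟩ := hF
  intro x l hl
  by_cases hxl : x ∈ l
  · obtain ⟨y, hyl, hyx⟩ := exists_ne_of_mem h3 hl x
    obtain ⟨z, hz, e⟩ := exists_third_of_mem h3 hl hxl hyl (Ne.symm hyx)
    have : lineMap L x '' l = l := by
      rw [e, image_triple, lineMap_self, lineMap_eq hPL hz, lineMap_eq hPL hz.swap23]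
      ext u; simp only [Set.mem_insert_iff, Set.mem_singleton_iff]; tauto
    rw [this]; exact hl
  · by_cases hcol : ∃ a ∈ l, ∃ z, Third L x a z
    · obtain ⟨a, hal, z, hz⟩ := hcol
      have hm : ({x, a, z} : Set X) ∈ L := hz.2.2.2
      have hne : l ≠ {x, a, z} := fun h => hxl (h ▸ (by simp))
      have hmeet : (l ∩ {x, a, z}).Nonempty := ⟨a, hal, by simp⟩
      have hpres := restrict_preservesLines ⟨hPL, h3, hpl⟩ hl hm hne hmeet
      apply lineMap_image_of_subspace hPL (isSubspace_span L _) hpres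
      · exact subset_span L _ (Or.inr (by simp))
      · exact hl
      · exact fun u hu => subset_span L _ (Or.inl hu)
    · have : lineMap L x '' l = l := by
        ext u
        constructor
        · rintro ⟨p, hp, rfl⟩
          rw [lineMap_of_not L x p (fun ⟨z, hz⟩ => hcol ⟨p, hp, z, hz⟩)]; exact hp
        · intro hu
          exact ⟨u, hu, lineMap_of_not L x u (fun ⟨z, hz⟩ => hcol ⟨u, hu, z, hz⟩)⟩
      rw [this]; exact hl

theorem lineMapPerm_isIso (hF : IsFischerSpace L) (x : X) : IsIso L L (lineMapPerm hF.1 x) := by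
  intro l
  constructor
  · exact fischer_preservesLines hF x l
  · intro h
    have h1 := fischer_preservesLines hF x _ h
    have h2 : lineMap L x '' (⇑(lineMapPerm hF.1 x) '' l) = l := by
      rw [Set.image_image]
      have : (fun y => lineMap L x ((lineMapPerm hF.1 x) y)) = id := by
        funext y; exact lineMap_lineMap hF.1 x y
      rw [this, Set.image_id]
    rw [h2] at h1; exact h1

theorem orderOf_lineMapPerm (hF : IsFischerSpace L) (hnd : IsNondegenerate L) (x : X) :
    orderOf (lineMapPerm hF.1 x) = 2 := by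
  apply orderOf_eq_prime
  · ext y
    rw [sq, Equiv.Perm.mul_apply, lineMapPerm_apply, lineMapPerm_apply, lineMap_lineMap hF.1]; rfl
  · intro h
    obtain ⟨l, hl, hxl⟩ := hnd x
    obtain ⟨y, hyl, hyx⟩ := exists_ne_of_mem hF.2.1 hl x
    obtain ⟨z, hz, -⟩ := exists_third_of_mem hF.2.1 hl hxl hyl (Ne.symm hyx)
    have h1 : lineMapPerm hF.1 x y = y := by rw [h]; rfl
    rw [lineMapPerm_apply, lineMap_eq hF.1 hz] at h1
    exact hz.2.1 h1

theorem lineMap_conj (hF : IsFischerSpace L) (x y q : X) :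
    lineMap L x (lineMap L y q) = lineMap L (lineMap L x y) (lineMap L x q) :=
  (lineMap_iso hF.1 (lineMapPerm hF.1 x) (lineMapPerm_isIso hF x) y q).symm

theorem three_transp (hF : IsFischerSpace L) (x y : X) (σ τ : Equiv.Perm X) (hσ : ⇑σ = lineMap L x)
    (hτ : ⇑τ = lineMap L y) : (σ * τ) ^ 2 = 1 ∨ (σ * τ) ^ 3 = 1 := by
  have hσ' : ∀ q, σ q = lineMap L x q := fun q => congrFun hσ q
  have hτ' : ∀ q, τ q = lineMap L y q := fun q => congrFun hτ q
  by_cases h : ∃ z, Third L x y z
  · right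
    obtain ⟨z, hz⟩ := h
    have e1 : ∀ q, lineMap L x (lineMap L y (lineMap L x q)) = lineMap L z q := by
      intro q
      rw [lineMap_conj hF x y, lineMap_eq hF.1 hz, lineMap_lineMap hF.1]
    have e2 : ∀ q, lineMap L y (lineMap L x (lineMap L y q)) = lineMap L z q := by
      intro q
      rw [lineMap_conj hF y x, lineMap_eq hF.1 hz.swap12, lineMap_lineMap hF.1]
    ext q
    simp only [pow_succ, pow_zero, one_mul, Equiv.Perm.mul_apply, Equiv.Perm.one_apply, hσ', hτ']
    rw [e1, e2, lineMap_lineMap hF.1]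
  · left
    have e : ∀ q, lineMap L x (lineMap L y q) = lineMap L y (lineMap L x q) := by
      intro q; rw [lineMap_conj hF x y, lineMap_of_not L x y h]
    ext q
    simp only [pow_succ, pow_zero, one_mul, Equiv.Perm.mul_apply, Equiv.Perm.one_apply, hσ', hτ']
    rw [e, lineMap_lineMap hF.1, lineMap_lineMap hF.1]

/-- The statement of S5366. -/
theorem fischer_transpositions (hF : IsFischerSpace L) (hnd : IsNondegenerate L) :
    (∀ x : X, ∃ σ : Equiv.Perm X, ⇑σ = lineMap L x ∧ orderOf σ = 2 ∧ IsIso L L σ) ∧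
      IsThreeTranspositionSet {σ : Equiv.Perm X | ∃ x : X, ⇑σ = lineMap L x} := by
  refine ⟨fun x => ⟨lineMapPerm hF.1 x, rfl, orderOf_lineMapPerm hF hnd x, lineMapPerm_isIso hF x⟩, ?_, ?_⟩
  · rintro σ ⟨x, hx⟩
    have : σ = lineMapPerm hF.1 x := DFunLike.coe_injective hx
    rw [this]; exact orderOf_lineMapPerm hF hnd x
  · rintro σ ⟨x, hx⟩ τ ⟨y, hy⟩
    exact three_transp hF x y σ τ hx hy

end Cfsg.Agent.Lib.Helper91.Fischer
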