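import Cfsg.Agent.Lib.Helper91.FischerDual
import Cfsg.Agent.Lib.Helper91.FischerAffine
import Cfsg.Agent.Lib.Helper91.FischerTransp

set_option autoImplicit false

namespace Cfsg.Agent.Lib.Helper91.Fischer

open Cfsg Cfsg.LineSystem

variable {G : Type*} [Group G] {D : Set G}

/-- A line is the line through any two of its points. -/
theorem line_eq_of_mem (hD : IsThreeTranspositionSet D) {l : Set D} (hl : l ∈ threeTranspositionLines D)
    {A B : D} (hA : A ∈ l) (hB : B ∈ l) (hAB : A ≠ B) :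
    ¬ Commute (A : G) (B : G) ∧ l = ttLine D A B := by
  obtain ⟨x, y, hxy, rfl⟩ := mem_lines_iff.mp hl
  obtain ⟨hrel, e⟩ := tri_eq_of_mem (s3Rel_of_not_commute hD x.2 y.2 hxy) hA hB
    (fun h => hAB (Subtype.ext h))
  refine ⟨hrel.not_commute, ?_⟩
  unfold ttLine
  rw [e]

/-- The line system of a conjugation-invariant set of 3-transpositions is a Fischer space. -/
theorem tt_isFischerSpace (hD : IsThreeTranspositionSet D) (hconj : ∀ g : G, ∀ d ∈ D, g * d * g⁻¹ ∈ D) :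
    IsFischerSpace (threeTranspositionLines D) := by
  have hPL := tt_isPartialLinear hD
  have h3 := tt_ncard hD hconj
  refine ⟨hPL, h3, ?_⟩
  rintro l hl m hm hne ⟨A, hAl, hAm⟩
  by_cases hcase : ∃ B ∈ l, B ≠ A ∧ ∃ C ∈ m, C ≠ A ∧ Commute (B : G) (C : G)
  · obtain ⟨B, hBl, hBA, C, hCm, hCA, hBC⟩ := hcase
    have hbc_ne : (B : G) ≠ C := by
      intro e
      apply hne
      have e' : B = C := Subtype.ext e
      exact hPL l hl m hm A B hBA.symm hAl hBl hAm (e' ▸ hCm)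
    obtain ⟨hab, rfl⟩ := line_eq_of_mem hD hl hAl hBl hBA.symm
    obtain ⟨hac, rfl⟩ := line_eq_of_mem hD hm hAm hCm hCA.symm
    left
    exact dual_plane hD hconj A.2 B.2 C.2 hab hac hBC hbc_ne
  · have hcase' : ∀ B ∈ l, B ≠ A → ∀ C ∈ m, C ≠ A → ¬ Commute (B : G) (C : G) :=
      fun B hB hBA C hC hCA hc => hcase ⟨B, hB, hBA, C, hC, hCA, hc⟩
    obtain ⟨B, hBl, hBA⟩ := exists_ne_of_mem h3 hl A
    obtain ⟨C, hCm, hCA⟩ := exists_ne_of_mem h3 hm A
    have hbc := hcase' B hBl hBA C hCm hCA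
    obtain ⟨hab, e1⟩ := line_eq_of_mem hD hl hAl hBl hBA.symm
    obtain ⟨hac, e2⟩ := line_eq_of_mem hD hm hAm hCm hCA.symm
    have hrel := s3Rel_of_not_commute hD A.2 C.2 hac
    have hC' : (⟨(C : G) * A * (C : G)⁻¹, hconj _ _ A.2⟩ : D) ∈ m := by
      rw [e2]
      show (C : G) * A * (C : G)⁻¹ ∈ tri (A : G) C
      unfold tri; simp
    have hC'A : (⟨(C : G) * A * (C : G)⁻¹, hconj _ _ A.2⟩ : D) ≠ A := by
      intro e
      have h1 : (C : G) * A * (C : G)⁻¹ = A := congrArg Subtype.val e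
      rw [hrel.third_eq] at h1
      exact hrel.third_ne_left h1
    have hbd := hcase' B hBl hBA _ hC' hC'A
    have e3 : (C : G) * A * (C : G)⁻¹ = (A : G) * C * A := by rw [hrel.third_eq, hrel.braid]
    have hbd' : ¬ Commute (B : G) ((A : G) * C * A) := by
      rw [← e3]; exact hbd
    right
    rw [e1, e2]
    exact affine_plane hD hconj A.2 B.2 C.2 hab hac hbc hbd'

end Cfsg.Agent.Lib.Helper91.Fischer
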