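import Cfsg.Agent.Lib.Helper91.Fusion
import Cfsg.Agent.Lib.Helper91.CoprimeAbelian

set_option autoImplicit false

namespace Cfsg.Agent.Lib.Helper91

open Cfsg Cfsg.FusionSystem

variable {Ω : Type*} [Group Ω] {S : Subgroup Ω}

/-- transport of a map along an equality of the source subgroups -/
theorem hom_cast (F : FusionSystem S) {A B : Subgroup Ω} (h : A = B) {ψ : A →* Ω} (hψ : ψ ∈ F.Hom A) :
    ψ.comp (Subgroup.inclusion h.ge) ∈ F.Hom B :=
  restrict_mem F h.ge hψ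

/-- A map of the system defined on all of `S` is onto `S`. -/
theorem range_eq_of_hom_top [Finite S] (F : FusionSystem S) {ψ : S →* Ω} (hψ : ψ ∈ F.Hom S) :
    ψ.range = S := by
  have hmem : ∀ x : S, ψ x ∈ S := hom_mem F hψ
  have hinj : Function.Injective (ψ.codRestrict S hmem) := by
    intro a b hab
    exact F.injective_of_mem hψ (congrArg Subtype.val hab)
  have hbij : Function.Bijective (ψ.codRestrict S hmem) := Finite.injective_iff_bijective.mp hinj
  ext y
  constructor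
  · rintro ⟨x, rfl⟩
    exact hmem x
  · intro hy
    obtain ⟨x, hx⟩ := hbij.2 ⟨y, hy⟩
    exact ⟨x, congrArg Subtype.val hx⟩

/-- A map of the system defined on all of `S` is an element of `Aut_F(S)`. -/
theorem exists_aut_of_hom_top [Finite S] (F : FusionSystem S) {ψ : S →* Ω} (hψ : ψ ∈ F.Hom S) :
    ∃ α ∈ F.autGroup S, ∀ x : S, ((α x : S) : Ω) = ψ x := by
  have hmem : ∀ x : S, ψ x ∈ S := hom_mem F hψ
  have hinj : Function.Injective (ψ.codRestrict S hmem) := by
    intro a b hab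
    exact F.injective_of_mem hψ (congrArg Subtype.val hab)
  have hbij : Function.Bijective (ψ.codRestrict S hmem) := Finite.injective_iff_bijective.mp hinj
  let α : MulAut S := MulEquiv.ofBijective (ψ.codRestrict S hmem) hbij
  refine ⟨α, ?_, fun x => rfl⟩
  rw [mem_autGroup_iff F le_rfl]
  exact hom_congr F hψ (fun x => rfl)

/-- In an abelian `S` the extender of any map is all of `S`. -/
theorem extender_eq_of_abelian (hab : ∀ x ∈ S, ∀ y ∈ S, x * y = y * x) {P : Subgroup Ω} (hP : P ≤ S)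
    (ψ : P →* Ω) : extender S P ψ = S := by
  apply le_antisymm
  · unfold extender
    rw [Subgroup.closure_le]
    intro g hg
    exact hg.1
  · intro g hg
    apply Subgroup.subset_closure
    have hfix : ∀ x : P, g * (x : Ω) * g⁻¹ = x := by
      intro x
      rw [hab g hg x (hP x.2), mul_inv_cancel_right]
    refine ⟨hg, ?_, 1, S.one_mem, ?_⟩
    · rw [Subgroup.mem_normalizer_iff]
      intro x
      constructor
      · intro hx
        have := hfix ⟨x, hx⟩
        simp only at this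
        rw [this]; exact hx
      · intro hx
        have h1 : x = g⁻¹ * (g * x * g⁻¹) * g := by group
        have h2 : g⁻¹ * (g * x * g⁻¹) * g = g * x * g⁻¹ := by
          have := hab g⁻¹ (S.inv_mem hg) (g * x * g⁻¹) (hP hx)
          rw [this, inv_mul_cancel_right]
        rw [h1, h2]; exact hx
    · intro x hx
      have : (⟨g * (x : Ω) * g⁻¹, hx⟩ : P) = x := Subtype.ext (hfix x)
      rw [this]; simp

/-- In a saturated system over an abelian group every map is the restriction of an element of `Aut_F(S)`. -/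
theorem exists_extension_of_abelian [Finite S] (p : ℕ) (F : FusionSystem S) (hF : F.IsSaturated p)
    (hab : ∀ x ∈ S, ∀ y ∈ S, x * y = y * x) {P : Subgroup Ω} {φ : P →* Ω} (hφ : φ ∈ F.Hom P) :
    ∃ α ∈ F.autGroup S, ∀ (x : P) (hx : (x : Ω) ∈ S), ((α ⟨x, hx⟩ : S) : Ω) = φ x := by
  have hPS : P ≤ S := hom_le F hφ
  obtain ⟨Q, ⟨ψ, hψ, hψr⟩, -, hQS, hrec⟩ := hF P hPS
  -- extension of ψ to S
  have ext_top : ∀ (R : Subgroup Ω) (χ : R →* Ω), χ ∈ F.Hom R → χ.range = Q →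
      ∃ α ∈ F.autGroup S, ∀ (x : R) (hx : (x : Ω) ∈ S), ((α ⟨x, hx⟩ : S) : Ω) = χ x := by
    intro R χ hχ hχr
    have hRS : R ≤ S := hom_le F hχ
    obtain ⟨χ', hχ', hχ'x⟩ := hrec R χ hχ hχr
    have hext := extender_eq_of_abelian hab hRS χ
    have h1 := hom_cast F hext hχ'
    obtain ⟨α, hα, hαx⟩ := exists_aut_of_hom_top F h1
    refine ⟨α, hα, fun x hx => ?_⟩
    rw [hαx]
    exact hχ'x x x.2 (hext.ge hx)
  obtain ⟨α₁, hα₁, hα₁x⟩ := ext_top P ψ hψ hψr
  -- the map ψ ∘ φ⁻¹ on φ(P)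
  obtain ⟨φi, hφi, hφix, hφir⟩ := inv_mem' F hφ rfl
  have hφiP : ∀ y : φ.range, φi y ∈ P := fun y => hφir.le ⟨y, rfl⟩
  have hχ : ψ.comp (φi.codRestrict P hφiP) ∈ F.Hom φ.range := F.comp_mem hφi hψ hφiP
  have hχr : (ψ.comp (φi.codRestrict P hφiP)).range = Q := by
    rw [← hψr]
    ext y
    constructor
    · rintro ⟨z, rfl⟩
      exact ⟨_, rfl⟩
    · rintro ⟨x, rfl⟩
      refine ⟨⟨φ x, x, rfl⟩, ?_⟩
      show ψ (φi.codRestrict P hφiP ⟨φ x, x, rfl⟩) = ψ x
      congr 1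
      apply Subtype.ext
      exact hφix x ⟨φ x, x, rfl⟩ rfl
  obtain ⟨α₂, hα₂, hα₂x⟩ := ext_top _ _ hχ hχr
  refine ⟨α₂⁻¹ * α₁, (F.autGroup S).mul_mem ((F.autGroup S).inv_mem hα₂) hα₁, fun x hx => ?_⟩
  have hφxS : φ x ∈ S := hom_mem F hφ x
  have h2 := hα₂x ⟨φ x, x, rfl⟩ hφxS
  have h3 : (ψ.comp (φi.codRestrict P hφiP)) ⟨φ x, x, rfl⟩ = ψ x := by
    show ψ (φi.codRestrict P hφiP ⟨φ x, x, rfl⟩) = ψ x
    congr 1
    apply Subtype.ext
    exact hφix x ⟨φ x, x, rfl⟩ rfl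
  have h1 := hα₁x x hx
  have h4 : α₂ ⟨φ x, hφxS⟩ = α₁ ⟨x, hx⟩ := by
    apply Subtype.ext
    rw [h1, ← h3]
    exact h2
  show (((α₂⁻¹ * α₁) ⟨x, hx⟩ : S) : Ω) = φ x
  rw [MulAut.mul_apply, ← h4, MulAut.inv_apply, MulEquiv.symm_apply_apply]

/-- In an abelian `S` the automorphisms of a subgroup induced by `S` are trivial. -/
theorem autInducedBy_eq_bot_of_abelian (hab : ∀ x ∈ S, ∀ y ∈ S, x * y = y * x) {P : Subgroup Ω}
    (hP : P ≤ S) : autInducedBy S P = ⊥ := by
  unfold autInducedBy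
  rw [Subgroup.closure_eq_bot_iff]
  rintro α ⟨g, hg, hα⟩
  rw [Set.mem_singleton_iff]
  ext x
  rw [hα x, hab g hg x (hP x.2), mul_inv_cancel_right]
  rfl

/-- In a saturated system over an abelian `p`-group, `Aut_F(S)` has order prime to `p`. -/
theorem card_autGroup_top_coprime [Finite S] (p : ℕ) [Fact p.Prime] (hS : IsPGroup p S)
    (F : FusionSystem S) (hF : F.IsSaturated p) (hab : ∀ x ∈ S, ∀ y ∈ S, x * y = y * x) :
    Nat.Coprime (Nat.card (F.autGroup S)) (Nat.card S) := by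
  obtain ⟨Q, ⟨ψ, hψ, hψr⟩, ⟨-, R, hR⟩, -⟩ := hF S le_rfl
  have hQ : Q = S := by rw [← hψr]; exact range_eq_of_hom_top F hψ
  subst hQ
  rw [autInducedBy_eq_bot_of_abelian hab le_rfl] at hR
  have hRbot : (R : Subgroup (F.autGroup Q)) = ⊥ := by
    rw [hR]
    exact Subgroup.bot_subgroupOf _
  have hndvd : ¬ p ∣ Nat.card (F.autGroup Q) := by
    have h1 := R.not_dvd_index
    rw [hRbot, Subgroup.index_bot] at h1
    exact h1
  obtain ⟨n, hn⟩ := hS.exists_card_eq
  rw [hn]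
  apply Nat.Coprime.pow_right
  exact ((Nat.Prime.coprime_iff_not_dvd Fact.out).mpr hndvd).symm

/-- The focal subgroup of a saturated system over an abelian group is `[S, Aut_F(S)]`. -/
theorem focalSubgroup_eq_of_abelian [Finite S] (p : ℕ) (F : FusionSystem S) (hF : F.IsSaturated p)
    (hab : ∀ x ∈ S, ∀ y ∈ S, x * y = y * x) :
    F.focalSubgroup = (commSubgroup (F.autGroup S)).map S.subtype := by
  apply le_antisymm
  · unfold focalSubgroup
    rw [Subgroup.closure_le]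
    rintro y ⟨P, φ, x, hφ, rfl⟩
    obtain ⟨α, hα, hαx⟩ := exists_extension_of_abelian p F hF hab hφ
    have hxS : (x : Ω) ∈ S := hom_le F hφ x.2
    refine ⟨(⟨x, hxS⟩ : S)⁻¹ * α ⟨x, hxS⟩, Subgroup.subset_closure ⟨α, hα, ⟨x, hxS⟩, rfl⟩, ?_⟩
    rw [map_mul, map_inv, Subgroup.subtype_apply, Subgroup.subtype_apply, hαx x hxS]
  · unfold commSubgroup
    rw [MonoidHom.map_closure, Subgroup.closure_le]
    rintro _ ⟨_, ⟨α, hα, x, rfl⟩, rfl⟩
    apply Subgroup.subset_closure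
    refine ⟨S, S.subtype.comp α.toMonoidHom, x, (mem_autGroup_iff F le_rfl α).mp hα, ?_⟩
    rw [map_mul, map_inv]
    rfl

/-- The centre of a saturated system over an abelian group is `C_S(Aut_F(S))`. -/
theorem center_eq_of_abelian [Finite S] (p : ℕ) (F : FusionSystem S) (hF : F.IsSaturated p)
    (hab : ∀ x ∈ S, ∀ y ∈ S, x * y = y * x) :
    F.center = (fixedSubgroup (F.autGroup S)).map S.subtype := by
  have hCS : (fixedSubgroup (F.autGroup S)).map S.subtype ≤ S := by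
    rintro _ ⟨x, -, rfl⟩
    exact x.2
  apply le_antisymm
  · unfold center
    apply sSup_le
    rintro Q ⟨hQS, hQ⟩ x hx
    refine ⟨⟨x, hQS hx⟩, ?_, rfl⟩
    intro α hα
    have hαF := (mem_autGroup_iff F le_rfl α).mp hα
    obtain ⟨ψ, -, hψS, hψQ⟩ := hQ S _ hαF
    have h1 := hψS ⟨x, hQS hx⟩
    have h2 := hψQ ⟨x, hx⟩
    have h3 : (Subgroup.inclusion le_sup_left (⟨x, hQS hx⟩ : S) : ↥(S ⊔ Q)) =
        Subgroup.inclusion le_sup_right (⟨x, hx⟩ : Q) := Subtype.ext rfl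
    rw [h3, h2] at h1
    apply Subtype.ext
    exact h1.symm
  · unfold center
    apply le_sSup
    refine ⟨hCS, ?_⟩
    intro P φ hφ
    obtain ⟨α, hα, hαx⟩ := exists_extension_of_abelian p F hF hab hφ
    have hαF := (mem_autGroup_iff F le_rfl α).mp hα
    have hPS : P ≤ S := hom_le F hφ
    have hle : P ⊔ (fixedSubgroup (F.autGroup S)).map S.subtype ≤ S := sup_le hPS hCS
    refine ⟨_, restrict_mem F hle hαF, fun x => ?_, fun x => ?_⟩
    · exact hαx x (hPS x.2)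
    · obtain ⟨y, hy, hyx⟩ := x.2
      show ((α ⟨(x : Ω), _⟩ : S) : Ω) = x
      have : (⟨(x : Ω), hCS x.2⟩ : S) = y := Subtype.ext hyx.symm
      have h2 := hy α hα
      calc ((α ⟨(x : Ω), _⟩ : S) : Ω) = ((α y : S) : Ω) := by rw [← this]
        _ = (y : Ω) := by rw [h2]
        _ = x := hyx

end Cfsg.Agent.Lib.Helper91
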