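import Cfsg.Agent.Lib.Helper91.FusionAbelian

set_option autoImplicit false

namespace Cfsg.Agent.Lib.Helper91

open Cfsg Cfsg.FusionSystem

variable {Ω : Type*} [Group Ω] {S : Subgroup Ω}

/-- A map of the system from `T` into `T` is an element of `Aut_F(T)`. -/
theorem exists_aut_of_hom_self [Finite S] (F : FusionSystem S) {T : Subgroup Ω} {ψ : T →* Ω}
    (hψ : ψ ∈ F.Hom T) (hmem : ∀ x : T, ψ x ∈ T) :
    ∃ α ∈ F.autGroup T, ∀ x : T, ((α x : T) : Ω) = ψ x := by
  have hTS : T ≤ S := hom_le F hψ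
  have : Finite T := finite_of_le hTS
  have hinj : Function.Injective (ψ.codRestrict T hmem) := by
    intro a b hab
    exact F.injective_of_mem hψ (congrArg Subtype.val hab)
  have hbij : Function.Bijective (ψ.codRestrict T hmem) := Finite.injective_iff_bijective.mp hinj
  let α : MulAut T := MulEquiv.ofBijective (ψ.codRestrict T hmem) hbij
  refine ⟨α, ?_, fun x => rfl⟩
  rw [mem_autGroup_iff F hTS]
  exact hom_congr F hψ (fun x => rfl)

/-- Maps of the inner system of an abelian group are inclusions. -/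
theorem inner_hom_apply_of_abelian {T : Subgroup Ω} (hab : ∀ x ∈ T, ∀ y ∈ T, x * y = y * x)
    {P : Subgroup Ω} {φ : P →* Ω} (hφ : φ ∈ (innerFusionSystem T).Hom P) (x : P) : φ x = x := by
  obtain ⟨hP, g, hg, hφx⟩ := hφ
  rw [hφx x, hab g hg x (hP x.2), mul_inv_cancel_right]

theorem subtype_mem_inner {T P : Subgroup Ω} (hP : P ≤ T) : P.subtype ∈ (innerFusionSystem T).Hom P :=
  subtype_mem (innerFusionSystem T) hP

theorem inner_autGroup_eq_bot_of_abelian {T : Subgroup Ω} (hab : ∀ x ∈ T, ∀ y ∈ T, x * y = y * x)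
    (P : Subgroup Ω) : (innerFusionSystem T).autGroup P = ⊥ := by
  unfold FusionSystem.autGroup
  rw [Subgroup.closure_eq_bot_iff]
  intro α hα
  rw [Set.mem_singleton_iff]
  ext x
  have := inner_hom_apply_of_abelian hab hα x
  exact this

/-- The inner system of an abelian group is saturated. -/
theorem inner_isSaturated_of_abelian (p : ℕ) [Fact p.Prime] {T : Subgroup Ω}
    (hab : ∀ x ∈ T, ∀ y ∈ T, x * y = y * x) : (innerFusionSystem T).IsSaturated p := by
  intro P hP
  refine ⟨P, isConj_refl _ hP, ⟨hP, ?_⟩, hP, ?_⟩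
  · have hbot := inner_autGroup_eq_bot_of_abelian hab P
    have hss : Subsingleton ((innerFusionSystem T).autGroup P) := by
      rw [hbot]; infer_instance
    have hss' : Subsingleton (Subgroup ((innerFusionSystem T).autGroup P)) := by
      refine ⟨fun H K => ?_⟩
      ext x
      have : x = 1 := Subsingleton.elim _ _
      rw [this]
      exact ⟨fun _ => K.one_mem, fun _ => H.one_mem⟩
    exact ⟨default, Subsingleton.elim _ _⟩
  · intro P' φ hφ hr
    have hle : extender T P' φ ≤ T := by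
      unfold extender
      rw [Subgroup.closure_le]
      intro g hg
      exact hg.1
    refine ⟨_, subtype_mem_inner hle, fun x hP' hN => ?_⟩
    rw [inner_hom_apply_of_abelian hab hφ ⟨x, hP'⟩]
    rfl

/-- In a saturated system over an abelian `S`, the inner system of a subgroup `T` invariant under `Aut_F(S)` is a
normal subsystem. -/
theorem inner_isNormalIn_of_abelian [Finite S] (p : ℕ) [Fact p.Prime] (F : FusionSystem S)
    (hF : F.IsSaturated p) (hab : ∀ x ∈ S, ∀ y ∈ S, x * y = y * x) (T : Subgroup Ω) (hTS : T ≤ S)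
    (hinv : ∀ α ∈ F.autGroup S, ∀ x : S, (x : Ω) ∈ T → ((α x : S) : Ω) ∈ T) :
    (innerFusionSystem T).IsNormalIn F p := by
  have habT : ∀ x ∈ T, ∀ y ∈ T, x * y = y * x := fun x hx y hy => hab x (hTS hx) y (hTS hy)
  have hclosed : ∀ R : Subgroup Ω, R ≤ T → ∀ φ ∈ F.Hom R, ∀ x : R, φ x ∈ T := by
    intro R hR φ hφ x
    obtain ⟨α, hα, hαx⟩ := exists_extension_of_abelian p F hF hab hφ
    rw [← hαx x (hTS (hR x.2))]
    exact hinv α hα _ (hR x.2)
  refine ⟨⟨inner_isSaturated_of_abelian p habT, hF, ?_, ⟨hTS, hclosed⟩, ?_, ?_⟩, ?_⟩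
  · -- subsystem
    rintro P φ ⟨hP, g, hg, hφ⟩
    exact hom_congr F (F.conj_mem (hP.trans hTS) (hTS hg)) hφ
  · -- invariance
    intro P hPT φ hφ α _
    have hle : (P.subgroupOf T).map (T.subtype.comp α.toMonoidHom) ≤ T := by
      rintro _ ⟨y, -, rfl⟩
      exact (α y).2
    refine ⟨_, subtype_mem_inner hle, fun x hφx hαx => ?_⟩
    show ((α ⟨x, hPT x.2⟩ : T) : Ω) = ((α ⟨φ x, hφx⟩ : T) : Ω)
    congr 2
    apply Subtype.ext
    exact (inner_hom_apply_of_abelian habT hφ x).symm
  · -- Frattini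
    intro P hPT φ hφ
    obtain ⟨β, hβ, hβx⟩ := exists_extension_of_abelian p F hF hab hφ
    have hβF := (mem_autGroup_iff F le_rfl β).mp hβ
    have hres := restrict_mem F hTS hβF
    have hresT : ∀ x : T, ((S.subtype.comp β.toMonoidHom).comp (Subgroup.inclusion hTS)) x ∈ T := by
      intro x
      exact hinv β hβ _ x.2
    obtain ⟨α, hα, hαx⟩ := exists_aut_of_hom_self F hres hresT
    refine ⟨α, hα, P.subtype, subtype_mem_inner hPT, fun x hx => ?_⟩
    rw [hαx]
    exact (hβx x (hTS (hPT x.2))).symm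
  · -- extension condition
    intro α hα
    rw [inner_autGroup_eq_bot_of_abelian habT, Subgroup.mem_bot] at hα
    subst hα
    refine ⟨1, Subgroup.one_mem _, fun x => rfl, fun c _ => ?_⟩
    have : (c : Ω)⁻¹ * (((1 : MulAut ↥(T ⊔ centralizerIn S T)) c : ↥(T ⊔ centralizerIn S T)) : Ω) = 1 := by
      show (c : Ω)⁻¹ * (c : Ω) = 1
      exact inv_mul_cancel _
    rw [this]
    exact Subgroup.one_mem _

end Cfsg.Agent.Lib.Helper91
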