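import Cfsg.Agent.Lib.Helper91.CyclicChainApply
import Cfsg.Agent.Lib.Helper91.CyclicChainBuild
import Cfsg.Agent.Lib.Helper91.AutSystemGen
import Cfsg.Agent.Lib.Helper91.Fusion
import Cfsg.Agent.Lib.Helper91.FusionConstrained
import Cfsg.Agent.Lib.Helper91.FusionEssentialClass
import Cfsg.Agent.Lib.Helper88.FusionRS1
import Cfsg.Agent.S5301
import Cfsg.Agent.S5106

set_option autoImplicit false

namespace Cfsg.Agent.Lib.Helper91

open Cfsg Cfsg.FusionSystem

variable {Ω : Type*} [Group Ω] {S : Subgroup Ω}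

/-- Extension of a finite chain to a chain indexed by `ℕ`, constant from the last term on. -/
def chainN {m : ℕ} (c : Fin (m + 1) → Subgroup Ω) (j : ℕ) : Subgroup Ω :=
  c ⟨min j m, Nat.lt_succ_of_le (min_le_right j m)⟩

theorem chainN_of_le {m : ℕ} (c : Fin (m + 1) → Subgroup Ω) {j : ℕ} (h : j ≤ m) :
    chainN c j = c ⟨j, Nat.lt_succ_of_le h⟩ := by
  unfold chainN
  congr 1
  apply Fin.ext
  simp [h]

theorem chainN_of_ge {m : ℕ} (c : Fin (m + 1) → Subgroup Ω) {j : ℕ} (h : m ≤ j) :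
    chainN c j = c (Fin.last m) := by
  unfold chainN
  congr 1
  apply Fin.ext
  simp [h]

/-- The supersolubility condition for a fusion system: a chain of strongly closed subgroups from `⊥` to `S` with cyclic
steps. -/
def HasCyclicChain (F : FusionSystem S) : Prop :=
  ∃ (m : ℕ) (c : Fin (m + 1) → Subgroup Ω), c 0 = ⊥ ∧ c (Fin.last m) = S ∧
    (∀ i : Fin (m + 1), F.StronglyClosed (c i)) ∧
    ∀ i : Fin m, c i.castSucc ≤ c i.succ ∧ ∃ x ∈ S, c i.succ = c i.castSucc ⊔ Subgroup.zpowers x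

theorem chainN_facts (F : FusionSystem S) {m : ℕ} (c : Fin (m + 1) → Subgroup Ω) (h0 : c 0 = ⊥)
    (hlast : c (Fin.last m) = S) (hsc : ∀ i : Fin (m + 1), F.StronglyClosed (c i))
    (hstep : ∀ i : Fin m, c i.castSucc ≤ c i.succ ∧ ∃ x ∈ S, c i.succ = c i.castSucc ⊔ Subgroup.zpowers x) :
    (∀ j, (((chainN c) j).subgroupOf ((chainN c) (j + 1))).Normal) ∧
      (∀ j, ∃ x, (chainN c) (j + 1) = (chainN c) j ⊔ Subgroup.zpowers x) ∧ (chainN c) 0 = ⊥ ∧
      Monotone (chainN c) ∧ (chainN c) m = S ∧ ∀ j, F.StronglyClosed ((chainN c) j) := by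
  have hscN : ∀ j, F.StronglyClosed ((chainN c) j) := fun j => hsc _
  have hcyc : ∀ j, ∃ x, (chainN c) (j + 1) = (chainN c) j ⊔ Subgroup.zpowers x := by
    intro j
    by_cases hj : j < m
    · obtain ⟨-, x, -, hx⟩ := hstep ⟨j, hj⟩
      refine ⟨x, ?_⟩
      rw [chainN_of_le c (Nat.succ_le_of_lt hj), chainN_of_le c hj.le]
      exact hx
    · push Not at hj
      refine ⟨1, ?_⟩
      rw [chainN_of_ge c hj, chainN_of_ge c (hj.trans (Nat.le_succ j)), Subgroup.zpowers_one_eq_bot,
        sup_bot_eq]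
  refine ⟨?_, hcyc, ?_, ?_, ?_, hscN⟩
  · intro j
    refine ⟨fun n hn g => ?_⟩
    rw [Subgroup.mem_subgroupOf] at hn ⊢
    exact stronglyClosed_conj_mem' F (hscN j) g ((hscN (j + 1)).1 g.2) n hn
  · rw [chainN_of_le c (Nat.zero_le m)]
    exact h0
  · apply monotone_nat_of_le_succ
    intro j
    obtain ⟨x, hx⟩ := hcyc j
    rw [hx]
    exact le_sup_left
  · rw [chainN_of_ge c le_rfl]
    exact hlast

/-- Automorphisms of `P` in the system preserve the intersection with a strongly closed subgroup. -/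
theorem autGroup_preserves_stronglyClosed (F : FusionSystem S) {Q : Subgroup Ω} (hQ : F.StronglyClosed Q)
    {P : Subgroup Ω} (hPS : P ≤ S) {α : MulAut P} (hα : α ∈ F.autGroup P) (x : P) (hx : (x : Ω) ∈ Q) :
    ((α x : P) : Ω) ∈ Q := by
  have h1 := (mem_autGroup_iff F hPS α).mp hα
  have h2 := restrict_mem F (inf_le_right : Q ⊓ P ≤ P) h1
  exact hQ.2 (Q ⊓ P) inf_le_left _ h2 ⟨x, ⟨hx, x.2⟩⟩

/-- If every saturated system over `S` has a chain of strongly closed subgroups with cyclic steps, `S` is normal in each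
of them. -/
theorem isNormal_top_of_hasCyclicChain [Finite S] (p : ℕ) [Fact p.Prime] (hS : IsPGroup p S)
    (F : FusionSystem S) (hF : F.IsSaturated p) (hc : HasCyclicChain F) : F.IsNormal S := by
  obtain ⟨m, c, h0, hlast, hsc, hstep⟩ := hc
  obtain ⟨hnorm, hcyc, h0', hmono, hm, hscN⟩ := chainN_facts F c h0 hlast hsc hstep
  apply Cfsg.Agent.S5301.result p hS F hF
  intro P hfn _ _
  have hPS : P ≤ S := hfn.1
  have : Finite P := finite_of_le hPS
  exact (chain_apply (p := p) (chainN c) hnorm hcyc h0' hmono P (hS.to_le hPS) m (by rw [hm]; exact hPS)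
    (F.autGroup P) (fun α hα j x hx => autGroup_preserves_stronglyClosed F (hscN j) hPS hα x hx)).1

/-- If the system of `Inn(S) H`, for a `p'`-group `H` of automorphisms of `S`, has a chain of strongly closed subgroups with
cyclic steps, then `H` is commutative of exponent dividing `p - 1`. -/
theorem comm_exp_of_hasCyclicChain [Finite S] (p : ℕ) [Fact p.Prime] (hS : IsPGroup p S)
    (H : Subgroup (MulAut S)) (hH : (Nat.card H).Coprime p)
    (hc : HasCyclicChain (Cfsg.Agent.Lib.Helper89.autSystem S (Inn S ⊔ H) le_sup_left)) :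
    (∀ α ∈ H, ∀ β ∈ H, α * β = β * α) ∧ ∀ α ∈ H, α ^ (p - 1) = 1 := by
  obtain ⟨m, c, h0, hlast, hsc, hstep⟩ := hc
  obtain ⟨hnorm, hcyc, h0', hmono, hm, hscN⟩ := chainN_facts _ c h0 hlast hsc hstep
  have hAG := Cfsg.Agent.Lib.Helper89.autGroup_autSystem S (Inn S ⊔ H) le_sup_left
  exact (chain_apply (p := p) (chainN c) hnorm hcyc h0' hmono S hS m (by rw [hm])
    H (fun α hα j x hx => autGroup_preserves_stronglyClosed _ (hscN j) le_rfl
      (by rw [hAG]; exact Subgroup.mem_sup_right hα) x hx)).2 hH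

/-- If `S` is normal in the saturated system `F` and the `p'`-groups of automorphisms of `S` are commutative of exponent dividing
`p - 1`, then `F` has a chain of strongly closed subgroups with cyclic steps. -/
theorem hasCyclicChain_of_isNormal_top [Finite S] (p : ℕ) [Fact p.Prime] (hS : IsPGroup p S)
    (F : FusionSystem S) (hF : F.IsSaturated p) (hN : F.IsNormal S)
    (hK : ∀ H : Subgroup (MulAut S), (Nat.card H).Coprime p →
      (∀ α ∈ H, ∀ β ∈ H, α * β = β * α) ∧ ∀ α ∈ H, α ^ (p - 1) = 1) :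
    HasCyclicChain F := by
  have hp : p.Prime := Fact.out
  -- `Inn(S)` is a normal Sylow subgroup of `Aut_F(S)`
  obtain ⟨-, R, hR⟩ := Cfsg.Agent.Lib.Helper88.isFullyAutomized_top_of_isSaturated F hF
  rw [autInducedBy_self] at hR
  have hIn : ((Inn S).subgroupOf (F.autGroup S)).Normal := inferInstance
  have hcop : (Nat.card ((Inn S).subgroupOf (F.autGroup S))).Coprime
      ((Inn S).subgroupOf (F.autGroup S)).index := by
    rw [← hR]
    exact R.card_coprime_index
  have hnd : ¬ p ∣ ((Inn S).subgroupOf (F.autGroup S)).index := by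
    rw [← hR]
    exact R.not_dvd_index
  obtain ⟨K₀, hK₀⟩ := Subgroup.exists_right_complement'_of_coprime hcop
  -- the complement, as a group of automorphisms of `S`
  let K : Subgroup (MulAut S) := K₀.map (F.autGroup S).subtype
  have hcardK : Nat.card K = ((Inn S).subgroupOf (F.autGroup S)).index := by
    have h1 : Nat.card K = Nat.card K₀ :=
      Subgroup.card_map_of_injective (F.autGroup S).subtype_injective
    have h2 := hK₀.card_mul_card
    have h3 := ((Inn S).subgroupOf (F.autGroup S)).card_mul_index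
    rw [h1]
    have hpos : 0 < Nat.card ((Inn S).subgroupOf (F.autGroup S)) := Nat.card_pos
    exact Nat.eq_of_mul_eq_mul_left hpos (h2.trans h3.symm)
  have hKcop : (Nat.card K).Coprime p := by
    rw [hcardK]
    exact ((Nat.Prime.coprime_iff_not_dvd hp).mpr hnd).symm
  obtain ⟨hKc, hKe⟩ := hK K hKcop
  obtain ⟨n, d, hd0, hdn, hdinv, hdstep⟩ := exists_cyclic_chain hS K hKc hKe
  -- invariance under `Aut_F(S)`
  have hdA : ∀ i, ∀ α ∈ F.autGroup S, ∀ x ∈ d i, α x ∈ d i := by
    intro i α hα x hx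
    obtain ⟨⟨ι, k⟩, hιk⟩ := hK₀.2 (⟨α, hα⟩ : F.autGroup S)
    have h1 : ((ι : F.autGroup S) : MulAut S) * ((k : F.autGroup S) : MulAut S) = α := by
      have := congrArg (fun z : F.autGroup S => (z : MulAut S)) hιk
      exact this
    have hι : ((ι : F.autGroup S) : MulAut S) ∈ Inn S := Subgroup.mem_subgroupOf.mp ι.2
    obtain ⟨g, hg⟩ := hι
    have hk : ((k : F.autGroup S) : MulAut S) ∈ K := ⟨k, k.2, rfl⟩
    rw [← h1, MulAut.mul_apply, ← hg]
    have h2 := (hdinv i).2 _ hk x hx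
    exact (hdinv i).1.conj_mem _ h2 g
  have hdmono : ∀ i, d i ≤ d (i + 1) := by
    intro i
    obtain ⟨x, hx⟩ := hdstep i
    rw [hx]
    exact le_sup_left
  refine ⟨n, fun i => (d i).map S.subtype, ?_, ?_, ?_, ?_⟩
  · show (d 0).map S.subtype = ⊥
    rw [hd0, Subgroup.map_bot]
  · show (d n).map S.subtype = S
    rw [hdn, ← MonoidHom.range_eq_map, Subgroup.range_subtype]
  · intro i
    refine ⟨Subgroup.map_subtype_le _, fun R' hR' φ hφ x => ?_⟩
    have hR'S : R' ≤ S := hR'.trans (Subgroup.map_subtype_le _)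
    obtain ⟨α, hα, hαφ⟩ := (Cfsg.Agent.S5106.result p hS F hF S le_rfl).mp hN R' hR'S φ hφ
    rw [← hαφ x]
    obtain ⟨y, hy, hyx⟩ := hR' x.2
    have hyx' : y = Subgroup.inclusion hR'S x := Subtype.ext hyx
    rw [← hyx']
    exact ⟨α y, hdA i α hα y hy, rfl⟩
  · intro i
    constructor
    · show (d (i.castSucc : ℕ)).map S.subtype ≤ (d (i.succ : ℕ)).map S.subtype
      rw [Fin.val_castSucc, Fin.val_succ]
      exact Subgroup.map_mono (hdmono i)
    · obtain ⟨x, hx⟩ := hdstep i
      refine ⟨x, x.2, ?_⟩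
      show (d (i.succ : ℕ)).map S.subtype = (d (i.castSucc : ℕ)).map S.subtype ⊔ Subgroup.zpowers (x : Ω)
      rw [Fin.val_castSucc, Fin.val_succ, hx, Subgroup.map_sup, MonoidHom.map_zpowers]
      rfl

end Cfsg.Agent.Lib.Helper91
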