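import Mathlib

/-!
# K-G42 leaf 255314 (L10): `GL_4(2)` has no simple subgroup of order 1344 (parallel hand, helper91).

Route: a simple group of order 1344 has only orbits of size 1 or >= 8 (`2^6` does not divide `7!`).
Acting on the 16 row vectors (dual action) it fixes a nonzero functional `f`; acting on the 16 column vectors
it then fixes every vector of the 7 nonzero vectors of `ker f`; hence every element squares to 1
(`h (h w - w) = h w - w` in characteristic 2), contradicting Cauchy for the prime 3.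
-/

set_option autoImplicit false

namespace Cfsg.Agent.Lib.Helper91.G42

open MulAction Matrix

theorem fixed_of_orbit_le_seven {K : Type*} [Group K] [Finite K] (hs : IsSimpleGroup K)
    (hc : Nat.card K = 1344) {X : Type*} [MulAction K X] (x : X)
    (hx : Nat.card (orbit K x) ≤ 7) : ∀ k : K, k • x = x := by
  classical
  have := hs
  have : Finite (orbit K x) := (Set.finite_range _).to_subtype
  let φ : K →* Equiv.Perm (orbit K x) := MulAction.toPermHom K (orbit K x)
  have hn : φ.ker.Normal := inferInstance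
  rcases hn.eq_bot_or_eq_top with hb | ht
  · exfalso
    have hinj : Function.Injective φ := (MonoidHom.ker_eq_bot_iff φ).1 hb
    have hdvd := Subgroup.card_dvd_of_injective φ hinj
    rw [hc, Nat.card_perm] at hdvd
    have h7 : (Nat.card (orbit K x)).factorial ∣ (7).factorial := Nat.factorial_dvd_factorial hx
    have := hdvd.trans h7
    norm_num [Nat.factorial] at this
  · intro k
    have hk : k ∈ φ.ker := ht ▸ Subgroup.mem_top k
    have h1 : φ k = 1 := hk
    have h2 := congrArg (fun σ => ((σ ⟨x, mem_orbit_self x⟩ : orbit K x) : X)) h1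
    simpa [φ] using h2

theorem exists_fixed {K : Type*} [Group K] [Finite K] (hs : IsSimpleGroup K)
    (hc : Nat.card K = 1344) {X : Type*} [Fintype X] [MulAction K X] (hX : Fintype.card X = 16)
    (z : X) (hz : ∀ k : K, k • z = z) : ∃ x : X, x ≠ z ∧ ∀ k : K, k • x = x := by
  classical
  by_contra hcon
  push Not at hcon
  have hbig : ∀ x : X, x ≠ z → 8 ≤ Nat.card (orbit K x) := by
    intro x hxz
    by_contra hlt
    push Not at hlt
    obtain ⟨k, hk⟩ := hcon x hxz
    exact hk (fixed_of_orbit_le_seven hs hc x (by omega) k)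
  have hzn : ∀ x : X, x ≠ z → z ∉ orbit K x := by
    intro x hxz hmem
    obtain ⟨k, hk⟩ := hmem
    apply hxz
    have hk' : k • x = z := hk
    have : x = k⁻¹ • z := by rw [← hk', inv_smul_smul]
    rw [this, hz]
  obtain ⟨x0, hx0⟩ : ∃ x0 : X, x0 ≠ z := by
    by_contra hall
    push Not at hall
    have : Fintype.card X ≤ 1 := Fintype.card_le_one_iff.2 (fun a b => by rw [hall a, hall b])
    omega
  by_cases hex : ∃ y : X, y ≠ z ∧ y ∉ orbit K x0
  · obtain ⟨y, hyz, hy⟩ := hex
    have hdisj : Disjoint (orbit K x0) (orbit K y) := by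
      rw [Set.disjoint_left]
      intro w hw1 hw2
      apply hy
      have h1 : orbit K w = orbit K x0 := orbit_eq_iff.2 hw1
      have h2 : orbit K w = orbit K y := orbit_eq_iff.2 hw2
      rw [← h1, h2]; exact mem_orbit_self y
    have h1 := hbig x0 hx0
    have h2 := hbig y hyz
    rw [Nat.card_coe_set_eq] at h1 h2
    have hcard : (orbit K x0 ∪ orbit K y).ncard = (orbit K x0).ncard + (orbit K y).ncard :=
      Set.ncard_union_eq hdisj
    have hz' : z ∉ orbit K x0 ∪ orbit K y := by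
      simp only [Set.mem_union, not_or]
      exact ⟨hzn x0 hx0, hzn y hyz⟩
    have hins : (insert z (orbit K x0 ∪ orbit K y)).ncard = (orbit K x0 ∪ orbit K y).ncard + 1 :=
      Set.ncard_insert_of_notMem hz'
    have hle : (insert z (orbit K x0 ∪ orbit K y)).ncard ≤ Fintype.card X := by
      rw [← Nat.card_eq_fintype_card, ← Set.ncard_univ]
      exact Set.ncard_le_ncard (Set.subset_univ _)
    omega
  · push Not at hex
    have heq : orbit K x0 = {z}ᶜ := by
      ext w
      constructor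
      · intro hw hwz
        rw [Set.mem_singleton_iff] at hwz
        exact hzn x0 hx0 (hwz ▸ hw)
      · intro hw
        exact hex w hw
    have h15 : Nat.card (orbit K x0) = 15 := by
      rw [Nat.card_coe_set_eq, heq, Set.ncard_compl, Set.ncard_singleton, Nat.card_eq_fintype_card, hX]
    have hdvd : Nat.card (orbit K x0) ∣ Nat.card K := by
      rw [Nat.card_coe_set_eq, ← MulAction.index_stabilizer]
      exact Subgroup.index_dvd_card _
    rw [h15, hc] at hdvd
    norm_num at hdvd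

theorem count_le (f : Fin 4 → ZMod 2) (hf0 : f ≠ 0) :
    {w : Fin 4 → ZMod 2 | f ⬝ᵥ w = 0 ∧ w ≠ 0}.ncard ≤ 7 := by
  classical
  obtain ⟨j, hj⟩ : ∃ j, f j ≠ 0 := by
    by_contra hall
    push Not at hall
    exact hf0 (funext hall)
  have hj1 : f j = 1 := by
    have : ∀ a : ZMod 2, a ≠ 0 → a = 1 := by decide
    exact this _ hj
  set S : Set (Fin 4 → ZMod 2) := {w | f ⬝ᵥ w = 0} with hS
  have hinj : S.ncard ≤ Sᶜ.ncard := by
    apply Set.ncard_le_ncard_of_injOn (fun w => w + Pi.single j 1)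
    · intro w hw
      show ¬ (f ⬝ᵥ (w + Pi.single j 1) = 0)
      have hw' : f ⬝ᵥ w = 0 := hw
      rw [dotProduct_add, hw', dotProduct_single, hj1]
      decide
    · intro a _ b _ hab
      exact add_right_cancel hab
  have htot : S.ncard + Sᶜ.ncard = 16 := by
    rw [Set.ncard_add_ncard_compl, Nat.card_eq_fintype_card]
    simp [ZMod.card]
  have h0 : (0 : Fin 4 → ZMod 2) ∈ S := by
    show f ⬝ᵥ 0 = 0
    simp
  have hdiff : {w : Fin 4 → ZMod 2 | f ⬝ᵥ w = 0 ∧ w ≠ 0} = S \ {0} := by
    ext w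
    simp [hS]
  rw [hdiff, Set.ncard_sdiff_singleton_of_mem h0]
  omega

/-- 255314 L10 (exact spec signature). -/
theorem no_simple_1344 (H : Subgroup (GL (Fin 4) (ZMod 2))) (hs : IsSimpleGroup ↥H) (hc : Nat.card ↥H = 1344) :
    False := by
  classical
  have hX : Fintype.card (Fin 4 → ZMod 2) = 16 := by simp [ZMod.card]
  -- a fixed nonzero functional (dual action)
  obtain ⟨f, hf0, hf⟩ : ∃ f : Fin 4 → ZMod 2, f ≠ 0 ∧
      ∀ h : ↥H, f ᵥ* (h.1 : Matrix (Fin 4) (Fin 4) (ZMod 2)) = f := by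
    letI act : MulAction ↥H (Fin 4 → ZMod 2) :=
      { smul := fun h f => f ᵥ* ((h⁻¹ : ↥H).1 : Matrix (Fin 4) (Fin 4) (ZMod 2))
        one_smul := fun f => by
          show f ᵥ* (((1 : ↥H)⁻¹ : ↥H).1 : Matrix (Fin 4) (Fin 4) (ZMod 2)) = f
          simp
        mul_smul := fun g h f => by
          show f ᵥ* (((g * h)⁻¹ : ↥H).1 : Matrix (Fin 4) (Fin 4) (ZMod 2)) =
            (f ᵥ* ((h⁻¹ : ↥H).1 : Matrix (Fin 4) (Fin 4) (ZMod 2))) ᵥ*
              ((g⁻¹ : ↥H).1 : Matrix (Fin 4) (Fin 4) (ZMod 2))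
          rw [vecMul_vecMul, _root_.mul_inv_rev]
          simp }
    obtain ⟨f, hf0, hf⟩ := exists_fixed hs hc (X := Fin 4 → ZMod 2) hX 0
      (fun k => by
        show (0 : Fin 4 → ZMod 2) ᵥ* ((k⁻¹ : ↥H).1 : Matrix (Fin 4) (Fin 4) (ZMod 2)) = 0
        simp)
    refine ⟨f, hf0, fun h => ?_⟩
    have h1 : f ᵥ* (((h⁻¹)⁻¹ : ↥H).1 : Matrix (Fin 4) (Fin 4) (ZMod 2)) = f := hf h⁻¹
    simpa using h1
  -- trivial action on `ker f`
  have hker : ∀ h : ↥H, ∀ u : Fin 4 → ZMod 2, f ⬝ᵥ u = 0 →
      (h.1 : Matrix (Fin 4) (Fin 4) (ZMod 2)) *ᵥ u = u := by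
    letI act : MulAction ↥H (Fin 4 → ZMod 2) :=
      { smul := fun h u => (h.1 : Matrix (Fin 4) (Fin 4) (ZMod 2)) *ᵥ u
        one_smul := fun u => by
          show ((1 : ↥H).1 : Matrix (Fin 4) (Fin 4) (ZMod 2)) *ᵥ u = u
          simp
        mul_smul := fun g h u => by
          show ((g * h : ↥H).1 : Matrix (Fin 4) (Fin 4) (ZMod 2)) *ᵥ u =
            (g.1 : Matrix (Fin 4) (Fin 4) (ZMod 2)) *ᵥ ((h.1 : Matrix (Fin 4) (Fin 4) (ZMod 2)) *ᵥ u)
          rw [mulVec_mulVec]
          simp }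
    intro h u hu
    by_cases hu0 : u = 0
    · subst hu0; simp
    · have hsub : orbit ↥H u ⊆ {w | f ⬝ᵥ w = 0 ∧ w ≠ 0} := by
        rintro _ ⟨k, rfl⟩
        show f ⬝ᵥ ((k.1 : Matrix (Fin 4) (Fin 4) (ZMod 2)) *ᵥ u) = 0 ∧
          (k.1 : Matrix (Fin 4) (Fin 4) (ZMod 2)) *ᵥ u ≠ 0
        constructor
        · rw [dotProduct_mulVec, hf k, hu]
        · intro h0
          apply hu0
          have := congrArg (fun w => ((k⁻¹ : ↥H).1 : Matrix (Fin 4) (Fin 4) (ZMod 2)) *ᵥ w) h0
          simpa [mulVec_mulVec] using this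
      have hcard : Nat.card (orbit ↥H u) ≤ 7 := by
        rw [Nat.card_coe_set_eq]
        exact (Set.ncard_le_ncard hsub).trans (count_le f hf0)
      exact fixed_of_orbit_le_seven hs hc u hcard h
  -- every element squares to 1
  have hsq : ∀ h : ↥H, h * h = 1 := by
    intro h
    have hM : (h.1 : Matrix (Fin 4) (Fin 4) (ZMod 2)) * (h.1 : Matrix (Fin 4) (Fin 4) (ZMod 2)) = 1 := by
      apply mulVec_injective
      funext w
      rw [← mulVec_mulVec, one_mulVec]
      set M := (h.1 : Matrix (Fin 4) (Fin 4) (ZMod 2)) with hMdef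
      have hd : f ⬝ᵥ (M *ᵥ w - w) = 0 := by
        rw [dotProduct_sub, dotProduct_mulVec, hf h, sub_self]
      have hfix := hker h _ hd
      rw [mulVec_sub] at hfix
      -- M (M w) - M w = M w - w
      have h2 : M *ᵥ (M *ᵥ w) = M *ᵥ w + M *ᵥ w - w := by
        rw [sub_eq_iff_eq_add] at hfix
        rw [hfix]; abel
      rw [h2]
      funext i
      have : ∀ a b : ZMod 2, a + a - b = b := by decide
      simp only [Pi.add_apply, Pi.sub_apply]
      exact this _ _
    apply Subtype.ext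
    apply Units.ext
    simpa using hM
  haveI : Fact (Nat.Prime 3) := ⟨by norm_num⟩
  obtain ⟨x, hx⟩ := exists_prime_orderOf_dvd_card' (G := ↥H) 3 (by rw [hc]; norm_num)
  have h2 : orderOf x ∣ 2 := orderOf_dvd_of_pow_eq_one (by rw [pow_two]; exact hsq x)
  rw [hx] at h2
  norm_num at h2

end Cfsg.Agent.Lib.Helper91.G42
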