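import Mathlib

set_option autoImplicit false

namespace Cfsg.Agent.Lib.Helper91

open Multiplicative

/-- For `p = 2` (in fact for any commutative groups): the automorphism `(u, v) ↦ (v⁻¹, u v⁻¹)` of order `3`. -/
def autThree (M H : Type*) [CommGroup M] [CommGroup H] : MulAut ((M × M) × H) where
  toFun z := ((z.1.2⁻¹, z.1.1 * z.1.2⁻¹), z.2)
  invFun z := ((z.1.1⁻¹ * z.1.2, z.1.1⁻¹), z.2)
  left_inv z := by
    apply Prod.ext
    · apply Prod.ext
      · simp
      · simp
    · rfl
  right_inv z := by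
    apply Prod.ext
    · apply Prod.ext
      · simp
      · simp
    · rfl
  map_mul' z w := by
    apply Prod.ext
    · apply Prod.ext
      · simp [mul_comm]
      · simp only [Prod.fst_mul, Prod.snd_mul, mul_inv]
        exact mul_mul_mul_comm _ _ _ _
    · rfl

theorem autThree_apply (M H : Type*) [CommGroup M] [CommGroup H] (z : (M × M) × H) :
    autThree M H z = ((z.1.2⁻¹, z.1.1 * z.1.2⁻¹), z.2) := rfl

theorem autThree_pow_three (M H : Type*) [CommGroup M] [CommGroup H] : autThree M H ^ 3 = 1 := by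
  ext z
  · simp [pow_succ, MulAut.mul_apply, autThree_apply]
  · simp [pow_succ, MulAut.mul_apply, autThree_apply]
  · simp [pow_succ, MulAut.mul_apply, autThree_apply]

/-- For a unit `a` of `ZMod N`: the automorphism `(u, v) ↦ (a v, u)` (written additively). -/
def autSwap (N : ℕ) (a : (ZMod N)ˣ) (H : Type*) [CommGroup H] :
    MulAut ((Multiplicative (ZMod N) × Multiplicative (ZMod N)) × H) where
  toFun z := ((ofAdd ((a : ZMod N) * toAdd z.1.2), z.1.1), z.2)
  invFun z := ((z.1.2, ofAdd (((a⁻¹ : (ZMod N)ˣ) : ZMod N) * toAdd z.1.1)), z.2)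
  left_inv z := by
    apply Prod.ext
    · apply Prod.ext
      · rfl
      · simp
    · rfl
  right_inv z := by
    apply Prod.ext
    · apply Prod.ext
      · simp
      · rfl
    · rfl
  map_mul' z w := by
    apply Prod.ext
    · apply Prod.ext
      · simp [mul_add]
      · rfl
    · rfl

theorem autSwap_apply (N : ℕ) (a : (ZMod N)ˣ) (H : Type*) [CommGroup H]
    (z : (Multiplicative (ZMod N) × Multiplicative (ZMod N)) × H) :
    autSwap N a H z = ((ofAdd ((a : ZMod N) * toAdd z.1.2), z.1.1), z.2) := rfl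

theorem autSwap_pow_two_mul (N : ℕ) (a : (ZMod N)ˣ) (H : Type*) [CommGroup H] (j : ℕ)
    (z : (Multiplicative (ZMod N) × Multiplicative (ZMod N)) × H) :
    (autSwap N a H ^ (2 * j)) z =
      ((ofAdd ((a : ZMod N) ^ j * toAdd z.1.1), ofAdd ((a : ZMod N) ^ j * toAdd z.1.2)), z.2) := by
  induction j generalizing z with
  | zero => simp
  | succ j ih =>
    have e : 2 * (j + 1) = 2 * j + 1 + 1 := by ring
    rw [e, pow_succ, pow_succ, MulAut.mul_apply, MulAut.mul_apply, ih, autSwap_apply, autSwap_apply]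
    simp only [toAdd_ofAdd]
    rw [← mul_assoc, ← mul_assoc, ← pow_succ]

/-- A unit `a` of `ZMod (p ^ n)`, `p` odd, with `a ^ (p - 1) = 1` and `a ^ ((p - 1) / 2) ≠ 1`. -/
theorem exists_unit_nonsquare {p n : ℕ} [Fact p.Prime] (hp2 : p ≠ 2) (hn : 0 < n) :
    ∃ a : (ZMod (p ^ n))ˣ, a ^ (p - 1) = 1 ∧ ((a : (ZMod (p ^ n))ˣ) : ZMod (p ^ n)) ^ (p / 2) ≠ 1 := by
  have hp : p.Prime := Fact.out
  obtain ⟨b, hb⟩ : ∃ b : ZMod p, ¬ IsSquare b :=
    FiniteField.exists_nonsquare (by rw [ZMod.ringChar_zmod_n]; exact hp2)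
  have hb0 : b ≠ 0 := by
    rintro rfl
    exact hb ⟨0, by simp⟩
  have hbpow : b ^ (p / 2) = -1 := by
    rcases ZMod.pow_div_two_eq_neg_one_or_one p hb0 with h | h
    · exact absurd ((ZMod.euler_criterion p hb0).mpr h) hb
    · exact h
  have hr0 : 0 < b.val := Nat.pos_of_ne_zero (fun h => hb0 ((ZMod.val_eq_zero b).mp h))
  have hrp : b.val < p := ZMod.val_lt b
  have hcop : Nat.Coprime b.val (p ^ n) :=
    (Nat.Coprime.symm ((Nat.Prime.coprime_iff_not_dvd hp).mpr (Nat.not_dvd_of_pos_of_lt hr0 hrp))).pow_right n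
  let g : (ZMod (p ^ n))ˣ := ZMod.unitOfCoprime b.val hcop
  have hg : ((g : (ZMod (p ^ n))ˣ) : ZMod (p ^ n)) = (b.val : ZMod (p ^ n)) := ZMod.coe_unitOfCoprime _ hcop
  refine ⟨g ^ (p ^ (n - 1)), ?_, ?_⟩
  · rw [← pow_mul, ← Nat.totient_prime_pow hp hn]
    exact ZMod.pow_totient g
  · intro h
    have h1 := congrArg (ZMod.castHom (dvd_pow_self p hn.ne') (ZMod p)) h
    rw [map_pow, Units.val_pow_eq_pow_val, map_pow, hg, map_natCast, ZMod.natCast_zmod_val, map_one,
      ZMod.pow_card_pow, hbpow] at h1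
    haveI : Fact (2 < p) := ⟨lt_of_le_of_ne hp.two_le (Ne.symm hp2)⟩
    exact ZMod.neg_one_ne_one h1

/-- On `(C_{p^n} × C_{p^n}) × H` with `n > 0` there is an automorphism of order prime to `p` whose `(p - 1)`-st power is not
trivial. -/
theorem exists_bad_aut {p n : ℕ} [Fact p.Prime] (hn : 0 < n) (H : Type*) [CommGroup H] :
    ∃ τ : MulAut ((Multiplicative (ZMod (p ^ n)) × Multiplicative (ZMod (p ^ n))) × H),
      (orderOf τ).Coprime p ∧ τ ^ (p - 1) ≠ 1 := by
  have hp : p.Prime := Fact.out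
  have hone : (1 : ZMod (p ^ n)) ≠ 0 := by
    haveI : Fact (1 < p ^ n) := ⟨Nat.one_lt_pow hn.ne' hp.one_lt⟩
    exact one_ne_zero
  by_cases hp2 : p = 2
  · refine ⟨autThree _ H, ?_, ?_⟩
    · have h1 : orderOf (autThree (Multiplicative (ZMod (p ^ n))) H) ∣ 3 :=
        orderOf_dvd_of_pow_eq_one (autThree_pow_three _ H)
      have h2 : Nat.Coprime 3 p := by rw [hp2]; decide
      exact Nat.Coprime.coprime_dvd_left h1 h2
    · intro h
      have hp1 : p - 1 = 1 := by omega
      rw [hp1, pow_one] at h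
      have h1 := DFunLike.congr_fun h ((1, ofAdd (1 : ZMod (p ^ n))), 1)
      rw [autThree_apply, MulAut.one_apply] at h1
      have h2 := congrArg (fun z => z.1.1) h1
      simp only at h2
      have h3 : ofAdd (1 : ZMod (p ^ n)) = 1 := inv_eq_one.mp h2
      exact hone (ofAdd_eq_one.mp h3)
  · obtain ⟨a, ha1, ha2⟩ := exists_unit_nonsquare (p := p) hp2 hn
    have hodd : p % 2 = 1 := by
      rcases hp.eq_two_or_odd with h | h
      · exact absurd h hp2
      · exact h
    have hp1 : p - 1 = 2 * (p / 2) := by omega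
    refine ⟨autSwap _ a H, ?_, ?_⟩
    · have h1 : autSwap (p ^ n) a H ^ (2 * (p - 1)) = 1 := by
        ext z
        · rw [autSwap_pow_two_mul, ← Units.val_pow_eq_pow_val, ha1]; simp
        · rw [autSwap_pow_two_mul, ← Units.val_pow_eq_pow_val, ha1]; simp
        · rw [autSwap_pow_two_mul]; simp
      have h2 : orderOf (autSwap (p ^ n) a H) ∣ 2 * (p - 1) := orderOf_dvd_of_pow_eq_one h1
      refine Nat.Coprime.coprime_dvd_left h2 ?_
      apply Nat.Coprime.symm
      rw [Nat.Prime.coprime_iff_not_dvd hp]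
      intro h
      rcases (Nat.Prime.dvd_mul hp).mp h with h | h
      · have := Nat.le_of_dvd (by norm_num) h
        have := hp.two_le
        omega
      · have h3 : 0 < p - 1 := by have := hp.two_le; omega
        have := Nat.le_of_dvd h3 h
        omega
    · intro h
      rw [hp1] at h
      have h1 := DFunLike.congr_fun h ((ofAdd (1 : ZMod (p ^ n)), 1), 1)
      rw [autSwap_pow_two_mul, MulAut.one_apply] at h1
      have h2 := congrArg (fun z => z.1.1) h1
      simp only [toAdd_ofAdd, mul_one] at h2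
      exact ha2 (Multiplicative.ofAdd.injective h2)

end Cfsg.Agent.Lib.Helper91
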