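import Mathlib
import Cfsg.Agent.Lib.Helper91.ExtraspecialElem
import Cfsg.Agent.Lib.Helper91.FrattiniElem
import Cfsg.Agent.S5422

set_option autoImplicit false

/-!
# A large extraspecial subgroup in a quotient by a central involution (towards S5429)
-/

namespace Cfsg.Agent.Lib.Helper91

open scoped commutatorElement

set_option maxHeartbeats 800000 in
theorem largeExtraspecial_quotient {N : Type*} [Group N] [Finite N] (P T : Subgroup N)
    [hTn : T.Normal] (t z : N) (w : ℕ) (hw : 3 ≤ w)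
    (hT : ∀ x : N, x ∈ T ↔ x = 1 ∨ x = t)
    (htc : ∀ x : N, t * x = x * t) (ht1 : t ≠ 1)
    (hzP : z ∈ P) (hz1 : z ≠ 1) (hzz : z * z = 1) (hzt : z ≠ t)
    (hzc : ∀ q ∈ P, z * q = q * z)
    (hcomm : ∀ a ∈ P, ∀ b ∈ P, a * b = b * a ∨ a * b = z * (b * a))
    (hsq : ∀ a ∈ P, a * a = 1 ∨ a * a = z)
    (hcen : ∀ c ∈ P, (∀ q ∈ P, c * q = q * c) → c = 1 ∨ c = z ∨ c = t ∨ c = t * z)
    (htP : t ∈ P)
    (hna : ∃ r ∈ P, ∃ s ∈ P, r * s ≠ s * r)
    (hP2 : IsPGroup 2 ↥P)
    (hcard : Nat.card ↥P = 2 ^ (2 * w))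
    (h6 : ∀ c : N, c * z * c⁻¹ ≠ t * z)
    (h7 : ∀ c : N, c * z = z * c →
      (∀ x ∈ P, c * x * c⁻¹ * x⁻¹ = 1 ∨ c * x * c⁻¹ * x⁻¹ = t) → c ∈ P)
    (h8 : ∀ c : N, c * z = z * c → ∀ x ∈ P, c * x * c⁻¹ ∈ P)
    (h9 : ∃ x : N, x * z * x⁻¹ ∈ P ∧ x * z * x⁻¹ ≠ z ∧ x * z * x⁻¹ ≠ t ∧ x * z * x⁻¹ ≠ t * z) :
    Cfsg.IsLargeExtraspecial (P.map (QuotientGroup.mk' T)) := by
  haveI : Fact (Nat.Prime 2) := ⟨Nat.prime_two⟩
  set π := QuotientGroup.mk' T with hπ
  set Qb := P.map π with hQb
  have hzinv : z⁻¹ = z := by rw [eq_comm, ← mul_eq_one_iff_eq_inv]; exact hzz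
  have hπ1 : ∀ x : N, π x = 1 ↔ x = 1 ∨ x = t := by
    intro x
    rw [hπ, QuotientGroup.mk'_apply, QuotientGroup.eq_one_iff, hT]
  have hπt : π t = 1 := (hπ1 t).mpr (Or.inr rfl)
  have hzeta1 : (π z) ≠ 1 := by
    intro h
    rcases (hπ1 z).mp h with h | h
    · exact hz1 h
    · exact hzt h
  have hzetaQ : (π z) ∈ Qb := ⟨z, hzP, rfl⟩
  have hmemQb : ∀ y : N ⧸ T, y ∈ Qb ↔ ∃ p ∈ P, π p = y := fun y => Iff.rfl
  -- the image of a commutator
  have hcommπ : ∀ a ∈ P, ∀ b ∈ P, π a * π b * (π a)⁻¹ * (π b)⁻¹ = 1 ∨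
      π a * π b * (π a)⁻¹ * (π b)⁻¹ = (π z) := by
    intro a ha b hb
    have h1 : π a * π b * (π a)⁻¹ * (π b)⁻¹ = π (a * b * a⁻¹ * b⁻¹) := by
      simp only [map_mul, map_inv]
    rw [h1]
    rcases hcomm a ha b hb with h | h
    · left
      have : a * b * a⁻¹ * b⁻¹ = 1 := by
        calc a * b * a⁻¹ * b⁻¹ = (a * b) * a⁻¹ * b⁻¹ := by group
          _ = (b * a) * a⁻¹ * b⁻¹ := by rw [h]
          _ = 1 := by group
      rw [this, map_one]
    · right
      have : a * b * a⁻¹ * b⁻¹ = z := by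
        calc a * b * a⁻¹ * b⁻¹ = (a * b) * a⁻¹ * b⁻¹ := by group
          _ = (z * (b * a)) * a⁻¹ * b⁻¹ := by rw [h]
          _ = z := by group
      rw [this]
  -- elements of P central modulo T
  have hCen : ∀ y ∈ P, (∀ p ∈ P, π y * π p = π p * π y) →
      y = 1 ∨ y = z ∨ y = t ∨ y = t * z := by
    intro y hy hyc
    apply hcen y hy
    intro p hp
    rcases hcomm y hy p hp with h | h
    · exact h
    · exfalso
      have h1 : π (y * p) = π (p * y) := by rw [map_mul, map_mul]; exact hyc p hp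
      rw [h, map_mul] at h1
      have h2 : π z = 1 := by
        have : π z * π (p * y) = 1 * π (p * y) := by rw [one_mul]; exact h1
        exact mul_right_cancel this
      exact hzeta1 h2
  -- the centre of the image
  have hA : ∀ y : N ⧸ T, y ∈ (Subgroup.center ↥Qb).map Qb.subtype ↔ y = 1 ∨ y = (π z) := by
    intro y
    rw [Cfsg.Agent.Lib.Helper92.mem_map_subtype_center_iff]
    constructor
    · rintro ⟨⟨y0, hy0, rfl⟩, hyc⟩
      have := hCen y0 hy0 (fun p hp => (hyc (π p) ⟨p, hp, rfl⟩).symm)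
      rcases this with h | h | h | h
      · left; rw [h, map_one]
      · right; rw [h]
      · left; rw [h]; exact hπt
      · right; rw [h, map_mul, hπt, one_mul]
    · rintro (rfl | rfl)
      · exact ⟨Qb.one_mem, fun q _ => by rw [mul_one, one_mul]⟩
      · refine ⟨hzetaQ, ?_⟩
        rintro q ⟨p, hp, rfl⟩
        rw [← map_mul, ← map_mul, hzc p hp]
  -- lifting: an element commuting with (π z)
  have hlift : ∀ c : N, π c * (π z) = (π z) * π c → c * z = z * c := by
    intro c hc
    have h1 : π (c * z * c⁻¹ * z⁻¹) = 1 := by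
      simp only [map_mul, map_inv]
      rw [hc]; group
    rcases (hπ1 _).mp h1 with h | h
    · calc c * z = (c * z * c⁻¹ * z⁻¹) * (z * c) := by group
        _ = z * c := by rw [h, one_mul]
    · exfalso
      apply h6 c
      calc c * z * c⁻¹ = (c * z * c⁻¹ * z⁻¹) * z := by group
        _ = t * z := by rw [h]
  have hL2 : Subgroup.centralizer (Qb : Set (N ⧸ T)) =
      (Subgroup.center ↥Qb).map Qb.subtype := by
    ext cb
    obtain ⟨c, rfl⟩ : ∃ c, π c = cb := QuotientGroup.mk'_surjective T cb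
    constructor
    · intro hc
      rw [Subgroup.mem_centralizer_iff] at hc
      have hcz : c * z = z * c := hlift c (hc (π z) hzetaQ).symm
      have hcP : c ∈ P := by
        apply h7 c hcz
        intro x hx
        have h1 : π (c * x * c⁻¹ * x⁻¹) = 1 := by
          simp only [map_mul, map_inv]
          have := hc (π x) ⟨x, hx, rfl⟩
          rw [← this]; group
        exact (hπ1 _).mp h1
      rw [Cfsg.Agent.Lib.Helper92.mem_map_subtype_center_iff]
      exact ⟨⟨c, hcP, rfl⟩, fun q hq => hc q hq⟩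
    · intro hc
      rw [Cfsg.Agent.Lib.Helper92.mem_map_subtype_center_iff] at hc
      rw [Subgroup.mem_centralizer_iff]
      exact fun q hq => hc.2 q hq
  have hL3 : Subgroup.centralizer (((Subgroup.center ↥Qb).map Qb.subtype : Subgroup (N ⧸ T)) :
      Set (N ⧸ T)) ≤ Subgroup.normalizer (Qb : Set (N ⧸ T)) := by
    intro cb hc
    obtain ⟨c, rfl⟩ : ∃ c, π c = cb := QuotientGroup.mk'_surjective T cb
    rw [Subgroup.mem_centralizer_iff] at hc
    have hcz : c * z = z * c := hlift c (hc (π z) ((hA (π z)).mpr (Or.inr rfl))).symm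
    have hcz' : c⁻¹ * z = z * c⁻¹ := by
      calc c⁻¹ * z = c⁻¹ * (z * c) * c⁻¹ := by group
        _ = c⁻¹ * (c * z) * c⁻¹ := by rw [hcz]
        _ = z * c⁻¹ := by group
    rw [Subgroup.mem_normalizer_iff]
    intro hb
    constructor
    · rintro ⟨p, hp, rfl⟩
      refine ⟨c * p * c⁻¹, h8 c hcz p hp, ?_⟩
      simp only [map_mul, map_inv]
    · rintro ⟨p, hp, hpe⟩
      refine ⟨c⁻¹ * p * c⁻¹⁻¹, h8 c⁻¹ hcz' p hp, ?_⟩
      simp only [map_mul, map_inv, inv_inv]
      rw [hpe]
      rw [QuotientGroup.mk'_apply]; group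
  -- the order of the image
  have hcardQb : Nat.card ↥Qb = 2 ^ (2 * (w - 1) + 1) := by
    set φ : ↥P →* N ⧸ T := π.comp P.subtype with hφ
    have hrange : φ.range = Qb := by
      rw [hφ, MonoidHom.range_comp, Subgroup.range_subtype]
    have hker : Nat.card φ.ker = 2 := by
      rw [Nat.card_eq_two_iff]
      refine ⟨⟨1, φ.ker.one_mem⟩, ⟨⟨t, htP⟩, ?_⟩, ?_, ?_⟩
      · rw [MonoidHom.mem_ker]; exact hπt
      · intro h
        apply ht1
        have := congrArg (fun x : φ.ker => ((x : ↥P) : N)) h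
        exact this.symm
      · ext x
        simp only [Set.mem_insert_iff, Set.mem_singleton_iff, Set.mem_univ, iff_true]
        have hx := x.2
        rw [MonoidHom.mem_ker] at hx
        rcases (hπ1 _).mp hx with h | h
        · left
          apply Subtype.ext; apply Subtype.ext; exact h
        · right
          apply Subtype.ext; apply Subtype.ext; exact h
    have h1 := Subgroup.card_eq_card_quotient_mul_card_subgroup φ.ker
    have h2 : Nat.card (↥P ⧸ φ.ker) = Nat.card ↥φ.range :=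
      Nat.card_congr (QuotientGroup.quotientKerEquivRange φ).toEquiv
    rw [h2, hrange, hker, hcard] at h1
    have h3 : 2 * w = (2 * (w - 1) + 1) + 1 := by omega
    rw [h3, pow_succ] at h1
    exact (Nat.eq_of_mul_eq_mul_right (by norm_num) h1).symm
  -- extraspecial
  have hPb : IsPGroup 2 ↥Qb := hP2.map π
  have hcenter' : ∀ y : ↥Qb, y ∈ Subgroup.center ↥Qb ↔ (y : N ⧸ T) = 1 ∨ (y : N ⧸ T) = (π z) := by
    intro y
    rw [← hA]
    constructor
    · intro hy; exact ⟨y, hy, rfl⟩
    · rintro ⟨y', hy', h⟩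
      have : y' = y := Subtype.ext h
      rw [← this]; exact hy'
  have hcommel : ∀ a b : ↥Qb, ((⁅a, b⁆ : ↥Qb) : N ⧸ T) = 1 ∨ ((⁅a, b⁆ : ↥Qb) : N ⧸ T) = (π z) := by
    intro a b
    obtain ⟨p1, hp1, hp1e⟩ := a.2
    obtain ⟨p2, hp2, hp2e⟩ := b.2
    have : ((⁅a, b⁆ : ↥Qb) : N ⧸ T) = π p1 * π p2 * (π p1)⁻¹ * (π p2)⁻¹ := by
      rw [commutatorElement_def, hp1e, hp2e]; simp
    rw [this]
    exact hcommπ p1 hp1 p2 hp2
  have hcomm_eq : commutator ↥Qb = Subgroup.center ↥Qb := by
    apply le_antisymm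
    · rw [commutator_def, Subgroup.commutator_le]
      intro a _ b _
      rw [hcenter']
      exact hcommel a b
    · intro y hy
      rcases (hcenter' y).mp hy with h | h
      · have : y = 1 := Subtype.ext h
        rw [this]; exact Subgroup.one_mem _
      · obtain ⟨r, hr, s, hs, hrs⟩ := hna
        have hrs' : r * s = z * (s * r) := by
          rcases hcomm r hr s hs with h' | h'
          · exact absurd h' hrs
          · exact h'
        have : y = ⁅(⟨π r, ⟨r, hr, rfl⟩⟩ : ↥Qb), ⟨π s, ⟨s, hs, rfl⟩⟩⁆ := by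
          apply Subtype.ext
          rw [h, commutatorElement_def]
          simp only [Subgroup.coe_mul, InvMemClass.coe_inv]
          have h1 : π r * π s * (π r)⁻¹ * (π s)⁻¹ = π (r * s * r⁻¹ * s⁻¹) := by
            simp only [map_mul, map_inv]
          rw [h1]
          have : r * s * r⁻¹ * s⁻¹ = z := by
            calc r * s * r⁻¹ * s⁻¹ = (r * s) * r⁻¹ * s⁻¹ := by group
              _ = (z * (s * r)) * r⁻¹ * s⁻¹ := by rw [hrs']
              _ = z := by group
          rw [this]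
        rw [this]
        exact Subgroup.commutator_mem_commutator (Subgroup.mem_top _) (Subgroup.mem_top _)
  have hfrat : frattini ↥Qb = Subgroup.center ↥Qb := by
    apply le_antisymm
    · apply frattini_le_of_sq_comm
      · intro x
        obtain ⟨p, hp, hpe⟩ := x.2
        rw [hcenter']
        have : ((x * x : ↥Qb) : N ⧸ T) = π (p * p) := by
          rw [map_mul, hpe]; rfl
        rw [this]
        rcases hsq p hp with h | h
        · left; rw [h, map_one]
        · right; rw [h]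
      · intro x y
        rw [hcenter']
        have := hcommel x y
        rw [commutatorElement_def] at this
        exact this
    · rw [← hcomm_eq]
      exact Cfsg.Agent.Lib.Helper03.commutator_le_frattini_of_isPGroup hPb
  have hcard2 : Nat.card (Subgroup.center ↥Qb) = 2 := by
    rw [Nat.card_eq_two_iff]
    refine ⟨⟨1, Subgroup.one_mem _⟩, ⟨⟨(π z), hzetaQ⟩, (hcenter' _).mpr (Or.inr rfl)⟩, ?_, ?_⟩
    · intro h
      apply hzeta1
      have := congrArg (fun x : Subgroup.center ↥Qb => ((x : ↥Qb) : N ⧸ T)) h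
      exact this.symm
    · ext x
      simp only [Set.mem_insert_iff, Set.mem_singleton_iff, Set.mem_univ, iff_true]
      rcases (hcenter' x.1).mp x.2 with h | h
      · left; apply Subtype.ext; apply Subtype.ext; exact h
      · right; apply Subtype.ext; apply Subtype.ext; exact h
  have hL1 : Cfsg.IsExtraspecial 2 ↥Qb := ⟨⟨hPb, hfrat, hcomm_eq⟩, hcard2⟩
  -- the conjugating element
  obtain ⟨x, hxP, hx1, hx2, hx3⟩ := h9
  have hconj : π x * (π z) * (π x)⁻¹ = π (x * z * x⁻¹) := by
    simp only [map_mul, map_inv]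
  refine (Cfsg.Agent.S5422.result Qb hL1 hL2 hL3 (w - 1) (by omega) hcardQb (π x) ?_ ?_).2.2
  · intro hn
    rw [Subgroup.mem_normalizer_iff] at hn
    have h1 := (hn (π z)).mp ((hA (π z)).mpr (Or.inr rfl))
    rw [hconj, hA] at h1
    rcases h1 with h | h
    · rcases (hπ1 _).mp h with h' | h'
      · apply hz1
        have : z = x⁻¹ * (x * z * x⁻¹) * x := by group
        rw [this, h']; group
      · exact hx2 h'
    · have h2 : π (z⁻¹ * (x * z * x⁻¹)) = 1 := by
        rw [map_mul, map_inv, h]; group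
      rcases (hπ1 _).mp h2 with h' | h'
      · apply hx1
        calc x * z * x⁻¹ = z * (z⁻¹ * (x * z * x⁻¹)) := by group
          _ = z := by rw [h', mul_one]
      · apply hx3
        calc x * z * x⁻¹ = z * (z⁻¹ * (x * z * x⁻¹)) := by group
          _ = z * t := by rw [h']
          _ = t * z := (htc z).symm
  · rintro y ⟨y0, hy0, rfl⟩
    rcases (hA y0).mp hy0 with rfl | rfl
    · simp only [MulEquiv.coe_toMonoidHom, map_one]
      exact Qb.one_mem
    · simp only [MulEquiv.coe_toMonoidHom, MulAut.conj_apply]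
      rw [hconj]
      exact ⟨_, hxP, rfl⟩

end Cfsg.Agent.Lib.Helper91
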