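import Mathlib
import Cfsg.Agent.Lib.Helper91.LargeQuot
import Cfsg.Agent.Lib.Helper38.LargeExtraspecial
import Cfsg.Agent.Lib.Helper30.FStar

set_option autoImplicit false

/-!
# S5429: large extraspecial subgroup in the centralizer of a non-central involution, modulo it
-/

namespace Cfsg.Agent.Lib.Helper91

open scoped commutatorElement

set_option maxHeartbeats 1600000 in
theorem large_in_involution_centralizer_quotient {G : Type*} [Group G] [Finite G] (z : G)
    (hz : orderOf z = 2) (Q : Subgroup G) (hQC : Q ≤ Subgroup.centralizer ({z} : Set G))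
    (hF : (Cfsg.generalizedFittingSubgroup ↥(Subgroup.centralizer ({z} : Set G))).map
      (Subgroup.centralizer ({z} : Set G)).subtype = Q)
    (hQ : Cfsg.IsExtraspecial 2 ↥Q) (w : ℕ) (hw : 3 ≤ w)
    (hcard : Nat.card ↥Q = 2 ^ (2 * w + 1)) (g : G) (hgQ : g * z * g⁻¹ ∈ Q)
    (hgZ : g * z * g⁻¹ ∉ ((Subgroup.center ↥Q).map Q.subtype)) (t : G) (ht : orderOf t = 2)
    (htQ : t ∈ Q ⊓ (Q).map (MulAut.conj g).toMonoidHom) (htz : ¬ IsConj z t) (P : Subgroup G)
    (hP : P = Q ⊓ Subgroup.centralizer ({t} : Set G))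
    (hCP : ∀ c ∈ Subgroup.centralizer ({z} : Set G),
      (∀ x ∈ P, ∃ y ∈ Subgroup.closure ({t, z} : Set G), c * x * c⁻¹ = x * y) ↔ c ∈ Q)
    [hn : ((Subgroup.zpowers t).subgroupOf (Subgroup.centralizer ({t} : Set G))).Normal] :
    Cfsg.IsLargeExtraspecial ((P.subgroupOf (Subgroup.centralizer ({t} : Set G))).map
      (QuotientGroup.mk' ((Subgroup.zpowers t).subgroupOf (Subgroup.centralizer ({t} : Set G)))))
    ∧ ∃ x ∈ P ⊔ ((Q).map (MulAut.conj g).toMonoidHom ⊓ Subgroup.centralizer ({t} : Set G)),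
      x * (g * z * g⁻¹) * x⁻¹ = z := by
  haveI : Fact (Nat.Prime 2) := ⟨Nat.prime_two⟩
  have hz1 : z ≠ 1 := by
    intro h; rw [h, orderOf_one] at hz; omega
  have hzz : z * z = 1 := by
    have := pow_orderOf_eq_one z
    rwa [hz, pow_two] at this
  have ht1 : t ≠ 1 := by
    intro h; rw [h, orderOf_one] at ht; omega
  have htt : t * t = 1 := by
    have := pow_orderOf_eq_one t
    rwa [ht, pow_two] at this
  have htinv : t⁻¹ = t := by rw [eq_comm, ← mul_eq_one_iff_eq_inv]; exact htt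
  have hmemC : ∀ a x : G, x ∈ Subgroup.centralizer ({a} : Set G) ↔ a * x = x * a := by
    intro a x
    rw [Subgroup.mem_centralizer_iff]
    constructor
    · intro h; exact h a rfl
    · intro h y hy
      rw [Set.mem_singleton_iff] at hy
      rw [hy]; exact h
  -- Q inside H = C(z)
  have hFn : (Cfsg.generalizedFittingSubgroup ↥(Subgroup.centralizer ({z} : Set G))).Normal :=
    Cfsg.Agent.Lib.Helper30.genFitting_normal
  have hmemQ : ∀ x : G, x ∈ Q ↔ ∃ y : Subgroup.centralizer ({z} : Set G),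
      y ∈ Cfsg.generalizedFittingSubgroup ↥(Subgroup.centralizer ({z} : Set G)) ∧ (y : G) = x := by
    intro x
    rw [← hF]
    constructor
    · rintro ⟨y, hy, rfl⟩; exact ⟨y, hy, rfl⟩
    · rintro ⟨y, hy, rfl⟩; exact ⟨y, hy, rfl⟩
  have hQn : ∀ h ∈ Subgroup.centralizer ({z} : Set G), ∀ q ∈ Q, h * q * h⁻¹ ∈ Q := by
    intro h hh q hq
    obtain ⟨y, hy, rfl⟩ := (hmemQ q).mp hq
    rw [hmemQ]
    exact ⟨⟨h, hh⟩ * y * ⟨h, hh⟩⁻¹, hFn.conj_mem y hy ⟨h, hh⟩, rfl⟩
  have hCQ : ∀ c ∈ Subgroup.centralizer ({z} : Set G), (∀ q ∈ Q, c * q = q * c) → c ∈ Q := by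
    intro c hc hcomm
    rw [hmemQ]
    refine ⟨⟨c, hc⟩, ?_, rfl⟩
    apply Cfsg.Agent.Lib.Helper28.centralizer_genFitting_le
    rw [Subgroup.mem_centralizer_iff]
    intro y hy
    apply Subtype.ext
    exact (hcomm y ((hmemQ y).mpr ⟨y, hy, rfl⟩)).symm
  have hzc : ∀ q ∈ Q, z * q = q * z := fun q hq => (hmemC z q).mp (hQC hq)
  have hzQ : z ∈ Q := hCQ z ((hmemC z z).mpr rfl) hzc
  have hXS : XS Q z := XS.of_isExtraspecial hQ hz1 hzQ hzc
  -- the centre of Q
  have hmemZ : ∀ x : G, x ∈ (Subgroup.center ↥Q).map Q.subtype ↔ x = 1 ∨ x = z := by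
    intro x
    rw [Cfsg.Agent.Lib.Helper92.mem_map_subtype_center_iff]
    constructor
    · rintro ⟨hx, hxc⟩
      exact hXS.cen x hx (fun q hq => (hxc q hq).symm)
    · rintro (rfl | rfl)
      · exact ⟨Q.one_mem, fun q _ => by rw [mul_one, one_mul]⟩
      · exact ⟨hzQ, fun q hq => (hzc q hq).symm⟩
  set u := g * z * g⁻¹ with hu
  have hu1 : u ≠ 1 := fun h => hgZ ((hmemZ u).mpr (Or.inl h))
  have huz : u ≠ z := fun h => hgZ ((hmemZ u).mpr (Or.inr h))
  have huu : u * u = 1 := by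
    rw [hu]
    calc g * z * g⁻¹ * (g * z * g⁻¹) = g * (z * z) * g⁻¹ := by group
      _ = 1 := by rw [hzz]; group
  have huconj : IsConj z u := isConj_iff.mpr ⟨g, rfl⟩
  have htQ1 : t ∈ Q := htQ.1
  have htz' : t ≠ z := by
    intro h
    apply htz
    rw [h]
  -- t is Q-conjugate to t z
  have htconj : IsConj t (t * z) := by
    obtain ⟨s, hs, hts⟩ := hXS.exists_anti htQ1 ht1 htz'
    have h1 := hXS.anti_symm htQ1 hs hts
    rw [isConj_iff]
    refine ⟨s, ?_⟩
    calc s * t * s⁻¹ = (s * t) * s⁻¹ := by group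
      _ = (z * (t * s)) * s⁻¹ := by rw [h1]
      _ = z * t := by group
      _ = t * z := hzc t htQ1
  have htzz : ¬ IsConj z (t * z) := fun h => htz (h.trans htconj.symm)
  have hut : u ≠ t := fun h => htz (h ▸ huconj)
  have hutz : u ≠ t * z := fun h => htzz (h ▸ huconj)
  -- z lies in the conjugate of Q
  have hzQg : z ∈ Q.map (MulAut.conj g).toMonoidHom := by
    apply Cfsg.Agent.Lib.Helper38.mem_conj_of_conj_mem Q hQ.1.1 hQ.1.2.2.le hQ.2 _ z hzQ
      (fun q hq => (hzc q hq).symm) hz1 _ _ g hgQ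
    · intro x
      rw [← hQ.1.2.1]
      exact Cfsg.Agent.Lib.Helper03.pow_mem_frattini_of_isPGroup hQ.1.1 x
    · intro c hc
      rw [Subgroup.mem_centralizer_iff] at hc
      exact hCQ c ((hmemC z c).mpr (hc z hzQ)) (fun q hq => (hc q hq).symm)
    · intro c hc
      rw [Subgroup.mem_normalizer_iff]
      intro q
      constructor
      · exact hQn c hc q
      · intro h
        have := hQn c⁻¹ (Subgroup.inv_mem _ hc) _ h
        have e : c⁻¹ * (c * q * c⁻¹) * c⁻¹⁻¹ = q := by group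
        rwa [e] at this
  have hz'Q : g⁻¹ * z * g ∈ Q := by
    obtain ⟨y, hy, hye⟩ := hzQg
    simp only [MulEquiv.coe_toMonoidHom, MulAut.conj_apply] at hye
    have : g⁻¹ * z * g = y := by rw [← hye]; group
    rw [this]; exact hy
  have ht'Q : g⁻¹ * t * g ∈ Q := by
    obtain ⟨y, hy, hye⟩ := htQ.2
    simp only [MulEquiv.coe_toMonoidHom, MulAut.conj_apply] at hye
    have : g⁻¹ * t * g = y := by rw [← hye]; group
    rw [this]; exact hy
  -- u commutes with t
  have hut_comm : t * u = u * t := by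
    have h1 := hzc _ ht'Q
    have h2 : t * u = g * ((g⁻¹ * t * g) * z) * g⁻¹ := by rw [hu]; group
    have h3 : u * t = g * (z * (g⁻¹ * t * g)) * g⁻¹ := by rw [hu]; group
    rw [h2, h3, h1]
  have hzt_comm : t * z = z * t := (hzc t htQ1).symm
  have hmemP : ∀ x : G, x ∈ P ↔ x ∈ Q ∧ t * x = x * t := by
    intro x
    rw [hP, Subgroup.mem_inf, hmemC]
  have huP : u ∈ P := (hmemP u).mpr ⟨hgQ, hut_comm⟩
  have hzP : z ∈ P := (hmemP z).mpr ⟨hzQ, hzt_comm⟩
  have htP : t ∈ P := (hmemP t).mpr ⟨htQ1, rfl⟩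
  -- part 2: the conjugating element
  obtain ⟨q, hqQ, hqt, hqu⟩ := hXS.exists_comm_conj htQ1 hgQ hu1 huz
    (by
      intro h
      apply hut
      calc u = t⁻¹ * (t * u) := by group
        _ = t := by rw [h, mul_one, htinv])
    (by
      intro h
      apply hutz
      calc u = t⁻¹ * (t * u) := by group
        _ = t * z := by rw [h, htinv])
  obtain ⟨q2, hq2Q, hq2t, hq2z⟩ := hXS.exists_comm_conj ht'Q hz'Q
    (by
      intro h
      apply hz1
      have : z = g * (g⁻¹ * z * g) * g⁻¹ := by group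
      rw [this, h]; group)
    (by
      intro h
      apply huz
      have h' : g * z * g⁻¹ = g * (g⁻¹ * z * g) * g⁻¹ := by rw [h]
      rw [hu, h']; group)
    (by
      intro h
      apply htz'
      have h1 : g⁻¹ * (t * z) * g = 1 := by
        have e : g⁻¹ * (t * z) * g = g⁻¹ * t * g * (g⁻¹ * z * g) := by group
        rw [e]; exact h
      have h2 : t * z = 1 := by
        have : t * z = g * (g⁻¹ * (t * z) * g) * g⁻¹ := by group
        rw [this, h1]; group
      calc t = (t * z) * z⁻¹ := by group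
        _ = z := by rw [h2, one_mul, hXS.zinv])
    (by
      intro h
      apply hutz
      have h1 : g⁻¹ * (t * z) * g = z := by
        have e : g⁻¹ * (t * z) * g = g⁻¹ * t * g * (g⁻¹ * z * g) := by group
        rw [e]; exact h
      have e2 : t * z = g * (g⁻¹ * (t * z) * g) * g⁻¹ := by group
      rw [e2, h1])
  set q' := g * q2 * g⁻¹ with hq'
  have hq't : t * q' = q' * t := by
    have h2 : t * q' = g * ((g⁻¹ * t * g) * q2) * g⁻¹ := by rw [hq']; group
    have h3 : q' * t = g * (q2 * (g⁻¹ * t * g)) * g⁻¹ := by rw [hq']; group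
    rw [h2, h3, hq2t]
  have hq'z : q' * z * q'⁻¹ = z * u := by
    have h2 : q' * z * q'⁻¹ = g * (q2 * (g⁻¹ * z * g) * q2⁻¹) * g⁻¹ := by rw [hq']; group
    rw [h2, hq2z, hu]; group
  have hq'u : q' * u * q'⁻¹ = u := by
    have h2 : q' * u * q'⁻¹ = g * (q2 * z * q2⁻¹) * g⁻¹ := by rw [hq', hu]; group
    have h3 : q2 * z * q2⁻¹ = z := by
      calc q2 * z * q2⁻¹ = (q2 * z) * q2⁻¹ := by group
        _ = (z * q2) * q2⁻¹ := by rw [hzc q2 hq2Q]
        _ = z := by group
    rw [h2, h3]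
  have hqP : q ∈ P := (hmemP q).mpr ⟨hqQ, hqt.symm⟩
  have hq'mem : q' ∈ (Q).map (MulAut.conj g).toMonoidHom ⊓ Subgroup.centralizer ({t} : Set G) := by
    refine ⟨⟨q2, hq2Q, ?_⟩, (hmemC t q').mpr hq't⟩
    simp only [MulEquiv.coe_toMonoidHom, MulAut.conj_apply]
    exact hq'.symm
  have hxconj : (q' * q) * u * (q' * q)⁻¹ = z := by
    have h1 : (q' * q) * u * (q' * q)⁻¹ = q' * (q * u * q⁻¹) * q'⁻¹ := by group
    rw [h1, hqu]
    have h2 : q' * (u * z) * q'⁻¹ = (q' * u * q'⁻¹) * (q' * z * q'⁻¹) := by group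
    rw [h2, hq'u, hq'z]
    have h3 : u * (z * u) = (u * z) * u := by group
    rw [h3, ← hzc u hgQ]
    calc z * u * u = z * (u * u) := by group
      _ = z := by rw [huu, mul_one]
  refine ⟨?_, q' * q, Subgroup.mul_mem _ (Subgroup.mem_sup_right hq'mem)
    (Subgroup.mem_sup_left hqP), hxconj⟩
  -- part 1: the quotient
  set Ct := Subgroup.centralizer ({t} : Set G) with hCt
  have hmemCt : ∀ x : G, x ∈ Ct ↔ t * x = x * t := fun x => hmemC t x
  have hPCt : P ≤ Ct := by rw [hP]; exact inf_le_right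
  have htCt : t ∈ Ct := (hmemCt t).mpr rfl
  have hzCt : z ∈ Ct := (hmemCt z).mpr hzt_comm
  have hqCt : q ∈ Ct := (hmemCt q).mpr hqt.symm
  have hq'Ct : q' ∈ Ct := (hmemCt q').mpr hq't
  have hmemP' : ∀ x : ↥Ct, x ∈ P.subgroupOf Ct ↔ (x : G) ∈ Q := by
    intro x
    rw [Subgroup.mem_subgroupOf, hmemP]
    constructor
    · exact fun h => h.1
    · exact fun h => ⟨h, (hmemCt x).mp x.2⟩
  refine largeExtraspecial_quotient (P.subgroupOf Ct) ((Subgroup.zpowers t).subgroupOf Ct)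
    ⟨t, htCt⟩ ⟨z, hzCt⟩ w hw ?_ ?_ ?_ ?_ ?_ ?_ ?_ ?_ ?_ ?_ ?_ ?_ ?_ ?_ ?_ ?_ ?_ ?_ ?_
  · -- hT
    intro x
    rw [Subgroup.mem_subgroupOf]
    constructor
    · intro h
      rcases eq_one_or_of_mem_zpowers_sq htt h with h' | h'
      · left; exact Subtype.ext h'
      · right; exact Subtype.ext h'
    · rintro (rfl | rfl)
      · exact Subgroup.one_mem _
      · exact Subgroup.mem_zpowers t
  · -- htc
    intro x
    apply Subtype.ext
    exact (hmemCt x).mp x.2
  · intro h; exact ht1 (congrArg Subtype.val h)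
  · exact (hmemP' _).mpr hzQ
  · intro h; exact hz1 (congrArg Subtype.val h)
  · exact Subtype.ext hzz
  · intro h; exact htz' (congrArg Subtype.val h).symm
  · intro x hx
    apply Subtype.ext
    exact hzc x ((hmemP' x).mp hx)
  · intro a ha b hb
    rcases hXS.comm a ((hmemP' a).mp ha) b ((hmemP' b).mp hb) with h | h
    · left; exact Subtype.ext h
    · right; exact Subtype.ext h
  · intro a ha
    rcases hXS.sq a ((hmemP' a).mp ha) with h | h
    · left; exact Subtype.ext h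
    · right; exact Subtype.ext h
  · -- hcen
    intro c hc hcc
    have hcQ := (hmemP' c).mp hc
    have := hXS.mem_of_centralizes htQ1 hcQ (by
      intro q0 hq0 hq0t
      have hq0Ct : q0 ∈ Ct := (hmemCt q0).mpr hq0t.symm
      have := hcc ⟨q0, hq0Ct⟩ ((hmemP' _).mpr hq0)
      exact (congrArg Subtype.val this).symm)
    rcases this with (h | h) | (h | h)
    · left; exact Subtype.ext h
    · right; left; exact Subtype.ext h
    · right; right; left
      apply Subtype.ext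
      show (c : G) = t
      calc (c : G) = t⁻¹ * (t * c) := by group
        _ = t := by rw [h, mul_one, htinv]
    · right; right; right
      apply Subtype.ext
      show (c : G) = t * z
      calc (c : G) = t⁻¹ * (t * c) := by group
        _ = t * z := by rw [h, htinv]
  · exact (hmemP' _).mpr htQ1
  · -- hna
    have hbig : 8 < Nat.card ↥Q := by
      rw [hcard]
      calc 8 = 2 ^ 3 := by norm_num
        _ < 2 ^ (2 * w + 1) := Nat.pow_lt_pow_right (by norm_num) (by omega)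
    obtain ⟨r, s, hr, hs, hrs⟩ := Cfsg.Agent.Lib.Helper38.exists_noncommuting_in_centralizer
      hQ.1.2.2.le hQ.2 hbig (⟨t, htQ1⟩ : ↥Q)
    have hrt : t * (r : G) = (r : G) * t := (congrArg Subtype.val hr).symm
    have hst : t * (s : G) = (s : G) * t := (congrArg Subtype.val hs).symm
    refine ⟨⟨r, (hmemCt r).mpr hrt⟩, (hmemP' _).mpr r.2, ⟨s, (hmemCt s).mpr hst⟩,
      (hmemP' _).mpr s.2, ?_⟩
    intro h
    apply hrs
    apply Subtype.ext
    exact congrArg (fun x : ↥Ct => (x : G)) h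
  · exact (hQ.1.1.to_le (show P ≤ Q by rw [hP]; exact inf_le_left)).comap_subtype
  · -- hcard
    have h1 := hXS.card_centralizer htQ1 ht1 htz'
    rw [← hP, hcard] at h1
    have h2 : Nat.card ↥(P.subgroupOf Ct) = Nat.card ↥P :=
      Nat.card_congr (Subgroup.subgroupOfEquivOfLe hPCt).toEquiv
    rw [h2]
    have h3 : 2 ^ (2 * w + 1) = 2 ^ (2 * w) * 2 := pow_succ 2 (2 * w)
    rw [h3] at h1
    exact Nat.eq_of_mul_eq_mul_right (by norm_num) h1
  · -- h6
    intro c h
    apply htzz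
    rw [isConj_iff]
    exact ⟨(c : G), congrArg Subtype.val h⟩
  · -- h7
    intro c hcz hcx
    rw [hmemP']
    have hcH : (c : G) ∈ Subgroup.centralizer ({z} : Set G) :=
      (hmemC z c).mpr (congrArg Subtype.val hcz).symm
    apply (hCP (c : G) hcH).mp
    intro x hx
    have hxCt : x ∈ Ct := hPCt hx
    have hxP' : (⟨x, hxCt⟩ : ↥Ct) ∈ P.subgroupOf Ct := (hmemP' _).mpr ((hmemP x).mp hx).1
    rcases hcx ⟨x, hxCt⟩ hxP' with h | h
    · refine ⟨1, Subgroup.one_mem _, ?_⟩
      have h1 : (c : G) * x * (c : G)⁻¹ * x⁻¹ = 1 := congrArg Subtype.val h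
      calc (c : G) * x * (c : G)⁻¹ = ((c : G) * x * (c : G)⁻¹ * x⁻¹) * x := by group
        _ = x * 1 := by rw [h1, one_mul, mul_one]
    · refine ⟨t, Subgroup.subset_closure (Set.mem_insert _ _), ?_⟩
      have h1 : (c : G) * x * (c : G)⁻¹ * x⁻¹ = t := congrArg Subtype.val h
      calc (c : G) * x * (c : G)⁻¹ = ((c : G) * x * (c : G)⁻¹ * x⁻¹) * x := by group
        _ = t * x := by rw [h1]
        _ = x * t := (hmemCt x).mp hxCt
  · -- h8
    intro c hcz x hx
    rw [hmemP']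
    have hcH : (c : G) ∈ Subgroup.centralizer ({z} : Set G) :=
      (hmemC z c).mpr (congrArg Subtype.val hcz).symm
    exact hQn (c : G) hcH x ((hmemP' x).mp hx)
  · -- h9
    have hxCt : q' * q ∈ Ct := Ct.mul_mem hq'Ct hqCt
    refine ⟨(⟨q' * q, hxCt⟩ : ↥Ct)⁻¹, ?_, ?_, ?_, ?_⟩
    all_goals
      have hval : (((⟨q' * q, hxCt⟩ : ↥Ct)⁻¹ * ⟨z, hzCt⟩ * (⟨q' * q, hxCt⟩ : ↥Ct)⁻¹⁻¹ : ↥Ct) : G) = u := by
        simp only [Subgroup.coe_mul, InvMemClass.coe_inv, inv_inv]
        rw [← hxconj]; group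
    · rw [hmemP', hval]; exact hgQ
    · intro h; exact huz (hval.symm.trans (congrArg Subtype.val h))
    · intro h; exact hut (hval.symm.trans (congrArg Subtype.val h))
    · intro h; exact hutz (hval.symm.trans (congrArg Subtype.val h))

end Cfsg.Agent.Lib.Helper91
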