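import Mathlib
import Cfsg.Prelude.Def_GeometricClasses
import Cfsg.Agent.Lib.Helper19.OEvenType2
import Cfsg.Agent.Lib.Helper36.SLMaxD2

/-!
# Planes of an orthogonal isometric decomposition of a minus-type form are anisotropic (helper91, for S5850)
-/

set_option autoImplicit false
set_option linter.unusedSectionVars false
set_option linter.unusedVariables false

namespace Cfsg.Agent.Lib.Helper91.O10m

open Cfsg Cfsg.Geo
open scoped Matrix MatrixGroups

variable {F : Type*} [Field F] [Fintype F]

/-- If one plane of an orthogonal decomposition into pairwise isometric planes contains a non-zero singular vector,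
the form is of plus type. -/
theorem plus_of_singular_in_plane {n t : ℕ} (Q : (Fin n → F) → F) (hQ : IsNondegenerateQuadraticForm Q)
    (D : Fin t → Submodule F (Fin n → F)) (hD : IsOrthogonalMDecomposition Q 2 D)
    (i : Fin t) (v : Fin n → F) (hv : v ∈ D i) (hv0 : v ≠ 0) (hQv : Q v = 0) : IsPlusTypeOn Q ⊤ := by
  classical
  choose e he using fun j => hD.isometric i j
  let w : Fin t → Fin n → F := fun j => ((e j ⟨v, hv⟩ : D j) : Fin n → F)
  have hwmem : ∀ j, w j ∈ D j := fun j => (e j ⟨v, hv⟩).2
  have hwQ : ∀ j, Q (w j) = 0 := by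
    intro j
    have := he j ⟨v, hv⟩
    simp only [w]
    rw [this]
    exact hQv
  have hw0 : ∀ j, w j ≠ 0 := by
    intro j h
    have h1 : e j ⟨v, hv⟩ = 0 := Subtype.ext h
    have h2 : (⟨v, hv⟩ : D i) = 0 := (e j).map_eq_zero_iff.mp h1
    exact hv0 (congrArg Subtype.val h2)
  have hpol : ∀ j j', QuadraticMap.polar Q (w j) (w j') = 0 := by
    intro j j'
    by_cases hjj : j = j'
    · subst hjj
      unfold QuadraticMap.polar
      have h2 : w j + w j = (2 : F) • w j := (two_smul F (w j)).symm
      rw [h2, hQ.smul, hwQ]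
      ring
    · exact hD.decomp.orthogonal j j' hjj _ (hwmem j) _ (hwmem j')
  have hts := Cfsg.Agent.Lib.Helper19.OEvenType.isTotallySingularQuad_span Q hQ w hwQ hpol
  have hli : LinearIndependent F w :=
    hD.decomp.decomp.indep.linearIndependent D hwmem hw0
  have hdim : Module.finrank F (Submodule.span F (Set.range w)) = t := by
    rw [finrank_span_eq_card hli, Fintype.card_fin]
  have hmul : t * 2 = n := Cfsg.Agent.Lib.Helper36.SLMax.mul_eq_of_isMDecomposition D hD.decomp.decomp
  refine ⟨Submodule.span F (Set.range w), le_top, hts, ?_⟩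
  rw [hdim, finrank_top, Module.finrank_fin_fun]
  omega

end Cfsg.Agent.Lib.Helper91.O10m
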