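import Mathlib
import Cfsg.Prelude.Def_GeometricClasses
import Cfsg.Agent.Lib.Helper46.AschEDefs
import Cfsg.Agent.Lib.Helper08.OOddMaxGlue
import Cfsg.Agent.Lib.Helper36.SLMaxD2
import Cfsg.Agent.Lib.Helper63.SLMaxD3
import Cfsg.Agent.Lib.Helper91.O10mGlue

/-!
# The row S5850 (maximal subgroups of `Ω₁₀⁻(q)`) from its keystones, helper91
-/

set_option autoImplicit false
set_option linter.unusedSectionVars false
set_option linter.unusedVariables false
set_option linter.style.haveILetI false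
set_option maxHeartbeats 1000000

namespace Cfsg.Agent.Lib.Helper91.O10m

open Cfsg Cfsg.Geo Cfsg.Agent.Lib.Helper46.AschE Cfsg.Agent.Lib.Helper08.OOddMax
open scoped Matrix Kronecker MatrixGroups

variable {F : Type*} [Field F] [Fintype F]

local notation "V" => (Fin 10 → F)
local notation "Mat" => Matrix (Fin 10) (Fin 10) F

/-- All the inputs of the row, for a fixed form `Q` on `F¹⁰`. -/
structure Hyps (Q : V → F) : Prop where
  /-- the generic theorem -/
  asch : ∀ H : Subgroup (GL (Fin 10) F), H ≤ isometryGroup F Q →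
    EGeom Q (H ⊔ scalars (Fin 10) F) ∨ InOrthogonalResidualClass H
  /-- block N -/
  n1 : ∀ W : Submodule F V, W ≠ ⊥ → W ≠ ⊤ → ¬ omegaGL Q ≤ subspaceStabilizer W
  n2o : ∀ {t k : ℕ} (D : Fin t → Submodule F V), IsOrthogonalMDecomposition Q k D →
    ¬ omegaGL Q ≤ decompositionStabilizer D
  n2p : ∀ {k : ℕ} (D : Fin 2 → Submodule F V), IsNondegenerateMDecomposition (QuadraticMap.polar Q) k D →
    ¬ omegaGL Q ≤ decompositionStabilizer D
  n3 : ∀ K : Subalgebra F Mat, IsFieldSubalgebra 2 K → ¬ omegaGL Q ≤ subalgebraNormalizer K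
  n5 : ∀ (F₀ : Subfield F) (r : ℕ) (P : GL (Fin 10) F), r.Prime → Fintype.card F = Nat.card F₀ ^ r →
    ¬ omegaGL Q ≤ subfieldSubgroup F₀ P
  /-- shared X leaves -/
  x1 : ∀ W : Submodule F V, IsNondegenerateOn (QuadraticMap.polar Q) W →
    ∃ W' : Submodule F V, IsNondegenerateOn (QuadraticMap.polar Q) W' ∧
      Module.finrank F W + Module.finrank F W' = 10 ∧
      subspaceStabilizer W ⊓ isometryGroup F Q = subspaceStabilizer W' ⊓ isometryGroup F Q
  x2 : ∀ W : Submodule F V, IsNondegenerateOn (QuadraticMap.polar Q) W → Odd (Module.finrank F W) →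
    Odd (Fintype.card F)
  x3 : Fintype.card F ≤ 3 → ∀ W : Submodule F V, Module.finrank F W = 2 →
    IsNondegenerateOn (QuadraticMap.polar Q) W → IsPlusTypeOn Q W →
    ∃ K : Subgroup (GL (Fin 10) F), subspaceStabilizer W ⊓ omegaGL Q < K ∧ K < omegaGL Q
  x7 : ∀ (F₀ : Subfield F), Fintype.card F = Nat.card F₀ ^ 2 → ∀ (P : GL (Fin 10) F) (ζ : F), ζ ≠ 0 →
    IsQuadFormRationalStructure (fun v : V => ζ * Q v) F₀ P → IsPlusTypeOn Q ⊤
  x9 : ∀ {t k : ℕ} (D : Fin t → Submodule F V), IsOrthogonalMDecomposition Q k D →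
    (∃ i, IsPlusTypeOn Q (D i)) → IsPlusTypeOn Q ⊤
  x12 : ∀ f : (Fin 5 → F) → (Fin 5 → F) → F, ¬ IsSymplecticForm f
  /-- type leaves (helper19) -/
  tEven : (2 : F) ≠ 0 → ∀ {t k : ℕ} (D : Fin t → Submodule F V), IsOrthogonalMDecomposition Q k D → Even t →
    (IsPlusTypeOn Q ⊤ ↔ Fintype.card F % 4 ≠ 3)
  tPair : (2 : F) ≠ 0 → ∀ {k : ℕ} (D : Fin 2 → Submodule F V),
    IsNondegenerateMDecomposition (QuadraticMap.polar Q) k D →
    (AreIsometricFor Q (D 0) (D 1) ↔ (IsPlusTypeOn Q ⊤ ↔ Fintype.card F % 4 ≠ 3))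
  /-- S5850-only leaves -/
  y1 : ∀ W : Submodule F V, W ≠ ⊥ → IsNondegenerateOn (QuadraticMap.polar Q) W →
    2 * Module.finrank F W = 10 →
    ∃ D : Fin 2 → Submodule F V, D 0 = W ∧
      IsNondegenerateMDecomposition (QuadraticMap.polar Q) (Module.finrank F W) D ∧
      subspaceStabilizer W ⊓ isometryGroup F Q ≤ decompositionStabilizer D
  y2 : Fintype.card F = 3 → ∀ {t : ℕ} (D : Fin t → Submodule F V), IsOrthogonalMDecomposition Q 2 D →
    (∀ i, ¬ IsPlusTypeOn Q (D i)) →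
    ∃ D' : Fin (2 * t) → Submodule F V, IsOrthogonalMDecomposition Q 1 D' ∧
      decompositionStabilizer D ⊓ isometryGroup F Q ≤ decompositionStabilizer D'
  y3 : (2 : F) = 0 → ∀ E : Subalgebra F Mat, IsFieldSubalgebra 2 E →
    IsSelfAdjointFor (QuadraticMap.polar Q) E → 4 ∣ 10
  y4 : (2 : F) ≠ 0 → ∀ E : Subalgebra F Mat, IsFieldSubalgebra 5 E →
    IsSelfAdjointFor (QuadraticMap.polar Q) E →
    ∃ (J : Mat) (δ : F), δ ≠ 0 ∧ J * J = δ • (1 : Mat) ∧
      (∀ u v : V, QuadraticMap.polar Q (J *ᵥ u) v = - QuadraticMap.polar Q u (J *ᵥ v)) ∧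
      (∀ g ∈ subalgebraNormalizer E ⊓ isometryGroup F Q,
        (g : Mat) * J * ((g⁻¹ : GL (Fin 10) F) : Mat) = J ∨
        (g : Mat) * J * ((g⁻¹ : GL (Fin 10) F) : Mat) = -J)
  y5 : (2 : F) = 0 → ∀ E : Subalgebra F Mat, IsFieldSubalgebra 5 E →
    IsSelfAdjointFor (QuadraticMap.polar Q) E →
    ∃ (u : Mat) (c₀ : F), u * u + u = c₀ • (1 : Mat) ∧
      (∀ x : V, QuadraticMap.polar Q (u *ᵥ x) x = Q x) ∧
      (∀ g ∈ subalgebraNormalizer E ⊓ isometryGroup F Q,
        (g : Mat) * u * ((g⁻¹ : GL (Fin 10) F) : Mat) = u ∨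
        (g : Mat) * u * ((g⁻¹ : GL (Fin 10) F) : Mat) = u + 1)
  y6 : (2 : F) ≠ 0 → ∀ (J : Mat) (δ : F), δ ≠ 0 → J * J = δ • (1 : Mat) →
    (∀ u v : V, QuadraticMap.polar Q (J *ᵥ u) v = - QuadraticMap.polar Q u (J *ᵥ v)) →
    ∃ K : Subalgebra F Mat, IsFieldSubalgebra 2 K ∧ IsAdjointClosedFor (QuadraticMap.polar Q) K ∧
      ¬ IsSelfAdjointFor (QuadraticMap.polar Q) K ∧
      (∀ k ∈ K, ∃ c : F, ∀ v : V, Q (k *ᵥ v) = c * Q v) ∧
      (∀ g : GL (Fin 10) F, ((g : Mat) * J * ((g⁻¹ : GL (Fin 10) F) : Mat) = J ∨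
          (g : Mat) * J * ((g⁻¹ : GL (Fin 10) F) : Mat) = -J) → g ∈ subalgebraNormalizer K)
  y7 : (2 : F) = 0 → ∀ (u : Mat) (c₀ : F), u * u + u = c₀ • (1 : Mat) →
    (∀ x : V, QuadraticMap.polar Q (u *ᵥ x) x = Q x) →
    ∃ K : Subalgebra F Mat, IsFieldSubalgebra 2 K ∧ IsAdjointClosedFor (QuadraticMap.polar Q) K ∧
      ¬ IsSelfAdjointFor (QuadraticMap.polar Q) K ∧
      (∀ k ∈ K, ∃ c : F, ∀ v : V, Q (k *ᵥ v) = c * Q v) ∧
      (∀ g : GL (Fin 10) F, ((g : Mat) * u * ((g⁻¹ : GL (Fin 10) F) : Mat) = u ∨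
          (g : Mat) * u * ((g⁻¹ : GL (Fin 10) F) : Mat) = u + 1) → g ∈ subalgebraNormalizer K)
  y8 : (2 : F) ≠ 0 → ∀ (e : Fin 10 ≃ Fin 2 × Fin 5) (P : GL (Fin 10) F)
    (f₁ : (Fin 2 → F) → (Fin 2 → F) → F) (f₂ : (Fin 5 → F) → (Fin 5 → F) → F),
    IsSymmetricForm f₁ → IsSymmetricForm f₂ →
    IsTensorFormStructure id (QuadraticMap.polar Q) f₁ f₂ e P →
    ∃ (J : Mat) (δ : F), δ ≠ 0 ∧ J * J = δ • (1 : Mat) ∧
      (∀ u v : V, QuadraticMap.polar Q (J *ᵥ u) v = - QuadraticMap.polar Q u (J *ᵥ v)) ∧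
      (∀ g ∈ tensorProductSubgroup 2 5 e P ⊓ isometryGroup F Q,
        (g : Mat) * J * ((g⁻¹ : GL (Fin 10) F) : Mat) = J ∨ (g : Mat) * J * ((g⁻¹ : GL (Fin 10) F) : Mat) = -J)

section row

variable {Q : (Fin 10 → F) → F} (hQ : IsNondegenerateQuadraticForm Q) (hminus : ¬ IsPlusTypeOn Q ⊤) (hyp : Hyps Q)
  {H : Subgroup (GL (Fin 10) F)} (hH : IsMaximalIn (omegaGL Q) H)

include hH in
theorem H_le_I : H ≤ isometryGroup F Q := hH.1.le.trans (omegaGL_le_isometryGroup Q)

include hQ hminus hyp hH in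
/-- a non-degenerate 2-space -/
theorem case_two (W : Submodule F V) (hdim : Module.finrank F W = 2)
    (hW : IsNondegenerateOn (QuadraticMap.polar Q) W) (hHW : H ≤ subspaceStabilizer W) : Concl Q H := by
  have hne : ¬ omegaGL Q ≤ subspaceStabilizer W :=
    hyp.n1 W (ne_bot_of_finrank hdim (by omega)) (ne_top_of_finrank hdim (by omega))
  have hHeq : H = subspaceStabilizer W ⊓ omegaGL Q := eq_inf_of_le hH hHW hne
  by_cases hplus : IsPlusTypeOn Q W
  · by_cases hq : 4 ≤ Fintype.card F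
    · exact concl4 ⟨hq, W, hdim, hW, hplus, hHeq⟩
    · exfalso
      have hq3 : Fintype.card F ≤ 3 := by omega
      exact false_of_le_nonmax hH hHeq.le (hyp.x3 hq3 W hdim hW hplus)
  · exact concl3 ⟨W, hdim, hW, hplus, hHeq⟩

include hQ hminus hyp hH in
/-- a non-degenerate 4-space -/
theorem case_four (W : Submodule F V) (hdim : Module.finrank F W = 4)
    (hW : IsNondegenerateOn (QuadraticMap.polar Q) W) (hHW : H ≤ subspaceStabilizer W) : Concl Q H := by
  have hne : ¬ omegaGL Q ≤ subspaceStabilizer W :=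
    hyp.n1 W (ne_bot_of_finrank hdim (by omega)) (ne_top_of_finrank hdim (by omega))
  exact concl5 ⟨W, hdim, hW, eq_inf_of_le hH hHW hne⟩

include hQ hminus hyp hH in
/-- a non-degenerate subspace of odd dimension `≠ 5` -/
theorem case_odd (W : Submodule F V) (h0 : W ≠ ⊥) (h1 : W ≠ ⊤) (hodd : Odd (Module.finrank F W))
    (h5 : Module.finrank F W ≠ 5)
    (hW : IsNondegenerateOn (QuadraticMap.polar Q) W) (hHW : H ≤ subspaceStabilizer W) : Concl Q H := by
  have hne : ¬ omegaGL Q ≤ subspaceStabilizer W := hyp.n1 W h0 h1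
  exact concl2 ⟨hyp.x2 W hW hodd, W, h0, h1, hodd, by omega, hW, eq_inf_of_le hH hHW hne⟩

include hQ hminus hyp hH in
/-- a non-degenerate 5-space -/
theorem case_five (W : Submodule F V) (hdim : Module.finrank F W = 5)
    (hW : IsNondegenerateOn (QuadraticMap.polar Q) W) (hHW : H ≤ subspaceStabilizer W) : Concl Q H := by
  have hoddq : Odd (Fintype.card F) := hyp.x2 W hW (by rw [hdim]; decide)
  have h2 : (2 : F) ≠ 0 := two_ne_zero_of_odd hoddq
  obtain ⟨D, hD0, hD, hle⟩ := hyp.y1 W (ne_bot_of_finrank hdim (by omega)) hW (by rw [hdim])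
  rw [hdim] at hD
  have hHD : H ≤ decompositionStabilizer D :=
    (le_inf hHW (H_le_I hH)).trans hle
  have hne : ¬ omegaGL Q ≤ decompositionStabilizer D := hyp.n2p D hD
  have hHeq : H = decompositionStabilizer D ⊓ omegaGL Q := eq_inf_of_le hH hHD hne
  have hiff := hyp.tPair h2 D hD
  by_cases hiso : AreIsometricFor Q (D 0) (D 1)
  · -- isometric: `q ≡ 3 mod 4`
    have h3 : Fintype.card F % 4 = 3 := by
      by_contra h3
      exact hminus ((hiff.mp hiso).mpr h3)
    obtain ⟨e, he⟩ := hiso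
    have hD' : IsOrthogonalMDecomposition Q 5 D := by
      refine ⟨hD, ?_⟩
      intro i j
      fin_cases i <;> fin_cases j
      · exact ⟨LinearEquiv.refl F _, fun w => rfl⟩
      · exact ⟨e, he⟩
      · refine ⟨e.symm, fun w => ?_⟩
        have := he (e.symm w)
        rw [LinearEquiv.apply_symm_apply] at this
        exact this.symm
      · exact ⟨LinearEquiv.refl F _, fun w => rfl⟩
    exact concl9 ⟨h3, D, hD', hHeq⟩
  · have h1 : Fintype.card F % 4 = 1 := by
      rcases mod_four_of_odd hoddq with h | h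
      · exact h
      · exfalso
        apply hiso
        rw [hiff]
        constructor
        · intro hp; exact absurd hp hminus
        · intro hne3; exact absurd h hne3
    exact concl10 ⟨h1, D, hD, hiso, hHeq⟩

include hQ hminus hyp hH in
/-- shape (1b) -/
theorem case_nondeg (W : Submodule F V) (h0 : W ≠ ⊥) (h1 : W ≠ ⊤)
    (hW : IsNondegenerateOn (QuadraticMap.polar Q) W) (hHW : H ≤ subspaceStabilizer W) : Concl Q H := by
  obtain ⟨W', hW', hsum, hstab⟩ := hyp.x1 W hW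
  have hHW' : H ≤ subspaceStabilizer W' := by
    have : H ≤ subspaceStabilizer W ⊓ isometryGroup F Q := le_inf hHW (H_le_I hH)
    rw [hstab] at this
    exact this.trans inf_le_left
  have hk0 := finrank_pos_of_ne_bot h0
  have hk1 := finrank_lt_of_ne_top h1
  generalize hk : Module.finrank F W = k at *
  generalize hk' : Module.finrank F W' = k' at *
  have hW'0 : W' ≠ ⊥ := ne_bot_of_finrank hk' (by omega)
  have hW'1 : W' ≠ ⊤ := ne_top_of_finrank hk' (by omega)
  interval_cases k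
  · exact case_odd hQ hminus hyp hH W h0 h1 (by rw [hk]; decide) (by omega) hW hHW
  · exact case_two hQ hminus hyp hH W hk hW hHW
  · exact case_odd hQ hminus hyp hH W h0 h1 (by rw [hk]; decide) (by omega) hW hHW
  · exact case_four hQ hminus hyp hH W hk hW hHW
  · exact case_five hQ hminus hyp hH W hk hW hHW
  · exact case_four hQ hminus hyp hH W' (by omega) hW' hHW'
  · exact case_odd hQ hminus hyp hH W h0 h1 (by rw [hk]; decide) (by omega) hW hHW
  · exact case_two hQ hminus hyp hH W' (by omega) hW' hHW'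
  · exact case_odd hQ hminus hyp hH W h0 h1 (by rw [hk]; decide) (by omega) hW hHW

include hQ hminus hyp hH in
/-- shape (2a) -/
theorem case_decomp {t k : ℕ} (D : Fin t → Submodule F V) (ht : 2 ≤ t)
    (hprime : k = 1 → (Fintype.card F).Prime) (hD : IsOrthogonalMDecomposition Q k D)
    (hHD : H ≤ decompositionStabilizer D) : Concl Q H := by
  have hmul : t * k = 10 := Cfsg.Agent.Lib.Helper36.SLMax.mul_eq_of_isMDecomposition D hD.decomp.decomp
  have hkpos : 0 < k := hD.decomp.decomp.pos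
  have hne : ¬ omegaGL Q ≤ decompositionStabilizer D := hyp.n2o D hD
  have hHeq : H = decompositionStabilizer D ⊓ omegaGL Q := eq_inf_of_le hH hHD hne
  have ht10 : t ≤ 10 := by nlinarith
  let i0 : Fin t := ⟨0, by omega⟩
  interval_cases t
  · -- t = 2, k = 5
    obtain rfl : k = 5 := by omega
    have hoddq : Odd (Fintype.card F) :=
      hyp.x2 (D i0) (hD.decomp.nondegenerate i0) (by rw [hD.decomp.decomp.finrank_eq]; decide)
    have h2 : (2 : F) ≠ 0 := two_ne_zero_of_odd hoddq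
    have h3 : Fintype.card F % 4 = 3 := by
      by_contra h3
      exact hminus ((hyp.tEven h2 D hD ⟨1, rfl⟩).mpr h3)
    exact concl9 ⟨h3, D, hD, hHeq⟩
  · exfalso; omega
  · exfalso; omega
  · -- t = 5, k = 2
    obtain rfl : k = 2 := by omega
    by_cases hq : Fintype.card F = 3
    · have hani : ∀ i, ¬ IsPlusTypeOn Q (D i) := fun i h => hminus (hyp.x9 D hD ⟨i, h⟩)
      obtain ⟨D', hD', hle⟩ := hyp.y2 hq D hD hani
      have hHD' : H ≤ decompositionStabilizer D' := (le_inf hHD (H_le_I hH)).trans hle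
      have hne' : ¬ omegaGL Q ≤ decompositionStabilizer D' := hyp.n2o D' hD'
      exact concl7 ⟨⟨3, Nat.prime_three, hq, rfl⟩, D', hD', eq_inf_of_le hH hHD' hne'⟩
    · exact concl8 ⟨hq, D, hD, hHeq⟩
  · exfalso; omega
  · exfalso; omega
  · exfalso; omega
  · exfalso; omega
  · -- t = 10, k = 1
    obtain rfl : k = 1 := by omega
    have hoddq : Odd (Fintype.card F) :=
      hyp.x2 (D i0) (hD.decomp.nondegenerate i0) (by rw [hD.decomp.decomp.finrank_eq]; decide)
    have h2 : (2 : F) ≠ 0 := two_ne_zero_of_odd hoddq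
    have h3 : Fintype.card F % 4 = 3 := by
      by_contra h3
      exact hminus ((hyp.tEven h2 D hD ⟨5, rfl⟩).mpr h3)
    exact concl7 ⟨⟨Fintype.card F, hprime rfl, rfl, h3⟩, D, hD, hHeq⟩

include hQ hminus hyp hH in
/-- a unitary-type quadratic field normalised by `H` -/
theorem case_unitary (K : Subalgebra F Mat) (hK : IsFieldSubalgebra 2 K)
    (hac : IsAdjointClosedFor (QuadraticMap.polar Q) K) (hns : ¬ IsSelfAdjointFor (QuadraticMap.polar Q) K)
    (hsim : ∀ k ∈ K, ∃ c : F, ∀ v : V, Q (k *ᵥ v) = c * Q v) (hHK : H ≤ subalgebraNormalizer K) :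
    Concl Q H :=
  concl12 ⟨K, hK, hac, hns, hsim, eq_inf_of_le hH hHK (hyp.n3 K hK)⟩

include hQ hminus hyp hH in
/-- from a skew `J` (odd characteristic) -/
theorem case_skew (h2 : (2 : F) ≠ 0) (X : Subgroup (GL (Fin 10) F)) (hHX : H ≤ X)
    (h : ∃ (J : Mat) (δ : F), δ ≠ 0 ∧ J * J = δ • (1 : Mat) ∧
      (∀ u v : V, QuadraticMap.polar Q (J *ᵥ u) v = - QuadraticMap.polar Q u (J *ᵥ v)) ∧
      (∀ g ∈ X ⊓ isometryGroup F Q,
        (g : Mat) * J * ((g⁻¹ : GL (Fin 10) F) : Mat) = J ∨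
        (g : Mat) * J * ((g⁻¹ : GL (Fin 10) F) : Mat) = -J)) : Concl Q H := by
  obtain ⟨J, δ, hδ, hJ2, hskew, hconj⟩ := h
  obtain ⟨K, hK, hac, hns, hsim, hnorm⟩ := hyp.y6 h2 J δ hδ hJ2 hskew
  refine case_unitary hQ hminus hyp hH K hK hac hns hsim ?_
  intro g hg
  exact hnorm g (hconj g ⟨hHX hg, H_le_I hH hg⟩)

include hQ hminus hyp hH in
/-- shape (3a) -/
theorem case_field {r : ℕ} (E : Subalgebra F Mat) (hr : r.Prime) (hE : IsFieldSubalgebra r E)
    (hsa : IsSelfAdjointFor (QuadraticMap.polar Q) E) (hHE : H ≤ subalgebraNormalizer E) : Concl Q H := by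
  have hdvd : r ∣ 10 := Cfsg.Agent.Lib.Helper63.SLMax.dvd_of_isFieldSubalgebra E hE
  have hr10 : r ≤ 10 := Nat.le_of_dvd (by norm_num) hdvd
  have hr2 : 2 ≤ r := hr.two_le
  interval_cases r
  · -- r = 2
    by_cases hodd : Odd (Fintype.card F)
    · exact concl11 ⟨hodd, E, hE, hsa, eq_inf_of_le hH hHE (hyp.n3 E hE)⟩
    · exfalso
      have := hyp.y3 (two_eq_zero_of_not_odd hodd) E hE hsa
      omega
  · exfalso; omega
  · exfalso; exact absurd hr (by decide)
  · -- r = 5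
    by_cases h2 : (2 : F) = 0
    · obtain ⟨u, c₀, hu2, hpol, hconj⟩ := hyp.y5 h2 E hE hsa
      obtain ⟨K, hK, hac, hns, hsim, hnorm⟩ := hyp.y7 h2 u c₀ hu2 hpol
      refine case_unitary hQ hminus hyp hH K hK hac hns hsim ?_
      intro g hg
      exact hnorm g (hconj g ⟨hHE hg, H_le_I hH hg⟩)
    · exact case_skew hQ hminus hyp hH h2 (subalgebraNormalizer E) hHE (hyp.y4 h2 E hE hsa)
  · exfalso; exact absurd hr (by decide)
  · exfalso; omega
  · exfalso; exact absurd hr (by decide)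
  · exfalso; exact absurd hr (by decide)
  · exfalso; exact absurd hr (by decide)

include hQ hminus hyp hH in
/-- the row -/
theorem row : Concl Q H := by
  rcases hyp.asch H (H_le_I hH) with hgeom | hres
  swap
  · exact concl14 hres
  obtain ⟨X, hX, hle⟩ := hgeom
  have hHX : H ≤ X := le_sup_left.trans hle
  rcases hX with h | h | h | h | h | h | h | h | h | h | h
  · -- (1a)
    obtain ⟨W, h0, hts, rfl⟩ := h
    have h1 : W ≠ ⊤ := by
      rintro rfl
      exact top_not_totallySingular (by norm_num) hQ hts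
    exact concl1 ⟨W, h0, hts, eq_inf_of_le hH hHX (hyp.n1 W h0 h1)⟩
  · -- (1b)
    obtain ⟨W, h0, h1, hW, rfl⟩ := h
    exact case_nondeg hQ hminus hyp hH W h0 h1 hW hHX
  · -- (1c)
    obtain ⟨v, h2, hv, rfl⟩ := h
    have hnodd : ¬ Odd (Fintype.card F) := fun hodd => two_ne_zero_of_odd hodd h2
    have hv0 : v ≠ 0 := by
      rintro rfl
      exact hv (Q_zero hQ)
    have h0 : Submodule.span F {v} ≠ ⊥ := by
      rw [Ne, Submodule.span_singleton_eq_bot]; exact hv0
    have h1 : Submodule.span F {v} ≠ ⊤ :=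
      ne_top_of_finrank (finrank_span_singleton hv0) (by norm_num)
    exact concl6 ⟨hnodd, v, hv, eq_inf_of_le hH hHX (hyp.n1 _ h0 h1)⟩
  · -- (2a)
    obtain ⟨t, k, D, ht, hprime, hD, rfl⟩ := h
    exact case_decomp hQ hminus hyp hH D ht hprime hD hHX
  · -- (2b)
    obtain ⟨k, D, hD, hts, rfl⟩ := h
    exfalso
    have hmul : 2 * k = 10 := Cfsg.Agent.Lib.Helper36.SLMax.mul_eq_of_isMDecomposition D hD
    apply hminus
    refine ⟨D 0, le_top, hts 0, ?_⟩
    rw [hD.finrank_eq, finrank_top, Module.finrank_fin_fun]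
    exact hmul
  · -- (3a)
    obtain ⟨r, E, hr, hE, hsa, rfl⟩ := h
    exact case_field hQ hminus hyp hH E hr hE hsa hHX
  · -- (3b)
    obtain ⟨E, hE, hac, hns, hsim, rfl⟩ := h
    exact case_unitary hQ hminus hyp hH E hE hac hns hsim hHX
  · -- (4)
    obtain ⟨n₁, n₂, e, P, f₁, f₂, h1, h12, hforms, hT, rfl⟩ := h
    have hcard : 10 = n₁ * n₂ := by
      have := Fintype.card_congr e
      simpa using this
    have hn1 : n₁ = 2 := by
      have : n₁ * n₁ ≤ 10 := by
        calc n₁ * n₁ ≤ n₁ * n₂ := Nat.mul_le_mul_left _ h12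
          _ = 10 := hcard.symm
      have h3 : n₁ ≤ 3 := by nlinarith
      interval_cases n₁
      · rfl
      · exfalso; omega
    subst hn1
    obtain rfl : n₂ = 5 := by omega
    rcases hforms with ⟨hf₁, hf₂, h2⟩ | ⟨hf₁, hf₂, -⟩
    · exact case_skew hQ hminus hyp hH h2 _ hHX (hyp.y8 h2 e P f₁ f₂ hf₁ hf₂ hT)
    · exact absurd hf₂ (hyp.x12 f₂)
  · -- (5)
    obtain ⟨F₀, r, P, ζ, hr, hF, hζ, hrat, rfl⟩ := h
    rcases hr.eq_two_or_odd' with rfl | hodd
    · exfalso
      exact hminus (hyp.x7 F₀ hF P ζ hζ hrat)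
    · exact concl13 ⟨F₀, r, P, ζ, hr, hodd, hF, hζ, hrat, eq_inf_of_le hH hHX (hyp.n5 F₀ r P hr hF)⟩
  · -- (6)
    obtain ⟨R, r, m, -, -, hR, -, -, -, hm, hn, -⟩ := h
    exfalso
    have hr : r.Prime := hR.prime
    have hdvd : r ∣ 10 := by
      rw [hn]; exact dvd_pow_self r (by omega)
    have hr10 : r ≤ 10 := Nat.le_of_dvd (by norm_num) hdvd
    have hr2 := hr.two_le
    have hm4 : m < 4 := by
      by_contra hm4
      push Not at hm4
      have : 2 ^ 4 ≤ r ^ m :=
        (Nat.pow_le_pow_left hr2 4).trans (Nat.pow_le_pow_right (by omega) hm4)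
      omega
    interval_cases r <;> interval_cases m <;> first | (exact absurd hr (by decide)) | (norm_num at hn)
  · -- (7)
    obtain ⟨m, t, e, P, hm, ht, -, -⟩ := h
    exfalso
    have hcard : 10 = m ^ t := by
      have := Fintype.card_congr e
      simpa using this
    have ht4 : t < 4 := by
      by_contra ht4
      push Not at ht4
      have : 2 ^ 4 ≤ m ^ t :=
        (Nat.pow_le_pow_left hm 4).trans (Nat.pow_le_pow_right (by omega) ht4)
      omega
    have hm4 : m < 4 := by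
      by_contra hm4
      push Not at hm4
      have : 4 ^ 2 ≤ m ^ t :=
        (Nat.pow_le_pow_left hm4 2).trans (Nat.pow_le_pow_right (by omega) ht)
      omega
    interval_cases m <;> interval_cases t <;> omega

end row

end Cfsg.Agent.Lib.Helper91.O10m
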