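import Cfsg.Agent.Lib.Helper98.OhPE2
import Cfsg.Agent.Lib.Helper28.OhPA
import Cfsg.Agent.Lib.Helper13.OhPE1
import Cfsg.Agent.Lib.Helper49.OElDefs

set_option autoImplicit false
set_option linter.unusedSectionVars false
set_option linter.unusedVariables false

/-!
# K-OEl-S (keystone 598818, architect helper49): in characteristic two an isometry involution of a
minus type space of dimension `2 d` fixes an elliptic `m`-space if `d` is even or `m ≡ 2 (mod 4)`
(selection over the pieces of helper98's `OhP.exists_counts`)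
-/

namespace Cfsg.Agent.Lib.Helper91.OEl

open Module Cfsg.Agent.Lib.Helper98.Elus Cfsg.Agent.Lib.Helper98.Sy Cfsg.Agent.Lib.Helper38.OhP
  Cfsg.Agent.Lib.Helper49.OEl

universe u
variable {F : Type u} [Field F] {V : Type u} [AddCommGroup V] [Module F V]

/-- the arithmetic of the selection: an odd number of minus planes -/
theorem exists_selection_ell (P N B d e : ℕ) (hsum : P + N + 2 * B = d) (hN : Odd N)
    (he1 : 1 ≤ e) (hed : e + 1 ≤ d) (hcond : Even d ∨ Odd e) :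
    ∃ p n b : ℕ, p ≤ P ∧ n ≤ N ∧ b ≤ B ∧ Odd n ∧ p + n + 2 * b = e := by
  obtain ⟨N2, hN2⟩ := hN
  rcases Nat.even_or_odd e with hee | heo
  · -- `e` even, so `d` is even and `P` is odd
    obtain ⟨e2, he2⟩ := hee
    have hd : Even d := by
      rcases hcond with h | h
      · exact h
      · exfalso
        obtain ⟨k, hk⟩ := h
        omega
    obtain ⟨d2, hd2⟩ := hd
    rcases Nat.lt_or_ge B (e2 - 1) with hB | hB
    · -- all 4-spaces are used; `R = e - 2 - 2 B`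
      rcases Nat.lt_or_ge (N - 1) (e - 2 - 2 * B) with hlt | hge
      · exact ⟨1 + (e - 2 - 2 * B - (N - 1)), N, B, by omega, le_rfl, le_rfl, ⟨N2, hN2⟩, by omega⟩
      · exact ⟨1, 1 + (e - 2 - 2 * B), B, by omega, by omega, le_rfl,
          ⟨e2 - 1 - B, by omega⟩, by omega⟩
    · exact ⟨1, 1, e2 - 1, by omega, by omega, by omega, ⟨0, rfl⟩, by omega⟩
  · obtain ⟨e2, he2⟩ := heo
    rcases Nat.lt_or_ge B e2 with hB | hB
    · rcases Nat.lt_or_ge (N - 1) (e - 1 - 2 * B) with hlt | hge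
      · exact ⟨e - 1 - 2 * B - (N - 1), N, B, by omega, le_rfl, le_rfl, ⟨N2, hN2⟩, by omega⟩
      · exact ⟨0, 1 + (e - 1 - 2 * B), B, by omega, by omega, le_rfl, ⟨e2 - B, by omega⟩, by omega⟩
    · exact ⟨0, 1, e2, by omega, by omega, by omega, ⟨0, rfl⟩, by omega⟩

/-- core of LEAF S with K-OhP LEAF E1 and LEAF A as hypotheses -/
theorem exists_fixed_ell_char2_of [FiniteDimensional F V]
    (Q : QuadraticForm F V) (hV : NonDeg (pB Q) ⊤) (hVm : ¬ PlusQ Q ⊤) (d : ℕ)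
    (hdim : finrank F V = 2 * d) (g : V →ₗ[F] V) (hg : g * g = 1) (hiso : QIso Q g)
    (m : ℕ) (hme : Even m) (hm : 2 ≤ m) (hmn : m + 2 ≤ 2 * d) (hcond : Even d ∨ m % 4 = 2)
    (hE1 : ∀ U : Submodule F V, Inv g U → NonDeg (pB Q) U → U ≠ ⊥ →
      ∃ P : Submodule F V, P ≤ U ∧ Inv g P ∧ NonDeg (pB Q) P ∧
        (finrank F P = 2 ∨ (finrank F P = 4 ∧ PlusQ Q P)))
    (hA : ∀ W1 W2 : Submodule F V, NonDeg (pB Q) W1 → NonDeg (pB Q) W2 → Ort (pB Q) W1 W2 →
      Even (finrank F W1) → Even (finrank F W2) →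
      (PlusQ Q (W1 ⊔ W2) ↔ (PlusQ Q W1 ↔ PlusQ Q W2))) :
    ∃ W : Submodule F V, Inv g W ∧ NonDeg (pB Q) W ∧ finrank F W = m ∧ ¬ PlusQ Q W := by
  obtain ⟨P, N, B, hsum, hsel⟩ :=
    Cfsg.Agent.Lib.Helper98.OhP.exists_counts Q g hg hiso hE1 hA (2 * d) ⊤
      (by rw [finrank_top]; exact hdim) (fun _ _ => Submodule.mem_top) hV
  have hsum' : P + N + 2 * B = d := by omega
  have hNo : Odd N := by
    obtain ⟨W, _, _, _, hWd, hWp⟩ := hsel P N B le_rfl le_rfl le_rfl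
    have hWtop : W = ⊤ := by
      apply Submodule.eq_top_of_finrank_eq
      rw [hWd, hdim, hsum']
    rw [hWtop] at hWp
    rw [← Nat.not_even_iff_odd]
    exact fun h => hVm (hWp.mpr h)
  obtain ⟨e, he⟩ := hme
  have hcond' : Even d ∨ Odd e := by
    rcases hcond with h | h
    · exact Or.inl h
    · refine Or.inr ?_
      rw [← Nat.not_even_iff_odd]
      rintro ⟨k, hk⟩
      omega
  obtain ⟨p, n, b, hp, hn, hb, hno, hpnb⟩ :=
    exists_selection_ell P N B d e hsum' hNo (by omega) (by omega) hcond'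
  obtain ⟨W, _, hWinv, hWnd, hWd, hWp⟩ := hsel p n b hp hn hb
  refine ⟨W, hWinv, hWnd, by rw [hWd, hpnb, he]; ring, ?_⟩
  intro h
  exact (Nat.not_even_iff_odd.mpr hno) (hWp.mp h)

/-- **K-OEl-S** (598818) -/
theorem exists_fixed_ell_char2 [Fintype F] [CharP F 2] [FiniteDimensional F V]
    (Q : QuadraticForm F V) (hV : NonDeg (pB Q) ⊤) (hVm : ¬ PlusQ Q ⊤) (d : ℕ)
    (hdim : finrank F V = 2 * d) (g : V →ₗ[F] V) (hg : g * g = 1) (hiso : QIso Q g)
    (m : ℕ) (hme : Even m) (hm : 2 ≤ m) (hmn : m + 2 ≤ 2 * d) (hcond : Even d ∨ m % 4 = 2) :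
    ∃ W : Submodule F V, Inv g W ∧ NonDeg (pB Q) W ∧ finrank F W = m ∧ ¬ PlusQ Q W :=
  exists_fixed_ell_char2_of Q hV hVm d hdim g hg hiso m hme hm hmn hcond
    (fun U hU hUnd hUne =>
      Cfsg.Agent.Lib.Helper13.OhP.exists_piece_char2 Q g hg hiso U hU hUnd hUne)
    (fun W1 W2 h1 h2 hort he1 he2 =>
      Cfsg.Agent.Lib.Helper28.OhP.plusQ_sup_iff Q W1 W2 h1 h2 hort he1 he2)

end Cfsg.Agent.Lib.Helper91.OEl
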