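import Mathlib
import Cfsg.Agent.Lib.Helper14.SpUA0

/-!
# K-OQF-REP (keystone 597704, architect helper72), part 1: universality of the `L`-valued norm

`V` a nondegenerate quadratic space of dimension `≥ 4` over a finite field `F` of odd order, `θ` a
self-adjoint square root of the non-square `δ`.  Then `u ↦ (Q u, B u (θ u))` is onto `F × F`.
-/

set_option autoImplicit false
set_option linter.unusedVariables false
set_option linter.unusedSectionVars false

namespace Cfsg.Agent.Lib.Helper91.OQF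

open Cfsg.Agent.Lib.Helper14.SpU (LL card_LL fact_of_not_isSquare)

section

variable {F : Type*} [Field F] {V : Type*} [AddCommGroup V] [Module F V]

theorem two_ne_zero_of_odd [Fintype F] (hodd : Odd (Fintype.card F)) : (2 : F) ≠ 0 := by
  intro h
  have hc : ringChar F = 2 := by
    have : (ringChar F) ∣ 2 := by
      apply ringChar.dvd
      exact_mod_cast h
    rcases (Nat.dvd_prime Nat.prime_two).mp this with h1 | h1
    · exact absurd h1 (CharP.ringChar_ne_one)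
    · exact h1
  have := FiniteField.even_card_iff_char_two.mp hc
  obtain ⟨r, hr⟩ := hodd
  omega

variable (Q : QuadraticForm F V) (δ : F) (θ : V →ₗ[F] V) (hθ : ∀ v, θ (θ v) = δ • v)
  (hsa : ∀ u v, QuadraticMap.polar (⇑Q) (θ u) v = QuadraticMap.polar (⇑Q) u (θ v))

include hθ hsa in
/-- `B (θ u) (θ v) = δ B u v` -/
theorem polar_theta_theta (u v : V) :
    QuadraticMap.polar (⇑Q) (θ u) (θ v) = δ * QuadraticMap.polar (⇑Q) u v := by
  rw [hsa, hθ, QuadraticMap.polar_smul_right, smul_eq_mul]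

include hθ hsa in
/-- the values of `B u u` and `B u (θ u)` on `u = (s₁ + s₂θ) u₁ + (t₁ + t₂θ) u₂` for `L u₁ ⊥ L u₂` -/
theorem key_formula (u₁ u₂ : V) (h12 : QuadraticMap.polar (⇑Q) u₁ u₂ = 0)
    (h12' : QuadraticMap.polar (⇑Q) u₁ (θ u₂) = 0) (s₁ s₂ t₁ t₂ : F) :
    QuadraticMap.polar (⇑Q) (s₁ • u₁ + s₂ • θ u₁ + t₁ • u₂ + t₂ • θ u₂)
        (s₁ • u₁ + s₂ • θ u₁ + t₁ • u₂ + t₂ • θ u₂) =
      (s₁ ^ 2 + δ * s₂ ^ 2) * QuadraticMap.polar (⇑Q) u₁ u₁ +
        2 * s₁ * s₂ * QuadraticMap.polar (⇑Q) u₁ (θ u₁) +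
        (t₁ ^ 2 + δ * t₂ ^ 2) * QuadraticMap.polar (⇑Q) u₂ u₂ +
        2 * t₁ * t₂ * QuadraticMap.polar (⇑Q) u₂ (θ u₂) ∧
    QuadraticMap.polar (⇑Q) (s₁ • u₁ + s₂ • θ u₁ + t₁ • u₂ + t₂ • θ u₂)
        (θ (s₁ • u₁ + s₂ • θ u₁ + t₁ • u₂ + t₂ • θ u₂)) =
      (s₁ ^ 2 + δ * s₂ ^ 2) * QuadraticMap.polar (⇑Q) u₁ (θ u₁) +
        2 * δ * s₁ * s₂ * QuadraticMap.polar (⇑Q) u₁ u₁ +
        (t₁ ^ 2 + δ * t₂ ^ 2) * QuadraticMap.polar (⇑Q) u₂ (θ u₂) +
        2 * δ * t₁ * t₂ * QuadraticMap.polar (⇑Q) u₂ u₂ := by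
  have e21 : QuadraticMap.polar (⇑Q) (θ u₁) u₁ = QuadraticMap.polar (⇑Q) u₁ (θ u₁) := hsa u₁ u₁
  have e22 := polar_theta_theta Q δ θ hθ hsa u₁ u₁
  have e43 : QuadraticMap.polar (⇑Q) (θ u₂) u₂ = QuadraticMap.polar (⇑Q) u₂ (θ u₂) := hsa u₂ u₂
  have e44 := polar_theta_theta Q δ θ hθ hsa u₂ u₂
  have e31 : QuadraticMap.polar (⇑Q) u₂ u₁ = 0 := by rw [QuadraticMap.polar_comm]; exact h12
  have e41 : QuadraticMap.polar (⇑Q) (θ u₂) u₁ = 0 := by rw [QuadraticMap.polar_comm]; exact h12'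
  have e23 : QuadraticMap.polar (⇑Q) (θ u₁) u₂ = 0 := by rw [hsa]; exact h12'
  have e32 : QuadraticMap.polar (⇑Q) u₂ (θ u₁) = 0 := by rw [QuadraticMap.polar_comm]; exact e23
  have e24 : QuadraticMap.polar (⇑Q) (θ u₁) (θ u₂) = 0 := by
    rw [polar_theta_theta Q δ θ hθ hsa, h12, mul_zero]
  have e42 : QuadraticMap.polar (⇑Q) (θ u₂) (θ u₁) = 0 := by
    rw [QuadraticMap.polar_comm]; exact e24
  constructor
  · simp only [QuadraticMap.polar_add_left, QuadraticMap.polar_add_right,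
      QuadraticMap.polar_smul_left, QuadraticMap.polar_smul_right, smul_eq_mul,
      e21, e22, e43, e44, e31, e41, e23, e32, e24, e42, h12, h12']
    ring
  · simp only [map_add, map_smul, hθ, QuadraticMap.polar_add_left, QuadraticMap.polar_add_right,
      QuadraticMap.polar_smul_left, QuadraticMap.polar_smul_right, smul_eq_mul,
      e21, e22, e43, e44, e31, e41, e23, e32, e24, e42, h12, h12']
    ring

/-- a nondegenerate quadratic form on a nontrivial space takes a nonzero value -/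
theorem exists_Q_ne_zero [Nontrivial V] (hQ : (QuadraticMap.polarBilin Q).Nondegenerate) :
    ∃ u : V, Q u ≠ 0 := by
  by_contra hcon
  push Not at hcon
  obtain ⟨v, hv⟩ := exists_ne (0 : V)
  apply hv
  apply hQ.1 v
  intro y
  rw [QuadraticMap.polarBilin_apply_apply, QuadraticMap.polar, hcon, hcon, hcon]
  simp

include hθ hsa in
/-- a vector `u₂` perpendicular to `u₁, θ u₁` with `Q u₂ ≠ 0` -/
theorem exists_perp [FiniteDimensional F V] (h2 : (2 : F) ≠ 0)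
    (hQ : (QuadraticMap.polarBilin Q).Nondegenerate) (hδ : ¬ IsSquare δ)
    (hdim : 4 ≤ Module.finrank F V) (u₁ : V) (hu₁ : Q u₁ ≠ 0) :
    ∃ u₂ : V, QuadraticMap.polar (⇑Q) u₁ u₂ = 0 ∧ QuadraticMap.polar (⇑Q) u₁ (θ u₂) = 0 ∧
      Q u₂ ≠ 0 := by
  by_contra hcon
  push Not at hcon
  set n₁ := QuadraticMap.polar (⇑Q) u₁ u₁ with hn₁
  set b₁ := QuadraticMap.polar (⇑Q) u₁ (θ u₁) with hb₁
  have hn₁0 : n₁ ≠ 0 := by
    rw [hn₁, QuadraticMap.polar_self, two_smul, ← two_mul]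
    exact mul_ne_zero h2 hu₁
  have hD : δ * n₁ ^ 2 - b₁ ^ 2 ≠ 0 := by
    intro h
    apply hδ
    refine ⟨b₁ / n₁, ?_⟩
    field_simp
    linear_combination h
  -- the map `v ↦ (B u₁ v, B u₁ (θ v))`
  let T : V →ₗ[F] F × F :=
    LinearMap.prod (QuadraticMap.polarBilin Q u₁) ((QuadraticMap.polarBilin Q u₁).comp θ)
  have hT : ∀ v, T v = (QuadraticMap.polar (⇑Q) u₁ v, QuadraticMap.polar (⇑Q) u₁ (θ v)) := by
    intro v
    rfl
  -- `B` vanishes on `ker T`
  have hW : ∀ w w' : V, QuadraticMap.polar (⇑Q) u₁ w = 0 → QuadraticMap.polar (⇑Q) u₁ (θ w) = 0 →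
      QuadraticMap.polar (⇑Q) u₁ w' = 0 → QuadraticMap.polar (⇑Q) u₁ (θ w') = 0 →
      QuadraticMap.polar (⇑Q) w w' = 0 := by
    intro w w' h1 h2' h3 h4
    have hs1 : QuadraticMap.polar (⇑Q) u₁ (w + w') = 0 := by
      rw [QuadraticMap.polar_add_right, h1, h3, add_zero]
    have hs2 : QuadraticMap.polar (⇑Q) u₁ (θ (w + w')) = 0 := by
      rw [map_add, QuadraticMap.polar_add_right, h2', h4, add_zero]
    rw [QuadraticMap.polar, hcon _ hs1 hs2, hcon _ h1 h2', hcon _ h3 h4]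
    simp
  -- `ker T ≠ ⊥`
  have hker : LinearMap.ker T ≠ ⊥ := by
    intro h
    have hinj : Function.Injective T := LinearMap.ker_eq_bot.mp h
    have h1 := LinearMap.finrank_range_of_inj hinj
    have h3 : Module.finrank F ↥(LinearMap.range T) ≤ Module.finrank F (F × F) :=
      Submodule.finrank_le _
    rw [Module.finrank_prod, Module.finrank_self] at h3
    omega
  obtain ⟨w, hwT, hw0⟩ := (Submodule.ne_bot_iff _).mp hker
  rw [LinearMap.mem_ker, hT, Prod.mk_eq_zero] at hwT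
  obtain ⟨hw1, hw2⟩ := hwT
  apply hw0
  apply hQ.1 w
  intro v
  rw [QuadraticMap.polarBilin_apply_apply]
  set m₁ := QuadraticMap.polar (⇑Q) u₁ v with hm₁
  set m₂ := QuadraticMap.polar (⇑Q) u₁ (θ v) with hm₂
  set D := δ * n₁ ^ 2 - b₁ ^ 2 with hDdef
  set α := (δ * n₁ * m₁ - b₁ * m₂) / D with hα
  set γ := (n₁ * m₂ - b₁ * m₁) / D with hγ
  have e21 : QuadraticMap.polar (⇑Q) (θ u₁) u₁ = b₁ := hsa u₁ u₁
  have e22 : QuadraticMap.polar (⇑Q) (θ u₁) (θ u₁) = δ * n₁ := polar_theta_theta Q δ θ hθ hsa u₁ u₁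
  have hv1 : QuadraticMap.polar (⇑Q) u₁ (v - (α • u₁ + γ • θ u₁)) = 0 := by
    rw [QuadraticMap.polar_sub_right, QuadraticMap.polar_add_right, QuadraticMap.polar_smul_right,
      QuadraticMap.polar_smul_right, smul_eq_mul, smul_eq_mul, ← hn₁, ← hb₁, ← hm₁, hα, hγ]
    field_simp
    ring
  have hv2 : QuadraticMap.polar (⇑Q) u₁ (θ (v - (α • u₁ + γ • θ u₁))) = 0 := by
    rw [map_sub, map_add, map_smul, map_smul, hθ, QuadraticMap.polar_sub_right,
      QuadraticMap.polar_add_right, QuadraticMap.polar_smul_right,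
      QuadraticMap.polar_smul_right, QuadraticMap.polar_smul_right, smul_eq_mul, smul_eq_mul,
      smul_eq_mul, ← hn₁, ← hb₁, ← hm₂, hα, hγ]
    field_simp
    ring
  have h3 := hW w (v - (α • u₁ + γ • θ u₁)) hw1 hw2 hv1 hv2
  have hwu : QuadraticMap.polar (⇑Q) w u₁ = 0 := by rw [QuadraticMap.polar_comm]; exact hw1
  have hwθu : QuadraticMap.polar (⇑Q) w (θ u₁) = 0 := by
    rw [QuadraticMap.polar_comm, hsa]; exact hw2
  rw [QuadraticMap.polar_sub_right, QuadraticMap.polar_add_right, QuadraticMap.polar_smul_right,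
    QuadraticMap.polar_smul_right, hwu, hwθu, smul_zero, smul_zero, add_zero, sub_zero] at h3
  exact h3

end

section main

variable {F : Type*} [Field F]

/-- K-OQF-REP (597704), part 1 (dimension `≥ 4`). -/
theorem exists_rep {V : Type*} [AddCommGroup V] [Module F V] [FiniteDimensional F V] [Fintype F]
    (hodd : Odd (Fintype.card F)) (Q : QuadraticForm F V)
    (hQ : (QuadraticMap.polarBilin Q).Nondegenerate)
    (δ : F) (hδ : ¬ IsSquare δ) (θ : V →ₗ[F] V) (hθ : ∀ v, θ (θ v) = δ • v)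
    (hsa : ∀ u v, QuadraticMap.polar (⇑Q) (θ u) v = QuadraticMap.polar (⇑Q) u (θ v))
    (hdim : 4 ≤ Module.finrank F V) (a β : F) :
    ∃ u : V, Q u = a ∧ QuadraticMap.polar (⇑Q) u (θ u) = β := by
  classical
  have h2 : (2 : F) ≠ 0 := two_ne_zero_of_odd hodd
  have hnt : Nontrivial V := Module.nontrivial_of_finrank_pos (R := F) (by omega)
  obtain ⟨u₁, hu₁⟩ := exists_Q_ne_zero Q hQ
  obtain ⟨u₂, h12, h12', hu₂⟩ := exists_perp Q δ θ hθ hsa h2 hQ hδ hdim u₁ hu₁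
  set n₁ := QuadraticMap.polar (⇑Q) u₁ u₁ with hn₁
  set b₁ := QuadraticMap.polar (⇑Q) u₁ (θ u₁) with hb₁
  set n₂ := QuadraticMap.polar (⇑Q) u₂ u₂ with hn₂
  set b₂ := QuadraticMap.polar (⇑Q) u₂ (θ u₂) with hb₂
  have hn₁0 : n₁ ≠ 0 := by
    rw [hn₁, QuadraticMap.polar_self, two_smul, ← two_mul]
    exact mul_ne_zero h2 hu₁
  have hn₂0 : n₂ ≠ 0 := by
    rw [hn₂, QuadraticMap.polar_self, two_smul, ← two_mul]
    exact mul_ne_zero h2 hu₂
  -- the field `L`
  have := fact_of_not_isSquare δ hδ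
  have hcard : Fintype.card (LL δ) % 2 = 1 := by
    rw [card_LL]
    exact Nat.odd_iff.mp hodd.pow
  let c₁ : LL δ := ⟨b₁, n₁⟩
  let c₂ : LL δ := ⟨b₂, n₂⟩
  let c : LL δ := ⟨β, 2 * a⟩
  have hc₁ : c₁ ≠ 0 := by
    intro h
    exact hn₁0 (congrArg QuadraticAlgebra.im h)
  have hc₂ : c₂ ≠ 0 := by
    intro h
    exact hn₂0 (congrArg QuadraticAlgebra.im h)
  obtain ⟨s, t, hst⟩ := FiniteField.exists_root_sum_quadratic
    (f := Polynomial.C c₁ * Polynomial.X ^ 2 + Polynomial.C 0 * Polynomial.X + Polynomial.C (-c))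
    (g := Polynomial.C c₂ * Polynomial.X ^ 2 + Polynomial.C 0 * Polynomial.X + Polynomial.C 0)
    (Polynomial.degree_quadratic hc₁) (Polynomial.degree_quadratic hc₂) hcard
  simp only [Polynomial.eval_add, Polynomial.eval_mul, Polynomial.eval_C, Polynomial.eval_pow,
    Polynomial.eval_X, zero_mul, add_zero] at hst
  have hre := congrArg QuadraticAlgebra.re hst
  have him := congrArg QuadraticAlgebra.im hst
  simp only [pow_two, QuadraticAlgebra.re_add, QuadraticAlgebra.im_add, QuadraticAlgebra.re_mul,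
    QuadraticAlgebra.im_mul, QuadraticAlgebra.re_neg, QuadraticAlgebra.im_neg,
    QuadraticAlgebra.re_zero, QuadraticAlgebra.im_zero, c₁, c₂, c, zero_mul, add_zero] at hre him
  obtain ⟨hk1, hk2⟩ := key_formula Q δ θ hθ hsa u₁ u₂ h12 h12' s.re s.im t.re t.im
  refine ⟨s.re • u₁ + s.im • θ u₁ + t.re • u₂ + t.im • θ u₂, ?_, ?_⟩
  · have h3 : (2 : F) * Q (s.re • u₁ + s.im • θ u₁ + t.re • u₂ + t.im • θ u₂) = 2 * a := by
      have hps : QuadraticMap.polar (⇑Q) (s.re • u₁ + s.im • θ u₁ + t.re • u₂ + t.im • θ u₂)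
          (s.re • u₁ + s.im • θ u₁ + t.re • u₂ + t.im • θ u₂) =
          2 * Q (s.re • u₁ + s.im • θ u₁ + t.re • u₂ + t.im • θ u₂) := by
        rw [QuadraticMap.polar_self, two_smul, two_mul]
      rw [← hps, hk1]
      linear_combination him
    exact mul_left_cancel₀ h2 h3
  · rw [hk2]
    linear_combination hre

end main

end Cfsg.Agent.Lib.Helper91.OQF
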