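import Mathlib

set_option autoImplicit false

namespace Cfsg.Agent.Lib.Helper91

/-- An automorphism of odd order of an abelian `2`-group is trivial as soon as the elements of order at most two
carry a chain of invariant subgroups with successive indices at most two. -/
theorem aut_trivial_of_chain {G : Type*} [Group G] (hcomm : ∀ x y : G, x * y = y * x)
    (α : MulAut G) (k : ℕ) (hk : Odd k) (hαk : α ^ k = 1)
    (J : ℕ) (htor : ∀ x : G, x ^ (2 ^ J) = 1)
    (W : ℕ → Subgroup G)
    (hW0 : ∀ x : G, x ^ 2 = 1 → x ∈ W 0)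
    (hWtop : ∃ N, ∀ x ∈ W N, x = 1)
    (hW2 : ∀ t, ∀ x ∈ W t, x ^ 2 = 1)
    (hWinv : ∀ t, ∀ x ∈ W t, α x ∈ W t)
    (hWidx : ∀ t x y, x ∈ W t → y ∈ W t → x ∉ W (t + 1) → y ∉ W (t + 1) → x⁻¹ * y ∈ W (t + 1)) :
    α = 1 := by
  -- iterates
  have hiter : ∀ (x z : G), α x = x * z → α z = z → ∀ m : ℕ, (α ^ m) x = x * z ^ m := by
    intro x z hx hz m
    induction m with
    | zero => simp
    | succ m ih =>
      rw [pow_succ', MulAut.mul_apply, ih, map_mul, map_pow, hx, hz, pow_succ', mul_assoc]
  have key1 : ∀ (x z : G), α x = x * z → α z = z → z ^ 2 = 1 → z = 1 := by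
    intro x z hx hz hz2
    have h1 := hiter x z hx hz k
    rw [hαk, MulAut.one_apply] at h1
    have h2 : z ^ k = 1 := by
      have : x * 1 = x * z ^ k := by rw [mul_one]; exact h1
      exact (mul_left_cancel this).symm
    obtain ⟨l, rfl⟩ := hk
    rw [pow_succ, pow_mul, hz2, one_pow, one_mul] at h2
    exact h2
  have hpow_inv : ∀ (t m : ℕ), ∀ x ∈ W t, (α ^ m) x ∈ W t := by
    intro t m
    induction m with
    | zero => intro x hx; simpa using hx
    | succ m ih =>
      intro x hx
      rw [pow_succ', MulAut.mul_apply]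
      exact hWinv t _ (ih x hx)
  have hkpos : 0 < k := hk.pos
  have hback : ∀ t x, α x ∈ W t → x ∈ W t := by
    intro t x hx
    have h1 := hpow_inv t (k - 1) _ hx
    have h2 : (α ^ (k - 1)) (α x) = x := by
      rw [← MulAut.mul_apply, ← pow_succ, Nat.sub_add_cancel hkpos, hαk, MulAut.one_apply]
    rw [h2] at h1
    exact h1
  have step1 : ∀ t, (∀ x ∈ W (t + 1), α x = x) → ∀ x ∈ W t, α x = x := by
    intro t ht x hx
    by_cases hx1 : x ∈ W (t + 1)
    · exact ht x hx1
    · have hαx : α x ∈ W t := hWinv t x hx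
      have hαx1 : α x ∉ W (t + 1) := fun h => hx1 (hback _ _ h)
      have hz := hWidx t x (α x) hx hαx hx1 hαx1
      have hz1 := key1 x (x⁻¹ * α x) (by rw [mul_inv_cancel_left]) (ht _ hz) (hW2 _ _ hz)
      have : α x = x * (x⁻¹ * α x) := by rw [mul_inv_cancel_left]
      rw [this, hz1, mul_one]
  obtain ⟨N, hN⟩ := hWtop
  have hall : ∀ d, ∀ x ∈ W (N - d), α x = x := by
    intro d
    induction d with
    | zero =>
      intro x hx
      rw [hN x hx, map_one]
    | succ d ih =>
      by_cases hd : N - d = 0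
      · have : N - (d + 1) = N - d := by omega
        rw [this]; exact ih
      · have : N - d = (N - (d + 1)) + 1 := by omega
        rw [this] at ih
        exact step1 _ ih
  have hW0fix : ∀ x : G, x ^ 2 = 1 → α x = x := by
    intro x hx
    have := hall N x (by rw [Nat.sub_self]; exact hW0 x hx)
    exact this
  have step2 : ∀ m, ∀ x : G, x ^ (2 ^ m) = 1 → α x = x := by
    intro m
    induction m with
    | zero =>
      intro x hx
      rw [pow_zero, pow_one] at hx
      rw [hx, map_one]
    | succ m ih =>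
      intro x hx
      have hx2 : (x ^ 2) ^ (2 ^ m) = 1 := by rw [← pow_mul, ← pow_succ']; exact hx
      have h1 := ih _ hx2
      have hz2 : (x⁻¹ * α x) ^ 2 = 1 := by
        rw [pow_two]
        calc x⁻¹ * α x * (x⁻¹ * α x) = x⁻¹ * (α x * x⁻¹) * α x := by group
          _ = x⁻¹ * (x⁻¹ * α x) * α x := by rw [hcomm (α x) x⁻¹]
          _ = (x ^ 2)⁻¹ * (α x * α x) := by group
          _ = (x ^ 2)⁻¹ * α (x ^ 2) := by rw [pow_two, map_mul]
          _ = 1 := by rw [h1, inv_mul_cancel]
      have hz1 := key1 x (x⁻¹ * α x) (by rw [mul_inv_cancel_left]) (hW0fix _ hz2) hz2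
      have : α x = x * (x⁻¹ * α x) := by rw [mul_inv_cancel_left]
      rw [this, hz1, mul_one]
  ext x
  exact step2 J x (htor x)

end Cfsg.Agent.Lib.Helper91
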