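import Mathlib
import Cfsg.Agent.Lib.Helper91.ExtraspecialElem

set_option autoImplicit false

/-!
# Auxiliary lemmas for S5428: odd-order kernels, index-two complements, transport of `XS`
-/

namespace Cfsg.Agent.Lib.Helper91

section aux
variable {G : Type*} [Group G]

/-- an element of an odd-order subgroup whose fourth power is trivial is trivial -/
theorem eq_one_of_pow_four_of_odd {A : Subgroup G} [Finite A] (hodd : Odd (Nat.card ↥A)) {x : G}
    (hx : x ∈ A) (h4 : x ^ 4 = 1) : x = 1 := by
  have h1 : orderOf x ∣ 4 := orderOf_dvd_of_pow_eq_one h4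
  have h2 : orderOf x ∣ Nat.card ↥A := by
    have := orderOf_dvd_natCard (⟨x, hx⟩ : ↥A)
    rwa [Subgroup.orderOf_mk] at this
  have h3 : orderOf x ∣ Nat.gcd 4 (Nat.card ↥A) := Nat.dvd_gcd h1 h2
  have h4' : Nat.gcd 4 (Nat.card ↥A) = 1 := by
    have : Nat.Coprime (2 ^ 2) (Nat.card ↥A) := Nat.Coprime.pow_left 2 (Nat.coprime_two_left.mpr hodd)
    exact this
  rw [h4'] at h3
  exact orderOf_eq_one_iff.mp (Nat.dvd_one.mp h3)

/-- elements of `C(A) ⊔ A` are products -/
theorem exists_mul_of_mem_centralizer_sup {A : Subgroup G} {m : G}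
    (hm : m ∈ Subgroup.centralizer (A : Set G) ⊔ A) :
    ∃ c ∈ Subgroup.centralizer (A : Set G), ∃ a ∈ A, m = c * a := by
  have key : ∀ m ∈ Subgroup.closure ((Subgroup.centralizer (A : Set G) : Set G) ∪ (A : Set G)),
      ∃ c ∈ Subgroup.centralizer (A : Set G), ∃ a ∈ A, m = c * a := by
    intro m hm
    induction hm using Subgroup.closure_induction with
    | mem y hy =>
      rcases hy with hy | hy
      · exact ⟨y, hy, 1, A.one_mem, (mul_one y).symm⟩
      · exact ⟨1, Subgroup.one_mem _, y, hy, (one_mul y).symm⟩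
    | one => exact ⟨1, Subgroup.one_mem _, 1, A.one_mem, (mul_one 1).symm⟩
    | mul x y _ _ ihx ihy =>
      obtain ⟨c1, hc1, a1, ha1, rfl⟩ := ihx
      obtain ⟨c2, hc2, a2, ha2, rfl⟩ := ihy
      refine ⟨c1 * c2, Subgroup.mul_mem _ hc1 hc2, a1 * a2, A.mul_mem ha1 ha2, ?_⟩
      have h := (Subgroup.mem_centralizer_iff.mp hc2) a1 ha1
      calc c1 * a1 * (c2 * a2) = c1 * (a1 * c2) * a2 := by group
        _ = c1 * (c2 * a1) * a2 := by rw [h]
        _ = c1 * c2 * (a1 * a2) := by group
    | inv x _ ihx =>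
      obtain ⟨c1, hc1, a1, ha1, rfl⟩ := ihx
      refine ⟨c1⁻¹, Subgroup.inv_mem _ hc1, a1⁻¹, A.inv_mem ha1, ?_⟩
      have h := (Subgroup.mem_centralizer_iff.mp (Subgroup.inv_mem _ hc1)) a1⁻¹ (A.inv_mem ha1)
      calc (c1 * a1)⁻¹ = a1⁻¹ * c1⁻¹ := by group
        _ = c1⁻¹ * a1⁻¹ := h
  apply key
  rw [Subgroup.closure_union, Subgroup.closure_eq, Subgroup.closure_eq]
  exact hm

/-- membership in the centralizer of a join -/
theorem mem_centralizer_sup_iff {A R : Subgroup G} {x : G} :
    x ∈ Subgroup.centralizer ((A ⊔ R : Subgroup G) : Set G) ↔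
      (∀ a ∈ A, a * x = x * a) ∧ (∀ r ∈ R, r * x = x * r) := by
  constructor
  · intro h
    rw [Subgroup.mem_centralizer_iff] at h
    exact ⟨fun a ha => h a (Subgroup.mem_sup_left ha), fun r hr => h r (Subgroup.mem_sup_right hr)⟩
  · rintro ⟨h1, h2⟩
    have hle : A ⊔ R ≤ Subgroup.centralizer ({x} : Set G) := by
      apply sup_le
      · intro a ha
        rw [Subgroup.mem_centralizer_iff]
        intro y hy
        rw [Set.mem_singleton_iff] at hy
        rw [hy]; exact (h1 a ha).symm
      · intro r hr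
        rw [Subgroup.mem_centralizer_iff]
        intro y hy
        rw [Set.mem_singleton_iff] at hy
        rw [hy]; exact (h2 r hr).symm
    rw [Subgroup.mem_centralizer_iff]
    intro y hy
    have := hle hy
    rw [Subgroup.mem_centralizer_iff] at this
    exact (this x rfl).symm

end aux

/-- A finite group with a central involution and order not divisible by 4 has a normal
subgroup of odd order and index two. -/
theorem exists_odd_normal_index_two {K : Type*} [Group K] [Finite K] (z : K) (hz : orderOf z = 2)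
    (hzc : ∀ k : K, z * k = k * z) (h4 : ¬ 4 ∣ Nat.card K) :
    ∃ H : Subgroup K, H.Normal ∧ Odd (Nat.card ↥H) ∧ ∀ k : K, k ∈ H ∨ z * k ∈ H := by
  set N := Subgroup.zpowers z with hN
  haveI hNn : N.Normal := by
    refine ⟨fun n hn g => ?_⟩
    have hcomm : g * n = n * g := by
      rw [hN, Subgroup.mem_zpowers_iff] at hn
      obtain ⟨i, rfl⟩ := hn
      have : Commute g z := (hzc g).symm
      exact (this.zpow_right i)
    have : g * n * g⁻¹ = n := by rw [hcomm]; group
    rw [this]; exact hn
  have hcardN : Nat.card ↥N = 2 := by rw [hN, Nat.card_zpowers, hz]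
  have hmul := Subgroup.card_mul_index N
  rw [hcardN] at hmul
  have hidx : Odd N.index := by
    rcases Nat.even_or_odd N.index with h | h
    · exfalso
      apply h4
      obtain ⟨m, hm⟩ := h
      rw [← hmul, hm]
      exact ⟨m, by ring⟩
    · exact h
  have hcop : Nat.Coprime (Nat.card ↥N) N.index := by
    rw [hcardN]; exact Nat.coprime_two_left.mpr hidx
  obtain ⟨H, hH⟩ := Subgroup.exists_right_complement'_of_coprime hcop
  have hHidx : H.index = 2 := by rw [hH.index_eq_card, hcardN]
  have hHcard : Nat.card ↥H = N.index := by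
    have h1 := hH.card_mul_card
    rw [hcardN] at h1
    have : 2 * Nat.card ↥H = 2 * N.index := by rw [h1, hmul]
    omega
  have hzH : z ∉ H := by
    intro hzH
    have := orderOf_dvd_natCard (⟨z, hzH⟩ : ↥H)
    rw [Subgroup.orderOf_mk, hz, hHcard] at this
    exact (Nat.not_even_iff_odd.mpr hidx) (even_iff_two_dvd.mpr this)
  refine ⟨H, Subgroup.normal_of_index_eq_two hHidx, hHcard ▸ hidx, ?_⟩
  intro k
  by_cases hk : k ∈ H
  · exact Or.inl hk
  · right
    rw [Subgroup.mul_mem_iff_of_index_two hHidx]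
    exact ⟨fun h => absurd h hzH, fun h => absurd h hk⟩

end Cfsg.Agent.Lib.Helper91
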