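import Mathlib
import Cfsg.Agent.Lib.Helper91.OddQuotAux
import Cfsg.Agent.Lib.Helper91.FrattiniElem
import Cfsg.Agent.S5422
import Cfsg.Agent.Lib.Helper32.XSTwoMain

set_option autoImplicit false

/-!
# A large extraspecial subgroup in a quotient by a normal subgroup of odd order (towards S5428)
-/

namespace Cfsg.Agent.Lib.Helper91

open scoped commutatorElement

/-- transport of `XS` to a subgroup containing it -/
theorem XS.subgroupOf {G : Type*} [Group G] {R : Subgroup G} {z : G} (h : XS R z) (M : Subgroup G)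
    (hRM : R ≤ M) (hzM : z ∈ M) : XS (R.subgroupOf M) (⟨z, hzM⟩ : ↥M) := by
  refine ⟨?_, ?_, ?_, ?_, ?_, ?_, ?_⟩
  · rw [Subgroup.mem_subgroupOf]; exact h.zQ
  · intro he
    exact h.z1 (congrArg Subtype.val he)
  · apply Subtype.ext; exact h.zz
  · intro q hq
    apply Subtype.ext
    exact h.zc q.1 (Subgroup.mem_subgroupOf.mp hq)
  · intro a ha b hb
    rcases h.comm a.1 (Subgroup.mem_subgroupOf.mp ha) b.1 (Subgroup.mem_subgroupOf.mp hb) with h' | h'
    · left; apply Subtype.ext; exact h'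
    · right; apply Subtype.ext; exact h'
  · intro a ha
    rcases h.sq a.1 (Subgroup.mem_subgroupOf.mp ha) with h' | h'
    · left; apply Subtype.ext; exact h'
    · right; apply Subtype.ext; exact h'
  · intro c hc hcomm
    have := h.cen c.1 (Subgroup.mem_subgroupOf.mp hc) (fun q hq => by
      have h1 := hcomm ⟨q, hRM hq⟩ (Subgroup.mem_subgroupOf.mpr hq)
      exact congrArg Subtype.val h1)
    rcases this with h' | h'
    · left; apply Subtype.ext; exact h'
    · right; apply Subtype.ext; exact h'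

set_option maxHeartbeats 800000 in
theorem largeExtraspecial_quotient_odd {N : Type*} [Group N] [Finite N] (P T : Subgroup N)
    [hTn : T.Normal] (z : N)
    (hXS : XS P z)
    (hna : ∃ r ∈ P, ∃ s ∈ P, r * s ≠ s * r)
    (hP2 : IsPGroup 2 ↥P)
    (h32 : 32 ≤ Nat.card ↥P)
    (hPT : ∀ x ∈ P, x ∈ T → x = 1)
    (h7 : ∀ c : N, (∀ x ∈ P, c * x * c⁻¹ * x⁻¹ ∈ T) → c ∈ T ∨ z * c ∈ T)
    (h8 : ∀ c : N, c * z * c⁻¹ * z⁻¹ ∈ T → ∀ x ∈ P, ∃ p ∈ P, p⁻¹ * (c * x * c⁻¹) ∈ T)
    (h9 : ∃ x : N, x * z * x⁻¹ ∈ P ∧ x * z * x⁻¹ ≠ z) :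
    Cfsg.IsLargeExtraspecial (P.map (QuotientGroup.mk' T)) := by
  haveI : Fact (Nat.Prime 2) := ⟨Nat.prime_two⟩
  set π := QuotientGroup.mk' T with hπ
  set Qb := P.map π with hQb
  have hzP := hXS.zQ
  have hz1 := hXS.z1
  have hzz := hXS.zz
  have hzc := hXS.zc
  have hcomm := hXS.comm
  have hsq := hXS.sq
  have hzinv : z⁻¹ = z := hXS.zinv
  have hπ1 : ∀ x : N, π x = 1 ↔ x ∈ T := by
    intro x
    rw [hπ, QuotientGroup.mk'_apply, QuotientGroup.eq_one_iff]
  have hinj : ∀ a ∈ P, ∀ b ∈ P, π a = π b → a = b := by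
    intro a ha b hb hab
    have h1 : π (a⁻¹ * b) = 1 := by rw [map_mul, map_inv, hab]; group
    have h2 := hPT _ (P.mul_mem (P.inv_mem ha) hb) ((hπ1 _).mp h1)
    calc a = a * (a⁻¹ * b) * b⁻¹ * b := by rw [h2]; group
      _ = b := by group
  have hzeta1 : (π z) ≠ 1 := by
    intro h
    exact hz1 (hPT z hzP ((hπ1 z).mp h))
  have hzetaQ : (π z) ∈ Qb := ⟨z, hzP, rfl⟩
  -- the image of a commutator
  have hcommπ : ∀ a ∈ P, ∀ b ∈ P, π a * π b * (π a)⁻¹ * (π b)⁻¹ = 1 ∨
      π a * π b * (π a)⁻¹ * (π b)⁻¹ = (π z) := by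
    intro a ha b hb
    have h1 : π a * π b * (π a)⁻¹ * (π b)⁻¹ = π (a * b * a⁻¹ * b⁻¹) := by
      simp only [map_mul, map_inv]
    rw [h1]
    rcases hcomm a ha b hb with h | h
    · left
      have : a * b * a⁻¹ * b⁻¹ = 1 := by
        calc a * b * a⁻¹ * b⁻¹ = (a * b) * a⁻¹ * b⁻¹ := by group
          _ = (b * a) * a⁻¹ * b⁻¹ := by rw [h]
          _ = 1 := by group
      rw [this, map_one]
    · right
      have : a * b * a⁻¹ * b⁻¹ = z := by
        calc a * b * a⁻¹ * b⁻¹ = (a * b) * a⁻¹ * b⁻¹ := by group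
          _ = (z * (b * a)) * a⁻¹ * b⁻¹ := by rw [h]
          _ = z := by group
      rw [this]
  -- elements of P central modulo T
  have hCen : ∀ y ∈ P, (∀ p ∈ P, π y * π p = π p * π y) → y = 1 ∨ y = z := by
    intro y hy hyc
    apply hXS.cen y hy
    intro p hp
    apply hinj _ (P.mul_mem hy hp) _ (P.mul_mem hp hy)
    rw [map_mul, map_mul]; exact hyc p hp
  -- the centre of the image
  have hA : ∀ y : N ⧸ T, y ∈ (Subgroup.center ↥Qb).map Qb.subtype ↔ y = 1 ∨ y = (π z) := by
    intro y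
    rw [Cfsg.Agent.Lib.Helper92.mem_map_subtype_center_iff]
    constructor
    · rintro ⟨⟨y0, hy0, rfl⟩, hyc⟩
      have := hCen y0 hy0 (fun p hp => (hyc (π p) ⟨p, hp, rfl⟩).symm)
      rcases this with h | h
      · left; rw [h, map_one]
      · right; rw [h]
    · rintro (rfl | rfl)
      · exact ⟨Qb.one_mem, fun q _ => by rw [mul_one, one_mul]⟩
      · refine ⟨hzetaQ, ?_⟩
        rintro q ⟨p, hp, rfl⟩
        rw [← map_mul, ← map_mul, hzc p hp]
  have hL2 : Subgroup.centralizer (Qb : Set (N ⧸ T)) =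
      (Subgroup.center ↥Qb).map Qb.subtype := by
    ext cb
    obtain ⟨c, rfl⟩ : ∃ c, π c = cb := QuotientGroup.mk'_surjective T cb
    constructor
    · intro hc
      rw [Subgroup.mem_centralizer_iff] at hc
      have h1 : ∀ x ∈ P, c * x * c⁻¹ * x⁻¹ ∈ T := by
        intro x hx
        rw [← hπ1]
        simp only [map_mul, map_inv]
        have := hc (π x) ⟨x, hx, rfl⟩
        rw [← this]; group
      rw [hA]
      rcases h7 c h1 with h | h
      · left; exact (hπ1 c).mpr h
      · right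
        have h2 : π (z * c) = 1 := (hπ1 _).mpr h
        rw [map_mul] at h2
        calc π c = (π z)⁻¹ * (π z * π c) := by group
          _ = (π z)⁻¹ := by rw [h2, mul_one]
          _ = π z := by rw [← map_inv, hzinv]
    · intro hc
      rw [Cfsg.Agent.Lib.Helper92.mem_map_subtype_center_iff] at hc
      rw [Subgroup.mem_centralizer_iff]
      exact fun q hq => hc.2 q hq
  have hL3 : Subgroup.centralizer (((Subgroup.center ↥Qb).map Qb.subtype : Subgroup (N ⧸ T)) :
      Set (N ⧸ T)) ≤ Subgroup.normalizer (Qb : Set (N ⧸ T)) := by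
    have key : ∀ c : N, π c * π z = π z * π c → ∀ x ∈ P, π c * π x * (π c)⁻¹ ∈ Qb := by
      intro c hc x hx
      have h1 : c * z * c⁻¹ * z⁻¹ ∈ T := by
        rw [← hπ1]
        simp only [map_mul, map_inv]
        rw [hc]; group
      obtain ⟨p, hp, hpe⟩ := h8 c h1 x hx
      refine ⟨p, hp, ?_⟩
      have h2 : π (p⁻¹ * (c * x * c⁻¹)) = 1 := (hπ1 _).mpr hpe
      simp only [map_mul, map_inv] at h2
      calc π p = π p * ((π p)⁻¹ * (π c * π x * (π c)⁻¹)) := by rw [h2, mul_one]
        _ = π c * π x * (π c)⁻¹ := by group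
    intro cb hc
    obtain ⟨c, rfl⟩ : ∃ c, π c = cb := QuotientGroup.mk'_surjective T cb
    rw [Subgroup.mem_centralizer_iff] at hc
    have hcz : π c * π z = π z * π c := (hc (π z) ((hA (π z)).mpr (Or.inr rfl))).symm
    have hcz' : π c⁻¹ * π z = π z * π c⁻¹ := by
      rw [map_inv]
      calc (π c)⁻¹ * π z = (π c)⁻¹ * (π z * π c) * (π c)⁻¹ := by group
        _ = (π c)⁻¹ * (π c * π z) * (π c)⁻¹ := by rw [hcz]
        _ = π z * (π c)⁻¹ := by group
    rw [Subgroup.mem_normalizer_iff]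
    intro hb
    constructor
    · rintro ⟨p, hp, rfl⟩
      exact key c hcz p hp
    · rintro ⟨p, hp, hpe⟩
      have := key c⁻¹ hcz' p hp
      rw [hpe, map_inv] at this
      have e : (π c)⁻¹ * (π c * hb * (π c)⁻¹) * (π c)⁻¹⁻¹ = hb := by group
      rwa [e] at this
  -- the order of the image
  have hcardQb : Nat.card ↥Qb = Nat.card ↥P := by
    set φ : ↥P →* N ⧸ T := π.comp P.subtype with hφ
    have hrange : φ.range = Qb := by
      rw [hφ, MonoidHom.range_comp, Subgroup.range_subtype]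
    have hφinj : Function.Injective φ := by
      intro a b hab
      apply Subtype.ext
      exact hinj a.1 a.2 b.1 b.2 hab
    rw [← hrange]
    exact (Nat.card_congr (MonoidHom.ofInjective hφinj).toEquiv).symm
  -- extraspecial
  have hPb : IsPGroup 2 ↥Qb := hP2.map π
  have hcenter' : ∀ y : ↥Qb, y ∈ Subgroup.center ↥Qb ↔ (y : N ⧸ T) = 1 ∨ (y : N ⧸ T) = (π z) := by
    intro y
    rw [← hA]
    constructor
    · intro hy; exact ⟨y, hy, rfl⟩
    · rintro ⟨y', hy', h⟩
      have : y' = y := Subtype.ext h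
      rw [← this]; exact hy'
  have hcommel : ∀ a b : ↥Qb, ((⁅a, b⁆ : ↥Qb) : N ⧸ T) = 1 ∨ ((⁅a, b⁆ : ↥Qb) : N ⧸ T) = (π z) := by
    intro a b
    obtain ⟨p1, hp1, hp1e⟩ := a.2
    obtain ⟨p2, hp2, hp2e⟩ := b.2
    have : ((⁅a, b⁆ : ↥Qb) : N ⧸ T) = π p1 * π p2 * (π p1)⁻¹ * (π p2)⁻¹ := by
      rw [commutatorElement_def, hp1e, hp2e]; simp
    rw [this]
    exact hcommπ p1 hp1 p2 hp2
  have hcomm_eq : commutator ↥Qb = Subgroup.center ↥Qb := by
    apply le_antisymm
    · rw [commutator_def, Subgroup.commutator_le]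
      intro a _ b _
      rw [hcenter']
      exact hcommel a b
    · intro y hy
      rcases (hcenter' y).mp hy with h | h
      · have : y = 1 := Subtype.ext h
        rw [this]; exact Subgroup.one_mem _
      · obtain ⟨r, hr, s, hs, hrs⟩ := hna
        have hrs' : r * s = z * (s * r) := by
          rcases hcomm r hr s hs with h' | h'
          · exact absurd h' hrs
          · exact h'
        have : y = ⁅(⟨π r, ⟨r, hr, rfl⟩⟩ : ↥Qb), ⟨π s, ⟨s, hs, rfl⟩⟩⁆ := by
          apply Subtype.ext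
          rw [h, commutatorElement_def]
          simp only [Subgroup.coe_mul, InvMemClass.coe_inv]
          have h1 : π r * π s * (π r)⁻¹ * (π s)⁻¹ = π (r * s * r⁻¹ * s⁻¹) := by
            simp only [map_mul, map_inv]
          rw [h1]
          have : r * s * r⁻¹ * s⁻¹ = z := by
            calc r * s * r⁻¹ * s⁻¹ = (r * s) * r⁻¹ * s⁻¹ := by group
              _ = (z * (s * r)) * r⁻¹ * s⁻¹ := by rw [hrs']
              _ = z := by group
          rw [this]
        rw [this]
        exact Subgroup.commutator_mem_commutator (Subgroup.mem_top _) (Subgroup.mem_top _)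
  have hfrat : frattini ↥Qb = Subgroup.center ↥Qb := by
    apply le_antisymm
    · apply frattini_le_of_sq_comm
      · intro x
        obtain ⟨p, hp, hpe⟩ := x.2
        rw [hcenter']
        have : ((x * x : ↥Qb) : N ⧸ T) = π (p * p) := by
          rw [map_mul, hpe]; rfl
        rw [this]
        rcases hsq p hp with h | h
        · left; rw [h, map_one]
        · right; rw [h]
      · intro x y
        rw [hcenter']
        have := hcommel x y
        rw [commutatorElement_def] at this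
        exact this
    · rw [← hcomm_eq]
      exact Cfsg.Agent.Lib.Helper03.commutator_le_frattini_of_isPGroup hPb
  have hcard2 : Nat.card (Subgroup.center ↥Qb) = 2 := by
    rw [Nat.card_eq_two_iff]
    refine ⟨⟨1, Subgroup.one_mem _⟩, ⟨⟨(π z), hzetaQ⟩, (hcenter' _).mpr (Or.inr rfl)⟩, ?_, ?_⟩
    · intro h
      apply hzeta1
      have := congrArg (fun x : Subgroup.center ↥Qb => ((x : ↥Qb) : N ⧸ T)) h
      exact this.symm
    · ext x
      simp only [Set.mem_insert_iff, Set.mem_singleton_iff, Set.mem_univ, iff_true]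
      rcases (hcenter' x.1).mp x.2 with h | h
      · left; apply Subtype.ext; apply Subtype.ext; exact h
      · right; apply Subtype.ext; apply Subtype.ext; exact h
  have hL1 : Cfsg.IsExtraspecial 2 ↥Qb := ⟨⟨hPb, hfrat, hcomm_eq⟩, hcard2⟩
  -- the conjugating element
  obtain ⟨x, hxP, hx1⟩ := h9
  have hconj : π x * (π z) * (π x)⁻¹ = π (x * z * x⁻¹) := by
    simp only [map_mul, map_inv]
  have hxz1 : x * z * x⁻¹ ≠ 1 := by
    intro h
    apply hz1
    have : z = x⁻¹ * (x * z * x⁻¹) * x := by group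
    rw [this, h]; group
  obtain ⟨w, -, hwcard, -⟩ := Cfsg.Agent.Lib.Helper32.extraspecial_two_card_count hL1
  have hw : 2 ≤ w := by
    by_contra hlt
    have hw1 : w ≤ 1 := by omega
    have : Nat.card ↥Qb ≤ 2 ^ (2 * 1 + 1) := by
      rw [hwcard]
      exact Nat.pow_le_pow_right (by norm_num) (by omega)
    rw [hcardQb] at this
    omega
  refine (Cfsg.Agent.S5422.result Qb hL1 hL2 hL3 w hw hwcard (π x) ?_ ?_).2.2
  · intro hn
    rw [Subgroup.mem_normalizer_iff] at hn
    have h1 := (hn (π z)).mp ((hA (π z)).mpr (Or.inr rfl))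
    rw [hconj, hA] at h1
    rcases h1 with h | h
    · exact hxz1 (hPT _ hxP ((hπ1 _).mp h))
    · exact hx1 (hinj _ hxP _ hzP h)
  · rintro y ⟨y0, hy0, rfl⟩
    rcases (hA y0).mp hy0 with rfl | rfl
    · simp only [MulEquiv.coe_toMonoidHom, map_one]
      exact Qb.one_mem
    · simp only [MulEquiv.coe_toMonoidHom, MulAut.conj_apply]
      rw [hconj]
      exact ⟨_, hxP, rfl⟩

end Cfsg.Agent.Lib.Helper91
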