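import Mathlib
import Cfsg.Agent.Lib.Helper91.OddQuot
import Cfsg.Agent.Lib.Helper38.LargeExtraspecial
import Cfsg.Agent.Lib.Helper30.FStar
import Cfsg.Agent.S5434

set_option autoImplicit false

/-!
# S5428: large extraspecial subgroup in `C(A) A / A` for an odd-order subgroup `A`
-/

namespace Cfsg.Agent.Lib.Helper91

open scoped commutatorElement

/-- noncentral fixed points of an odd-order group acting on a large extraspecial subgroup have
an anticommuting partner among the fixed points -/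
theorem exists_anti_in_fixed {G : Type*} [Group G] [Finite G] (Q : Subgroup G)
    (hQL : Cfsg.IsLargeExtraspecial Q) {z : G} (hXS : XS Q z) (A : Subgroup G)
    (hA : A ≤ Subgroup.normalizer (Q : Set G)) (hAodd : Odd (Nat.card ↥A))
    (hzA : ∀ a ∈ A, a * z = z * a)
    {c : G} (hc : c ∈ Q ⊓ Subgroup.centralizer (A : Set G)) (hc1 : c ≠ 1) (hcz : c ≠ z) :
    ∃ s ∈ Q ⊓ Subgroup.centralizer (A : Set G), c * s = z * (s * c) := by
  by_cases hA1 : A = ⊥
  · subst hA1
    obtain ⟨s, hs, hcs⟩ := hXS.exists_anti hc.1 hc1 hcz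
    refine ⟨s, Subgroup.mem_inf.mpr ⟨hs, ?_⟩, hcs⟩
    rw [Subgroup.mem_centralizer_iff]
    intro h hh
    have : h = 1 := Subgroup.mem_bot.mp hh
    rw [this, one_mul, mul_one]
  · have h := (Cfsg.Agent.S5434.result Q hQL A hA hAodd hA1).2.2.2
    rcases h with h | h
    · exfalso
      rw [h, Cfsg.Agent.Lib.Helper92.mem_map_subtype_center_iff] at hc
      rcases hXS.cen c hc.1 (fun q hq => (hc.2 q hq).symm) with h' | h'
      · exact hc1 h'
      · exact hcz h'
    · have hzR : z ∈ Q ⊓ Subgroup.centralizer (A : Set G) := by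
        refine Subgroup.mem_inf.mpr ⟨hXS.zQ, ?_⟩
        rw [Subgroup.mem_centralizer_iff]
        exact hzA
      have hXSR : XS (Q ⊓ Subgroup.centralizer (A : Set G)) z :=
        XS.of_isExtraspecial h hXS.z1 hzR (fun q hq => hXS.zc q hq.1)
      exact hXSR.exists_anti hc hc1 hcz

set_option maxHeartbeats 1600000 in
theorem large_in_odd_centralizer_quotient {G : Type*} [Group G] [Finite G] (z : G)
    (hz : orderOf z = 2) (Q : Subgroup G) (hQC : Q ≤ Subgroup.centralizer ({z} : Set G))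
    (hF : (Cfsg.generalizedFittingSubgroup ↥(Subgroup.centralizer ({z} : Set G))).map
      (Subgroup.centralizer ({z} : Set G)).subtype = Q)
    (hQ : Cfsg.IsExtraspecial 2 ↥Q) (A : Subgroup G)
    (hA : A ≤ Subgroup.centralizer ({z} : Set G)) (hAodd : Odd (Nat.card ↥A)) (R : Subgroup G)
    (hR : R = Q ⊓ Subgroup.centralizer (A : Set G)) (hR32 : 32 ≤ Nat.card ↥R)
    (hO : (Cfsg.oddCore ↥(Subgroup.centralizer ((A ⊔ R : Subgroup G) : Set G))).map
      (Subgroup.centralizer ((A ⊔ R : Subgroup G) : Set G)).subtype ≤ A)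
    (h4 : ¬ 4 ∣ Nat.card ↥(Subgroup.centralizer ((A ⊔ R : Subgroup G) : Set G))) (g : G)
    (hgR : g * z * g⁻¹ ∈ R) (hgZ : g * z * g⁻¹ ∉ ((Subgroup.center ↥Q).map Q.subtype))
    (M : Subgroup G) (hM : M = Subgroup.centralizer (A : Set G) ⊔ A)
    [hn : (A.subgroupOf M).Normal] :
    (M ⊓ Subgroup.centralizer ((R ⊔ A : Subgroup G) : Set G)) ⊔ A =
      A ⊔ ((Subgroup.center ↥Q).map Q.subtype) ∧
    Cfsg.IsLargeExtraspecial ((R.subgroupOf M).map (QuotientGroup.mk' (A.subgroupOf M))) ∧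
    ∃ x ∈ R ⊔ ((Q).map (MulAut.conj g).toMonoidHom ⊓ Subgroup.centralizer (A : Set G)),
      x * (g * z * g⁻¹) * x⁻¹ = z := by
  haveI : Fact (Nat.Prime 2) := ⟨Nat.prime_two⟩
  have hz1 : z ≠ 1 := by
    intro h; rw [h, orderOf_one] at hz; omega
  have hzz : z * z = 1 := by
    have := pow_orderOf_eq_one z
    rwa [hz, pow_two] at this
  have hmemC : ∀ a x : G, x ∈ Subgroup.centralizer ({a} : Set G) ↔ a * x = x * a := by
    intro a x
    rw [Subgroup.mem_centralizer_iff]
    constructor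
    · intro h; exact h a rfl
    · intro h y hy
      rw [Set.mem_singleton_iff] at hy
      rw [hy]; exact h
  -- Q inside H = C(z)
  have hFn : (Cfsg.generalizedFittingSubgroup ↥(Subgroup.centralizer ({z} : Set G))).Normal :=
    Cfsg.Agent.Lib.Helper30.genFitting_normal
  have hmemQ : ∀ x : G, x ∈ Q ↔ ∃ y : Subgroup.centralizer ({z} : Set G),
      y ∈ Cfsg.generalizedFittingSubgroup ↥(Subgroup.centralizer ({z} : Set G)) ∧ (y : G) = x := by
    intro x
    rw [← hF]
    constructor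
    · rintro ⟨y, hy, rfl⟩; exact ⟨y, hy, rfl⟩
    · rintro ⟨y, hy, rfl⟩; exact ⟨y, hy, rfl⟩
  have hQn : ∀ h ∈ Subgroup.centralizer ({z} : Set G), ∀ q ∈ Q, h * q * h⁻¹ ∈ Q := by
    intro h hh q hq
    obtain ⟨y, hy, rfl⟩ := (hmemQ q).mp hq
    rw [hmemQ]
    exact ⟨⟨h, hh⟩ * y * ⟨h, hh⟩⁻¹, hFn.conj_mem y hy ⟨h, hh⟩, rfl⟩
  have hCQ : ∀ c ∈ Subgroup.centralizer ({z} : Set G), (∀ q ∈ Q, c * q = q * c) → c ∈ Q := by
    intro c hc hcomm
    rw [hmemQ]
    refine ⟨⟨c, hc⟩, ?_, rfl⟩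
    apply Cfsg.Agent.Lib.Helper28.centralizer_genFitting_le
    rw [Subgroup.mem_centralizer_iff]
    intro y hy
    apply Subtype.ext
    exact (hcomm y ((hmemQ y).mpr ⟨y, hy, rfl⟩)).symm
  have hzc : ∀ q ∈ Q, z * q = q * z := fun q hq => (hmemC z q).mp (hQC hq)
  have hzQ : z ∈ Q := hCQ z ((hmemC z z).mpr rfl) hzc
  have hXS : XS Q z := XS.of_isExtraspecial hQ hz1 hzQ hzc
  have hzinv : z⁻¹ = z := hXS.zinv
  -- the centre of Q
  have hmemZ : ∀ x : G, x ∈ (Subgroup.center ↥Q).map Q.subtype ↔ x = 1 ∨ x = z := by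
    intro x
    rw [Cfsg.Agent.Lib.Helper92.mem_map_subtype_center_iff]
    constructor
    · rintro ⟨hx, hxc⟩
      exact hXS.cen x hx (fun q hq => (hxc q hq).symm)
    · rintro (rfl | rfl)
      · exact ⟨Q.one_mem, fun q _ => by rw [mul_one, one_mul]⟩
      · exact ⟨hzQ, fun q hq => (hzc q hq).symm⟩
  have hCN : ∀ c ∈ Subgroup.centralizer ({z} : Set G), c ∈ Subgroup.normalizer (Q : Set G) := by
    intro c hcH
    rw [Subgroup.mem_normalizer_iff]
    intro q
    constructor
    · exact hQn c hcH q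
    · intro h
      have := hQn c⁻¹ (Subgroup.inv_mem _ hcH) _ h
      have e : c⁻¹ * (c * q * c⁻¹) * c⁻¹⁻¹ = q := by group
      rwa [e] at this
  have hL2 : Subgroup.centralizer (Q : Set G) = (Subgroup.center ↥Q).map Q.subtype := by
    ext c
    rw [hmemZ, Subgroup.mem_centralizer_iff]
    constructor
    · intro h
      have hcH : c ∈ Subgroup.centralizer ({z} : Set G) := (hmemC z c).mpr (h z hzQ)
      have hcomm : ∀ q ∈ Q, c * q = q * c := fun q hq => (h q hq).symm
      exact hXS.cen c (hCQ c hcH hcomm) hcomm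
    · rintro (rfl | rfl) q hq
      · simp
      · exact (hzc q hq).symm
  have hL3 : Subgroup.centralizer (((Subgroup.center ↥Q).map Q.subtype : Subgroup G) : Set G) ≤
      Subgroup.normalizer (Q : Set G) := by
    intro c hc
    rw [Subgroup.mem_centralizer_iff] at hc
    exact hCN c ((hmemC z c).mpr (hc z ((hmemZ z).mpr (Or.inr rfl))))
  set u := g * z * g⁻¹ with hu
  have hu1 : u ≠ 1 := fun h => hgZ ((hmemZ u).mpr (Or.inl h))
  have huz : u ≠ z := fun h => hgZ ((hmemZ u).mpr (Or.inr h))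
  have huu : u * u = 1 := by
    rw [hu]
    calc g * z * g⁻¹ * (g * z * g⁻¹) = g * (z * z) * g⁻¹ := by group
      _ = 1 := by rw [hzz]; group
  have huinv : u⁻¹ = u := by rw [eq_comm, ← mul_eq_one_iff_eq_inv]; exact huu
  have hmemR : ∀ x : G, x ∈ R ↔ x ∈ Q ∧ ∀ a ∈ A, a * x = x * a := by
    intro x
    rw [hR, Subgroup.mem_inf, Subgroup.mem_centralizer_iff]
    exact Iff.rfl
  have hRQ : R ≤ Q := fun x hx => ((hmemR x).mp hx).1
  have huQ : u ∈ Q := hRQ hgR
  have hzA : ∀ a ∈ A, a * z = z * a := fun a ha => ((hmemC z a).mp (hA ha)).symm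
  have hzR : z ∈ R := (hmemR z).mpr ⟨hzQ, hzA⟩
  have hAN : A ≤ Subgroup.normalizer (Q : Set G) := fun a ha => hCN a (hA ha)
  -- the order of Q
  obtain ⟨m, -, hm, -⟩ := Cfsg.Agent.Lib.Helper32.extraspecial_two_card_count hQ
  have hm2 : 2 ≤ m := by
    by_contra hlt
    have hw1 : m ≤ 1 := by omega
    have h1 : Nat.card ↥Q ≤ 2 ^ (2 * 1 + 1) := by
      rw [hm]
      exact Nat.pow_le_pow_right (by norm_num) (by omega)
    have h2 : Nat.card ↥R ≤ Nat.card ↥Q := Subgroup.card_le_of_le hRQ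
    omega
  -- Q is large in G
  have hQL : Cfsg.IsLargeExtraspecial Q := by
    refine (Cfsg.Agent.S5422.result Q hQ hL2 hL3 m hm2 hm g ?_ ?_).2.2
    · intro hk
      rw [Subgroup.mem_normalizer_iff] at hk
      have := (hk z).mp ((hmemZ z).mpr (Or.inr rfl))
      exact hgZ this
    · rintro x ⟨y, hy, rfl⟩
      rcases (hmemZ y).mp hy with rfl | rfl
      · simp
      · simpa [MulAut.conj_apply] using huQ
  -- z lies in the conjugate of Q
  have hzQg : z ∈ Q.map (MulAut.conj g).toMonoidHom :=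
    (Cfsg.Agent.S5422.result Q hQ hL2 hL3 m hm2 hm g
      (by
        intro hk
        rw [Subgroup.mem_normalizer_iff] at hk
        have := (hk z).mp ((hmemZ z).mpr (Or.inr rfl))
        exact hgZ this)
      (by
        rintro x ⟨y, hy, rfl⟩
        rcases (hmemZ y).mp hy with rfl | rfl
        · simp
        · simpa [MulAut.conj_apply] using huQ)).1 ((hmemZ z).mpr (Or.inr rfl))
  have hz'Q : g⁻¹ * z * g ∈ Q := by
    obtain ⟨y, hy, hye⟩ := hzQg
    simp only [MulEquiv.coe_toMonoidHom, MulAut.conj_apply] at hye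
    have : g⁻¹ * z * g = y := by rw [← hye]; group
    rw [this]; exact hy
  -- anticommuting partners in R
  have hanti : ∀ c ∈ R, c ≠ 1 → c ≠ z → ∃ s ∈ R, c * s = z * (s * c) := by
    intro c hc hc1 hcz
    rw [hR] at hc ⊢
    exact exists_anti_in_fixed Q hQL hXS A hAN hAodd hzA hc hc1 hcz
  have hXSR : XS R z := by
    refine ⟨hzR, hz1, hzz, fun q hq => hzc q (hRQ hq),
      fun a ha b hb => hXS.comm a (hRQ ha) b (hRQ hb), fun a ha => hXS.sq a (hRQ ha), ?_⟩
    intro c hc hcomm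
    by_contra hcon
    push Not at hcon
    obtain ⟨s, hs, hcs⟩ := hanti c hc hcon.1 hcon.2
    exact hXS.not_both (hcomm s hs) hcs
  have hpow4 : ∀ x ∈ Q, x ^ 4 = 1 := by
    intro x hx
    have : x ^ 4 = (x * x) * (x * x) := by
      rw [show (4 : ℕ) = 2 + 2 from rfl, pow_add, pow_two]
    rw [this]
    rcases hXS.sq x hx with h | h
    · rw [h, one_mul]
    · rw [h, hzz]
  -- part 3
  have part3 : ∃ x ∈ R ⊔ ((Q).map (MulAut.conj g).toMonoidHom ⊓ Subgroup.centralizer (A : Set G)),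
      x * u * x⁻¹ = z := by
    obtain ⟨r, hr, hur⟩ := hanti u hgR hu1 huz
    have hru : r * u * r⁻¹ = z * u := by
      have h1 := hXS.anti_symm huQ (hRQ hr) hur
      calc r * u * r⁻¹ = (r * u) * r⁻¹ := by group
        _ = (z * (u * r)) * r⁻¹ := by rw [h1]
        _ = z * u := by group
    -- the conjugate of A
    set A' := A.map (MulAut.conj g⁻¹).toMonoidHom with hA'
    have hmemA' : ∀ x : G, x ∈ A' ↔ ∃ a ∈ A, x = g⁻¹ * a * g := by
      intro x
      rw [hA', Subgroup.mem_map]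
      constructor
      · rintro ⟨a, ha, rfl⟩
        exact ⟨a, ha, by simp [MulAut.conj_apply]⟩
      · rintro ⟨a, ha, rfl⟩
        exact ⟨a, ha, by simp [MulAut.conj_apply]⟩
    have hzA' : ∀ a ∈ A', a * z = z * a := by
      intro a' ha'
      obtain ⟨a, ha, rfl⟩ := (hmemA' a').mp ha'
      have h1 : a * u = u * a := ((hmemR u).mp hgR).2 a ha
      calc g⁻¹ * a * g * z = g⁻¹ * (a * (g * z * g⁻¹)) * g := by group
        _ = g⁻¹ * ((g * z * g⁻¹) * a) * g := by rw [← hu, h1]
        _ = z * (g⁻¹ * a * g) := by group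
    have hA'N : A' ≤ Subgroup.normalizer (Q : Set G) := by
      intro a' ha'
      exact hCN a' ((hmemC z a').mpr (hzA' a' ha').symm)
    have hA'odd : Odd (Nat.card ↥A') := by
      rw [hA', Subgroup.card_map_of_injective (MulAut.conj g⁻¹).injective]
      exact hAodd
    have hz'mem : g⁻¹ * z * g ∈ Q ⊓ Subgroup.centralizer (A' : Set G) := by
      refine Subgroup.mem_inf.mpr ⟨hz'Q, ?_⟩
      rw [Subgroup.mem_centralizer_iff]
      intro a' ha'
      obtain ⟨a, ha, rfl⟩ := (hmemA' a').mp ha'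
      calc g⁻¹ * a * g * (g⁻¹ * z * g) = g⁻¹ * (a * z) * g := by group
        _ = g⁻¹ * (z * a) * g := by rw [hzA a ha]
        _ = g⁻¹ * z * g * (g⁻¹ * a * g) := by group
    have hz'1 : g⁻¹ * z * g ≠ 1 := by
      intro h
      apply hz1
      have : z = g * (g⁻¹ * z * g) * g⁻¹ := by group
      rw [this, h]; group
    have hz'z : g⁻¹ * z * g ≠ z := by
      intro h
      apply huz
      have h' : g * z * g⁻¹ = g * (g⁻¹ * z * g) * g⁻¹ := by rw [h]
      rw [hu, h']; group
    obtain ⟨s0, hs0, hzs0⟩ := exists_anti_in_fixed Q hQL hXS A' hA'N hA'odd hzA' hz'mem hz'1 hz'z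
    have hs0Q : s0 ∈ Q := (Subgroup.mem_inf.mp hs0).1
    have hs0A : ∀ a' ∈ A', a' * s0 = s0 * a' := by
      have := (Subgroup.mem_inf.mp hs0).2
      rw [Subgroup.mem_centralizer_iff] at this
      exact this
    set r' := g * s0 * g⁻¹ with hr'
    have hr'mem : r' ∈ (Q).map (MulAut.conj g).toMonoidHom ⊓ Subgroup.centralizer (A : Set G) := by
      refine Subgroup.mem_inf.mpr ⟨⟨s0, hs0Q, by simp [MulAut.conj_apply, hr']⟩, ?_⟩
      rw [Subgroup.mem_centralizer_iff]
      intro a ha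
      have h1 := hs0A (g⁻¹ * a * g) ((hmemA' _).mpr ⟨a, ha, rfl⟩)
      calc a * r' = g * ((g⁻¹ * a * g) * s0) * g⁻¹ := by rw [hr']; group
        _ = g * (s0 * (g⁻¹ * a * g)) * g⁻¹ := by rw [h1]
        _ = r' * a := by rw [hr']; group
    have hr'z : r' * z * r'⁻¹ = u * z := by
      have h1 : z * r' = u * (r' * z) := by
        calc z * r' = g * ((g⁻¹ * z * g) * s0) * g⁻¹ := by rw [hr']; group
          _ = g * (z * (s0 * (g⁻¹ * z * g))) * g⁻¹ := by rw [hzs0]
          _ = u * (r' * z) := by rw [hr', hu]; group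
      calc r' * z * r'⁻¹ = u⁻¹ * (u * (r' * z)) * r'⁻¹ := by group
        _ = u⁻¹ * (z * r') * r'⁻¹ := by rw [h1]
        _ = u * z := by rw [huinv]; group
    have hr'u : r' * u * r'⁻¹ = u := by
      have h1 := hzc s0 hs0Q
      calc r' * u * r'⁻¹ = g * ((s0 * z) * s0⁻¹) * g⁻¹ := by rw [hr', hu]; group
        _ = g * ((z * s0) * s0⁻¹) * g⁻¹ := by rw [h1]
        _ = u := by rw [hu]; group
    refine ⟨r' * r, Subgroup.mul_mem _ (Subgroup.mem_sup_right hr'mem) (Subgroup.mem_sup_left hr), ?_⟩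
    have huzc : u * z = z * u := (hzc u huQ).symm
    calc r' * r * u * (r' * r)⁻¹ = r' * (r * u * r⁻¹) * r'⁻¹ := by group
      _ = r' * (z * u) * r'⁻¹ := by rw [hru]
      _ = (r' * z * r'⁻¹) * (r' * u * r'⁻¹) := by group
      _ = (u * z) * u := by rw [hr'z, hr'u]
      _ = (z * u) * u := by rw [huzc]
      _ = z := by rw [mul_assoc, huu, mul_one]
  -- the centralizer of A ⊔ R
  have hK1 : ∀ k ∈ Subgroup.centralizer ((A ⊔ R : Subgroup G) : Set G), k ∈ A ∨ z * k ∈ A := by
    have hzK : z ∈ Subgroup.centralizer ((A ⊔ R : Subgroup G) : Set G) := by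
      rw [mem_centralizer_sup_iff]
      exact ⟨hzA, fun r hr => (hzc r (hRQ hr)).symm⟩
    have hord : orderOf (⟨z, hzK⟩ : ↥(Subgroup.centralizer ((A ⊔ R : Subgroup G) : Set G))) = 2 := by
      rw [Subgroup.orderOf_mk]; exact hz
    have hcen : ∀ k : ↥(Subgroup.centralizer ((A ⊔ R : Subgroup G) : Set G)),
        (⟨z, hzK⟩ : ↥(Subgroup.centralizer ((A ⊔ R : Subgroup G) : Set G))) * k = k * ⟨z, hzK⟩ := by
      intro k
      apply Subtype.ext
      have := k.2
      rw [Subgroup.mem_centralizer_iff] at this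
      exact this z (Subgroup.mem_sup_right hzR)
    obtain ⟨H, hHn, hHodd, hH⟩ := exists_odd_normal_index_two _ hord hcen h4
    have hHle : H ≤ Cfsg.oddCore ↥(Subgroup.centralizer ((A ⊔ R : Subgroup G) : Set G)) := by
      apply le_sSup
      exact ⟨hHn, Nat.coprime_two_right.mpr hHodd⟩
    intro k hk
    rcases hH ⟨k, hk⟩ with h | h
    · left
      exact hO ⟨⟨k, hk⟩, hHle h, rfl⟩
    · right
      exact hO ⟨_, hHle h, rfl⟩
  have hCAM : Subgroup.centralizer (A : Set G) ≤ M := by rw [hM]; exact le_sup_left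
  have hAM : A ≤ M := by rw [hM]; exact le_sup_right
  have hRCA : R ≤ Subgroup.centralizer (A : Set G) := by rw [hR]; exact inf_le_right
  have hRM : R ≤ M := hRCA.trans hCAM
  have hzM : z ∈ M := hRM hzR
  refine ⟨?_, ?_, part3⟩
  · -- part 1
    rw [sup_comm R A]
    apply le_antisymm
    · apply sup_le
      · intro k hk
        rcases hK1 k (Subgroup.mem_inf.mp hk).2 with h | h
        · exact Subgroup.mem_sup_left h
        · have : k = z * (z * k) := by rw [← mul_assoc, hzz, one_mul]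
          rw [this]
          exact Subgroup.mul_mem _ (Subgroup.mem_sup_right ((hmemZ z).mpr (Or.inr rfl)))
            (Subgroup.mem_sup_left h)
      · exact le_sup_left
    · apply sup_le
      · exact le_sup_right
      · intro x hx
        rcases (hmemZ x).mp hx with rfl | rfl
        · exact Subgroup.one_mem _
        · apply Subgroup.mem_sup_left
          refine Subgroup.mem_inf.mpr ⟨hzM, ?_⟩
          rw [mem_centralizer_sup_iff]
          exact ⟨hzA, fun r hr => (hzc r (hRQ hr)).symm⟩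
  · -- part 2
    have hdecomp : ∀ c : ↥M, ∃ c0 ∈ Subgroup.centralizer (A : Set G), ∃ a ∈ A, (c : G) = c0 * a := by
      intro c
      have h1 : (c : G) ∈ M := c.2
      have h2 : (c : G) ∈ Subgroup.centralizer (A : Set G) ⊔ A := hM ▸ h1
      exact exists_mul_of_mem_centralizer_sup h2
    have hcentA : ∀ c0 ∈ Subgroup.centralizer (A : Set G), ∀ a ∈ A, a * c0 = c0 * a := by
      intro c0 hc0
      rw [Subgroup.mem_centralizer_iff] at hc0
      exact hc0
    -- an element of A which is a "commutator" with a 2-element is trivial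
    have hkill : ∀ c0 ∈ Subgroup.centralizer (A : Set G), ∀ x ∈ Q, (∀ a ∈ A, a * x = x * a) →
        c0 * x * c0⁻¹ * x⁻¹ ∈ A → c0 * x = x * c0 := by
      intro c0 hc0 x hx hxA he
      set e := c0 * x * c0⁻¹ * x⁻¹ with hedef
      have hec0 : e * c0 = c0 * e := hcentA c0 hc0 e he
      have hex : e * x = x * e := hxA e he
      have h1 : c0 * x * c0⁻¹ = e * x := by rw [hedef]; group
      have h2 : (c0 * x * c0⁻¹) ^ 4 = 1 := by
        have : (c0 * x * c0⁻¹) ^ 4 = c0 * x ^ 4 * c0⁻¹ := by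
          rw [← conj_pow]
        rw [this, hpow4 x hx]; group
      have h3 : e ^ 4 = 1 := by
        rw [h1, (show Commute e x from hex).mul_pow, hpow4 x hx, mul_one] at h2
        exact h2
      have h4' : e = 1 := eq_one_of_pow_four_of_odd hAodd he h3
      calc c0 * x = (c0 * x * c0⁻¹ * x⁻¹) * (x * c0) := by group
        _ = x * c0 := by rw [← hedef, h4', one_mul]
    apply largeExtraspecial_quotient_odd (R.subgroupOf M) (A.subgroupOf M) (⟨z, hzM⟩ : ↥M)
      (hXSR.subgroupOf M hRM hzM)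
    · -- nonabelian
      obtain ⟨s, hs, hus⟩ := hanti u hgR hu1 huz
      refine ⟨⟨u, hRM hgR⟩, Subgroup.mem_subgroupOf.mpr hgR, ⟨s, hRM hs⟩,
        Subgroup.mem_subgroupOf.mpr hs, ?_⟩
      intro h
      have h' : u * s = s * u := congrArg Subtype.val h
      exact hXS.not_both h' hus
    · -- 2-group
      exact (hQ.1.1.to_le hRQ).comap_subtype
    · -- order
      have : Nat.card ↥(R.subgroupOf M) = Nat.card ↥R :=
        Nat.card_congr (Subgroup.subgroupOfEquivOfLe hRM).toEquiv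
      rw [this]; exact hR32
    · -- trivial intersection
      intro x hxR hxA
      rw [Subgroup.mem_subgroupOf] at hxR hxA
      apply Subtype.ext
      exact eq_one_of_pow_four_of_odd hAodd hxA (hpow4 _ (hRQ hxR))
    · -- centralizer
      intro c hc
      obtain ⟨c0, hc0, a, ha, hce⟩ := hdecomp c
      have hc0R : ∀ x ∈ R, x * c0 = c0 * x := by
        intro x hx
        have hxA := ((hmemR x).mp hx).2
        have h1 := hc ⟨x, hRM hx⟩ (Subgroup.mem_subgroupOf.mpr hx)
        rw [Subgroup.mem_subgroupOf] at h1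
        have h2 : ((c * ⟨x, hRM hx⟩ * c⁻¹ * (⟨x, hRM hx⟩ : ↥M)⁻¹ : ↥M) : G) =
            c0 * x * c0⁻¹ * x⁻¹ := by
          show (c : G) * x * (c : G)⁻¹ * x⁻¹ = c0 * x * c0⁻¹ * x⁻¹
          rw [hce]
          have := hxA a ha
          calc c0 * a * x * (c0 * a)⁻¹ * x⁻¹ = c0 * (a * x) * a⁻¹ * c0⁻¹ * x⁻¹ := by group
            _ = c0 * (x * a) * a⁻¹ * c0⁻¹ * x⁻¹ := by rw [this]
            _ = c0 * x * c0⁻¹ * x⁻¹ := by group
        rw [h2] at h1
        exact (hkill c0 hc0 x (hRQ hx) hxA h1).symm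
      have hc0K : c0 ∈ Subgroup.centralizer ((A ⊔ R : Subgroup G) : Set G) := by
        rw [mem_centralizer_sup_iff]
        exact ⟨hcentA c0 hc0, hc0R⟩
      rcases hK1 c0 hc0K with h | h
      · left
        rw [Subgroup.mem_subgroupOf, hce]
        exact A.mul_mem h ha
      · right
        rw [Subgroup.mem_subgroupOf]
        show z * (c : G) ∈ A
        rw [hce, ← mul_assoc]
        exact A.mul_mem h ha
    · -- normalizer
      intro c hc x hx
      obtain ⟨c0, hc0, a, ha, hce⟩ := hdecomp c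
      rw [Subgroup.mem_subgroupOf] at hc hx
      have hxA := ((hmemR (x : G)).mp hx).2
      have h2 : ((c * ⟨z, hzM⟩ * c⁻¹ * (⟨z, hzM⟩ : ↥M)⁻¹ : ↥M) : G) = c0 * z * c0⁻¹ * z⁻¹ := by
        show (c : G) * z * (c : G)⁻¹ * z⁻¹ = c0 * z * c0⁻¹ * z⁻¹
        rw [hce]
        have := hzA a ha
        calc c0 * a * z * (c0 * a)⁻¹ * z⁻¹ = c0 * (a * z) * a⁻¹ * c0⁻¹ * z⁻¹ := by group
          _ = c0 * (z * a) * a⁻¹ * c0⁻¹ * z⁻¹ := by rw [this]
          _ = c0 * z * c0⁻¹ * z⁻¹ := by group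
      rw [h2] at hc
      have hc0z : c0 * z = z * c0 := hkill c0 hc0 z hzQ hzA hc
      have hc0C : c0 ∈ Subgroup.centralizer ({z} : Set G) := (hmemC z c0).mpr hc0z.symm
      have hpR : c0 * (x : G) * c0⁻¹ ∈ R := by
        rw [hmemR]
        refine ⟨hQn c0 hc0C _ (hRQ hx), ?_⟩
        intro a' ha'
        have h1 := hcentA c0 hc0 a' ha'
        have h3 := hxA a' ha'
        have h4' : a' * c0⁻¹ = c0⁻¹ * a' := by
          calc a' * c0⁻¹ = c0⁻¹ * (c0 * a') * c0⁻¹ := by group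
            _ = c0⁻¹ * (a' * c0) * c0⁻¹ := by rw [h1]
            _ = c0⁻¹ * a' := by group
        calc a' * (c0 * (x : G) * c0⁻¹) = (a' * c0) * (x : G) * c0⁻¹ := by group
          _ = (c0 * a') * (x : G) * c0⁻¹ := by rw [h1]
          _ = c0 * (a' * (x : G)) * c0⁻¹ := by group
          _ = c0 * ((x : G) * a') * c0⁻¹ := by rw [h3]
          _ = c0 * (x : G) * (a' * c0⁻¹) := by group
          _ = c0 * (x : G) * (c0⁻¹ * a') := by rw [h4']
          _ = c0 * (x : G) * c0⁻¹ * a' := by group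
      refine ⟨⟨c0 * (x : G) * c0⁻¹, hRM hpR⟩, Subgroup.mem_subgroupOf.mpr hpR, ?_⟩
      rw [Subgroup.mem_subgroupOf]
      show (c0 * (x : G) * c0⁻¹)⁻¹ * ((c : G) * (x : G) * (c : G)⁻¹) ∈ A
      have : (c0 * (x : G) * c0⁻¹)⁻¹ * ((c : G) * (x : G) * (c : G)⁻¹) = 1 := by
        rw [hce]
        have := hxA a ha
        calc (c0 * (x : G) * c0⁻¹)⁻¹ * (c0 * a * (x : G) * (c0 * a)⁻¹)
            = c0 * (x : G)⁻¹ * ((a * (x : G)) * a⁻¹) * c0⁻¹ := by group
          _ = c0 * (x : G)⁻¹ * (((x : G) * a) * a⁻¹) * c0⁻¹ := by rw [this]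
          _ = 1 := by group
      rw [this]; exact A.one_mem
    · -- the conjugating element
      obtain ⟨x3, hx3, hx3u⟩ := part3
      have hx3M : x3 ∈ M := by
        have hle : R ⊔ ((Q).map (MulAut.conj g).toMonoidHom ⊓ Subgroup.centralizer (A : Set G)) ≤
            Subgroup.centralizer (A : Set G) := sup_le hRCA inf_le_right
        exact hCAM (hle hx3)
      have hconj : x3⁻¹ * z * x3⁻¹⁻¹ = u := by
        rw [← hx3u]; group
      refine ⟨⟨x3⁻¹, M.inv_mem hx3M⟩, ?_, ?_⟩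
      · rw [Subgroup.mem_subgroupOf]
        show x3⁻¹ * z * x3⁻¹⁻¹ ∈ R
        rw [hconj]; exact hgR
      · intro h
        have h' : x3⁻¹ * z * x3⁻¹⁻¹ = z := congrArg Subtype.val h
        rw [hconj] at h'
        exact huz h'

end Cfsg.Agent.Lib.Helper91
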