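import Mathlib
import Cfsg.Agent.Lib.Helper48.RSpDefs2

set_option autoImplicit false
set_option linter.unusedVariables false

/-!
# K-RSp-M6 (keystone 228106, S2281): the conjugator for `b`, `n = 2`, characteristic `2`
`g = [[E, Y],[0, E']]`, `E = [[1,ε],[0,1]]`, `Y = [[0,0],[s ε², s ε]]`, `E' = [[1,0],[ε,1]]`.
-/

namespace Cfsg.Agent.Lib.Helper91.RSp

open Matrix Cfsg.Agent.Lib.Helper48.RSp Cfsg.Agent.Lib.Helper18

theorem m6_Aalt {F : Type*} [Field F] : Aalt 0 F = !![1, -1; 0, 1] := by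
  ext i j
  fin_cases i <;> fin_cases j <;> simp [Aalt]

theorem m6_Uup {F : Type*} [Field F] : Uup 0 F = !![1, 1; 0, 1] := by
  ext i j
  fin_cases i <;> fin_cases j <;> simp [Uup, Nup]

theorem m6_UupT {F : Type*} [Field F] : (Uup 0 F)ᵀ = !![1, 0; 1, 1] := by
  ext i j
  fin_cases i <;> fin_cases j <;> simp [Uup, Nup, Matrix.transpose_apply]

theorem m6_Elast {F : Type*} [Field F] : Elast 0 F = !![0, 0; 0, 1] := by
  ext i j
  fin_cases i <;> fin_cases j <;> simp [Elast, Fin.last]

theorem m6_E00 {F : Type*} [Field F] : E00 0 F = !![1, 0; 0, 0] := by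
  ext i j
  fin_cases i <;> fin_cases j <;> simp [E00]

theorem exists_g_two {F : Type*} [Field F] (h2 : (2 : F) = 0) (s ε : F) :
    ∃ g : BM 0 F, g ∈ Matrix.symplecticGroup (Fin 2) F ∧
      g * uMat 0 s = uMat 0 s * xMat 0 ((s * (ε ^ 2 + ε)) • E00 0 F) * g := by
  have hneg : ∀ x : F, -x = x := by
    intro x
    linear_combination (-x) * h2
  refine ⟨Matrix.fromBlocks !![1, ε; 0, 1] !![0, 0; s * ε ^ 2, s * ε] 0 !![1, 0; ε, 1], ?_, ?_⟩
  · rw [SymplecticGroup.fromBlocks_mem_iff]
    refine ⟨?_, ?_, ?_⟩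
    · ext i j
      fin_cases i <;> fin_cases j <;> simp [Matrix.mul_apply, Fin.sum_univ_two]
    · ext i j
      fin_cases i <;> fin_cases j <;> simp [Matrix.mul_apply, Fin.sum_univ_two, hneg] <;> ring
    · ext i j
      fin_cases i <;> fin_cases j <;> simp [Matrix.mul_apply, Fin.sum_univ_two]
      linear_combination ε * h2
  · unfold uMat xMat
    rw [m6_UupT, m6_Aalt, m6_Elast, m6_E00, Matrix.fromBlocks_multiply, Matrix.fromBlocks_multiply,
      Matrix.fromBlocks_multiply]
    congr 1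
    · ext i j
      fin_cases i <;> fin_cases j <;> simp [Matrix.mul_apply, Fin.sum_univ_two, hneg] <;> ring
    · ext i j
      fin_cases i <;> fin_cases j <;> simp [Matrix.mul_apply, Fin.sum_univ_two, hneg]
      · linear_combination (-(s * ε ^ 2 + s * ε)) * h2
      · ring
      · ring
    · ext i j
      fin_cases i <;> fin_cases j <;> simp [Matrix.mul_apply, Fin.sum_univ_two, hneg]
    · ext i j
      fin_cases i <;> fin_cases j <;> simp [Matrix.mul_apply, Fin.sum_univ_two, hneg] <;> ring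

end Cfsg.Agent.Lib.Helper91.RSp
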