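import Mathlib
import Cfsg.Agent.Lib.Helper73.RUDefs

set_option autoImplicit false

/-!
# K-RU-J (keystone 228010, S2280): the conjugator `hMat = w₀ diag(δ,1,…,1)`
`dlt = ±1`, `det hMat = 1`, `hMat * aMat = cMat dlt * hMat`.
-/

namespace Cfsg.Agent.Lib.Helper91.RU

open Matrix Cfsg.Agent.Lib.Helper73.RU

theorem dlt_eq (m : ℕ) (F : Type*) [Field F] : dlt m F = 1 ∨ dlt m F = -1 := by
  unfold dlt
  rcases Int.units_eq_one_or (Equiv.Perm.sign (Fin.revPerm : Equiv.Perm (Fin (m + 3)))) with h | h
  · left; rw [h]; simp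
  · right; rw [h]; simp

theorem det_hMat (m : ℕ) (F : Type*) [Field F] : (hMat m F).det = 1 := by
  have hd : dlt m F * dlt m F = 1 := by
    rcases dlt_eq m F with h | h <;> rw [h] <;> ring
  have hp : ((Fin.revPerm : Equiv.Perm (Fin (m + 3))).permMatrix F).det = dlt m F := by
    rw [Matrix.det_permutation]; rfl
  unfold hMat
  rw [Matrix.det_mul, hp, Matrix.det_diagonal, Finset.prod_ite_eq']
  simpa using hd

theorem hMat_apply (m : ℕ) (F : Type*) [Field F] (i j : Fin (m + 3)) :
    hMat m F i j = if Fin.rev i = j then (if j = 0 then dlt m F else 1) else 0 := by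
  unfold hMat
  rw [Equiv.Perm.permMatrix, PEquiv.toMatrix_toPEquiv_mul]
  simp only [Matrix.submatrix_apply, Matrix.diagonal_apply, id_eq, Fin.revPerm_apply]
  by_cases h : Fin.rev i = j
  · subst h; simp
  · simp [h]

theorem hMat_mul_aMat (m : ℕ) (F : Type*) [Field F] :
    hMat m F * aMat m F = cMat m F (dlt m F) * hMat m F := by
  ext i j
  rw [Matrix.mul_apply, Matrix.mul_apply]
  simp only [hMat_apply]
  rw [Finset.sum_eq_single (Fin.rev i), Finset.sum_eq_single (Fin.rev j)]
  · have hi := i.isLt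
    have hj := j.isLt
    simp only [if_true, Fin.rev_rev, aMat, cMat, Matrix.of_apply, Fin.ext_iff, Fin.val_rev,
      Fin.val_last, Fin.val_zero]
    split_ifs <;> first | ring1 | (exfalso; omega)
  · intro b _ hb
    rw [if_neg, mul_zero]
    intro h
    apply hb
    rw [← h, Fin.rev_rev]
  · intro h
    exact absurd (Finset.mem_univ _) h
  · intro b _ hb
    rw [if_neg (Ne.symm hb), zero_mul]
  · intro h
    exact absurd (Finset.mem_univ _) h

end Cfsg.Agent.Lib.Helper91.RU
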