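import Mathlib
import Cfsg.Prelude.Def_JordanBlocks
import Cfsg.Agent.Lib.Helper73.UCDefs
import Cfsg.Agent.Lib.Helper73.SPCDefs

/-!
# K-SPC leaf D6 (keystone 267631, parallel hand): a partition has Jordan data
-/

set_option autoImplicit false

namespace Cfsg.Agent.Lib.Helper91.SPC

/-- **LEAF D6** -/
theorem exists_data_of_partition {ι : Type*} [Fintype ι] [DecidableEq ι] {n : ℕ}
    (hn : Fintype.card ι = n) (μ : Nat.Partition n) :
    ∃ (t : ℕ) (d : Fin t → ℕ) (_ : ((k : Fin t) × Fin (d k)) ≃ ι), (∀ k, 1 ≤ d k) ∧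
      Multiset.map d Finset.univ.val = μ.parts := by
  classical
  have hmap : Multiset.map (μ.parts.toList.get) Finset.univ.val = μ.parts := by
    rw [Fin.univ_val_map, List.ofFn_get, Multiset.coe_toList]
  have hpos : ∀ k, 1 ≤ μ.parts.toList.get k := by
    intro k
    apply μ.parts_pos
    rw [← Multiset.mem_toList]
    exact List.get_mem _ _
  have hcard : Fintype.card ((k : Fin μ.parts.toList.length) × Fin (μ.parts.toList.get k))
      = Fintype.card ι := by
    rw [Fintype.card_sigma, hn]
    simp only [Fintype.card_fin]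
    have : ∑ k, μ.parts.toList.get k = (Multiset.map (μ.parts.toList.get) Finset.univ.val).sum := rfl
    rw [this, hmap, μ.parts_sum]
  exact ⟨μ.parts.toList.length, μ.parts.toList.get, Fintype.equivOfCardEq hcard, hpos, hmap⟩

end Cfsg.Agent.Lib.Helper91.SPC
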