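import Cfsg.Agent.Lib.Helper49.StSpDefs

/-!
# K-StSp leaf C8 (keystone 254517, architect helper49; parallel hand), part U:
the unitriangular subgroup `U` of `B` is a `p`-group
-/

set_option autoImplicit false
set_option linter.unusedSectionVars false
set_option linter.unusedVariables false

namespace Cfsg.Agent.Lib.Helper91.StSp

open Cfsg Cfsg.Agent.Lib.Helper49.StSp Matrix

variable {m : ℕ} {F : Type*} [Field F]

local notation "𝕄" => Matrix (Fin m ⊕ Fin m) (Fin m ⊕ Fin m) F

theorem coe_mul_apply (g h : SpG m F) (a b : Fin m ⊕ Fin m) :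
    ((g * h : SpG m F).1 : 𝕄) a b = ∑ c, (g.1 : 𝕄) a c * (h.1 : 𝕄) c b := rfl

/-- diagonal entries of a product of upper triangular matrices -/
theorem diag_mul (g h : SpG m F) (hg : g ∈ Bsub m F) (hh : h ∈ Bsub m F) (a : Fin m ⊕ Fin m) :
    ((g * h : SpG m F).1 : 𝕄) a a = (g.1 : 𝕄) a a * (h.1 : 𝕄) a a := by
  rw [coe_mul_apply, Finset.sum_eq_single a]
  · intro c _ hc
    rcases lt_or_gt_of_ne (fun e => hc (pos_injective m e)) with h1 | h1
    · rw [(mem_Bsub_iff g).1 hg a c h1, zero_mul]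
    · rw [(mem_Bsub_iff h).1 hh c a h1, mul_zero]
  · intro h; exact absurd (Finset.mem_univ _) h

theorem coe_one_apply (a b : Fin m ⊕ Fin m) :
    ((1 : SpG m F).1 : 𝕄) a b = (1 : 𝕄) a b := rfl

variable (m F)

/-- the unitriangular elements of `B` -/
def Usub : Subgroup (SpG m F) where
  carrier := {g | g ∈ Bsub m F ∧ ∀ a, (g.1 : 𝕄) a a = 1}
  mul_mem' := by
    rintro g h ⟨hg, hg1⟩ ⟨hh, hh1⟩
    refine ⟨mul_mem hg hh, fun a => ?_⟩
    rw [diag_mul g h hg hh, hg1, hh1, one_mul]
  one_mem' := ⟨one_mem _, fun a => by rw [coe_one_apply, Matrix.one_apply_eq]⟩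
  inv_mem' := by
    rintro g ⟨hg, hg1⟩
    refine ⟨inv_mem hg, fun a => ?_⟩
    have h1 := diag_mul g⁻¹ g (inv_mem hg) hg a
    rw [inv_mul_cancel, coe_one_apply, Matrix.one_apply_eq, hg1, mul_one] at h1
    exact h1.symm

variable {m F}

theorem mem_Usub_iff (g : SpG m F) :
    g ∈ Usub m F ↔ g ∈ Bsub m F ∧ ∀ a, (g.1 : 𝕄) a a = 1 := Iff.rfl

theorem Usub_le_B : Usub m F ≤ Bsub m F := fun _ h => h.1

theorem pos_lt (a : Fin m ⊕ Fin m) : pos m a < 2 * m := by
  rcases a with a | a <;> simp only [pos] <;> have := a.2 <;> omega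

/-- powers of a strictly upper triangular matrix -/
theorem strict_pow_apply (N : 𝕄) (hN : ∀ a b, pos m b ≤ pos m a → N a b = 0) (k : ℕ) :
    ∀ a b, pos m b < pos m a + k → (N ^ k) a b = 0 := by
  induction k with
  | zero =>
    intro a b hab
    rw [pow_zero, Matrix.one_apply_ne]
    rintro rfl
    rw [add_zero] at hab
    exact lt_irrefl (pos m a) hab
  | succ k ih =>
    intro a b hab
    rw [pow_succ, Matrix.mul_apply]
    refine Finset.sum_eq_zero (fun c _ => ?_)
    by_cases hc : pos m c < pos m a + k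
    · rw [ih a c hc, zero_mul]
    · rw [hN c b (by omega), mul_zero]

theorem strict_pow_eq_zero (N : 𝕄) (hN : ∀ a b, pos m b ≤ pos m a → N a b = 0) :
    N ^ (2 * m) = 0 := by
  ext a b
  rw [strict_pow_apply N hN (2 * m) a b (by have := pos_lt b; omega), Matrix.zero_apply]

theorem coe_pow (g : SpG m F) (k : ℕ) : ((g ^ k : SpG m F).1 : 𝕄) = (g.1 : 𝕄) ^ k := rfl

/-- unitriangular symplectic matrices have `p`-power order -/
theorem pow_eq_one_of_mem_Usub (p : ℕ) [Fact p.Prime] [CharP F p] (u : SpG m F)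
    (hu : u ∈ Usub m F) : u ^ p ^ (2 * m) = 1 := by
  rcases Nat.eq_zero_or_pos m with hm | hm
  · subst hm
    apply Subtype.ext
    ext a b
    rcases a with a | a <;> exact a.elim0
  · have : Nonempty (Fin m ⊕ Fin m) := ⟨Sum.inl ⟨0, hm⟩⟩
    apply Subtype.ext
    rw [coe_pow]
    set N : 𝕄 := (u.1 : 𝕄) - 1 with hNdef
    have hN : ∀ a b, pos m b ≤ pos m a → N a b = 0 := by
      intro a b hab
      rcases hab.lt_or_eq with h | h
      · rw [hNdef, Matrix.sub_apply, (mem_Bsub_iff u).1 hu.1 a b h,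
          Matrix.one_apply_ne (fun e => by rw [e] at h; exact lt_irrefl _ h), sub_zero]
      · have := pos_injective m h
        subst this
        rw [hNdef, Matrix.sub_apply, hu.2, Matrix.one_apply_eq, sub_self]
    have hu1 : (u.1 : 𝕄) = 1 + N := by rw [hNdef]; abel
    rw [hu1, add_pow_char_pow_of_commute p (2 * m) (Commute.one_left N), one_pow,
      pow_eq_zero_of_le (Nat.lt_pow_self (Fact.out : p.Prime).one_lt).le (strict_pow_eq_zero N hN),
      add_zero]
    rfl

theorem isPGroup_Usub (p : ℕ) [Fact p.Prime] [CharP F p] : IsPGroup p (Usub m F) := by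
  intro g
  refine ⟨2 * m, ?_⟩
  apply Subtype.ext
  rw [Subgroup.coe_pow, Subgroup.coe_one]
  exact pow_eq_one_of_mem_Usub p g.1 g.2

end Cfsg.Agent.Lib.Helper91.StSp
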