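import Cfsg.Agent.Lib.Helper49.StSpDefs
import Cfsg.Agent.Lib.Helper91.StSpC8U

/-!
# K-StSp leaf C8 (keystone 254517, architect helper49; parallel hand): `|B : T|` is a power of `p`
-/

set_option autoImplicit false
set_option linter.unusedSectionVars false
set_option linter.unusedVariables false

namespace Cfsg.Agent.Lib.Helper91.StSp

open Cfsg Cfsg.Agent.Lib.Helper49.StSp Matrix

variable {m : ℕ} {F : Type*} [Field F]

local notation "𝕄" => Matrix (Fin m ⊕ Fin m) (Fin m ⊕ Fin m) F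

/-- the sign of `J` at `(c, c.swap)` -/
def jsign (F : Type*) [Field F] : Fin m ⊕ Fin m → F
  | Sum.inl _ => -1
  | Sum.inr _ => 1

theorem jsign_ne_zero (c : Fin m ⊕ Fin m) : jsign F c ≠ 0 := by
  rcases c with c | c <;> simp [jsign]

theorem J_apply (c d : Fin m ⊕ Fin m) :
    (Matrix.J (Fin m) F) c d = if d = c.swap then jsign F c else 0 := by
  rcases c with c | c <;> rcases d with d | d <;>
    simp [Matrix.J, jsign, Matrix.one_apply, Matrix.neg_apply, eq_comm]
  all_goals (split_ifs <;> simp)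

/-- `b a a * b a.swap a.swap = 1` for an upper triangular symplectic matrix -/
theorem diag_mul_swap (b : SpG m F) (hb : b ∈ Bsub m F) (a : Fin m ⊕ Fin m) :
    (b.1 : 𝕄) a a * (b.1 : 𝕄) a.swap a.swap = 1 := by
  have hsymp : (b.1 : 𝕄)ᵀ * Matrix.J (Fin m) F * (b.1 : 𝕄) = Matrix.J (Fin m) F :=
    SymplecticGroup.mem_iff'.mp b.2
  have h1 := congrFun (congrFun hsymp a) a.swap
  rw [Matrix.mul_apply] at h1
  have hinner : ∀ d, ((b.1 : 𝕄)ᵀ * Matrix.J (Fin m) F) a d
      = (b.1 : 𝕄) d.swap a * jsign F d.swap := by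
    intro d
    rw [Matrix.mul_apply, Finset.sum_eq_single d.swap]
    · rw [Matrix.transpose_apply, J_apply, if_pos (by simp)]
    · intro c _ hc
      rw [J_apply, if_neg (fun e => hc (by rw [e]; simp)), mul_zero]
    · intro h; exact absurd (Finset.mem_univ _) h
  rw [Finset.sum_eq_single a.swap] at h1
  · rw [hinner, Sum.swap_swap, J_apply, if_pos rfl] at h1
    have hj := jsign_ne_zero (F := F) a
    have : ((b.1 : 𝕄) a a * (b.1 : 𝕄) a.swap a.swap) * jsign F a = 1 * jsign F a := by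
      calc ((b.1 : 𝕄) a a * (b.1 : 𝕄) a.swap a.swap) * jsign F a
          = (b.1 : 𝕄) a a * jsign F a * (b.1 : 𝕄) a.swap a.swap := by ring
        _ = jsign F a := h1
        _ = 1 * jsign F a := (one_mul _).symm
    exact mul_right_cancel₀ hj this
  · intro d _ hd
    rw [hinner]
    by_cases h2 : pos m a < pos m d.swap
    · rw [(mem_Bsub_iff b).1 hb d.swap a h2, zero_mul, zero_mul]
    · have h3 : pos m a.swap < pos m d := by
        have hne : pos m d.swap ≠ pos m a := by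
          intro e
          apply hd
          have := pos_injective m e
          rw [← this, Sum.swap_swap]
        rw [pos_swap] at h2 hne ⊢
        have := pos_lt d
        have := pos_lt a
        omega
      rw [(mem_Bsub_iff b).1 hb d a.swap h3, mul_zero]
  · intro h; exact absurd (Finset.mem_univ _) h

/-- a diagonal matrix `diag v` with `v a * v a.swap = 1` is symplectic -/
theorem diagonal_mem_symplectic (v : Fin m ⊕ Fin m → F) (hv : ∀ a, v a * v a.swap = 1) :
    (Matrix.diagonal v : 𝕄) ∈ Matrix.symplecticGroup (Fin m) F := by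
  rw [SymplecticGroup.mem_iff]
  ext x y
  rw [Matrix.diagonal_transpose, Matrix.mul_diagonal, Matrix.diagonal_mul, J_apply]
  split_ifs with h
  · subst h
    rw [mul_comm (v x), mul_assoc, hv, mul_one]
  · rw [mul_zero, zero_mul]

/-- the diagonal part of an element of `B` -/
noncomputable def dpart (b : SpG m F) (hb : b ∈ Bsub m F) : SpG m F :=
  ⟨Matrix.diagonal (fun a => (b.1 : 𝕄) a a), diagonal_mem_symplectic _ (diag_mul_swap b hb)⟩

theorem dpart_mem_T (b : SpG m F) (hb : b ∈ Bsub m F) : dpart b hb ∈ Tsub m F := by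
  rw [mem_Tsub_iff]
  intro x y hxy
  exact Matrix.diagonal_apply_ne _ hxy

theorem Tsub_le_B : Tsub m F ≤ Bsub m F := inf_le_left

theorem mul_dpart_inv_mem_U (b : SpG m F) (hb : b ∈ Bsub m F) :
    b * (dpart b hb)⁻¹ ∈ Usub m F := by
  have hT := Tsub_le_B (dpart_mem_T b hb)
  refine ⟨mul_mem hb (inv_mem hT), fun a => ?_⟩
  rw [diag_mul b _ hb (inv_mem hT)]
  have h1 := diag_mul (dpart b hb)⁻¹ (dpart b hb) (inv_mem hT) hT a
  rw [inv_mul_cancel, coe_one_apply, Matrix.one_apply_eq] at h1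
  have h2 : ((dpart b hb).1 : 𝕄) a a = (b.1 : 𝕄) a a := Matrix.diagonal_apply_eq _ _
  rw [h2] at h1
  rw [mul_comm]
  exact h1.symm

theorem U_inf_T : Usub m F ⊓ Tsub m F = ⊥ := by
  rw [eq_bot_iff]
  rintro g ⟨hU, hT⟩
  rw [Subgroup.mem_bot]
  apply Subtype.ext
  ext x y
  by_cases hxy : x = y
  · subst hxy
    rw [hU.2]
    exact (Matrix.one_apply_eq x).symm
  · rw [(mem_Tsub_iff g).1 hT x y hxy]
    exact (Matrix.one_apply_ne hxy).symm

theorem card_B_eq [Fintype F] :
    Nat.card (Bsub m F) = Nat.card (Usub m F) * Nat.card (Tsub m F) := by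
  rw [← Nat.card_prod]
  symm
  refine Nat.card_congr (Equiv.ofBijective
    (fun x : ↥(Usub m F) × ↥(Tsub m F) =>
      (⟨x.1.1 * x.2.1, mul_mem (Usub_le_B x.1.2) (Tsub_le_B x.2.2)⟩ : ↥(Bsub m F))) ⟨?_, ?_⟩)
  · rintro ⟨⟨u, hu⟩, ⟨t, ht⟩⟩ ⟨⟨u', hu'⟩, ⟨t', ht'⟩⟩ h
    have h1 : u * t = u' * t' := congrArg Subtype.val h
    have h2 : u'⁻¹ * u = t' * t⁻¹ := by
      rw [inv_mul_eq_iff_eq_mul, ← mul_assoc, ← h1, mul_assoc, mul_inv_cancel, mul_one]
    have h3 : u'⁻¹ * u ∈ Usub m F ⊓ Tsub m F :=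
      Subgroup.mem_inf.mpr ⟨(Usub m F).mul_mem ((Usub m F).inv_mem hu') hu, by
        rw [h2]; exact (Tsub m F).mul_mem ht' ((Tsub m F).inv_mem ht)⟩
    rw [U_inf_T, Subgroup.mem_bot] at h3
    have hu_eq : u = u' := by
      have := inv_mul_eq_one.mp h3
      exact this.symm
    subst hu_eq
    have ht_eq : t = t' := mul_left_cancel h1
    subst ht_eq
    rfl
  · rintro ⟨b, hb⟩
    refine ⟨(⟨b * (dpart b hb)⁻¹, mul_dpart_inv_mem_U b hb⟩, ⟨dpart b hb, dpart_mem_T b hb⟩), ?_⟩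
    apply Subtype.ext
    show b * (dpart b hb)⁻¹ * dpart b hb = b
    rw [inv_mul_cancel_right]

/-- **LEAF C8** -/
theorem relIndex_T_B [Fintype F] (p : ℕ) [Fact p.Prime] [CharP F p] :
    ∃ a : ℕ, (Tsub m F).relIndex (Bsub m F) = p ^ a := by
  obtain ⟨a, ha⟩ := IsPGroup.iff_card.mp (isPGroup_Usub (m := m) (F := F) p)
  refine ⟨a, ?_⟩
  have h1 : Nat.card (Tsub m F) * (Tsub m F).relIndex (Bsub m F) = Nat.card (Bsub m F) := by
    have := Subgroup.relIndex_mul_relIndex ⊥ (Tsub m F) (Bsub m F) bot_le Tsub_le_B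
    rwa [Subgroup.relIndex_bot_left, Subgroup.relIndex_bot_left] at this
  rw [card_B_eq, mul_comm] at h1
  have hpos : 0 < Nat.card (Tsub m F) := Nat.card_pos
  rw [← ha]
  exact Nat.eq_of_mul_eq_mul_right hpos h1

end Cfsg.Agent.Lib.Helper91.StSp
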