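import Mathlib
import Cfsg.Agent.Lib.Helper91.ThreeTranspBlocks

set_option autoImplicit false

/-!
# S5365, part I: local structure when every `D_d` generates `S₃`
-/

namespace Cfsg.Agent.Lib.Helper91.TT365

open Cfsg.Agent.Lib.Helper91

/-! ### facts about `S₃` -/

theorem s3_inv_ne_comm : ∀ x y : Equiv.Perm (Fin 3), orderOf x = 2 → orderOf y = 2 → x ≠ y →
    x * y ≠ y * x := by
  have key : ∀ x y : Equiv.Perm (Fin 3), x * x = 1 → x ≠ 1 → y * y = 1 → y ≠ 1 → x ≠ y →
      x * y ≠ y * x := by decide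
  intro x y hx hy hxy
  have hx1 : x ≠ 1 := by
    intro h; rw [h, orderOf_one] at hx; omega
  have hy1 : y ≠ 1 := by
    intro h; rw [h, orderOf_one] at hy; omega
  have hxx : x * x = 1 := by
    have := pow_orderOf_eq_one x
    rwa [hx, pow_two] at this
  have hyy : y * y = 1 := by
    have := pow_orderOf_eq_one y
    rwa [hy, pow_two] at this
  exact key x y hxx hx1 hyy hy1 hxy

theorem s3_three_inv : ∀ x y w : Equiv.Perm (Fin 3), orderOf x = 2 → orderOf y = 2 → orderOf w = 2 →
    x ≠ y → w = x ∨ w = y ∨ w = x * y * x := by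
  have key : ∀ x y : Equiv.Perm (Fin 3), x * x = 1 → x ≠ 1 → y * y = 1 → y ≠ 1 → x ≠ y →
      ∀ w : Equiv.Perm (Fin 3), w * w = 1 → w ≠ 1 → (w = x ∨ w = y ∨ w = x * y * x) := by decide
  intro x y w hx hy hw hxy
  have h1 : ∀ t : Equiv.Perm (Fin 3), orderOf t = 2 → t * t = 1 ∧ t ≠ 1 := by
    intro t ht
    refine ⟨?_, ?_⟩
    · have := pow_orderOf_eq_one t
      rwa [ht, pow_two] at this
    · intro h; rw [h, orderOf_one] at ht; omega
  exact key x y (h1 x hx).1 (h1 x hx).2 (h1 y hy).1 (h1 y hy).2 hxy w (h1 w hw).1 (h1 w hw).2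

section loc
variable {G : Type*} [Group G] {D : Set G}

/-- the members of `D` other than `d` commuting with `d` -/
def Dd (D : Set G) (d : G) : Set G := {y : G | y ∈ D ∧ y ≠ d ∧ Commute d y}

theorem mem_Dd {d y : G} : y ∈ Dd D d ↔ y ∈ D ∧ y ≠ d ∧ Commute d y := Iff.rfl

theorem Dd_symm {d y : G} (hd : d ∈ D) (hy : y ∈ Dd D d) : d ∈ Dd D y :=
  ⟨hd, fun h => hy.2.1 h.symm, hy.2.2.symm⟩

theorem Dd_conj (hconj : ∀ g : G, ∀ d ∈ D, g * d * g⁻¹ ∈ D) {d y g : G} (hy : y ∈ Dd D d) :
    g * y * g⁻¹ ∈ Dd D (g * d * g⁻¹) := by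
  refine ⟨hconj g y hy.1, ?_, ?_⟩
  · intro h
    apply hy.2.1
    have := congrArg (fun x => g⁻¹ * x * g) h
    simpa [mul_assoc] using this
  · have h := hy.2.2
    show g * d * g⁻¹ * (g * y * g⁻¹) = g * y * g⁻¹ * (g * d * g⁻¹)
    calc g * d * g⁻¹ * (g * y * g⁻¹) = g * (d * y) * g⁻¹ := by group
      _ = g * (y * d) * g⁻¹ := by rw [h.eq]
      _ = g * y * g⁻¹ * (g * d * g⁻¹) := by group

/-- conjugation by an element centralizing `d` preserves `D_d` -/
theorem Dd_conj_of_commute (hconj : ∀ g : G, ∀ d ∈ D, g * d * g⁻¹ ∈ D) {d y g : G}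
    (hy : y ∈ Dd D d) (hg : Commute g d) : g * y * g⁻¹ ∈ Dd D d := by
  have := Dd_conj hconj (g := g) hy
  have e : g * d * g⁻¹ = d := by rw [hg.eq]; group
  rwa [e] at this

variable (hT : Cfsg.IsThreeTranspositionSet D)
  (hloc : ∀ d ∈ D, Nonempty (↥(Subgroup.closure (Dd D d)) ≃* Equiv.Perm (Fin 3)))
include hT hloc

/-- two distinct members of `D_d` do not commute -/
theorem Dd_not_commute {d x y : G} (hd : d ∈ D) (hx : x ∈ Dd D d) (hy : y ∈ Dd D d) (hxy : x ≠ y) :
    ¬ Commute x y := by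
  obtain ⟨φ⟩ := hloc d hd
  intro hc
  set x' : ↥(Subgroup.closure (Dd D d)) := ⟨x, Subgroup.subset_closure hx⟩ with hx'
  set y' : ↥(Subgroup.closure (Dd D d)) := ⟨y, Subgroup.subset_closure hy⟩ with hy'
  have hox : orderOf (φ x') = 2 := by
    rw [MulEquiv.orderOf_eq, hx', Subgroup.orderOf_mk]; exact hT.1 x hx.1
  have hoy : orderOf (φ y') = 2 := by
    rw [MulEquiv.orderOf_eq, hy', Subgroup.orderOf_mk]; exact hT.1 y hy.1
  have hne : φ x' ≠ φ y' := by
    intro h
    apply hxy
    have := φ.injective h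
    exact congrArg Subtype.val this
  apply s3_inv_ne_comm _ _ hox hoy hne
  rw [← map_mul, ← map_mul]
  congr 1
  apply Subtype.ext
  exact hc.eq

/-- `D_d` consists of `x`, `y` and `x y x` for any two distinct members `x`, `y` -/
theorem Dd_eq {d x y w : G} (hd : d ∈ D) (hx : x ∈ Dd D d) (hy : y ∈ Dd D d) (hxy : x ≠ y)
    (hw : w ∈ Dd D d) : w = x ∨ w = y ∨ w = x * y * x := by
  obtain ⟨φ⟩ := hloc d hd
  set x' : ↥(Subgroup.closure (Dd D d)) := ⟨x, Subgroup.subset_closure hx⟩ with hx'
  set y' : ↥(Subgroup.closure (Dd D d)) := ⟨y, Subgroup.subset_closure hy⟩ with hy'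
  set w' : ↥(Subgroup.closure (Dd D d)) := ⟨w, Subgroup.subset_closure hw⟩ with hw'
  have hox : orderOf (φ x') = 2 := by
    rw [MulEquiv.orderOf_eq, hx', Subgroup.orderOf_mk]; exact hT.1 x hx.1
  have hoy : orderOf (φ y') = 2 := by
    rw [MulEquiv.orderOf_eq, hy', Subgroup.orderOf_mk]; exact hT.1 y hy.1
  have how : orderOf (φ w') = 2 := by
    rw [MulEquiv.orderOf_eq, hw', Subgroup.orderOf_mk]; exact hT.1 w hw.1
  have hne : φ x' ≠ φ y' := by
    intro h
    apply hxy
    have := φ.injective h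
    exact congrArg Subtype.val this
  rcases s3_three_inv _ _ _ hox hoy how hne with h | h | h
  · left
    exact congrArg Subtype.val (φ.injective h)
  · right; left
    exact congrArg Subtype.val (φ.injective h)
  · right; right
    rw [← map_mul, ← map_mul] at h
    exact congrArg Subtype.val (φ.injective h)

/-- `D_d` has two distinct members -/
theorem exists_two {d : G} (hd : d ∈ D) : ∃ x ∈ Dd D d, ∃ y ∈ Dd D d, x ≠ y := by
  obtain ⟨φ⟩ := hloc d hd
  by_contra hcon
  push Not at hcon
  -- then the closure is commutative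
  have hcomm : ∀ u ∈ Subgroup.closure (Dd D d), ∀ v ∈ Subgroup.closure (Dd D d), u * v = v * u := by
    intro u hu v hv
    have h1 : Subgroup.closure (Dd D d) ≤ Subgroup.centralizer (Dd D d) := by
      rw [Subgroup.closure_le]
      intro s hs
      rw [SetLike.mem_coe, Subgroup.mem_centralizer_iff]
      intro t ht
      rw [hcon s hs t ht]
    have h2 : Subgroup.closure (Dd D d) ≤ Subgroup.centralizer (Subgroup.closure (Dd D d) : Set G) := by
      rw [Subgroup.closure_le]
      intro s hs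
      rw [SetLike.mem_coe, Subgroup.mem_centralizer_iff]
      intro t ht
      have := h1 ht
      rw [Subgroup.mem_centralizer_iff] at this
      exact (this s hs).symm
    have := h2 hv
    rw [Subgroup.mem_centralizer_iff] at this
    exact this u hu
  have h3 : ∀ p q : Equiv.Perm (Fin 3), p * q = q * p := by
    intro p q
    obtain ⟨u, rfl⟩ := φ.surjective p
    obtain ⟨v, rfl⟩ := φ.surjective q
    rw [← map_mul, ← map_mul]
    congr 1
    apply Subtype.ext
    exact hcomm u.1 u.2 v.1 v.2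
  exact absurd (h3 (Equiv.swap 0 1) (Equiv.swap 0 2)) (by decide)

end loc

section lam
variable {G : Type*} [Group G] {D : Set G}

/-- uniqueness of the third point of a line -/
theorem line_unique (hT : Cfsg.IsThreeTranspositionSet D) {z v v' : G} (hz : z ∈ D) (hv : v ∈ D)
    (hv' : v' ∈ D) (hzv : ¬ Commute z v) (hzv' : ¬ Commute z v') (h : v * z * v = v' * z * v') :
    v = v' := by
  have hzz := tt_mul_self hT hz
  have b1 : z * v * z = v * z * v := tt_braid hT hz hv hzv
  have b2 : z * v' * z = v' * z * v' := tt_braid hT hz hv' hzv'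
  have e1 : v = z * (v * z * v) * z := by
    rw [← b1]
    calc v = (z * z) * v * (z * z) := by rw [hzz, one_mul, mul_one]
      _ = z * (z * v * z) * z := by simp only [mul_assoc]
  have e2 : v' = z * (v' * z * v') * z := by
    rw [← b2]
    calc v' = (z * z) * v' * (z * z) := by rw [hzz, one_mul, mul_one]
      _ = z * (z * v' * z) * z := by simp only [mul_assoc]
  rw [e1, h, ← e2]

/-- for commuting `x`, `y` and `z` commuting with neither, `(x y) z (x y)⁻¹` lies in `D_z` -/
theorem conj_mem_Dd (hT : Cfsg.IsThreeTranspositionSet D)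
    (hconj : ∀ g : G, ∀ d ∈ D, g * d * g⁻¹ ∈ D) {x y z : G} (hx : x ∈ D) (hy : y ∈ D)
    (hz : z ∈ D) (hxy : Commute x y) (hne : x ≠ y) (hzx : ¬ Commute z x) (hzy : ¬ Commute z y) :
    (x * y) * z * (x * y)⁻¹ ∈ Dd D z := by
  have hxx := tt_mul_self hT hx
  have hyy := tt_mul_self hT hy
  have hzz := tt_mul_self hT hz
  have bx : z * x * z = x * z * x := tt_braid hT hz hx hzx
  have by' : z * y * z = y * z * y := tt_braid hT hz hy hzy
  have hinv : (x * y)⁻¹ = y * x := by
    rw [mul_inv_rev, tt_inv hT hx, tt_inv hT hy]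
  have hw : (x * y) * z * (x * y)⁻¹ = x * (y * z * y) * x := by
    rw [hinv]; simp only [mul_assoc]
  have hyxy : y * x * y = x := by
    rw [← hxy.eq, mul_assoc, hyy, mul_one]
  refine ⟨hconj _ z hz, ?_, ?_⟩
  · intro h
    rw [hw] at h
    -- y z y = x z x
    have h2 : y * z * y = x * z * x := by
      calc y * z * y = (x * x) * (y * z * y) * (x * x) := by rw [hxx, one_mul, mul_one]
        _ = x * (x * (y * z * y) * x) * x := by simp only [mul_assoc]
        _ = x * z * x := by rw [h]
    exact hne (line_unique hT hz hy hx hzy hzx h2).symm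
  · -- commutes with z
    have hwA : (x * y) * z * (x * y)⁻¹ = y * (z * x * z) * y := by
      rw [hw, bx]
      have e1 : x * y = y * x := hxy.eq
      calc x * (y * z * y) * x = (x * y) * z * (y * x) := by simp only [mul_assoc]
        _ = (y * x) * z * (x * y) := by rw [e1]
        _ = y * (x * z * x) * y := by simp only [mul_assoc]
    have hwB : (x * y) * z * (x * y)⁻¹ = (z * y * z) * x * (z * y * z) := by
      rw [hwA, by']
      calc y * (z * x * z) * y = y * z * (y * y) * x * (y * y) * z * y := by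
            rw [hyy]; simp only [mul_assoc, mul_one]
        _ = (y * z * y) * (y * x * y) * (y * z * y) := by simp only [mul_assoc]
        _ = (y * z * y) * x * (y * z * y) := by rw [hyxy]
    show z * ((x * y) * z * (x * y)⁻¹) = (x * y) * z * (x * y)⁻¹ * z
    calc z * ((x * y) * z * (x * y)⁻¹) = z * (y * (z * x * z) * y) := by rw [hwA]
      _ = (z * y * z) * x * (z * y * z) * z := by
          simp only [mul_assoc, hzz, mul_one]
      _ = (x * y) * z * (x * y)⁻¹ * z := by rw [← hwB]

end lam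

end Cfsg.Agent.Lib.Helper91.TT365
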