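import Mathlib
import Cfsg.Prelude.Def_Solvable
import Cfsg.Agent.Lib.Helper91.TT365Local

set_option autoImplicit false

/-!
# S5365, part III: without a Petersen configuration the commuting graph is a union of `K₃,₃`
-/

namespace Cfsg.Agent.Lib.Helper91.TT365

open Cfsg.Agent.Lib.Helper91

section k33
variable {G : Type*} [Group G] {D : Set G}

/-- hypothesis A: there is no Petersen configuration -/
def HypA (D : Set G) : Prop :=
  ∀ d ∈ D, ∀ a ∈ Dd D d, ∀ b ∈ Dd D d, a ≠ b → ∀ a1 ∈ Dd D a, a1 ≠ d → Commute a1 b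

variable (hT : Cfsg.IsThreeTranspositionSet D)
  (hconj : ∀ g : G, ∀ d ∈ D, g * d * g⁻¹ ∈ D)
  (hloc : ∀ d ∈ D, Nonempty (↥(Subgroup.closure (Dd D d)) ≃* Equiv.Perm (Fin 3)))
  (hA : HypA D)

include hT hloc hA in
theorem nbr_subset {d a b : G} (hd : d ∈ D) (ha : a ∈ Dd D d) (hb : b ∈ Dd D d) (hab : a ≠ b) :
    Dd D a ⊆ Dd D b := by
  intro a1 ha1
  by_cases h : a1 = d
  · rw [h]; exact Dd_symm hd hb
  · have hc := hA d hd a ha b hb hab a1 ha1 h
    refine ⟨ha1.1, ?_, hc.symm⟩
    intro h2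
    apply Dd_not_commute hT hloc hd ha hb hab
    rw [← h2]; exact ha1.2.2

include hT hloc hA in
/-- two vertices with a common neighbour have the same neighbours -/
theorem nbr_eq {d a b : G} (hd : d ∈ D) (ha : a ∈ Dd D d) (hb : b ∈ Dd D d) :
    Dd D a = Dd D b := by
  by_cases hab : a = b
  · rw [hab]
  · exact Set.Subset.antisymm (nbr_subset hT hloc hA hd ha hb hab)
      (nbr_subset hT hloc hA hd hb ha (Ne.symm hab))

include hT hconj hloc hA in
/-- a rotation `x x'` (with `x`, `x'` distinct neighbours of `e`) preserves every neighbourhood -/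
theorem rot_conj_mem {e x x' z y : G} (he : e ∈ D) (hx : x ∈ Dd D e) (hx' : x' ∈ Dd D e)
    (hz : z ∈ D) (hy : y ∈ Dd D z) : (x * x') * y * (x * x')⁻¹ ∈ Dd D z := by
  have hee := tt_mul_self hT he
  by_cases h1 : y ∈ Dd D e
  · have hze : Dd D z = Dd D e := nbr_eq hT hloc hA hy.1 (Dd_symm hz hy) (Dd_symm he h1)
    rw [hze]
    apply Dd_conj_of_commute hconj h1
    exact hx.2.2.symm.mul_left hx'.2.2.symm
  · by_cases h2 : y ∈ Dd D x
    · have h2' : y ∈ Dd D x' := by rw [← nbr_eq hT hloc hA he hx hx']; exact h2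
      have c1 : Commute x y := h2.2.2
      have c2 : Commute x' y := h2'.2.2
      have hfix : (x * x') * y * (x * x')⁻¹ = y := by
        have := c1.mul_left c2
        rw [this.eq]; group
      rw [hfix]; exact hy
    · have hyD : y ∈ D := hy.1
      have hne_e : y ≠ e := fun h => h2 (h ▸ Dd_symm he hx)
      have hnc_e : ¬ Commute y e := fun h => h1 ⟨hyD, hne_e, h.symm⟩
      have hne_x : y ≠ x := fun h => h1 (h ▸ hx)
      have hne_x' : y ≠ x' := fun h => h1 (h ▸ hx')
      have hnc_x' : ¬ Commute y x' := fun h => h2 (by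
        rw [nbr_eq hT hloc hA he hx hx']; exact ⟨hyD, hne_x', h.symm⟩)
      have hy1mem : (e * x') * y * (e * x')⁻¹ ∈ Dd D y :=
        conj_mem_Dd hT hconj he hx'.1 hyD hx'.2.2 (Ne.symm hx'.2.1) hnc_e hnc_x'
      set y1 := (e * x') * y * (e * x')⁻¹ with hy1
      -- y1 does not commute with e
      have hy1e : ¬ Commute y1 e := by
        intro hc
        apply hnc_e
        have hg0 : Commute (e * x') e := (Commute.refl e).mul_left hx'.2.2.symm
        have hyy : y = (e * x')⁻¹ * y1 * (e * x') := by rw [hy1]; group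
        rw [hyy]
        exact (hg0.inv_left.mul_left hc).mul_left hg0
      -- y1 does not commute with x
      have hy1x : ¬ Commute y1 x := by
        intro hc
        have hne : y1 ≠ x := by
          intro h
          apply h2
          have : x ∈ Dd D y := h ▸ hy1mem
          exact Dd_symm hyD this
        have hy1x' : y1 ∈ Dd D x := ⟨hy1mem.1, hne, hc.symm⟩
        have hxy : Dd D x = Dd D y :=
          nbr_eq hT hloc hA hy1mem.1 (Dd_symm hx.1 hy1x') (Dd_symm hyD hy1mem)
        have : e ∈ Dd D y := by rw [← hxy]; exact Dd_symm he hx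
        exact hnc_e this.2.2
      have hrew : (x * x') * y * (x * x')⁻¹ = (x * e) * y1 * (x * e)⁻¹ := by
        rw [hy1]
        have : (x * e) * ((e * x') * y * (e * x')⁻¹) * (x * e)⁻¹
            = x * (e * e) * x' * y * x'⁻¹ * (e * e)⁻¹ * x⁻¹ := by group
        rw [this, hee]; group
      rw [hrew]
      have hmem : (x * e) * y1 * (x * e)⁻¹ ∈ Dd D y1 :=
        conj_mem_Dd hT hconj hx.1 he hy1mem.1 hx.2.2.symm hx.2.1 hy1x hy1e
      have hyz : Dd D y1 = Dd D z := nbr_eq hT hloc hA hyD hy1mem (Dd_symm hz hy)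
      rw [← hyz]; exact hmem

include hT hloc in
/-- the product of two distinct members of a triple is one of the two rotations -/
theorem triple_prod {z y y' u v : G} (hz : z ∈ D) (hy : y ∈ Dd D z) (hy' : y' ∈ Dd D z)
    (hyy' : y ≠ y') (hu : u ∈ Dd D z) (hv : v ∈ Dd D z) (huv : u ≠ v) :
    u * v = y * y' ∨ u * v = y' * y := by
  have hnc := Dd_not_commute hT hloc hz hy hy' hyy'
  have hb : y * y' * y = y' * y * y' := tt_braid hT hy.1 hy'.1 hnc
  have h1 := tt_mul_self hT hy.1
  have h2 := tt_mul_self hT hy'.1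
  rcases Dd_eq hT hloc hz hy hy' hyy' hu with rfl | rfl | rfl <;>
  rcases Dd_eq hT hloc hz hy hy' hyy' hv with h | h | h
  · exact absurd h.symm huv
  · left; rw [h]
  · right; rw [h]
    calc u * (u * y' * u) = (u * u) * y' * u := by simp only [mul_assoc]
      _ = y' * u := by rw [h1, one_mul]
  · right; rw [h]
  · exact absurd h.symm huv
  · left; rw [h, hb]
    calc u * (u * y * u) = (u * u) * y * u := by simp only [mul_assoc]
      _ = y * u := by rw [h2, one_mul]
  · left; rw [h]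
    calc y * y' * y * y = y * y' * (y * y) := by simp only [mul_assoc]
      _ = y * y' := by rw [h1, mul_one]
  · right; rw [h, hb]
    calc y' * y * y' * y' = y' * y * (y' * y') := by simp only [mul_assoc]
      _ = y' * y := by rw [h2, mul_one]
  · exact absurd h.symm huv

include hT hloc in
theorem rot_cube {e x x' : G} (he : e ∈ D) (hx : x ∈ Dd D e) (hx' : x' ∈ Dd D e) (hxx' : x ≠ x') :
    (x * x') ^ 3 = 1 := by
  rcases hT.2 x hx.1 x' hx'.1 with h | h
  · exact absurd (commute_of_sq (tt_mul_self hT hx.1) (tt_mul_self hT hx'.1) h)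
      (Dd_not_commute hT hloc he hx hx' hxx')
  · exact h

include hT hconj hloc hA in
/-- any two rotations commute -/
theorem rot_commute {e x x' z y y' : G} (he : e ∈ D) (hx : x ∈ Dd D e) (hx' : x' ∈ Dd D e)
    (hxx' : x ≠ x') (hz : z ∈ D) (hy : y ∈ Dd D z) (hy' : y' ∈ Dd D z) (hyy' : y ≠ y') :
    Commute (x * x') (y * y') := by
  set r1 := x * x' with hr1
  have hu : r1 * y * r1⁻¹ ∈ Dd D z := rot_conj_mem hT hconj hloc hA he hx hx' hz hy
  have hv : r1 * y' * r1⁻¹ ∈ Dd D z := rot_conj_mem hT hconj hloc hA he hx hx' hz hy'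
  have huv : r1 * y * r1⁻¹ ≠ r1 * y' * r1⁻¹ := by
    intro h
    apply hyy'
    have := congrArg (fun t => r1⁻¹ * t * r1) h
    simpa [mul_assoc] using this
  have hprod : r1 * (y * y') * r1⁻¹ = (r1 * y * r1⁻¹) * (r1 * y' * r1⁻¹) := by group
  rcases triple_prod hT hloc hz hy hy' hyy' hu hv huv with h | h
  · rw [← hprod] at h
    show r1 * (y * y') = (y * y') * r1
    calc r1 * (y * y') = (r1 * (y * y') * r1⁻¹) * r1 := by group
      _ = (y * y') * r1 := by rw [h]
  · exfalso
    rw [← hprod] at h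
    have hinv : y' * y = (y * y')⁻¹ := by
      rw [mul_inv_rev, tt_inv hT hy.1, tt_inv hT hy'.1]
    rw [hinv] at h
    set r2 := y * y' with hr2
    have h3 : r1 ^ 3 = 1 := rot_cube hT hloc he hx hx' hxx'
    have e1 : r1 * r2⁻¹ * r1⁻¹ = r2 := by
      have := congrArg (fun t => t⁻¹) h
      simpa [mul_assoc] using this
    have h3' : r1 * r1 * r1 = 1 := by rw [← h3, pow_succ, pow_two]
    have e2 : r2 = r2⁻¹ := by
      calc r2 = (r1 * r1 * r1) * r2 * (r1 * r1 * r1)⁻¹ := by rw [h3']; group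
        _ = r1 * (r1 * (r1 * r2 * r1⁻¹) * r1⁻¹) * r1⁻¹ := by group
        _ = r1 * (r1 * r2⁻¹ * r1⁻¹) * r1⁻¹ := by rw [h]
        _ = r1 * r2 * r1⁻¹ := by rw [e1]
        _ = r2⁻¹ := h
    have e3 : r2 ^ 2 = 1 := by
      rw [pow_two]
      nth_rewrite 1 [e2]
      exact inv_mul_cancel r2
    exact Dd_not_commute hT hloc hz hy hy' hyy'
      (commute_of_sq (tt_mul_self hT hy.1) (tt_mul_self hT hy'.1) e3)

/-- the rotations: products of two distinct neighbours of a vertex -/
def rotSet (D : Set G) : Set G :=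
  {g : G | ∃ e ∈ D, ∃ x ∈ Dd D e, ∃ x' ∈ Dd D e, x ≠ x' ∧ g = x * x'}

include hconj in
theorem rotSet_conj {g : G} (hg : g ∈ rotSet D) (h : G) : h * g * h⁻¹ ∈ rotSet D := by
  obtain ⟨e, he, x, hx, x', hx', hxx', rfl⟩ := hg
  refine ⟨h * e * h⁻¹, hconj h e he, h * x * h⁻¹, Dd_conj hconj hx, h * x' * h⁻¹,
    Dd_conj hconj hx', ?_, by group⟩
  intro hh
  apply hxx'
  have := congrArg (fun t => h⁻¹ * t * h) hh
  simpa [mul_assoc] using this

include hconj in
theorem rotGroup_normal : (Subgroup.closure (rotSet D)).Normal := by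
  constructor
  intro n hn g
  induction hn using Subgroup.closure_induction with
  | mem t ht => exact Subgroup.subset_closure (rotSet_conj hconj ht g)
  | one => simp
  | mul a b _ _ ha hb =>
    have : g * (a * b) * g⁻¹ = (g * a * g⁻¹) * (g * b * g⁻¹) := by group
    rw [this]; exact Subgroup.mul_mem _ ha hb
  | inv a _ ha =>
    have : g * a⁻¹ * g⁻¹ = (g * a * g⁻¹)⁻¹ := by group
    rw [this]; exact Subgroup.inv_mem _ ha

include hT hconj hloc hA in
theorem rotGroup_comm : ∀ a ∈ Subgroup.closure (rotSet D), ∀ b ∈ Subgroup.closure (rotSet D),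
    a * b = b * a := by
  have hgen : ∀ a ∈ rotSet D, ∀ b ∈ rotSet D, a * b = b * a := by
    rintro _ ⟨e, he, x, hx, x', hx', hxx', rfl⟩ _ ⟨z, hz, y, hy, y', hy', hyy', rfl⟩
    exact (rot_commute hT hconj hloc hA he hx hx' hxx' hz hy hy' hyy').eq
  have hK := Subgroup.isMulCommutative_closure hgen
  intro a ha b hb
  have := hK.is_comm.comm ⟨a, ha⟩ ⟨b, hb⟩
  exact congrArg Subtype.val this

include hT hconj hloc hA in
theorem rotGroup_cube : ∀ a ∈ Subgroup.closure (rotSet D), a ^ 3 = 1 := by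
  intro a ha
  induction ha using Subgroup.closure_induction with
  | mem t ht =>
    obtain ⟨e, he, x, hx, x', hx', hxx', rfl⟩ := ht
    exact rot_cube hT hloc he hx hx' hxx'
  | one => simp
  | mul a b ha hb iha ihb =>
    have hc : Commute a b := rotGroup_comm hT hconj hloc hA a ha b hb
    rw [hc.mul_pow, iha, ihb, one_mul]
  | inv a _ iha => rw [inv_pow, iha, inv_one]

include hT hconj hloc hA in
theorem rotGroup_isPGroup : IsPGroup 3 (Subgroup.closure (rotSet D)) := by
  intro w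
  refine ⟨1, ?_⟩
  apply Subtype.ext
  rw [pow_one, Subgroup.coe_pow, Subgroup.coe_one]
  exact rotGroup_cube hT hconj hloc hA w.1 w.2

include hT hconj hloc hA in
/-- Fact F: a member of the rotation group centralizing `d` is a power of the rotation of `D_d` -/
theorem rot_cent [Finite G] {d a b w : G} (hd : d ∈ D) (ha : a ∈ Dd D d) (hb : b ∈ Dd D d)
    (hab : a ≠ b)
    (hcard : Nat.card (Cfsg.pCore 3 ↥(Subgroup.centralizer ({d} : Set G))) = 3)
    (hw : w ∈ Subgroup.closure (rotSet D)) (hwd : Commute w d) :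
    w ∈ Subgroup.zpowers (a * b) := by
  classical
  set C : Subgroup G := Subgroup.centralizer ({d} : Set G) with hC
  have hmemC : ∀ g : G, g ∈ C ↔ Commute g d := by
    intro g
    rw [hC, Subgroup.mem_centralizer_iff]
    constructor
    · intro h; exact (h d rfl).symm
    · intro h t ht
      rw [Set.mem_singleton_iff] at ht
      rw [ht]; exact h.eq.symm
  have hrC : a * b ∈ C := (hmemC _).mpr (ha.2.2.symm.mul_left hb.2.2.symm)
  have hr3 : (a * b) ^ 3 = 1 := rot_cube hT hloc hd ha hb hab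
  have hr1 : a * b ≠ 1 := by
    intro h
    apply hab
    have : a = b⁻¹ := eq_inv_of_mul_eq_one_left h
    rw [this, tt_inv hT hb.1]
  have : Fact (Nat.Prime 3) := ⟨by norm_num⟩
  have hord : orderOf (a * b) = 3 := orderOf_eq_prime hr3 hr1
  set r0 : ↥C := ⟨a * b, hrC⟩ with hr0
  have hord0 : orderOf r0 = 3 := by rw [hr0, Subgroup.orderOf_mk]; exact hord
  -- the two normal 3-subgroups of C
  have hWn : (Subgroup.closure (rotSet D)).Normal := rotGroup_normal hconj
  have hN1n : ((Subgroup.closure (rotSet D)).subgroupOf C).Normal := hWn.subgroupOf C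
  have hN1p : IsPGroup 3 ((Subgroup.closure (rotSet D)).subgroupOf C) :=
    (rotGroup_isPGroup hT hconj hloc hA).comap_subtype
  have hN1 : (Subgroup.closure (rotSet D)).subgroupOf C ≤ Cfsg.pCore 3 ↥C :=
    le_sSup ⟨hN1n, hN1p⟩
  have hcardN2 : Nat.card (Subgroup.zpowers r0) = 3 := by rw [Nat.card_zpowers, hord0]
  have hN2p : IsPGroup 3 (Subgroup.zpowers r0) := IsPGroup.of_card (n := 1) (by rw [hcardN2, pow_one])
  have hconj0 : ∀ c : ↥C, c * r0 * c⁻¹ = r0 ∨ c * r0 * c⁻¹ = r0⁻¹ := by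
    intro c
    have hcd : Commute (c : G) d := (hmemC _).mp c.2
    have h1 : (c : G) * a * (c : G)⁻¹ ∈ Dd D d := Dd_conj_of_commute hconj ha hcd
    have h2 : (c : G) * b * (c : G)⁻¹ ∈ Dd D d := Dd_conj_of_commute hconj hb hcd
    have h12 : (c : G) * a * (c : G)⁻¹ ≠ (c : G) * b * (c : G)⁻¹ := by
      intro hh
      apply hab
      have := congrArg (fun t => (c : G)⁻¹ * t * (c : G)) hh
      simpa [mul_assoc] using this
    have hprod : (c : G) * (a * b) * (c : G)⁻¹
        = ((c : G) * a * (c : G)⁻¹) * ((c : G) * b * (c : G)⁻¹) := by group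
    rcases triple_prod hT hloc hd ha hb hab h1 h2 h12 with h | h
    · left
      apply Subtype.ext
      show (c : G) * (a * b) * (c : G)⁻¹ = a * b
      rw [hprod, h]
    · right
      apply Subtype.ext
      show (c : G) * (a * b) * (c : G)⁻¹ = (a * b)⁻¹
      rw [hprod, h, mul_inv_rev, tt_inv hT ha.1, tt_inv hT hb.1]
  have hN2n : (Subgroup.zpowers r0).Normal := by
    constructor
    intro n hn c
    obtain ⟨k, rfl⟩ := Subgroup.mem_zpowers_iff.mp hn
    have : c * r0 ^ k * c⁻¹ = (c * r0 * c⁻¹) ^ k := (conj_zpow).symm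
    rw [this]
    rcases hconj0 c with h | h
    · rw [h]; exact Subgroup.zpow_mem _ (Subgroup.mem_zpowers r0) k
    · rw [h]
      exact Subgroup.zpow_mem _ (Subgroup.inv_mem _ (Subgroup.mem_zpowers r0)) k
  have hN2 : Subgroup.zpowers r0 ≤ Cfsg.pCore 3 ↥C := le_sSup ⟨hN2n, hN2p⟩
  have heq : Subgroup.zpowers r0 = Cfsg.pCore 3 ↥C :=
    Subgroup.eq_of_le_of_card_ge hN2 (by rw [hcard, hcardN2])
  have hwC : w ∈ C := (hmemC w).mpr hwd
  have hw1 : (⟨w, hwC⟩ : ↥C) ∈ (Subgroup.closure (rotSet D)).subgroupOf C := by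
    rw [Subgroup.mem_subgroupOf]; exact hw
  have hw2 : (⟨w, hwC⟩ : ↥C) ∈ Subgroup.zpowers r0 := by
    rw [heq]; exact hN1 hw1
  obtain ⟨k, hk⟩ := Subgroup.mem_zpowers_iff.mp hw2
  rw [Subgroup.mem_zpowers_iff]
  refine ⟨k, ?_⟩
  have := congrArg Subtype.val hk
  rw [Subgroup.coe_zpow] at this
  exact this

include hT hconj hloc hA in
/-- there is no vertex outside the component of `d` -/
theorem no_far [Finite G]
    (hcard : ∀ d ∈ D, Nat.card (Cfsg.pCore 3 ↥(Subgroup.centralizer ({d} : Set G))) = 3)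
    {d a z : G} (hd : d ∈ D) (ha : a ∈ Dd D d) (hz : z ∈ D) (hz1 : z ∉ Dd D d)
    (hz2 : z ∉ Dd D a) : False := by
  have haD : a ∈ D := ha.1
  have hda : d ∈ Dd D a := Dd_symm hd ha
  have hother : ∀ {c u : G}, c ∈ D → ∃ v ∈ Dd D c, v ≠ u := by
    intro c u hc
    obtain ⟨x, hx, y, hy, hxy⟩ := exists_two hT hloc hc
    by_cases h : x = u
    · exact ⟨y, hy, fun h' => hxy (h.trans h'.symm)⟩
    · exact ⟨x, hx, h⟩
  obtain ⟨e', he', hed⟩ : ∃ e' ∈ Dd D a, e' ≠ d := hother haD
  obtain ⟨b, hb, hba⟩ : ∃ b ∈ Dd D d, b ≠ a := hother hd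
  obtain ⟨z1, hz1m, -⟩ : ∃ z1 ∈ Dd D z, z1 ≠ z := hother hz
  have hzz1 : z ∈ Dd D z1 := Dd_symm hz hz1m
  obtain ⟨z', hz', hz'z⟩ : ∃ z' ∈ Dd D z1, z' ≠ z := hother hz1m.1
  have hNz : Dd D z' = Dd D z := nbr_eq hT hloc hA hz1m.1 hz' hzz1
  -- z and z' commute with neither d nor a
  have hzned : z ≠ d := fun h => hz2 (h ▸ hda)
  have hznea : z ≠ a := fun h => hz1 (h ▸ ha)
  have hzd : ¬ Commute z d := fun h => hz1 ⟨hz, hzned, h.symm⟩
  have hza : ¬ Commute z a := fun h => hz2 ⟨hz, hznea, h.symm⟩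
  have hz'1 : z' ∉ Dd D d := by
    intro h
    have h1 : d ∈ Dd D z' := Dd_symm hd h
    rw [hNz] at h1
    exact hz1 (Dd_symm hz h1)
  have hz'2 : z' ∉ Dd D a := by
    intro h
    have h1 : a ∈ Dd D z' := Dd_symm haD h
    rw [hNz] at h1
    exact hz2 (Dd_symm hz h1)
  have hz'ned : z' ≠ d := fun h => hz'2 (h ▸ hda)
  have hz'nea : z' ≠ a := fun h => hz'1 (h ▸ ha)
  have hz'd : ¬ Commute z' d := fun h => hz'1 ⟨hz'.1, hz'ned, h.symm⟩
  have hz'a : ¬ Commute z' a := fun h => hz'2 ⟨hz'.1, hz'nea, h.symm⟩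
  -- the rotations
  have hdd := tt_mul_self hT hd
  have haa := tt_mul_self hT haD
  have hee := tt_mul_self hT he'.1
  have hzz := tt_mul_self hT hz
  have hr : d * e' ∈ rotSet D := ⟨a, haD, d, hda, e', he', Ne.symm hed, rfl⟩
  have hr' : a * b ∈ rotSet D := ⟨d, hd, a, ha, b, hb, Ne.symm hba, rfl⟩
  have hr2 : z * z' ∈ rotSet D := ⟨z1, hz1m.1, z, hzz1, z', hz', Ne.symm hz'z, rfl⟩
  set r := d * e' with hrdef
  set r' := a * b with hr'def
  set r2 := z * z' with hr2def
  have hrinv : r⁻¹ = e' * d := by rw [hrdef, mul_inv_rev, tt_inv hT hd, tt_inv hT he'.1]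
  have hr'inv : r'⁻¹ = b * a := by rw [hr'def, mul_inv_rev, tt_inv hT haD, tt_inv hT hb.1]
  have hcomm : Commute r r' :=
    rot_commute hT hconj hloc hA haD hda he' (Ne.symm hed) hd ha hb (Ne.symm hba)
  have hkey : ∀ w ∈ Subgroup.closure (rotSet D), Commute w d → ∃ k : ℤ, r' ^ k = w := by
    intro w hw hwd
    have := rot_cent hT hconj hloc hA hd ha hb (Ne.symm hba) (hcard d hd) hw hwd
    exact Subgroup.mem_zpowers_iff.mp this
  have hbraid : d * e' * d = e' * d * e' :=
    tt_braid hT hd he'.1 (Dd_not_commute hT hloc haD hda he' (Ne.symm hed))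
  have hρ : r2 * d * r2⁻¹ ∈ Dd D a := rot_conj_mem hT hconj hloc hA hz1m.1 hzz1 hz' haD hda
  have hrd : r * d * r⁻¹ = e' := by
    rw [hrinv, hrdef]
    calc d * e' * d * (e' * d) = (d * e' * d) * e' * d := by simp only [mul_assoc]
      _ = e' * d * (e' * e') * d := by rw [hbraid]; simp only [mul_assoc]
      _ = e' := by rw [hee, mul_one, mul_assoc, hdd, mul_one]
  have hrd' : r⁻¹ * d * r = d * e' * d := by
    rw [hrinv, hrdef, hbraid]
    calc e' * d * d * (d * e') = e' * (d * d) * d * e' := by simp only [mul_assoc]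
      _ = e' * d * e' := by rw [hdd, mul_one]
  have hform : ∃ i k : ℤ, r2 = r ^ i * r' ^ k := by
    rcases Dd_eq hT hloc haD hda he' (Ne.symm hed) hρ with h | h | h
    · have hc : Commute r2 d := by
        show r2 * d = d * r2
        calc r2 * d = (r2 * d * r2⁻¹) * r2 := by group
          _ = d * r2 := by rw [h]
      obtain ⟨k, hk⟩ := hkey r2 (Subgroup.subset_closure hr2) hc
      exact ⟨0, k, by rw [zpow_zero, one_mul, hk]⟩
    · have hc : Commute (r⁻¹ * r2) d := by
        show r⁻¹ * r2 * d = d * (r⁻¹ * r2)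
        calc r⁻¹ * r2 * d = r⁻¹ * (r2 * d * r2⁻¹) * r2 := by group
          _ = r⁻¹ * (r * d * r⁻¹) * r2 := by rw [h, hrd]
          _ = d * (r⁻¹ * r2) := by group
      obtain ⟨k, hk⟩ := hkey (r⁻¹ * r2)
        (Subgroup.mul_mem _ (Subgroup.inv_mem _ (Subgroup.subset_closure hr))
          (Subgroup.subset_closure hr2)) hc
      refine ⟨1, k, ?_⟩
      rw [zpow_one, hk]; group
    · have hc : Commute (r * r2) d := by
        show r * r2 * d = d * (r * r2)
        calc r * r2 * d = r * (r2 * d * r2⁻¹) * r2 := by group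
          _ = r * (r⁻¹ * d * r) * r2 := by rw [h, hrd']
          _ = d * (r * r2) := by group
      obtain ⟨k, hk⟩ := hkey (r * r2)
        (Subgroup.mul_mem _ (Subgroup.subset_closure hr) (Subgroup.subset_closure hr2)) hc
      refine ⟨-1, k, ?_⟩
      rw [hk]; group
  obtain ⟨i, k, hik⟩ := hform
  -- conjugation by q = d a inverts r and r'
  set q := d * a with hq
  have hqr : q * r * q⁻¹ = r⁻¹ := by
    have hca : Commute a r := ha.2.2.symm.mul_right he'.2.2
    have h1 : a * r * a⁻¹ = r := by rw [hca.eq]; group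
    calc q * r * q⁻¹ = d * (a * r * a⁻¹) * d⁻¹ := by rw [hq]; group
      _ = d * r * d⁻¹ := by rw [h1]
      _ = (d * d) * e' * d⁻¹ := by rw [hrdef]; simp only [mul_assoc]
      _ = r⁻¹ := by rw [hdd, one_mul, tt_inv hT hd, hrinv]
  have hqr' : q * r' * q⁻¹ = r'⁻¹ := by
    have hcd : Commute d r' := ha.2.2.mul_right hb.2.2
    have h1 : d * r' * d⁻¹ = r' := by rw [hcd.eq]; group
    have hq' : q = a * d := by rw [hq]; exact ha.2.2.eq
    calc q * r' * q⁻¹ = a * (d * r' * d⁻¹) * a⁻¹ := by rw [hq']; group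
      _ = a * r' * a⁻¹ := by rw [h1]
      _ = (a * a) * b * a⁻¹ := by rw [hr'def]; simp only [mul_assoc]
      _ = r'⁻¹ := by rw [haa, one_mul, tt_inv hT haD, hr'inv]
  have hqr2 : q * r2 * q⁻¹ = r2⁻¹ := by
    have e1 : q * r2 * q⁻¹ = MulAut.conj q r2 := by rw [MulAut.conj_apply]
    have e2 : MulAut.conj q r = r⁻¹ := by rw [MulAut.conj_apply]; exact hqr
    have e3 : MulAut.conj q r' = r'⁻¹ := by rw [MulAut.conj_apply]; exact hqr'
    rw [e1, hik, map_mul, map_zpow, map_zpow, e2, e3, inv_zpow, inv_zpow, ← mul_inv_rev,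
      (hcomm.zpow_zpow i k).eq]
  -- but q z q⁻¹ and q z' q⁻¹ commute with z
  have hqz : q * z * q⁻¹ ∈ Dd D z :=
    conj_mem_Dd hT hconj hd haD hz ha.2.2 (Ne.symm ha.2.1) hzd hza
  have hqz' : q * z' * q⁻¹ ∈ Dd D z := by
    rw [← hNz]
    exact conj_mem_Dd hT hconj hd haD hz'.1 ha.2.2 (Ne.symm ha.2.1) hz'd hz'a
  have hprod : q * r2 * q⁻¹ = (q * z * q⁻¹) * (q * z' * q⁻¹) := by rw [hr2def]; group
  have hc1 : Commute z (r2⁻¹) := by
    rw [← hqr2, hprod]
    exact hqz.2.2.mul_right hqz'.2.2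
  have hc2 : Commute z r2 := by
    have := hc1.inv_right
    rwa [inv_inv] at this
  have hc3 : Commute z z' := by
    have h1 : z * (z * z') = z * (z' * z) := by
      have := hc2.eq
      rw [hr2def] at this
      rw [this]; simp only [mul_assoc]
    exact mul_left_cancel h1
  exact Dd_not_commute hT hloc hz1m.1 hzz1 hz' (Ne.symm hz'z) hc3

theorem s3_center_trivial : ∀ p : Equiv.Perm (Fin 3), (∀ q : Equiv.Perm (Fin 3), p * q = q * p) →
    p = 1 := by decide

include hT hloc hA in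
/-- a single component generates `S₃ × S₃` -/
theorem k33_iso {d a : G} (hd : d ∈ D) (ha : a ∈ Dd D d)
    (hall : ∀ z ∈ D, z ∈ Dd D d ∨ z ∈ Dd D a) :
    Nonempty (↥(Subgroup.closure D) ≃* Equiv.Perm (Fin 3) × Equiv.Perm (Fin 3)) := by
  obtain ⟨φ1⟩ := hloc d hd
  obtain ⟨φ2⟩ := hloc a ha.1
  have hgen : ∀ x ∈ Dd D d, ∀ y ∈ Dd D a, Commute x y := by
    intro x hx y hy
    have h1 : Dd D x = Dd D a := nbr_eq hT hloc hA hd hx ha
    have hy' : y ∈ Dd D x := h1 ▸ hy
    exact hy'.2.2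
  have hcomm : ∀ u ∈ Subgroup.closure (Dd D d), ∀ v ∈ Subgroup.closure (Dd D a), Commute u v := by
    have h1 : Subgroup.closure (Dd D a) ≤ Subgroup.centralizer (Dd D d) := by
      rw [Subgroup.closure_le]
      intro y hy
      rw [SetLike.mem_coe, Subgroup.mem_centralizer_iff]
      intro x hx
      exact (hgen x hx y hy).eq
    have h2 : Subgroup.closure (Dd D d)
        ≤ Subgroup.centralizer (Subgroup.closure (Dd D a) : Set G) := by
      rw [Subgroup.closure_le]
      intro x hx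
      rw [SetLike.mem_coe, Subgroup.mem_centralizer_iff]
      intro v hv
      have := h1 hv
      rw [Subgroup.mem_centralizer_iff] at this
      exact (this x hx).symm
    intro u hu v hv
    have := h2 hu
    rw [Subgroup.mem_centralizer_iff] at this
    exact (this v hv).symm
  have hdisj : ∀ w, w ∈ Subgroup.closure (Dd D d) → w ∈ Subgroup.closure (Dd D a) → w = 1 := by
    intro w hw1 hw2
    have hcen : ∀ p : Equiv.Perm (Fin 3), φ1 ⟨w, hw1⟩ * p = p * φ1 ⟨w, hw1⟩ := by
      intro p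
      obtain ⟨u, rfl⟩ := φ1.surjective p
      rw [← map_mul, ← map_mul]
      congr 1
      apply Subtype.ext
      exact ((hcomm u.1 u.2 w hw2).eq).symm
    have hone : φ1 ⟨w, hw1⟩ = 1 := s3_center_trivial _ hcen
    have := φ1.injective (hone.trans (map_one φ1).symm)
    exact congrArg Subtype.val this
  have hcomm' : ∀ (m : ↥(Subgroup.closure (Dd D d))) (n : ↥(Subgroup.closure (Dd D a))),
      Commute ((Subgroup.closure (Dd D d)).subtype m) ((Subgroup.closure (Dd D a)).subtype n) :=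
    fun m n => hcomm m.1 m.2 n.1 n.2
  obtain ⟨f, hf⟩ : ∃ f : ↥(Subgroup.closure (Dd D d)) × ↥(Subgroup.closure (Dd D a)) →* G,
      f = MonoidHom.noncommCoprod (Subgroup.closure (Dd D d)).subtype
        (Subgroup.closure (Dd D a)).subtype hcomm' := ⟨_, rfl⟩
  have hinj : Function.Injective f := by
    rw [hf, MonoidHom.noncommCoprod_injective]
    refine ⟨Subgroup.subtype_injective _, Subgroup.subtype_injective _, ?_⟩
    rw [Subgroup.range_subtype, Subgroup.range_subtype, Subgroup.disjoint_def]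
    intro w h1 h2
    exact hdisj w h1 h2
  have hrange : f.range = Subgroup.closure D := by
    rw [hf, MonoidHom.noncommCoprod_range, Subgroup.range_subtype, Subgroup.range_subtype,
      ← Subgroup.closure_union]
    congr 1
    ext z
    constructor
    · rintro (h | h) <;> exact h.1
    · intro h
      exact hall z h
  exact ⟨((MonoidHom.ofInjective hinj).trans (MulEquiv.subgroupCongr hrange)).symm.trans
    (MulEquiv.prodCongr φ1 φ2)⟩

end k33

end Cfsg.Agent.Lib.Helper91.TT365
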