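import Mathlib
import Cfsg.Agent.Lib.Helper91.TT365Local
import Cfsg.Agent.Lib.Helper91.CoxA4

set_option autoImplicit false

/-!
# S5365, part II: the Petersen case gives `S₅`
-/

namespace Cfsg.Agent.Lib.Helper91.TT365

open Cfsg.Agent.Lib.Helper91

set_option maxRecDepth 100000 in
set_option synthInstance.maxSize 100000 in
set_option synthInstance.maxHeartbeats 2000000 in
set_option maxHeartbeats 2000000 in
/-- the Petersen graph has no proper 3-edge-colouring -/
theorem petersen_snark : ∀ e0 e1 : Fin 3, e0 ≠ e1 → ∀ s1 : Fin 3, s1 ≠ e0 → s1 ≠ e1 →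
    ∀ e2 : Fin 3, e2 ≠ e1 → ∀ s2 : Fin 3, s2 ≠ e1 → s2 ≠ e2 → ∀ e3 : Fin 3, e3 ≠ e2 →
    ∀ s3 : Fin 3, s3 ≠ e2 → s3 ≠ e3 → ∀ e4 : Fin 3, e4 ≠ e3 → e4 ≠ e0 →
    ∀ s4 : Fin 3, s4 ≠ e3 → s4 ≠ e4 → ∀ s0 : Fin 3, s0 ≠ e4 → s0 ≠ e0 →
    ∀ f0 : Fin 3, f0 ≠ s0 → f0 ≠ s2 → ∀ f3 : Fin 3, f3 ≠ s0 → f3 ≠ f0 → f3 ≠ s3 →
    ∀ f1 : Fin 3, f1 ≠ s1 → f1 ≠ s3 → f1 ≠ f3 → ∀ f4 : Fin 3, f4 ≠ s1 → f4 ≠ f1 → f4 ≠ s4 →
    ∀ f2 : Fin 3, f2 ≠ s2 → f2 ≠ f0 → f2 ≠ s4 → f2 ≠ f4 → False := by
  decide

theorem swap5_conj : ∀ i j : Fin 5, i ≠ j →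
    ∃ σ : Equiv.Perm (Fin 5), Equiv.swap i j = σ * Equiv.swap 0 1 * σ⁻¹ := by
  intro i j hij
  set σ1 : Equiv.Perm (Fin 5) := Equiv.swap 0 i with hσ1
  set k := σ1 1 with hk
  have hki : k ≠ i := by
    intro h
    have h0 : σ1 0 = i := by rw [hσ1, Equiv.swap_apply_left]
    have : σ1 1 = σ1 0 := by rw [← hk, h, h0]
    exact absurd (σ1.injective this) (by decide)
  set σ2 : Equiv.Perm (Fin 5) := Equiv.swap k j with hσ2
  refine ⟨σ2 * σ1, ?_⟩
  rw [← Equiv.swap_apply_apply]
  have e0 : (σ2 * σ1) 0 = i := by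
    rw [Equiv.Perm.mul_apply, hσ1, Equiv.swap_apply_left, hσ2,
      Equiv.swap_apply_of_ne_of_ne hki.symm hij]
  have e1 : (σ2 * σ1) 1 = j := by
    rw [Equiv.Perm.mul_apply, ← hk, hσ2, Equiv.swap_apply_left]
  rw [e0, e1]

set_option maxRecDepth 100000 in
set_option synthInstance.maxSize 100000 in
set_option synthInstance.maxHeartbeats 2000000 in
set_option maxHeartbeats 2000000 in
theorem swap5_comm : ∀ i j k l : Fin 5, i ≠ k → i ≠ l → j ≠ k → j ≠ l →
    Equiv.swap i j * Equiv.swap k l = Equiv.swap k l * Equiv.swap i j := by decide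

theorem swap5_mul : ∀ k l m : Fin 5, k ≠ l → k ≠ m → l ≠ m →
    Equiv.swap k l * Equiv.swap k m * Equiv.swap k l = Equiv.swap l m := by decide

theorem swap5_others : ∀ i j : Fin 5, i ≠ j → ∃ k l m : Fin 5, k ≠ l ∧ k ≠ m ∧ l ≠ m ∧
    k ≠ i ∧ k ≠ j ∧ l ≠ i ∧ l ≠ j ∧ m ≠ i ∧ m ≠ j := by decide

theorem swap5_ne : ∀ i j k l : Fin 5, i ≠ j → (k ≠ i ∧ k ≠ j) → Equiv.swap i j ≠ Equiv.swap k l := by
  intro i j k l hij hk he
  have h1 : Equiv.swap i j k = k := Equiv.swap_apply_of_ne_of_ne hk.1 hk.2
  by_cases hkl : k = l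
  · rw [hkl, Equiv.swap_self] at he
    have : Equiv.swap i j i = i := by rw [he]; rfl
    rw [Equiv.swap_apply_left] at this
    exact hij this.symm
  · rw [he, Equiv.swap_apply_left] at h1
    exact hkl h1.symm

section petersen
variable {G : Type*} [Group G] [Finite G] {D : Set G}

set_option maxHeartbeats 3200000 in
theorem petersen_case (hT : Cfsg.IsThreeTranspositionSet D)
    (hconj : ∀ g : G, ∀ d ∈ D, g * d * g⁻¹ ∈ D)
    (hloc : ∀ d ∈ D, Nonempty (↥(Subgroup.closure (Dd D d)) ≃* Equiv.Perm (Fin 3)))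
    {d a b a1 : G} (hd : d ∈ D) (ha : a ∈ Dd D d) (hb : b ∈ Dd D d) (hab : a ≠ b)
    (ha1 : a1 ∈ Dd D a) (ha1d : a1 ≠ d) (hnc : ¬ Commute a1 b) :
    Nonempty (↥(Subgroup.closure D) ≃* Equiv.Perm (Fin 5)) := by
  classical
  set H : Subgroup G := Subgroup.closure ({d, a1, b, a} : Set G) with hH
  have hdH : d ∈ H := Subgroup.subset_closure (by simp)
  have ha1H : a1 ∈ H := Subgroup.subset_closure (by simp)
  have hbH : b ∈ H := Subgroup.subset_closure (by simp)
  have haH : a ∈ H := Subgroup.subset_closure (by simp)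
  have hdDa : d ∈ Dd D a := Dd_symm hd ha
  have hnc_da1 : ¬ Commute d a1 := Dd_not_commute hT hloc ha.1 hdDa ha1 (Ne.symm ha1d)
  have hnc_ba : ¬ Commute b a := Dd_not_commute hT hloc hd hb ha (Ne.symm hab)
  have hrel : CoxA4.Rel (⟨d, hdH⟩ : ↥H) ⟨a1, ha1H⟩ ⟨b, hbH⟩ ⟨a, haH⟩ := by
    refine ⟨?_, ?_, ?_, ?_, ?_, ?_, ?_, ?_, ?_, ?_⟩
    · apply Subtype.ext; exact tt_mul_self hT hd
    · apply Subtype.ext; exact tt_mul_self hT ha1.1
    · apply Subtype.ext; exact tt_mul_self hT hb.1
    · apply Subtype.ext; exact tt_mul_self hT ha.1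
    · apply Subtype.ext; exact hb.2.2.eq
    · apply Subtype.ext; exact ha.2.2.eq
    · apply Subtype.ext; exact ha1.2.2.eq.symm
    · apply Subtype.ext; exact tt_braid hT hd ha1.1 hnc_da1
    · apply Subtype.ext; exact tt_braid hT ha1.1 hb.1 hnc
    · apply Subtype.ext; exact tt_braid hT hb.1 ha.1 hnc_ba
  have hgen : Subgroup.closure ({(⟨d, hdH⟩ : ↥H), ⟨a1, ha1H⟩, ⟨b, hbH⟩, ⟨a, haH⟩} : Set ↥H) = ⊤ := by
    have := Subgroup.closure_closure_coe_preimage (k := ({d, a1, b, a} : Set G))
    convert this using 2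
    ext x
    simp only [Set.mem_insert_iff, Set.mem_singleton_iff, Set.mem_preimage]
    constructor
    · rintro (rfl | rfl | rfl | rfl)
      · left; rfl
      · right; left; rfl
      · right; right; left; rfl
      · right; right; right; rfl
    · rintro (h' | h' | h' | h')
      · left; exact Subtype.ext h'
      · right; left; exact Subtype.ext h'
      · right; right; left; exact Subtype.ext h'
      · right; right; right; exact Subtype.ext h'
  obtain ⟨ψ, hψ1, -, -, -⟩ := CoxA4.exists_equiv hrel hgen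
    (fun he => hnc (congrArg Subtype.val he))
    (fun he => ha1.2.1 (congrArg Subtype.val he))
    (fun he => hnc_ba (congrArg Subtype.val he))
    (fun he => tt_ne_one hT hd (congrArg Subtype.val he))
  -- the transfer map
  set T : Equiv.Perm (Fin 5) → G := fun σ => ((ψ.symm σ : ↥H) : G) with hTdef
  have T_mul : ∀ σ τ, T (σ * τ) = T σ * T τ := by
    intro σ τ
    simp only [hTdef, map_mul, Subgroup.coe_mul]
  have T_inv : ∀ σ, T σ⁻¹ = (T σ)⁻¹ := by
    intro σ
    simp only [hTdef, map_inv, Subgroup.coe_inv]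
  have T_inj : ∀ σ τ, T σ = T τ → σ = τ := by
    intro σ τ h
    exact ψ.symm.injective (Subtype.ext h)
  have T_memH : ∀ σ, T σ ∈ H := fun σ => (ψ.symm σ).2
  have T01 : T (Equiv.swap 0 1) = d := by
    have : ψ.symm (Equiv.swap 0 1) = ⟨d, hdH⟩ := by
      rw [← hψ1, MulEquiv.symm_apply_apply]
    simp only [hTdef, this]
  have hTD : ∀ i j : Fin 5, i ≠ j → T (Equiv.swap i j) ∈ D := by
    intro i j hij
    obtain ⟨σ, hσ⟩ := swap5_conj i j hij
    rw [hσ, T_mul, T_mul, T_inv, T01]
    exact hconj _ d hd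
  have hTcomm : ∀ i j k l : Fin 5, i ≠ k → i ≠ l → j ≠ k → j ≠ l →
      Commute (T (Equiv.swap i j)) (T (Equiv.swap k l)) := by
    intro i j k l h1 h2 h3 h4
    show T (Equiv.swap i j) * T (Equiv.swap k l) = T (Equiv.swap k l) * T (Equiv.swap i j)
    rw [← T_mul, ← T_mul, swap5_comm i j k l h1 h2 h3 h4]
  -- closedness
  have hclosed : ∀ i j : Fin 5, i ≠ j → ∀ w ∈ Dd D (T (Equiv.swap i j)),
      ∃ k l : Fin 5, k ≠ l ∧ w = T (Equiv.swap k l) := by
    intro i j hij w hw
    obtain ⟨k, l, m, hkl, hkm, hlm, hki, hkj, hli, hlj, hmi, hmj⟩ := swap5_others i j hij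
    have hu : T (Equiv.swap k l) ∈ Dd D (T (Equiv.swap i j)) := by
      refine ⟨hTD k l hkl, ?_, hTcomm i j k l hki.symm hli.symm hkj.symm hlj.symm⟩
      intro he
      exact swap5_ne i j k l hij ⟨hki, hkj⟩ (T_inj _ _ he).symm
    have hv : T (Equiv.swap k m) ∈ Dd D (T (Equiv.swap i j)) := by
      refine ⟨hTD k m hkm, ?_, hTcomm i j k m hki.symm hmi.symm hkj.symm hmj.symm⟩
      intro he
      exact swap5_ne i j k m hij ⟨hki, hkj⟩ (T_inj _ _ he).symm
    have huv : T (Equiv.swap k l) ≠ T (Equiv.swap k m) := by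
      intro he
      have h1 := T_inj _ _ he
      have h2 : Equiv.swap k l l = Equiv.swap k m l := by rw [h1]
      rw [Equiv.swap_apply_right, Equiv.swap_apply_of_ne_of_ne hkl.symm hlm] at h2
      exact hkl h2
    rcases Dd_eq hT hloc (hTD i j hij) hu hv huv hw with h | h | h
    · exact ⟨k, l, hkl, h⟩
    · exact ⟨k, m, hkm, h⟩
    · refine ⟨l, m, hlm, ?_⟩
      rw [h, ← T_mul, ← T_mul, swap5_mul k l m hkl hkm hlm]
  -- every member of D is one of the ten
  have hall : ∀ z ∈ D, ∃ k l : Fin 5, k ≠ l ∧ z = T (Equiv.swap k l) := by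
    intro z hz
    by_contra hzn
    push Not at hzn
    have hzc : ∀ i j : Fin 5, i ≠ j → ¬ Commute z (T (Equiv.swap i j)) := by
      intro i j hij hc
      have hzm : z ∈ Dd D (T (Equiv.swap i j)) := ⟨hz, hzn i j hij, hc.symm⟩
      obtain ⟨k, l, hkl, he⟩ := hclosed i j hij z hzm
      exact hzn k l hkl he
    obtain ⟨z1, hz1, z2, hz2, hz12⟩ := exists_two hT hloc hz
    -- the colour of an edge
    set col : Fin 5 → Fin 5 → Fin 5 → Fin 5 → G := fun i j k l =>
      (T (Equiv.swap i j) * T (Equiv.swap k l)) * z * (T (Equiv.swap i j) * T (Equiv.swap k l))⁻¹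
      with hcol
    set f : G → Fin 3 := fun g => if g = z1 then 0 else if g = z2 then 1 else 2 with hf
    have hf_inj : ∀ g g' : G, g ∈ Dd D z → g' ∈ Dd D z → f g = f g' → g = g' := by
      intro g g' hg hg' hfg
      rcases Dd_eq hT hloc hz hz1 hz2 hz12 hg with h | h | h <;>
      rcases Dd_eq hT hloc hz hz1 hz2 hz12 hg' with h' | h' | h'
      · rw [h, h']
      · exfalso
        rw [h, h'] at hfg
        simp only [hf, if_true, if_neg hz12.symm] at hfg
        exact absurd hfg (by decide)
      · exfalso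
        have hne1 : z1 * z2 * z1 ≠ z1 := by
          intro he
          have h1 := tt_mul_self hT hz1.1
          have : z2 = 1 := by
            have e2 : z1 * z2 = 1 := by
              have := congrArg (fun x => x * z1) he
              simp only [mul_assoc, h1, mul_one] at this
              exact this
            calc z2 = z1 * (z1 * z2) := by rw [← mul_assoc, h1, one_mul]
              _ = z1 := by rw [e2, mul_one]
              _ = 1 := by
                  exfalso; apply hz12
                  calc z1 = z1 * (z1 * z2) := by rw [e2, mul_one]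
                    _ = z2 := by rw [← mul_assoc, h1, one_mul]
          exact tt_ne_one hT hz2.1 this
        have hne2 : z1 * z2 * z1 ≠ z2 := by
          intro he
          apply Dd_not_commute hT hloc hz hz1 hz2 hz12
          show z1 * z2 = z2 * z1
          have h1 := tt_mul_self hT hz1.1
          calc z1 * z2 = (z1 * z2 * z1) * z1 := by rw [mul_assoc, mul_assoc, h1, mul_one]
            _ = z2 * z1 := by rw [he]
        rw [h, h'] at hfg
        simp only [hf, if_true, if_neg hne1, if_neg hne2] at hfg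
        exact absurd hfg (by decide)
      · exfalso
        rw [h, h'] at hfg
        simp only [hf, if_true, if_neg hz12.symm] at hfg
        exact absurd hfg (by decide)
      · rw [h, h']
      · exfalso
        have hne1 : z1 * z2 * z1 ≠ z1 := by
          intro he
          have h1 := tt_mul_self hT hz1.1
          have e2 : z1 * z2 = 1 := by
            have := congrArg (fun x => x * z1) he
            simp only [mul_assoc, h1, mul_one] at this
            exact this
          apply hz12
          calc z1 = z1 * (z1 * z2) := by rw [e2, mul_one]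
            _ = z2 := by rw [← mul_assoc, h1, one_mul]
        have hne2 : z1 * z2 * z1 ≠ z2 := by
          intro he
          apply Dd_not_commute hT hloc hz hz1 hz2 hz12
          show z1 * z2 = z2 * z1
          have h1 := tt_mul_self hT hz1.1
          calc z1 * z2 = (z1 * z2 * z1) * z1 := by rw [mul_assoc, mul_assoc, h1, mul_one]
            _ = z2 * z1 := by rw [he]
        rw [h, h'] at hfg
        simp only [hf, if_true, if_neg hz12.symm, if_neg hne1, if_neg hne2] at hfg
        exact absurd hfg (by decide)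
      · exfalso
        have hne1 : z1 * z2 * z1 ≠ z1 := by
          intro he
          have h1 := tt_mul_self hT hz1.1
          have e2 : z1 * z2 = 1 := by
            have := congrArg (fun x => x * z1) he
            simp only [mul_assoc, h1, mul_one] at this
            exact this
          apply hz12
          calc z1 = z1 * (z1 * z2) := by rw [e2, mul_one]
            _ = z2 := by rw [← mul_assoc, h1, one_mul]
        have hne2 : z1 * z2 * z1 ≠ z2 := by
          intro he
          apply Dd_not_commute hT hloc hz hz1 hz2 hz12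
          show z1 * z2 = z2 * z1
          have h1 := tt_mul_self hT hz1.1
          calc z1 * z2 = (z1 * z2 * z1) * z1 := by rw [mul_assoc, mul_assoc, h1, mul_one]
            _ = z2 * z1 := by rw [he]
        rw [h, h'] at hfg
        simp only [hf, if_true, if_neg hne1, if_neg hne2] at hfg
        exact absurd hfg (by decide)
      · exfalso
        have hne1 : z1 * z2 * z1 ≠ z1 := by
          intro he
          have h1 := tt_mul_self hT hz1.1
          have e2 : z1 * z2 = 1 := by
            have := congrArg (fun x => x * z1) he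
            simp only [mul_assoc, h1, mul_one] at this
            exact this
          apply hz12
          calc z1 = z1 * (z1 * z2) := by rw [e2, mul_one]
            _ = z2 := by rw [← mul_assoc, h1, one_mul]
        have hne2 : z1 * z2 * z1 ≠ z2 := by
          intro he
          apply Dd_not_commute hT hloc hz hz1 hz2 hz12
          show z1 * z2 = z2 * z1
          have h1 := tt_mul_self hT hz1.1
          calc z1 * z2 = (z1 * z2 * z1) * z1 := by rw [mul_assoc, mul_assoc, h1, mul_one]
            _ = z2 * z1 := by rw [he]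
        rw [h, h'] at hfg
        simp only [hf, if_true, if_neg hz12.symm, if_neg hne1, if_neg hne2] at hfg
        exact absurd hfg (by decide)
      · rw [h, h']
    have hcol_mem : ∀ i j k l : Fin 5, i ≠ j → k ≠ l → i ≠ k → i ≠ l → j ≠ k → j ≠ l →
        col i j k l ∈ Dd D z := by
      intro i j k l hij hkl h1 h2 h3 h4
      apply conj_mem_Dd hT hconj (hTD i j hij) (hTD k l hkl) hz (hTcomm i j k l h1 h2 h3 h4) ?_
        (hzc i j hij) (hzc k l hkl)
      intro he
      exact swap5_ne i j k l hij ⟨h1.symm, h3.symm⟩ (T_inj _ _ he)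
    have hcol_symm : ∀ i j k l : Fin 5, i ≠ k → i ≠ l → j ≠ k → j ≠ l →
        col i j k l = col k l i j := by
      intro i j k l h1 h2 h3 h4
      simp only [hcol]
      rw [(hTcomm i j k l h1 h2 h3 h4).eq]
    have hcol_ne : ∀ x y y' : G, y ∈ D → y' ∈ D → ¬ Commute z y → ¬ Commute z y' →
        (x * y) * z * (x * y)⁻¹ = (x * y') * z * (x * y')⁻¹ → y = y' := by
      intro x y y' hy hy' hzy hzy' he
      have h1 : y * z * y = y' * z * y' := by
        have e1 : (x * y) * z * (x * y)⁻¹ = x * (y * z * y) * x⁻¹ := by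
          rw [mul_inv_rev, tt_inv hT hy]; simp only [mul_assoc]
        have e2 : (x * y') * z * (x * y')⁻¹ = x * (y' * z * y') * x⁻¹ := by
          rw [mul_inv_rev, tt_inv hT hy']; simp only [mul_assoc]
        rw [e1, e2] at he
        exact mul_left_cancel (mul_right_cancel he)
      exact line_unique hT hz hy hy' hzy hzy' h1
    have hne4 : ∀ i j k l i' j' k' l' : Fin 5,
        (i ≠ j ∧ k ≠ l ∧ i ≠ k ∧ i ≠ l ∧ j ≠ k ∧ j ≠ l) →
        (i' ≠ j' ∧ k' ≠ l' ∧ i' ≠ k' ∧ i' ≠ l' ∧ j' ≠ k' ∧ j' ≠ l') →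
        ((Equiv.swap i j = Equiv.swap i' j' ∧ Equiv.swap k l ≠ Equiv.swap k' l') ∨
         (Equiv.swap i j = Equiv.swap k' l' ∧ Equiv.swap k l ≠ Equiv.swap i' j') ∨
         (Equiv.swap k l = Equiv.swap i' j' ∧ Equiv.swap i j ≠ Equiv.swap k' l') ∨
         (Equiv.swap k l = Equiv.swap k' l' ∧ Equiv.swap i j ≠ Equiv.swap i' j')) →
        f (col i j k l) ≠ f (col i' j' k' l') := by
      intro i j k l i' j' k' l' hE hE' hs hc
      obtain ⟨e1, e2, e3, e4, e5, e6⟩ := hE
      obtain ⟨e1', e2', e3', e4', e5', e6'⟩ := hE'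
      have hcc := hf_inj _ _ (hcol_mem i j k l e1 e2 e3 e4 e5 e6)
        (hcol_mem i' j' k' l' e1' e2' e3' e4' e5' e6') hc
      rcases hs with ⟨h1, h2⟩ | ⟨h1, h2⟩ | ⟨h1, h2⟩ | ⟨h1, h2⟩
      · apply h2
        apply T_inj
        apply hcol_ne (T (Equiv.swap i j)) _ _ (hTD k l e2) (hTD k' l' e2') (hzc k l e2)
          (hzc k' l' e2')
        have : col i' j' k' l' = (T (Equiv.swap i j) * T (Equiv.swap k' l')) * z *
            (T (Equiv.swap i j) * T (Equiv.swap k' l'))⁻¹ := by
          simp only [hcol, h1]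
        rw [← this, ← hcc]
      · apply h2
        apply T_inj
        apply hcol_ne (T (Equiv.swap i j)) _ _ (hTD k l e2) (hTD i' j' e1') (hzc k l e2)
          (hzc i' j' e1')
        have : col i' j' k' l' = (T (Equiv.swap i j) * T (Equiv.swap i' j')) * z *
            (T (Equiv.swap i j) * T (Equiv.swap i' j'))⁻¹ := by
          rw [hcol_symm i' j' k' l' e3' e4' e5' e6']
          simp only [hcol, h1]
        rw [← this, ← hcc]
      · apply h2
        apply T_inj
        apply hcol_ne (T (Equiv.swap k l)) _ _ (hTD i j e1) (hTD k' l' e2') (hzc i j e1)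
          (hzc k' l' e2')
        have h3 : col i' j' k' l' = (T (Equiv.swap k l) * T (Equiv.swap k' l')) * z *
            (T (Equiv.swap k l) * T (Equiv.swap k' l'))⁻¹ := by
          simp only [hcol, h1]
        have h4 : col i j k l = (T (Equiv.swap k l) * T (Equiv.swap i j)) * z *
            (T (Equiv.swap k l) * T (Equiv.swap i j))⁻¹ := by
          rw [hcol_symm i j k l e3 e4 e5 e6]
        rw [← h3, ← h4, hcc]
      · apply h2
        apply T_inj
        apply hcol_ne (T (Equiv.swap k l)) _ _ (hTD i j e1) (hTD i' j' e1') (hzc i j e1)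
          (hzc i' j' e1')
        have h3 : col i' j' k' l' = (T (Equiv.swap k l) * T (Equiv.swap i' j')) * z *
            (T (Equiv.swap k l) * T (Equiv.swap i' j'))⁻¹ := by
          rw [hcol_symm i' j' k' l' e3' e4' e5' e6']
          simp only [hcol, h1]
        have h4 : col i j k l = (T (Equiv.swap k l) * T (Equiv.swap i j)) * z *
            (T (Equiv.swap k l) * T (Equiv.swap i j))⁻¹ := by
          rw [hcol_symm i j k l e3 e4 e5 e6]
        rw [← h3, ← h4, hcc]
    -- the fifteen colours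
    exact petersen_snark
      (f (col 0 1 2 3)) (f (col 2 3 0 4)) (hne4 _ _ _ _ _ _ _ _ (by decide) (by decide) (by decide))
      (f (col 2 3 1 4)) (hne4 _ _ _ _ _ _ _ _ (by decide) (by decide) (by decide))
        (hne4 _ _ _ _ _ _ _ _ (by decide) (by decide) (by decide))
      (f (col 0 4 1 2)) (hne4 _ _ _ _ _ _ _ _ (by decide) (by decide) (by decide))
      (f (col 0 4 1 3)) (hne4 _ _ _ _ _ _ _ _ (by decide) (by decide) (by decide))
        (hne4 _ _ _ _ _ _ _ _ (by decide) (by decide) (by decide))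
      (f (col 1 2 3 4)) (hne4 _ _ _ _ _ _ _ _ (by decide) (by decide) (by decide))
      (f (col 1 2 0 3)) (hne4 _ _ _ _ _ _ _ _ (by decide) (by decide) (by decide))
        (hne4 _ _ _ _ _ _ _ _ (by decide) (by decide) (by decide))
      (f (col 3 4 0 1)) (hne4 _ _ _ _ _ _ _ _ (by decide) (by decide) (by decide))
        (hne4 _ _ _ _ _ _ _ _ (by decide) (by decide) (by decide))
      (f (col 3 4 0 2)) (hne4 _ _ _ _ _ _ _ _ (by decide) (by decide) (by decide))
        (hne4 _ _ _ _ _ _ _ _ (by decide) (by decide) (by decide))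
      (f (col 0 1 2 4)) (hne4 _ _ _ _ _ _ _ _ (by decide) (by decide) (by decide))
        (hne4 _ _ _ _ _ _ _ _ (by decide) (by decide) (by decide))
      (f (col 2 4 1 3)) (hne4 _ _ _ _ _ _ _ _ (by decide) (by decide) (by decide))
        (hne4 _ _ _ _ _ _ _ _ (by decide) (by decide) (by decide))
      (f (col 0 3 2 4)) (hne4 _ _ _ _ _ _ _ _ (by decide) (by decide) (by decide))
        (hne4 _ _ _ _ _ _ _ _ (by decide) (by decide) (by decide))
        (hne4 _ _ _ _ _ _ _ _ (by decide) (by decide) (by decide))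
      (f (col 1 4 0 3)) (hne4 _ _ _ _ _ _ _ _ (by decide) (by decide) (by decide))
        (hne4 _ _ _ _ _ _ _ _ (by decide) (by decide) (by decide))
        (hne4 _ _ _ _ _ _ _ _ (by decide) (by decide) (by decide))
      (f (col 0 2 1 4)) (hne4 _ _ _ _ _ _ _ _ (by decide) (by decide) (by decide))
        (hne4 _ _ _ _ _ _ _ _ (by decide) (by decide) (by decide))
        (hne4 _ _ _ _ _ _ _ _ (by decide) (by decide) (by decide))
      (f (col 1 3 0 2)) (hne4 _ _ _ _ _ _ _ _ (by decide) (by decide) (by decide))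
        (hne4 _ _ _ _ _ _ _ _ (by decide) (by decide) (by decide))
        (hne4 _ _ _ _ _ _ _ _ (by decide) (by decide) (by decide))
        (hne4 _ _ _ _ _ _ _ _ (by decide) (by decide) (by decide))
  -- conclusion
  have hEq : Subgroup.closure D = H := by
    apply le_antisymm
    · rw [Subgroup.closure_le]
      intro z hz
      obtain ⟨k, l, _, he⟩ := hall z hz
      rw [he]; exact T_memH _
    · rw [hH, Subgroup.closure_le]
      intro x hx
      simp only [Set.mem_insert_iff, Set.mem_singleton_iff] at hx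
      rcases hx with rfl | rfl | rfl | rfl
      · exact Subgroup.subset_closure hd
      · exact Subgroup.subset_closure ha1.1
      · exact Subgroup.subset_closure hb.1
      · exact Subgroup.subset_closure ha.1
  exact ⟨(MulEquiv.subgroupCongr hEq).trans ψ⟩

end petersen

end Cfsg.Agent.Lib.Helper91.TT365
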