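import Mathlib
import Cfsg.Prelude.Def_Solvable
import Cfsg.Agent.Lib.Helper91.TT365Petersen
import Cfsg.Agent.Lib.Helper91.TT365K33

set_option autoImplicit false

/-!
# S5365: `D_d ≅ S₃` and `|O₃(C(d))| = 3` force `⟨D⟩ ≅ S₅` or `S₃ × S₃`
-/

namespace Cfsg.Agent.Lib.Helper91.TT365

open Cfsg.Agent.Lib.Helper91

theorem local_sym3_main {G : Type*} [Group G] [Finite G] {D : Set G}
    (hT : Cfsg.IsThreeTranspositionSet D)
    (hconj : ∀ g : G, ∀ d ∈ D, g * d * g⁻¹ ∈ D) (hne : D.Nonempty)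
    (hloc : ∀ d ∈ D, Nonempty (↥(Subgroup.closure (Dd D d)) ≃* Equiv.Perm (Fin 3)))
    (hcard : ∀ d ∈ D, Nat.card (Cfsg.pCore 3 ↥(Subgroup.centralizer ({d} : Set G))) = 3) :
    Nonempty (↥(Subgroup.closure D) ≃* Equiv.Perm (Fin 5)) ∨
      Nonempty (↥(Subgroup.closure D) ≃* Equiv.Perm (Fin 3) × Equiv.Perm (Fin 3)) := by
  by_cases hA : HypA D
  · right
    obtain ⟨d, hd⟩ := hne
    obtain ⟨a, ha, -⟩ := exists_two hT hloc hd
    apply k33_iso hT hloc hA hd ha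
    intro z hz
    by_contra hcon
    push Not at hcon
    exact no_far hT hconj hloc hA hcard hd ha hz hcon.1 hcon.2
  · left
    unfold HypA at hA
    push Not at hA
    obtain ⟨d, hd, a, ha, b, hb, hab, a1, ha1, ha1d, hnc⟩ := hA
    exact petersen_case hT hconj hloc hd ha hb hab ha1 ha1d hnc

end Cfsg.Agent.Lib.Helper91.TT365
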