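import Mathlib
import Cfsg.Agent.Lib.Helper91.SimpleDerived

set_option autoImplicit false

/-!
# Modules of the commuting relation on a primitive class (towards S5354)

A *module* is a subset `O ⊆ D` such that every member of `D` outside `O` commutes with all members
of `O` or with none.  For a primitive class on which both the commuting and the non-commuting
relation occur, a module with two members is all of `D` (Gallai's argument).  It follows that the
subgroup generated by the members of `D` commuting with `d` is a maximal `D`-subgroup.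
-/

namespace Cfsg.Agent.Lib.Helper91

section Cut
variable {G : Type*} [Group G] {D : Set G}

/-- `A` is closed under `R`-neighbours inside `D` -/
def IsRelClosed (R : G → G → Prop) (D A : Set G) : Prop :=
  A ⊆ D ∧ ∀ a ∈ A, ∀ x ∈ D, R a x → x ∈ A

/-- the smallest `R`-closed subset of `D` containing `a` -/
def relComponent (R : G → G → Prop) (D : Set G) (a : G) : Set G :=
  ⋂₀ {A : Set G | IsRelClosed R D A ∧ a ∈ A}

theorem isRelClosed_self (R : G → G → Prop) (D : Set G) : IsRelClosed R D D :=
  ⟨subset_rfl, fun _ _ x hx _ => hx⟩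

theorem mem_relComponent_self (R : G → G → Prop) {a : G} : a ∈ relComponent R D a := by
  unfold relComponent
  rw [Set.mem_sInter]
  intro A hA
  exact hA.2

theorem relComponent_subset_of_closed {R : G → G → Prop} {a : G} {A : Set G}
    (hA : IsRelClosed R D A) (ha : a ∈ A) : relComponent R D a ⊆ A := by
  unfold relComponent
  exact Set.sInter_subset_of_mem ⟨hA, ha⟩

theorem relComponent_closed (R : G → G → Prop) {a : G} (ha : a ∈ D) :
    IsRelClosed R D (relComponent R D a) := by
  refine ⟨relComponent_subset_of_closed (isRelClosed_self R D) ha, ?_⟩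
  intro b hb x hx hR
  unfold relComponent at hb ⊢
  rw [Set.mem_sInter] at hb ⊢
  intro A hA
  exact hA.1.2 b (hb A hA) x hx hR

theorem isRelClosed_compl {R : G → G → Prop} (hsymm : ∀ x y, R x y → R y x) {A : Set G}
    (hA : IsRelClosed R D A) : IsRelClosed R D (D \ A) := by
  refine ⟨Set.sdiff_subset, ?_⟩
  intro a ha x hx hR
  refine ⟨hx, fun hxA => ha.2 (hA.2 x hxA a ha.1 (hsymm _ _ hR))⟩

theorem relComponent_eq_of_mem {R : G → G → Prop} (hsymm : ∀ x y, R x y → R y x) {a b : G}
    (ha : a ∈ D) (hb : b ∈ relComponent R D a) : relComponent R D b = relComponent R D a := by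
  have hbD : b ∈ D := (relComponent_closed R ha).1 hb
  apply subset_antisymm
  · exact relComponent_subset_of_closed (relComponent_closed R ha) hb
  · apply relComponent_subset_of_closed (relComponent_closed R hbD)
    by_contra hcon
    have h1 : IsRelClosed R D (D \ relComponent R D b) :=
      isRelClosed_compl hsymm (relComponent_closed R hbD)
    have h2 := relComponent_subset_of_closed h1 ⟨ha, hcon⟩ hb
    exact h2.2 (mem_relComponent_self R)

theorem isRelClosed_conjSet {R : G → G → Prop}
    (hR : ∀ g x y : G, R x y → R (g * x * g⁻¹) (g * y * g⁻¹))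
    (hc : ∀ g : G, ∀ d ∈ D, g * d * g⁻¹ ∈ D) (g : G) {A : Set G}
    (hA : IsRelClosed R D A) : IsRelClosed R D (conjSet g A) := by
  refine ⟨?_, ?_⟩
  · rintro x ⟨y, hy, rfl⟩
    exact hc g y (hA.1 hy)
  · intro a ha x hx hRax
    rw [mem_conjSet] at ha ⊢
    have hx' : g⁻¹ * x * g ∈ D := by
      have := hc g⁻¹ x hx
      rwa [inv_inv] at this
    apply hA.2 _ ha _ hx'
    have := hR g⁻¹ a x hRax
    rwa [inv_inv] at this

theorem conjSet_relComponent {R : G → G → Prop}
    (hR : ∀ g x y : G, R x y → R (g * x * g⁻¹) (g * y * g⁻¹))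
    (hc : ∀ g : G, ∀ d ∈ D, g * d * g⁻¹ ∈ D) (g : G) {a : G} (ha : a ∈ D) :
    conjSet g (relComponent R D a) = relComponent R D (g * a * g⁻¹) := by
  have hga : g * a * g⁻¹ ∈ D := hc g a ha
  apply subset_antisymm
  · -- conjugate back
    intro x hx
    rw [mem_conjSet] at hx
    have h1 : IsRelClosed R D (conjSet g⁻¹ (relComponent R D (g * a * g⁻¹))) :=
      isRelClosed_conjSet hR hc g⁻¹ (relComponent_closed R hga)
    have h2 : a ∈ conjSet g⁻¹ (relComponent R D (g * a * g⁻¹)) := by
      rw [mem_conjSet, inv_inv]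
      exact mem_relComponent_self R
    have h3 := relComponent_subset_of_closed h1 h2 hx
    rw [mem_conjSet, inv_inv] at h3
    have : g * (g⁻¹ * x * g) * g⁻¹ = x := by group
    rwa [this] at h3
  · apply relComponent_subset_of_closed (isRelClosed_conjSet hR hc g (relComponent_closed R ha))
    exact conj_mem_conjSet (mem_relComponent_self R)

theorem relComponent_isConjBlock {R : G → G → Prop} (hsymm : ∀ x y, R x y → R y x)
    (hR : ∀ g x y : G, R x y → R (g * x * g⁻¹) (g * y * g⁻¹))
    (hc : ∀ g : G, ∀ d ∈ D, g * d * g⁻¹ ∈ D) {a : G} (ha : a ∈ D) :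
    IsConjBlock (relComponent R D a) := by
  intro g
  by_cases h : Disjoint (conjSet g (relComponent R D a)) (relComponent R D a)
  · exact Or.inr h
  · left
    rw [Set.not_disjoint_iff] at h
    obtain ⟨x, hx1, hx2⟩ := h
    rw [conjSet_relComponent hR hc g ha] at hx1 ⊢
    rw [← relComponent_eq_of_mem hsymm (hc g a ha) hx1, relComponent_eq_of_mem hsymm ha hx2]

/-- for a primitive conjugation action, a symmetric invariant relation that occurs between two
different members of `D` is "connected": a closed non-empty subset of `D` is `D` -/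
theorem closed_eq_of_primitive {R : G → G → Prop} (hsymm : ∀ x y, R x y → R y x)
    (hR : ∀ g x y : G, R x y → R (g * x * g⁻¹) (g * y * g⁻¹))
    (hc : ∀ g : G, ∀ d ∈ D, g * d * g⁻¹ ∈ D) (hprim : Cfsg.IsPrimitiveUnderConj D)
    (hw : ∃ a ∈ D, ∃ b ∈ D, a ≠ b ∧ R a b) {A : Set G} (hA : IsRelClosed R D A)
    (hne : A.Nonempty) : A = D := by
  obtain ⟨a, ha, b, hb, hab, hRab⟩ := hw
  have hB := relComponent_isConjBlock hsymm hR hc ha
  have hcl := relComponent_closed R ha
  have haB : a ∈ relComponent R D a := mem_relComponent_self R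
  have hbB : b ∈ relComponent R D a := hcl.2 a haB b hb hRab
  have hfull : relComponent R D a = D := by
    rcases hprim.2.2 _ hcl.1 hB with h | h
    · exact absurd (h haB hbB) hab
    · exact h
  obtain ⟨a', ha'⟩ := hne
  have ha'D := hA.1 ha'
  obtain ⟨g, hg⟩ := hprim.1 a ha a' ha'D
  have h1 : relComponent R D a' = D := by
    rw [← hg, ← conjSet_relComponent hR hc g ha, hfull]
    apply subset_antisymm
    · rintro x ⟨y, hy, rfl⟩
      exact hc g y hy
    · intro x hx
      rw [mem_conjSet]
      have := hc g⁻¹ x hx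
      rwa [inv_inv] at this
  apply subset_antisymm hA.1
  rw [← h1]
  exact relComponent_subset_of_closed hA ha'

end Cut

section Module
variable {G : Type*} [Group G] {D : Set G}

/-- a module of the commuting relation on `D` -/
def IsCommModule (D O : Set G) : Prop :=
  O ⊆ D ∧ ∀ x ∈ D, x ∉ O → ∀ e₁ ∈ O, ∀ e₂ ∈ O, Commute x e₁ → Commute x e₂

theorem IsCommModule.union {M₁ M₂ : Set G} (h₁ : IsCommModule D M₁) (h₂ : IsCommModule D M₂)
    {c : G} (hc₁ : c ∈ M₁) (hc₂ : c ∈ M₂) : IsCommModule D (M₁ ∪ M₂) := by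
  refine ⟨Set.union_subset h₁.1 h₂.1, ?_⟩
  intro x hx hxU e₁ he₁ e₂ he₂ hcomm
  have hx1 : x ∉ M₁ := fun h => hxU (Or.inl h)
  have hx2 : x ∉ M₂ := fun h => hxU (Or.inr h)
  have hxc : Commute x c := by
    rcases he₁ with h | h
    · exact h₁.2 x hx hx1 e₁ h c hc₁ hcomm
    · exact h₂.2 x hx hx2 e₁ h c hc₂ hcomm
  rcases he₂ with h | h
  · exact h₁.2 x hx hx1 c hc₁ e₂ h hxc
  · exact h₂.2 x hx hx2 c hc₂ e₂ h hxc

theorem IsCommModule.conjSet (hc : ∀ g : G, ∀ d ∈ D, g * d * g⁻¹ ∈ D) {M : Set G}
    (h : IsCommModule D M) (g : G) : IsCommModule D (conjSet g M) := by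
  refine ⟨?_, ?_⟩
  · rintro x ⟨y, hy, rfl⟩
    exact hc g y (h.1 hy)
  · intro x hx hxM e₁ he₁ e₂ he₂ hcomm
    rw [mem_conjSet] at hxM he₁ he₂
    have hx' : g⁻¹ * x * g ∈ D := by
      have := hc g⁻¹ x hx
      rwa [inv_inv] at this
    have h1 : Commute (g⁻¹ * x * g) (g⁻¹ * e₁ * g) := by
      have := (Commute.conj_iff g⁻¹).mpr hcomm
      rwa [inv_inv] at this
    have h2 := h.2 _ hx' hxM _ he₁ _ he₂ h1
    have := (Commute.conj_iff g).mpr h2
    have e1 : g * (g⁻¹ * x * g) * g⁻¹ = x := by group
    have e2 : g * (g⁻¹ * e₂ * g) * g⁻¹ = e₂ := by group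
    rwa [e1, e2] at this

/-- two modules covering `D`, neither containing the other: the difference is closed for the
commuting relation or for the non-commuting relation -/
theorem IsCommModule.cover {M₁ M₂ : Set G} (h₁ : IsCommModule D M₁) (h₂ : IsCommModule D M₂)
    (hcov : M₁ ∪ M₂ = D) {a b : G} (ha₁ : a ∈ M₁) (ha₂ : a ∉ M₂) (hb₂ : b ∈ M₂) (hb₁ : b ∉ M₁) :
    IsRelClosed (fun x y => ¬ Commute x y) D (M₁ \ M₂) ∨
      IsRelClosed (fun x y => Commute x y) D (M₁ \ M₂) := by
  have haD := h₁.1 ha₁
  have hbD := h₂.1 hb₂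
  by_cases hab : Commute a b
  · left
    refine ⟨fun x hx => h₁.1 hx.1, ?_⟩
    intro a' ha' x hx hnc
    by_contra hxA
    -- x ∈ M₂
    have hx2 : x ∈ M₂ := by
      have : x ∈ M₁ ∪ M₂ := by rw [hcov]; exact hx
      rcases this with h | h
      · by_contra h'
        exact hxA ⟨h, h'⟩
      · exact h
    -- b commutes with a' (b ∉ M₁, commutes with a ∈ M₁)
    have h3 : Commute b a' := h₁.2 b hbD hb₁ a ha₁ a' ha'.1 hab.symm
    -- a' ∉ M₂ commutes with b ∈ M₂ hence with x
    have h4 : Commute a' x := h₂.2 a' (h₁.1 ha'.1) ha'.2 b hb₂ x hx2 h3.symm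
    exact hnc h4
  · right
    refine ⟨fun x hx => h₁.1 hx.1, ?_⟩
    intro a' ha' x hx hcomm
    by_contra hxA
    have hx2 : x ∈ M₂ := by
      have : x ∈ M₁ ∪ M₂ := by rw [hcov]; exact hx
      rcases this with h | h
      · by_contra h'
        exact hxA ⟨h, h'⟩
      · exact h
    -- a' commutes with x ∈ M₂, hence with b
    have h3 : Commute a' b := h₂.2 a' (h₁.1 ha'.1) ha'.2 x hx2 b hb₂ hcomm
    -- b ∉ M₁ commutes with a' ∈ M₁ hence with a
    have h4 : Commute b a := h₁.2 b hbD hb₁ a' ha'.1 a ha₁ h3.symm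
    exact hab h4.symm

end Module

section Main
variable {G : Type*} [Group G] [Finite G] {D : Set G}

/-- in a primitive class on which the commuting and the non-commuting relation both occur, a module
with two members is everything -/
theorem module_eq_of_primitive (hc : ∀ g : G, ∀ d ∈ D, g * d * g⁻¹ ∈ D)
    (hprim : Cfsg.IsPrimitiveUnderConj D)
    (hw : ∃ a ∈ D, ∃ b ∈ D, a ≠ b ∧ Commute a b)
    (hw' : ∃ a ∈ D, ∃ b ∈ D, a ≠ b ∧ ¬ Commute a b) :
    ∀ (n : ℕ) (O : Set G), IsCommModule D O → (∃ a ∈ O, ∃ b ∈ O, a ≠ b) →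
      (D \ O).ncard = n → O = D := by
  intro n
  induction n using Nat.strong_induction_on with
  | _ n ih =>
    intro O hO hO2 hn
    by_contra hOD
    have hfin : ∀ S : Set G, S.Finite := fun S => Set.toFinite S
    -- O is not a block
    have hnb : ¬ IsConjBlock O := by
      intro hB
      rcases hprim.2.2 O hO.1 hB with h | h
      · obtain ⟨a, ha, b, hb, hab⟩ := hO2
        exact hab (h ha hb)
      · exact hOD h
    unfold IsConjBlock at hnb
    push Not at hnb
    obtain ⟨g, hg1, hg2⟩ := hnb
    rw [Set.not_disjoint_iff] at hg2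
    obtain ⟨c, hc1, hc2⟩ := hg2
    have hcard : (conjSet g O).ncard = O.ncard := by
      unfold conjSet
      apply Set.ncard_image_of_injective
      intro x y hxy
      exact mul_left_cancel (mul_right_cancel hxy)
    -- neither contains the other
    have hex1 : ∃ b, b ∈ conjSet g O ∧ b ∉ O := by
      by_contra hcon
      push Not at hcon
      exact hg1 (Set.eq_of_subset_of_ncard_le hcon (le_of_eq hcard.symm) (hfin _))
    have hex2 : ∃ a, a ∈ O ∧ a ∉ conjSet g O := by
      by_contra hcon
      push Not at hcon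
      exact hg1 (Set.eq_of_subset_of_ncard_le hcon (le_of_eq hcard) (hfin _)).symm
    obtain ⟨b, hb2, hb1⟩ := hex1
    obtain ⟨a, ha1, ha2⟩ := hex2
    have hO' := hO.conjSet hc g
    have hU := hO.union hO' hc2 hc1
    -- the union is everything by induction
    have hUD : O ∪ conjSet g O = D := by
      apply ih (D \ (O ∪ conjSet g O)).ncard _ _ hU _ rfl
      · rw [← hn]
        apply Set.ncard_lt_ncard _ (hfin _)
        refine ⟨fun x hx => ⟨hx.1, fun h => hx.2 (Or.inl h)⟩, ?_⟩
        intro hsub
        have : b ∈ D \ (O ∪ conjSet g O) := hsub ⟨hO'.1 hb2, hb1⟩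
        exact this.2 (Or.inr hb2)
      · obtain ⟨a, ha, b, hb, hab⟩ := hO2
        exact ⟨a, Or.inl ha, b, Or.inl hb, hab⟩
    have hAne : (O \ conjSet g O).Nonempty := ⟨a, ha1, ha2⟩
    have hAD : O \ conjSet g O ≠ D := by
      intro h
      have : b ∈ O \ conjSet g O := by rw [h]; exact hO'.1 hb2
      exact hb1 this.1
    rcases hO.cover hO' hUD ha1 ha2 hb2 hb1 with h | h
    · apply hAD
      refine closed_eq_of_primitive (R := fun x y => ¬ Commute x y) ?_ ?_ hc hprim hw' h hAne
      · intro x y hxy hyx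
        exact hxy hyx.symm
      · intro g x y hxy hcon
        exact hxy ((Commute.conj_iff g).mp hcon)
    · apply hAD
      refine closed_eq_of_primitive (R := fun x y => Commute x y) ?_ ?_ hc hprim hw h hAne
      · intro x y hxy
        exact hxy.symm
      · intro g x y hxy
        exact (Commute.conj_iff g).mpr hxy

theorem class_of_group_primitive (hD : Cfsg.IsThreeTranspositionGroup D)
    (hprim : Cfsg.IsPrimitiveUnderConj D) : Cfsg.IsThreeTranspositionClass D := by
  refine ⟨hD.1, ?_, hD.2.2⟩
  obtain ⟨a, ha, _⟩ := hprim.2.1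
  refine ⟨a, ha, ?_⟩
  ext x
  rw [mem_conjOf_iff]
  constructor
  · intro hx
    obtain ⟨g, hg⟩ := hprim.1 a ha x hx
    exact isConj_iff.mpr ⟨g, hg⟩
  · intro hx
    obtain ⟨g, hg⟩ := isConj_iff.mp hx
    rw [← hg]
    exact hD.2.1 g a ha

/-- the subgroup generated by the members of `D` commuting with `d` is a maximal `D`-subgroup -/
theorem centralizer_closure_maximal (hD : Cfsg.IsThreeTranspositionClass D)
    (hprim : Cfsg.IsPrimitiveUnderConj D)
    (hw : ∃ a ∈ D, ∃ b ∈ D, a ≠ b ∧ Commute a b) {d : G} (hd : d ∈ D) :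
    Subgroup.closure {y : G | y ∈ D ∧ Commute d y} ≠ ⊤ ∧
      ∀ H : Subgroup G, Cfsg.IsDSubgroup D H →
        Subgroup.closure {y : G | y ∈ D ∧ Commute d y} ≤ H →
          H = Subgroup.closure {y : G | y ∈ D ∧ Commute d y} ∨ H = ⊤ := by
  have hT := hD.1
  have hc := class_conj_mem hD
  have hD2 := hprim.2.1
  -- some pair does not commute
  have hw' : ∃ a ∈ D, ∃ b ∈ D, a ≠ b ∧ ¬ Commute a b := by
    by_contra hcon
    push Not at hcon
    obtain ⟨a, ha, b, hb, hab⟩ := hD2
    apply hab
    apply class_eq_of_all_commute hD _ a ha b hb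
    intro x hx y hy
    by_cases hxy : x = y
    · rw [hxy]
    · exact hcon x hx y hy hxy
  have hle : Subgroup.closure {y : G | y ∈ D ∧ Commute d y} ≤ Subgroup.centralizer {d} := by
    rw [Subgroup.closure_le]
    intro y hy
    rw [SetLike.mem_coe, Subgroup.mem_centralizer_iff]
    intro z hz
    rw [Set.mem_singleton_iff] at hz
    rw [hz]
    exact hy.2.eq
  refine ⟨?_, ?_⟩
  · intro htop
    rw [htop] at hle
    obtain ⟨a, ha, b, hb, hab, hnc⟩ := hw'
    -- d is central, so everything in D equals d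
    have hall : ∀ x ∈ D, x = d := by
      intro x hx
      obtain ⟨g, hg⟩ := hprim.1 d hd x hx
      have h1 : g ∈ Subgroup.centralizer {d} := hle trivial
      rw [Subgroup.mem_centralizer_iff] at h1
      have h2 := h1 d rfl
      rw [← hg, ← h2, mul_assoc, mul_inv_cancel, mul_one]
    exact hab ((hall a ha).trans (hall b hb).symm)
  · intro H hH hMH
    by_cases hE : ∀ x ∈ D, x ∈ H → Commute d x
    · left
      apply le_antisymm _ hMH
      rw [← hH]
      apply Subgroup.closure_mono
      intro x hx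
      exact ⟨hx.1, hE x hx.1 hx.2⟩
    · right
      push Not at hE
      obtain ⟨a, haD, haH, hda⟩ := hE
      -- the H-class of d
      set O : Set G := {e : G | ∃ h ∈ H, e = h * d * h⁻¹} with hOdef
      have hdH : d ∈ H := hMH (Subgroup.subset_closure ⟨hd, Commute.refl d⟩)
      have hOH : ∀ e ∈ O, e ∈ H := by
        rintro e ⟨h, hh, rfl⟩
        exact H.mul_mem (H.mul_mem hh hdH) (H.inv_mem hh)
      have hOD : O ⊆ D := by
        rintro e ⟨h, hh, rfl⟩
        exact hc h d hd
      have hmod : IsCommModule D O := by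
        refine ⟨hOD, ?_⟩
        intro x hx hxO e₁ he₁ e₂ he₂ hcomm
        by_cases hxH : x ∈ H
        · -- x commutes with every member of O
          by_contra hnc
          apply hxO
          obtain ⟨h, hh, rfl⟩ := he₂
          have he₂D : h * d * h⁻¹ ∈ D := hc h d hd
          have hbr := tt_braid hT hx he₂D hnc
          refine ⟨(h * d * h⁻¹) * x * h, H.mul_mem (H.mul_mem (hOH _ ⟨h, hh, rfl⟩) hxH) hh, ?_⟩
          have hxx := tt_mul_self hT hx
          have hee := tt_mul_self hT he₂D
          have hxinv := tt_inv hT hx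
          have heinv := tt_inv hT he₂D
          -- x = (e x) e (e x)⁻¹ with e = h d h⁻¹
          have h1 : (h * d * h⁻¹) * x * h * d * ((h * d * h⁻¹) * x * h)⁻¹
              = (h * d * h⁻¹) * x * (h * d * h⁻¹) * x⁻¹ * (h * d * h⁻¹)⁻¹ := by group
          rw [h1, hxinv, heinv]
          -- e x e x e = e (x e x) e = e (e x e) e = x
          have h2 : (h * d * h⁻¹) * x * (h * d * h⁻¹) * x * (h * d * h⁻¹)
              = (h * d * h⁻¹) * (x * (h * d * h⁻¹) * x) * (h * d * h⁻¹) := by
            simp only [mul_assoc]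
          rw [h2, hbr]
          have h3 : (h * d * h⁻¹) * ((h * d * h⁻¹) * x * (h * d * h⁻¹)) * (h * d * h⁻¹)
              = ((h * d * h⁻¹) * (h * d * h⁻¹)) * x * ((h * d * h⁻¹) * (h * d * h⁻¹)) := by
            simp only [mul_assoc]
          rw [h3, hee, one_mul, mul_one]
        · -- x commutes with no member of O
          exfalso
          apply hxH
          obtain ⟨h, hh, rfl⟩ := he₁
          have h1 : Commute (h⁻¹ * x * h) d := by
            have := (Commute.conj_iff h⁻¹).mpr hcomm
            rw [inv_inv] at this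
            have e : h⁻¹ * (h * d * h⁻¹) * h = d := by group
            rwa [e] at this
          have h2 : h⁻¹ * x * h ∈ D := by
            have := hc h⁻¹ x hx
            rwa [inv_inv] at this
          have h3 : h⁻¹ * x * h ∈ H := hMH (Subgroup.subset_closure ⟨h2, h1.symm⟩)
          have h4 : x = h * (h⁻¹ * x * h) * h⁻¹ := by group
          rw [h4]
          exact H.mul_mem (H.mul_mem hh h3) (H.inv_mem hh)
      have hO2 : ∃ a ∈ O, ∃ b ∈ O, a ≠ b := by
        refine ⟨d, ⟨1, H.one_mem, by simp⟩, a * d * a⁻¹, ⟨a, haH, rfl⟩, ?_⟩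
        intro h
        apply hda
        have : d * a = a * d := by
          calc d * a = a * d * a⁻¹ * a := by rw [← h]
            _ = a * d := by group
        exact this
      have hOall := module_eq_of_primitive hc hprim hw hw' _ O hmod hO2 rfl
      rw [eq_top_iff, ← hD.2.2, Subgroup.closure_le]
      intro x hx
      rw [← hOall] at hx
      exact hOH x hx

end Main

end Cfsg.Agent.Lib.Helper91
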